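import Mathlib
import Groth.Agent.Lib27.FibInj.AtPrime
import Groth.Agent.Lib27.FibInj.UnivInj
import Groth.Agent.Lib27.FibInj.FibProj

/-!
# Local forms of the fibrewise criteria, over an abstract localization `Bq` of `B` at `q`
-/

set_option autoImplicit false
set_option linter.style.haveILetI false
set_option linter.unusedSectionVars false

open TensorProduct Function

universe u

namespace Groth.Agent.Lib27.LocalCore

open Groth.Agent.Lib27.FibInj

variable {A : Type u} [CommRing A] {B : Type u} [CommRing B] [Algebra A B] (q : Ideal B) [q.IsPrime]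
  (Bq : Type u) [CommRing Bq] [Algebra B Bq] [Algebra A Bq] [IsScalarTower A B Bq]
  [IsLocalization.AtPrime Bq q]

/-- the ideal `p Bq`, `p = q ∩ A`. -/
abbrev fibIdeal : Ideal Bq := (q.comap (algebraMap A B)).map (algebraMap A Bq)

lemma fibIdeal_le_maximalIdeal [IsLocalRing Bq] :
    fibIdeal (A := A) q Bq ≤ IsLocalRing.maximalIdeal Bq := by
  rw [Ideal.map_le_iff_le_comap]
  intro a ha
  rw [Ideal.mem_comap, IsScalarTower.algebraMap_apply A B Bq,
    IsLocalization.AtPrime.to_map_mem_maximal_iff Bq q]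
  exact ha

section Mem

variable {N : Type u} [AddCommGroup N] [Module Bq N] [Module A N] [IsScalarTower A Bq N]

lemma mem_fibIdeal_smul_top_iff (x : N) :
    x ∈ (fibIdeal (A := A) q Bq) • (⊤ : Submodule Bq N) ↔
      x ∈ (q.comap (algebraMap A B)) • (⊤ : Submodule A N) := by
  have h4 := Ideal.smul_restrictScalars (q.comap (algebraMap A B)) (⊤ : Submodule Bq N)
  rw [Submodule.restrictScalars_top] at h4
  rw [← h4, Submodule.restrictScalars_mem]

end Mem

section Main

variable [Algebra.FinitePresentation A B]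
  {M N : Type u} [AddCommGroup M] [Module Bq M] [Module A M] [IsScalarTower A Bq M]
  [AddCommGroup N] [Module Bq N] [Module A N] [IsScalarTower A Bq N]

/-- abstract form of `fibInj_localization`. -/
theorem fibInj [Module.FinitePresentation Bq M] [Module.FinitePresentation Bq N]
    [Module.Flat A N] (u : M →ₗ[Bq] N)
    (hu : ∀ x : M, u x ∈ (fibIdeal (A := A) q Bq) • (⊤ : Submodule Bq N) →
      x ∈ (fibIdeal (A := A) q Bq) • (⊤ : Submodule Bq M)) :
    Injective u ∧ Module.Flat A (N ⧸ LinearMap.range u) := by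
  haveI : IsLocalRing Bq := IsLocalization.AtPrime.isLocalRing Bq q
  obtain ⟨n, f, hf, hker⟩ := (inferInstance : Algebra.FinitePresentation A B).out
  have hLQ := isLocQuot_of_isLocalization (R := A) (S := Bq) q.primeCompl f hf hker
  have hq : ((IsLocalRing.maximalIdeal Bq).comap
      ((IsScalarTower.toAlgHom A B Bq).comp f)).comap
      (MvPolynomial.C : A →+* MvPolynomial (Fin n) A) = q.comap (algebraMap A B) := by
    ext x
    simp only [Ideal.mem_comap]
    have : ((IsScalarTower.toAlgHom A B Bq).comp f) (MvPolynomial.C x) =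
        algebraMap B Bq (algebraMap A B x) := by
      rw [← MvPolynomial.algebraMap_eq, AlgHom.commutes, IsScalarTower.algebraMap_apply A B]
    rw [this, IsLocalization.AtPrime.to_map_mem_maximal_iff Bq q]
  have hprime : ((IsLocalRing.maximalIdeal Bq).comap
      ((IsScalarTower.toAlgHom A B Bq).comp f)).IsPrime :=
    Ideal.comap_isPrime _ _
  have key := fibInj_of_isLocQuot hLQ u (by
    rw [hq]
    intro x hx
    rw [← mem_fibIdeal_smul_top_iff q Bq] at hx ⊢
    exact hu x hx)
  exact ⟨key.1, key.2⟩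

omit [Algebra.FinitePresentation A B] in
/-- the converse: an injective map with `A`-flat cokernel is injective modulo `p`. -/
theorem mem_of_injective_of_flat (u : M →ₗ[Bq] N) (hinj : Injective u)
    (hflat : Module.Flat A (N ⧸ LinearMap.range u)) (x : M)
    (hx : u x ∈ (fibIdeal (A := A) q Bq) • (⊤ : Submodule Bq N)) :
    x ∈ (fibIdeal (A := A) q Bq) • (⊤ : Submodule Bq M) := by
  rw [mem_fibIdeal_smul_top_iff q Bq] at hx ⊢
  set p := q.comap (algebraMap A B) with hp
  haveI : Module.Flat A (N ⧸ LinearMap.range (u.restrictScalars A)) := hflat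
  have h1 := lTensor_injective_of_flat_coker (u.restrictScalars A) hinj (A ⧸ p)
  have h2 : (u.restrictScalars A).lTensor (A ⧸ p) ((1 : A ⧸ p) ⊗ₜ[A] x) = 0 := by
    rw [LinearMap.lTensor_tmul]
    apply (TensorProduct.quotTensorEquivQuotSMul N p).injective
    have h5 : (1 : A ⧸ p) = Ideal.Quotient.mk p 1 := rfl
    rw [h5, TensorProduct.quotTensorEquivQuotSMul_mk_tmul, one_smul, map_zero,
      Submodule.Quotient.mk_eq_zero]
    exact hx
  have h3 : (1 : A ⧸ p) ⊗ₜ[A] x = 0 := h1 (by rw [h2, map_zero])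
  have h4 := congrArg (TensorProduct.quotTensorEquivQuotSMul M p) h3
  have h5 : (1 : A ⧸ p) = Ideal.Quotient.mk p 1 := rfl
  rw [h5, TensorProduct.quotTensorEquivQuotSMul_mk_tmul, one_smul, map_zero,
    Submodule.Quotient.mk_eq_zero] at h4
  exact h4

/-- `N` finitely presented over `Bq`, flat over `A`, with flat closed fibre: `N` is free. -/
theorem free_of_flat_of_fibre_flat [Module.FinitePresentation Bq N] [Module.Flat A N]
    (hfib : Module.Flat (Bq ⧸ fibIdeal (A := A) q Bq)
      (N ⧸ (fibIdeal (A := A) q Bq) • (⊤ : Submodule Bq N))) :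
    Module.Free Bq N := by
  classical
  haveI : IsLocalRing Bq := IsLocalization.AtPrime.isLocalRing Bq q
  set I := fibIdeal (A := A) q Bq with hI
  have hIm : I ≤ IsLocalRing.maximalIdeal Bq := fibIdeal_le_maximalIdeal q Bq
  haveI : Nontrivial (Bq ⧸ I) := by
    rw [Ideal.Quotient.nontrivial_iff]
    intro htop
    rw [htop] at hIm
    exact (IsLocalRing.maximalIdeal.isMaximal _).ne_top (top_le_iff.1 hIm)
  haveI : IsLocalRing (Bq ⧸ I) :=
    IsLocalRing.of_surjective' (Ideal.Quotient.mk _) Ideal.Quotient.mk_surjective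
  haveI : Module.FinitePresentation (Bq ⧸ I) (N ⧸ I • (⊤ : Submodule Bq N)) := by
    have e := TensorProduct.quotTensorEquivQuotSMul N I
    exact Module.FinitePresentation.of_equiv
      ((TensorProduct.quotTensorEquivQuotSMul N I).extendScalarsOfSurjective
        Ideal.Quotient.mk_surjective)
  haveI : Module.Free (Bq ⧸ I) (N ⧸ I • (⊤ : Submodule Bq N)) :=
    Module.free_of_flat_of_isLocalRing
  let b := Module.Free.chooseBasis (Bq ⧸ I) (N ⧸ I • (⊤ : Submodule Bq N))
  haveI : Fintype (Module.Free.ChooseBasisIndex (Bq ⧸ I) (N ⧸ I • (⊤ : Submodule Bq N))) :=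
    inferInstance
  set ι := Module.Free.ChooseBasisIndex (Bq ⧸ I) (N ⧸ I • (⊤ : Submodule Bq N)) with hι
  choose v hv using fun i => Submodule.Quotient.mk_surjective (I • (⊤ : Submodule Bq N)) (b i)
  obtain ⟨u, hu⟩ : ∃ u : (ι → Bq) →ₗ[Bq] N, ∀ x, u x = ∑ i, x i • v i :=
    ⟨Fintype.linearCombination Bq v, fun x => Fintype.linearCombination_apply _ _ _⟩
  have himg : ∀ x, (Submodule.Quotient.mk (u x) : N ⧸ I • (⊤ : Submodule Bq N)) =
      ∑ i, (Ideal.Quotient.mk I (x i)) • b i := by
    intro x
    rw [hu, ← Submodule.mkQ_apply, map_sum]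
    refine Finset.sum_congr rfl fun i _ => ?_
    rw [map_smul, Submodule.mkQ_apply, hv]
    rfl
  have hinj := (fibInj q Bq u (by
    intro x hx
    have h1 : (Submodule.Quotient.mk (u x) : N ⧸ I • (⊤ : Submodule Bq N)) = 0 :=
      (Submodule.Quotient.mk_eq_zero _).mpr hx
    rw [himg] at h1
    have h2 := Fintype.linearIndependent_iff.1 b.linearIndependent _ h1
    exact pi_mem_smul_top _ x fun i => Ideal.Quotient.eq_zero_iff_mem.1 (h2 i))).1
  have hsur : Surjective u := by
    rw [← LinearMap.range_eq_top, eq_top_iff]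
    refine Submodule.le_of_le_smul_of_le_jacobson_bot (I := I) Module.Finite.fg_top ?_ ?_
    · rw [IsLocalRing.jacobson_eq_maximalIdeal ⊥ bot_ne_top]
      exact hIm
    · intro n _
      obtain ⟨c, hc⟩ : ∃ c : ι → Bq ⧸ I,
          (Submodule.Quotient.mk n : N ⧸ I • (⊤ : Submodule Bq N)) = ∑ i, c i • b i :=
        ⟨fun i => b.repr _ i, (b.sum_repr _).symm⟩
      choose x hx using fun i => Ideal.Quotient.mk_surjective (I := I) (c i)
      have h1 : (Submodule.Quotient.mk (n - u x) : N ⧸ I • (⊤ : Submodule Bq N)) = 0 := by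
        rw [Submodule.Quotient.mk_sub, himg, hc, sub_eq_zero]
        exact Finset.sum_congr rfl fun i _ => by rw [hx]
      have h2 : n - u x ∈ I • (⊤ : Submodule Bq N) := (Submodule.Quotient.mk_eq_zero _).mp h1
      have : n = u x + (n - u x) := by abel
      rw [this]
      exact Submodule.add_mem_sup ⟨x, rfl⟩ h2
  exact Module.Free.of_equiv (LinearEquiv.ofBijective u ⟨hinj, hsur⟩)

end Main

end Groth.Agent.Lib27.LocalCore
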