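import Mathlib
import Groth.Agent.Lib.Helper1.FSchAdic

/-!
# Ideal sheaves and covers by open immersions; ideal sheaves on disjoint unions (helper27)
-/

set_option autoImplicit false

universe u

open CategoryTheory CategoryTheory.Limits AlgebraicGeometry TopologicalSpace

namespace Groth.Agent.Lib27.IdealGlue

variable {Y : Scheme.{u}}

/-- the order on ideal sheaves is local for jointly surjective families of open immersions. -/
theorem le_of_forall_comap_le {σ : Type*} {X : σ → Scheme.{u}} (ι : ∀ i, X i ⟶ Y)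
    [∀ i, IsOpenImmersion (ι i)] (hcov : ∀ y : Y, ∃ i, y ∈ Set.range (ι i))
    (N₁ N₂ : Y.IdealSheafData) (h : ∀ i, N₁.comap (ι i) ≤ N₂.comap (ι i)) : N₁ ≤ N₂ := by
  refine Scheme.IdealSheafData.le_of_iSup_eq_top
    (fun p : Σ i, (X i).affineOpens => (⟨ι p.1 ''ᵁ p.2.1, p.2.2.image_of_isOpenImmersion (ι p.1)⟩ :
      Y.affineOpens)) ?_ ?_
  · rw [eq_top_iff]
    intro y _
    obtain ⟨i, x, rfl⟩ := hcov y
    obtain ⟨_, ⟨V, hV, rfl⟩, hxV, -⟩ :=
      (X i).isBasis_affineOpens.exists_subset_of_mem_open (Set.mem_univ x) isOpen_univ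
    exact Opens.mem_iSup.mpr ⟨⟨i, ⟨V, hV⟩⟩, ⟨x, hxV, rfl⟩⟩
  · rintro ⟨i, V⟩
    have h1 := h i V
    rw [Scheme.IdealSheafData.ideal_comap_of_isOpenImmersion,
      Scheme.IdealSheafData.ideal_comap_of_isOpenImmersion] at h1
    have hsurj : Function.Surjective ((ι i).appIso V.1).inv.hom :=
      (ConcreteCategory.bijective_of_isIso ((ι i).appIso V.1).inv).2
    exact (Ideal.comap_le_comap_iff_of_surjective _ hsurj _ _).mp h1

/-- equality of ideal sheaves is local for jointly surjective families of open immersions. -/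
theorem eq_of_forall_comap_eq {σ : Type*} {X : σ → Scheme.{u}} (ι : ∀ i, X i ⟶ Y)
    [∀ i, IsOpenImmersion (ι i)] (hcov : ∀ y : Y, ∃ i, y ∈ Set.range (ι i))
    (N₁ N₂ : Y.IdealSheafData) (h : ∀ i, N₁.comap (ι i) = N₂.comap (ι i)) : N₁ = N₂ :=
  le_antisymm (le_of_forall_comap_le ι hcov _ _ (fun i => (h i).le))
    (le_of_forall_comap_le ι hcov _ _ (fun i => (h i).ge))

/-- for a closed immersion `j` which is a monomorphism, `(I.map j).comap j = I`. -/
theorem comap_map_of_isClosedImmersion {X : Scheme.{u}} (j : X ⟶ Y) [IsClosedImmersion j]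
    (I : X.IdealSheafData) : (I.map j).comap j = I := by
  have sq : IsPullback I.subschemeι (𝟙 _) j (I.subschemeι ≫ j) :=
    IsPullback.of_vert_isIso_mono ⟨by rw [Category.id_comp]⟩
  have := Groth.Agent.Lib.Helper1.ker_of_isPullback sq
  rw [Scheme.IdealSheafData.ker_subschemeι] at this
  exact this.symm

/-- the pull-back of the kernel of a closed immersion along a morphism with disjoint range is
the unit ideal. -/
theorem comap_ker_eq_top_of_disjoint {X Z : Scheme.{u}} (j : X ⟶ Y) (c : Z ⟶ Y)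
    [IsClosedImmersion c] (h : Disjoint (Set.range j) (Set.range c)) : c.ker.comap j = ⊤ := by
  rw [← Scheme.IdealSheafData.ker_fst_of_isClosedImmersion c j]
  haveI : IsEmpty ↥(pullback j c) := by
    refine ⟨fun z => ?_⟩
    have e : j (pullback.fst j c z) = c (pullback.snd j c z) := by
      rw [← Scheme.Hom.comp_apply, ← Scheme.Hom.comp_apply, pullback.condition]
    exact Set.disjoint_left.mp h ⟨_, rfl⟩ ⟨_, e.symm⟩
  exact Scheme.ker_eq_top_of_isEmpty _

/-- ideal sheaves glue along a cover by pairwise disjoint open immersions. -/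
theorem exists_ideal_of_disjoint_cover {σ : Type*} {X : σ → Scheme.{u}} (ι : ∀ i, X i ⟶ Y)
    [∀ i, IsOpenImmersion (ι i)] (hcov : ∀ y : Y, ∃ i, y ∈ Set.range (ι i))
    (hdisj : ∀ i j, i ≠ j → Disjoint (Set.range (ι i)) (Set.range (ι j)))
    (I : ∀ i, (X i).IdealSheafData) : ∃ M : Y.IdealSheafData, ∀ i, M.comap (ι i) = I i := by
  classical
  -- the ranges are clopen
  have hopen : ∀ j, IsOpen (Set.range (ι j)) := fun j => (ι j).isOpenEmbedding.isOpen_range
  have hcompl : ∀ j, (Set.range (ι j))ᶜ = ⋃ i ∈ {i | i ≠ j}, Set.range (ι i) := by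
    intro j
    ext y
    simp only [Set.mem_compl_iff, Set.mem_iUnion, Set.mem_setOf_eq, exists_prop]
    constructor
    · intro hy
      obtain ⟨i, hi⟩ := hcov y
      refine ⟨i, fun hij => hy (hij ▸ hi), hi⟩
    · rintro ⟨i, hij, hi⟩ hj
      exact Set.disjoint_left.mp (hdisj i j hij) hi hj
  have hclosed : ∀ j, IsClosed (Set.range (ι j)) := by
    intro j
    rw [← isOpen_compl_iff, hcompl j]
    exact isOpen_biUnion fun i _ => hopen i
  haveI : ∀ j, IsClosedImmersion (ι j) := fun j =>
    IsClosedImmersion.of_isPreimmersion _ (hclosed j)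
  -- the complementary opens
  let C : σ → Y.Opens := fun j => ⟨(Set.range (ι j))ᶜ, (hclosed j).isOpen_compl⟩
  have hCrange : ∀ j, Set.range (C j).ι = (Set.range (ι j))ᶜ := fun j =>
    Scheme.Opens.range_ι (C j)
  haveI : ∀ j, IsClosedImmersion (C j).ι := fun j =>
    IsClosedImmersion.of_isPreimmersion _ (by
      rw [hCrange j]; exact (hopen j).isClosed_compl)
  let N : σ → Y.IdealSheafData := fun j => (I j).map (ι j) * (C j).ι.ker
  have hNj : ∀ j, (N j).comap (ι j) = I j := by
    intro j
    change ((I j).map (ι j) * (C j).ι.ker).comap (ι j) = I j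
    rw [Groth.Agent.Lib.Helper1.comap_mul, comap_map_of_isClosedImmersion,
      comap_ker_eq_top_of_disjoint (ι j) (C j).ι (by
        rw [hCrange j]; exact disjoint_compl_right),
      Scheme.IdealSheafData.mul_top]
  have hNi : ∀ i j, i ≠ j → (N j).comap (ι i) ≤ I i := by
    intro i j hij
    change ((I j).map (ι j) * (C j).ι.ker).comap (ι i) ≤ I i
    rw [Groth.Agent.Lib.Helper1.comap_mul]
    have hrange : Set.range (ι i) ⊆ Set.range (C j).ι := by
      rw [hCrange j]
      intro y hy hy'
      exact Set.disjoint_left.mp (hdisj i j hij) hy hy'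
    have hfac : IsOpenImmersion.lift (C j).ι (ι i) hrange ≫ (C j).ι = ι i :=
      IsOpenImmersion.lift_fac _ _ _
    have h1 : (C j).ι.ker.comap (ι i) = ⊥ := by
      rw [← hfac, Scheme.IdealSheafData.comap_comp, eq_bot_iff]
      have h2 : (C j).ι.ker.comap (C j).ι ≤ ⊥ := by
        rw [← Scheme.IdealSheafData.map_bot]
        exact Scheme.IdealSheafData.comap_map_le _ _
      exact (Scheme.IdealSheafData.comap_mono _ h2).trans
        (Scheme.IdealSheafData.comap_bot _).le
    rw [h1, Scheme.IdealSheafData.mul_bot]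
    exact bot_le
  refine ⟨sSup {M | ∀ i, M.comap (ι i) ≤ I i}, fun j => le_antisymm ?_ ?_⟩
  · rw [(Scheme.IdealSheafData.map_gc (ι j)).l_sSup]
    exact iSup₂_le fun M hM => hM j
  · have hmem : N j ∈ {M | ∀ i, M.comap (ι i) ≤ I i} := by
      intro i
      by_cases hij : i = j
      · subst hij
        exact (hNj i).le
      · exact hNi i j hij
    calc I j = (N j).comap (ι j) := (hNj j).symm
      _ ≤ _ := Scheme.IdealSheafData.comap_mono _ (le_sSup hmem)

end Groth.Agent.Lib27.IdealGlue
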