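import Groth.Agent.Lib27.Sch.ZetaPoints
import Mathlib.AlgebraicGeometry.AffineSpace
import Mathlib.FieldTheory.Finite.Extension

/-!
# The zeta function of the affine line over a scheme over a finite field
-/

set_option autoImplicit false

universe u

open CategoryTheory AlgebraicGeometry

namespace Groth.Agent.Lib27.ZetaAffineLine

open Groth.Agent.Lib27

section Points

variable {k : Type u} [Field k] {X : Scheme.{u}} (f : X ⟶ Spec (CommRingCat.of k))
  (K : Type u) [Field K] [Algebra k K]

/-- `K`-points of the affine line over `X` are `K`-points of `X` together with an element of `K`. -/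
noncomputable def ptsEquiv :
    {h : Spec (CommRingCat.of K) ⟶ 𝔸(PUnit.{u + 1}; X) //
      h ≫ ((𝔸(PUnit.{u + 1}; X) ↘ X) ≫ f) = Spec.map (CommRingCat.ofHom (algebraMap k K))} ≃
    {g : Spec (CommRingCat.of K) ⟶ X //
      g ≫ f = Spec.map (CommRingCat.ofHom (algebraMap k K))} × K where
  toFun h := (⟨h.1 ≫ (𝔸(PUnit.{u + 1}; X) ↘ X), by rw [Category.assoc]; exact h.2⟩,
    (Scheme.ΓSpecIso (CommRingCat.of K)).hom (h.1.appTop (AffineSpace.coord X PUnit.unit)))
  invFun p := ⟨AffineSpace.homOfVector p.1.1 (fun _ => (Scheme.ΓSpecIso (CommRingCat.of K)).inv p.2),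
    by rw [AffineSpace.homOfVector_over_assoc]; exact p.1.2⟩
  left_inv h := by
    apply Subtype.ext
    apply AffineSpace.hom_ext
    · simp only [AffineSpace.homOfVector_over]
    · intro i
      rw [AffineSpace.homOfVector_appTop_coord]
      obtain rfl : i = PUnit.unit := rfl
      exact congrArg (fun φ => φ.hom (h.1.appTop (AffineSpace.coord X PUnit.unit)))
        (Scheme.ΓSpecIso (CommRingCat.of K)).hom_inv_id
  right_inv p := by
    refine Prod.ext (Subtype.ext ?_) ?_
    · simp only [AffineSpace.homOfVector_over]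
    · simp only [AffineSpace.homOfVector_appTop_coord]
      exact congrArg (fun φ => φ.hom p.2) (Scheme.ΓSpecIso (CommRingCat.of K)).inv_hom_id

theorem pointCount_affineLine :
    SgaExt.pointCount ((𝔸(PUnit.{u + 1}; X) ↘ X) ≫ f) K = SgaExt.pointCount f K * Nat.card K := by
  unfold SgaExt.pointCount
  rw [Nat.card_congr (ptsEquiv f K), Nat.card_prod]

end Points


section Zeta

open PowerSeries

variable {k : Type u} [Field k] [Finite k] {X : Scheme.{u}} (f : X ⟶ Spec (CommRingCat.of k))
  [LocallyOfFiniteType f] [QuasiCompact f]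

/-- For every `m ≥ 1` there is an extension of `k` of degree `m` in the same universe. -/
theorem exists_extension (m : ℕ) (hm : 0 < m) :
    ∃ (K : Type u) (_ : Field K) (_ : Algebra k K) (_ : Finite K),
      Module.finrank k K = m ∧ Nat.card K = Nat.card k ^ m := by
  have hp : Fact (ringChar k).Prime := ⟨CharP.char_is_prime k (ringChar k)⟩
  have : NeZero m := ⟨hm.ne'⟩
  refine ⟨ULift.{u} (FiniteField.Extension k (ringChar k) m), inferInstance, inferInstance,
    inferInstance, ?_, ?_⟩
  · rw [(ULift.moduleEquiv :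
      ULift.{u} (FiniteField.Extension k (ringChar k) m) ≃ₗ[k] _).finrank_eq]
    exact FiniteField.finrank_extension k (ringChar k) m
  · rw [Nat.card_ulift]
    exact FiniteField.natCard_extension k (ringChar k) m

theorem nPts_affineLine (m : ℕ) (hm : 0 < m) :
    Zeta.nPts ((𝔸(PUnit.{u + 1}; X) ↘ X) ≫ f) m = Zeta.nPts f m * Nat.card k ^ m := by
  obtain ⟨K, _, _, _, h1, h2⟩ := exists_extension (k := k) m hm
  rw [← h1, ← ZetaPoints.pointCount_eq_nPts, ← ZetaPoints.pointCount_eq_nPts,
    pointCount_affineLine, h2, h1]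

theorem logZeta_affineLine :
    Zeta.logZeta ((𝔸(PUnit.{u + 1}; X) ↘ X) ≫ f) =
      rescale (Nat.card k : ℚ) (Zeta.logZeta f) := by
  ext m
  rw [coeff_rescale, Zeta.logZeta, Zeta.logZeta, coeff_mk, coeff_mk]
  rcases Nat.eq_zero_or_pos m with rfl | hm
  · simp
  · rw [nPts_affineLine f m hm]
    push_cast
    ring

theorem zetaFun_affineLine :
    Zeta.zetaFun ((𝔸(PUnit.{u + 1}; X) ↘ X) ≫ f) =
      rescale (Nat.card k : ℚ) (Zeta.zetaFun f) := by
  unfold Zeta.zetaFun
  rw [logZeta_affineLine, rescale_eq_subst, rescale_eq_subst,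
    subst_comp_subst_apply (ZetaFormal.hasSubst_logZeta f) (HasSubst.smul_X' _)]

end Zeta

end Groth.Agent.Lib27.ZetaAffineLine
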