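import Groth.Prelude.Def_SgaExt
import Mathlib.AlgebraicGeometry.Morphisms.FiniteType
import Mathlib.AlgebraicGeometry.Morphisms.QuasiCompact
import Mathlib.AlgebraicGeometry.Cover.Open
import Mathlib.AlgebraicGeometry.AffineScheme
import Mathlib.RingTheory.Spectrum.Prime.Topology
import Mathlib.Topology.KrullDimension

/-!
# `K`-valued points of a `k`-scheme

Basic tools: `K`-points of an affine `k`-scheme inject into algebra homs out of its ring of
global sections; every `K`-point factors through a member of an open cover.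
-/

set_option autoImplicit false

universe u

open CategoryTheory AlgebraicGeometry

namespace Groth.Agent.Lib27.KPoints

variable {k : Type u} [Field k]

/-- The `K`-valued points of `f : X ⟶ Spec k` over `k`. -/
def Pts {X : Scheme.{u}} (f : X ⟶ Spec (CommRingCat.of k)) (K : Type u) [Field K] [Algebra k K] :
    Type u :=
  { g : Spec (CommRingCat.of K) ⟶ X // g ≫ f = Spec.map (CommRingCat.ofHom (algebraMap k K)) }

lemma pointCount_eq {X : Scheme.{u}} (f : X ⟶ Spec (CommRingCat.of k)) (K : Type u) [Field K]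
    [Algebra k K] : SgaExt.pointCount f K = Nat.card (Pts f K) := rfl

/-- The structure ring hom `k → Γ(Y, ⊤)`. -/
noncomputable def structHom {Y : Scheme.{u}} (h : Y ⟶ Spec (CommRingCat.of k)) : k →+* Γ(Y, ⊤) :=
  ((Scheme.ΓSpecIso (CommRingCat.of k)).inv ≫ h.appTop).hom

lemma finiteType_structHom {Y : Scheme.{u}} [IsAffine Y] (h : Y ⟶ Spec (CommRingCat.of k))
    [LocallyOfFiniteType h] : (structHom h).FiniteType := by
  have h1 : RingHom.FiniteType (h.appTop).hom :=
    (HasRingHomProperty.iff_of_isAffine (P := @LocallyOfFiniteType)).mp inferInstance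
  have h2 : RingHom.FiniteType ((Scheme.ΓSpecIso (CommRingCat.of k)).inv).hom :=
    RingHom.FiniteType.of_surjective _
      ((ConcreteCategory.bijective_of_isIso (Scheme.ΓSpecIso (CommRingCat.of k)).inv).2)
  exact h1.comp h2

/-- The ring hom `Γ(Y, ⊤) → K` attached to a `K`-point. -/
noncomputable def ptHom {Y : Scheme.{u}} {K : Type u} [Field K]
    (g : Spec (CommRingCat.of K) ⟶ Y) : Γ(Y, ⊤) →+* K :=
  (g.appTop ≫ (Scheme.ΓSpecIso (CommRingCat.of K)).hom).hom

lemma ptHom_comp_structHom {Y : Scheme.{u}} (h : Y ⟶ Spec (CommRingCat.of k)) {K : Type u}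
    [Field K] [Algebra k K] (g : Pts h K) : (ptHom g.1).comp (structHom h) = algebraMap k K := by
  have h1 := congrArg Scheme.Hom.appTop g.2
  rw [Scheme.Hom.comp_appTop] at h1
  have h2 : (Scheme.ΓSpecIso (CommRingCat.of k)).inv ≫ h.appTop ≫ g.1.appTop ≫
      (Scheme.ΓSpecIso (CommRingCat.of K)).hom = CommRingCat.ofHom (algebraMap k K) := by
    rw [← Category.assoc h.appTop, h1, Scheme.ΓSpecIso_naturality, Iso.inv_hom_id_assoc]
  have h3 := congrArg CommRingCat.Hom.hom h2
  ext c
  have h4 := DFunLike.congr_fun h3 c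
  simpa [ptHom, structHom] using h4

lemma ptHom_injective {Y : Scheme.{u}} [IsAffine Y] {K : Type u} [Field K] :
    Function.Injective (ptHom (Y := Y) (K := K)) := by
  intro g g' hgg
  apply ext_of_isAffine
  have h1 : g.appTop ≫ (Scheme.ΓSpecIso (CommRingCat.of K)).hom =
      g'.appTop ≫ (Scheme.ΓSpecIso (CommRingCat.of K)).hom := CommRingCat.hom_ext hgg
  exact (cancel_mono _).mp h1

/-- `K`-points of an affine `k`-scheme as algebra homs. -/
noncomputable def toAlgHom {Y : Scheme.{u}} (h : Y ⟶ Spec (CommRingCat.of k)) {K : Type u}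
    [Field K] [Algebra k K] (g : Pts h K) :
    letI := (structHom h).toAlgebra
    Γ(Y, ⊤) →ₐ[k] K :=
  letI := (structHom h).toAlgebra
  { ptHom g.1 with
    commutes' := fun c => by
      have := DFunLike.congr_fun (ptHom_comp_structHom h g) c
      exact this }

lemma toAlgHom_injective {Y : Scheme.{u}} [IsAffine Y] (h : Y ⟶ Spec (CommRingCat.of k))
    {K : Type u} [Field K] [Algebra k K] :
    letI := (structHom h).toAlgebra
    Function.Injective (toAlgHom h (K := K)) := by
  letI := (structHom h).toAlgebra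
  intro g g' hgg
  apply Subtype.ext
  apply ptHom_injective
  have := congrArg (fun φ : Γ(Y, ⊤) →ₐ[k] K => (φ : Γ(Y, ⊤) →+* K)) hgg
  exact this

/-- Every `K`-point factors through some member of an open cover. -/
lemma exists_lift {X : Scheme.{u}} (𝒰 : X.OpenCover) {K : Type u} [Field K]
    (g : Spec (CommRingCat.of K) ⟶ X) :
    ∃ (i : 𝒰.I₀) (g' : Spec (CommRingCat.of K) ⟶ 𝒰.X i), g' ≫ 𝒰.f i = g := by
  let pt : Spec (CommRingCat.of K) := IsLocalRing.closedPoint K
  obtain ⟨i, y, hy⟩ := 𝒰.exists_eq (g.base pt)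
  have H : Set.range g.base ⊆ Set.range (𝒰.f i).base := by
    rintro _ ⟨z, rfl⟩
    have : z = pt := Subsingleton.elim (α := PrimeSpectrum K) _ _
    rw [this]
    exact ⟨y, hy⟩
  exact ⟨i, IsOpenImmersion.lift (𝒰.f i) g H, IsOpenImmersion.lift_fac _ _ H⟩

/-- The sigma type of points of the members of a cover surjects onto the points. -/
lemma sigma_surjective {X : Scheme.{u}} (f : X ⟶ Spec (CommRingCat.of k)) (𝒰 : X.OpenCover)
    (K : Type u) [Field K] [Algebra k K] :
    Function.Surjective (fun p : (Σ i : 𝒰.I₀, Pts (𝒰.f i ≫ f) K) =>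
      (⟨p.2.1 ≫ 𝒰.f p.1, by rw [Category.assoc]; exact p.2.2⟩ : Pts f K)) := by
  intro g
  obtain ⟨i, g', hg'⟩ := exists_lift 𝒰 g.1
  refine ⟨⟨i, ⟨g', ?_⟩⟩, Subtype.ext hg'⟩
  rw [← Category.assoc, hg']
  exact g.2

/-- Dimension of the ring of global sections of an affine open piece. -/
lemma ringKrullDim_le_of_isOpenImmersion {X Y : Scheme.{u}} [IsAffine Y] (j : Y ⟶ X)
    [IsOpenImmersion j] : ringKrullDim Γ(Y, ⊤) ≤ topologicalKrullDim X := by
  rw [← PrimeSpectrum.topologicalKrullDim_eq_ringKrullDim]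
  have h1 : topologicalKrullDim (PrimeSpectrum Γ(Y, ⊤)) = topologicalKrullDim Y :=
    (IsHomeomorph.topologicalKrullDim_eq _ Y.isoSpec.hom.homeomorph.isHomeomorph).symm
  rw [h1]
  exact j.isOpenEmbedding.isInducing.topologicalKrullDim_le

end Groth.Agent.Lib27.KPoints
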