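import Groth.Agent.Lib27.Sch.ZetaPartition
import Groth.Agent.Lib27.Sch.KPoints
import Mathlib.FieldTheory.Finite.GaloisField
import Mathlib.AlgebraicGeometry.Morphisms.ClosedImmersion

/-!
# Points of a scheme over a finite field with values in a finite extension

`#X(k') = ∑_{e ∣ [k' : k]} e · #{closed points of degree e}`.
-/

set_option autoImplicit false

universe u

open CategoryTheory AlgebraicGeometry

namespace Groth.Agent.Lib27.ZetaPoints

open Groth.Agent.Lib27 Groth.Agent.Lib27.ZetaPartition

section Str

variable {k : Type u} [Field k] {X : Scheme.{u}} (f : X ⟶ Spec (CommRingCat.of k))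

/-- The structure map `k ⟶ κ(x)`. -/
noncomputable def strMap (x : X) : CommRingCat.of k ⟶ X.residueField x :=
  Spec.preimage (X.fromSpecResidueField x ≫ f)

lemma SpecMap_strMap (x : X) : Spec.map (strMap f x) = X.fromSpecResidueField x ≫ f :=
  Spec.map_preimage _

theorem surjective_of_isClosedImmersion_SpecMap {R S : CommRingCat.{u}} (φ : R ⟶ S)
    [IsClosedImmersion (Spec.map φ)] : Function.Surjective φ.hom := by
  have h := (IsClosedImmersion.isAffine_surjective_of_isAffine (Spec.map φ)).2
  have h2 : φ = (Scheme.ΓSpecIso R).inv ≫ (Spec.map φ).appTop ≫ (Scheme.ΓSpecIso S).hom := by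
    rw [Scheme.ΓSpecIso_naturality, Iso.inv_hom_id_assoc]
  rw [h2]
  simp only [CommRingCat.hom_comp, RingHom.coe_comp]
  exact ((ConcreteCategory.bijective_of_isIso (Scheme.ΓSpecIso S).hom).2.comp h).comp
    (ConcreteCategory.bijective_of_isIso (Scheme.ΓSpecIso R).inv).2

/-- The structure map of the residue field at a point of `Spec k`. -/
noncomputable def baseStr (s : Spec (CommRingCat.of k)) :
    CommRingCat.of k ⟶ (Spec (CommRingCat.of k)).residueField s :=
  Spec.preimage ((Spec (CommRingCat.of k)).fromSpecResidueField s)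

theorem baseStr_bijective (s : Spec (CommRingCat.of k)) :
    Function.Bijective (baseStr s).hom := by
  refine ⟨RingHom.injective _, ?_⟩
  have hcl : IsClosed ({s} : Set (Spec (CommRingCat.of k))) := by
    have : ({s} : Set (Spec (CommRingCat.of k))) = Set.univ := by
      rw [Set.eq_univ_iff_forall]
      intro y
      exact Subsingleton.elim (α := PrimeSpectrum k) _ _
    rw [this]; exact isClosed_univ
  rw [isClosed_singleton_iff_isClosedImmersion] at hcl
  have : IsClosedImmersion (Spec.map (baseStr s)) := by
    unfold baseStr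
    rw [Spec.map_preimage]
    exact hcl
  exact surjective_of_isClosedImmersion_SpecMap (baseStr s)

theorem strMap_eq (x : X) : strMap f x = baseStr (f x) ≫ f.residueFieldMap x := by
  apply Spec.map_injective
  unfold strMap baseStr
  rw [Spec.map_preimage, Spec.map_comp, Spec.map_preimage,
    Scheme.Hom.SpecMap_residueFieldMap_fromSpecResidueField]

theorem finrank_strMap (x : X) :
    @Module.finrank k (X.residueField x) _ _ (strMap f x).hom.toAlgebra.toModule =
      EGA4loc.residueDegree f x := by
  unfold EGA4loc.residueDegree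
  let a1 : Algebra k (X.residueField x) := (strMap f x).hom.toAlgebra
  let a2 : Algebra ((Spec (CommRingCat.of k)).residueField (f x)) (X.residueField x) :=
    (f.residueFieldMap x).hom.toAlgebra
  let a3 : Algebra k ((Spec (CommRingCat.of k)).residueField (f x)) :=
    (baseStr (f x)).hom.toAlgebra
  have : IsScalarTower k ((Spec (CommRingCat.of k)).residueField (f x)) (X.residueField x) :=
    IsScalarTower.of_algebraMap_eq' (by
      change (strMap f x).hom = (f.residueFieldMap x).hom.comp (baseStr (f x)).hom
      rw [strMap_eq]; rfl)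
  have h1 : Module.finrank k ((Spec (CommRingCat.of k)).residueField (f x)) = 1 := by
    let e : k ≃ₗ[k] ((Spec (CommRingCat.of k)).residueField (f x)) :=
      LinearEquiv.ofBijective (Algebra.linearMap k _) (baseStr_bijective (f x))
    rw [← e.finrank_eq, Module.finrank_self]
  have h2 := Module.finrank_mul_finrank k ((Spec (CommRingCat.of k)).residueField (f x))
    (X.residueField x)
  rw [h1, one_mul] at h2
  exact h2.symm

variable (k' : Type u) [Field k'] [Algebra k k']

/-- `k`-embeddings of the residue field into `k'`. -/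
noncomputable def homEquiv (x : X) :
    {ψ : X.residueField x ⟶ CommRingCat.of k' //
      strMap f x ≫ ψ = CommRingCat.ofHom (algebraMap k k')} ≃
    @AlgHom k (X.residueField x) k' _ _ _ (strMap f x).hom.toAlgebra _ :=
  letI : Algebra k (X.residueField x) := (strMap f x).hom.toAlgebra
  { toFun := fun ψ =>
      { toRingHom := ψ.1.hom
        commutes' := fun c => congrArg (fun φ => φ.hom c) ψ.2 }
    invFun := fun a => ⟨CommRingCat.ofHom a.toRingHom, by
      ext c
      exact a.commutes c⟩
    left_inv := fun ψ => rfl
    right_inv := fun a => rfl }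

/-- The `k'`-points of `X` over `k` as pairs of a point and a `k`-embedding of its residue field. -/
noncomputable def ptsEquiv :
    {g : Spec (CommRingCat.of k') ⟶ X //
      g ≫ f = Spec.map (CommRingCat.ofHom (algebraMap k k'))} ≃
    Σ x : X, @AlgHom k (X.residueField x) k' _ _ _ (strMap f x).hom.toAlgebra _ := by
  refine Equiv.trans (Equiv.symm ?_) (Equiv.sigmaCongrRight fun x => homEquiv f k' x)
  refine Equiv.trans ?_ ((Scheme.SpecToEquivOfField k' X).symm.subtypeEquiv
    (p := fun xf => strMap f xf.1 ≫ xf.2 = CommRingCat.ofHom (algebraMap k k')) ?_)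
  · exact
      { toFun := fun p => ⟨⟨p.1, p.2.1⟩, p.2.2⟩
        invFun := fun p => ⟨p.1.1, ⟨p.1.2, p.2⟩⟩
        left_inv := fun _ => rfl
        right_inv := fun _ => rfl }
  · intro xf
    rw [Scheme.SpecToEquivOfField_symm_apply, Category.assoc, ← SpecMap_strMap, ← Spec.map_comp,
      Spec.map_inj]

end Str


section Count

variable {k : Type u} [Field k] [Finite k] {X : Scheme.{u}} (f : X ⟶ Spec (CommRingCat.of k))
  [LocallyOfFiniteType f] (k' : Type u) [Field k'] [Algebra k k'] [Finite k']

theorem card_algHom (x : X) (h : EGA4loc.residueDegree f x ∣ Module.finrank k k') :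
    Nat.card (@AlgHom k (X.residueField x) k' _ _ _ (strMap f x).hom.toAlgebra _) =
      EGA4loc.residueDegree f x := by
  letI := (strMap f x).hom.toAlgebra
  rw [← finrank_strMap] at h ⊢
  exact FiniteField.natCard_algHom_of_finrank_dvd h

theorem residueDegree_dvd (x : X)
    (a : @AlgHom k (X.residueField x) k' _ _ _ (strMap f x).hom.toAlgebra _) :
    EGA4loc.residueDegree f x ∣ Module.finrank k k' := by
  letI := (strMap f x).hom.toAlgebra
  rw [← finrank_strMap]
  exact FiniteField.nonempty_algHom_iff_finrank_dvd.mp ⟨a⟩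

variable [QuasiCompact f]

theorem card_sigma_algHom :
    Nat.card (Σ x : X, @AlgHom k (X.residueField x) k' _ _ _ (strMap f x).hom.toAlgebra _) =
      Zeta.nPts f (Module.finrank k k') := by
  classical
  have hm0 : 0 < Module.finrank k k' := Module.finrank_pos
  set m := Module.finrank k k' with hm
  let gT : (Σ x : X, @AlgHom k (X.residueField x) k' _ _ _ (strMap f x).hom.toAlgebra _) →
      {e // e ∈ m.divisors} := fun t =>
    ⟨EGA4loc.residueDegree f t.1,
      Nat.mem_divisors.mpr ⟨residueDegree_dvd f k' t.1 t.2, hm0.ne'⟩⟩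
  have hpos : ∀ e : {e // e ∈ m.divisors}, 0 < e.1 := fun e => Nat.pos_of_mem_divisors e.2
  -- the fibre of `gT` over `e`
  let E : ∀ e : {e // e ∈ m.divisors}, {t // gT t = e} ≃
      Σ x : {x : X // IsClosed ({x} : Set X) ∧ EGA4loc.residueDegree f x = e.1},
        @AlgHom k (X.residueField x.1) k' _ _ _ (strMap f x.1).hom.toAlgebra _ := fun e =>
    { toFun := fun t => ⟨⟨t.1.1, isClosed_of_residueDegree_pos f t.1.1 (by
          have := congrArg Subtype.val t.2
          change EGA4loc.residueDegree f t.1.1 = e.1 at this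
          rw [this]; exact hpos e), congrArg Subtype.val t.2⟩, t.1.2⟩
      invFun := fun p => ⟨⟨p.1.1, p.2⟩, Subtype.ext p.1.2.2⟩
      left_inv := fun _ => rfl
      right_inv := fun _ => rfl }
  have hfinC : ∀ e : {e // e ∈ m.divisors},
      Finite {x : X // IsClosed ({x} : Set X) ∧ EGA4loc.residueDegree f x = e.1} := fun e =>
    finite_degree_eq f e.1 (hpos e)
  have hcardA : ∀ (e : {e // e ∈ m.divisors})
      (x : {x : X // IsClosed ({x} : Set X) ∧ EGA4loc.residueDegree f x = e.1}),
      Nat.card (@AlgHom k (X.residueField x.1) k' _ _ _ (strMap f x.1).hom.toAlgebra _) = e.1 := by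
    intro e x
    rw [card_algHom f k' x.1 (by rw [x.2.2]; exact Nat.dvd_of_mem_divisors e.2), x.2.2]
  have hfinA : ∀ (e : {e // e ∈ m.divisors})
      (x : {x : X // IsClosed ({x} : Set X) ∧ EGA4loc.residueDegree f x = e.1}),
      Finite (@AlgHom k (X.residueField x.1) k' _ _ _ (strMap f x.1).hom.toAlgebra _) := by
    intro e x
    apply Nat.finite_of_card_ne_zero
    rw [hcardA e x]
    exact (hpos e).ne'
  have hfinT : ∀ e : {e // e ∈ m.divisors}, Finite {t // gT t = e} := fun e =>
    Finite.of_equiv _ (E e).symm
  have hcardT : ∀ e : {e // e ∈ m.divisors}, Nat.card {t // gT t = e} =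
      e.1 * Zeta.degCount f e.1 := by
    intro e
    letI : Fintype {x : X // IsClosed ({x} : Set X) ∧ EGA4loc.residueDegree f x = e.1} :=
      Fintype.ofFinite _
    rw [Nat.card_congr (E e), Nat.card_sigma]
    simp_rw [hcardA e]
    rw [Finset.sum_const, Finset.card_univ, smul_eq_mul, mul_comm, Zeta.degCount,
      Nat.card_eq_fintype_card]
  rw [← Nat.card_congr (Equiv.sigmaFiberEquiv gT), Nat.card_sigma]
  simp_rw [hcardT]
  unfold Zeta.nPts
  exact Finset.sum_coe_sort m.divisors (fun e => e * Zeta.degCount f e)

theorem pointCount_eq_nPts :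
    SgaExt.pointCount f k' = Zeta.nPts f (Module.finrank k k') := by
  unfold SgaExt.pointCount
  rw [Nat.card_congr (ptsEquiv f k'), card_sigma_algHom]

end Count

end Groth.Agent.Lib27.ZetaPoints
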