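import Groth.Agent.Lib27.Sch.KPoints
import Groth.Agent.Lib27.IntNoether4

/-!
# Counting points of arithmetic schemes in finite fields, uniformly in the characteristic
-/

set_option autoImplicit false

universe u

open CategoryTheory AlgebraicGeometry

namespace Groth.Agent.Lib27.ArithPoints

open Groth.Agent.Lib27.KPoints Groth.Agent.Lib27.IntNoether

theorem finiteType_int_of_lft {Y : Scheme.{u}} [IsAffine Y]
    (h : Y ⟶ Spec (CommRingCat.of (ULift.{u} ℤ))) [LocallyOfFiniteType h] :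
    Algebra.FiniteType ℤ Γ(Y, ⊤) := by
  have h1 : RingHom.FiniteType (h.appTop).hom :=
    (HasRingHomProperty.iff_of_isAffine (P := @LocallyOfFiniteType)).mp inferInstance
  let e : ℤ →+* Γ(Spec (CommRingCat.of (ULift.{u} ℤ)), ⊤) :=
    ((Scheme.ΓSpecIso (CommRingCat.of (ULift.{u} ℤ))).inv.hom).comp
      (ULift.ringEquiv.symm : ℤ ≃+* ULift.{u} ℤ).toRingHom
  have he : Function.Surjective e := by
    intro y
    obtain ⟨z, hz⟩ := (ConcreteCategory.bijective_of_isIso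
      (Scheme.ΓSpecIso (CommRingCat.of (ULift.{u} ℤ))).inv).2 y
    exact ⟨z.down, hz⟩
  have h2 : RingHom.FiniteType ((h.appTop).hom.comp e) :=
    h1.comp (RingHom.FiniteType.of_surjective e he)
  have h3 : (h.appTop).hom.comp e = algebraMap ℤ Γ(Y, ⊤) := RingHom.ext_int _ _
  rw [h3] at h2
  exact RingHom.finiteType_algebraMap.mp h2

lemma finite_homs_affine {Y : Scheme.{u}} [IsAffine Y] [Algebra.FiniteType ℤ Γ(Y, ⊤)]
    (F : Type u) [Field F] [Finite F] :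
    Finite (Γ(Y, ⊤) →+* F) := by
  obtain ⟨t, ht⟩ := (Algebra.FiniteType.out : (⊤ : Subalgebra ℤ Γ(Y, ⊤)).FG)
  exact finite_ringHom _ F t ht

lemma sigma_surjective' {X : Scheme.{u}} (𝒰 : X.OpenCover) (F : Type u) [Field F] :
    Function.Surjective (fun p : (Σ i : 𝒰.I₀, (Spec (CommRingCat.of F) ⟶ 𝒰.X i)) =>
      (p.2 ≫ 𝒰.f p.1 : Spec (CommRingCat.of F) ⟶ X)) := by
  intro g
  obtain ⟨i, g', hg'⟩ := exists_lift 𝒰 g
  exact ⟨⟨i, g'⟩, hg'⟩

/-- Natural-number form of the uniform point count bound. -/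
theorem exists_card_points_le {X : Scheme.{u}} (f : X ⟶ Spec (CommRingCat.of (ULift.{u} ℤ)))
    [LocallyOfFiniteType f] [QuasiCompact f] (r : ℕ) (hr : topologicalKrullDim X ≤ r) :
    ∃ (c p₀ : ℕ), ∀ (p m : ℕ), p.Prime → 1 ≤ m → ∀ (F : Type u) [Field F], Nat.card F = p ^ m →
      (p₀ ≤ p → (r = 0 → Nat.card (Spec (CommRingCat.of F) ⟶ X) = 0) ∧
        Nat.card (Spec (CommRingCat.of F) ⟶ X) ≤ c * (p ^ m) ^ (r - 1)) ∧
      (p < p₀ → Nat.card (Spec (CommRingCat.of F) ⟶ X) ≤ c * (p ^ m) ^ r) := by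
  classical
  haveI : CompactSpace X := QuasiCompact.compactSpace_of_compactSpace f
  let 𝒰 := X.affineCover.finiteSubcover
  haveI : ∀ i, IsAffine (𝒰.X i) := fun i => by
    change IsAffine (X.affineCover.X _); infer_instance
  haveI : ∀ i, Algebra.FiniteType ℤ Γ(𝒰.X i, ⊤) := fun i => finiteType_int_of_lft (𝒰.f i ≫ f)
  have h1 : ∀ i, ∃ (c p₀ : ℕ), ∀ (p m : ℕ), p.Prime → 1 ≤ m → ∀ (F : Type u) [Field F],
      Nat.card F = p ^ m →
      (p₀ ≤ p → (r = 0 → Nat.card (Γ(𝒰.X i, ⊤) →+* F) = 0) ∧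
        Nat.card (Γ(𝒰.X i, ⊤) →+* F) ≤ c * (p ^ m) ^ (r - 1)) ∧
      (p < p₀ → Nat.card (Γ(𝒰.X i, ⊤) →+* F) ≤ c * (p ^ m) ^ r) := fun i =>
    exists_bounds.{u, u} Γ(𝒰.X i, ⊤) r ((ringKrullDim_le_of_isOpenImmersion (𝒰.f i)).trans hr)
  choose c p₀ hb using h1
  refine ⟨∑ i, c i, ∑ i, p₀ i, ?_⟩
  intro p m hp hm F _ hF
  haveI : Finite F := Nat.finite_of_card_ne_zero (by rw [hF]; exact pow_ne_zero _ hp.ne_zero)
  haveI : ∀ i, Finite (Γ(𝒰.X i, ⊤) →+* F) := fun i => finite_homs_affine F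
  haveI : ∀ i, Finite (Spec (CommRingCat.of F) ⟶ 𝒰.X i) := fun i =>
    Finite.of_injective _ (ptHom_injective (Y := 𝒰.X i) (K := F))
  have hle : Nat.card (Spec (CommRingCat.of F) ⟶ X) ≤ ∑ i, Nat.card (Γ(𝒰.X i, ⊤) →+* F) := by
    calc Nat.card (Spec (CommRingCat.of F) ⟶ X)
        ≤ Nat.card (Σ i : 𝒰.I₀, (Spec (CommRingCat.of F) ⟶ 𝒰.X i)) :=
          Nat.card_le_card_of_surjective _ (sigma_surjective' 𝒰 F)
      _ = ∑ i, Nat.card (Spec (CommRingCat.of F) ⟶ 𝒰.X i) := Nat.card_sigma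
      _ ≤ ∑ i, Nat.card (Γ(𝒰.X i, ⊤) →+* F) := Finset.sum_le_sum fun i _ =>
          Nat.card_le_card_of_injective _ (ptHom_injective (Y := 𝒰.X i) (K := F))
  have hq : 1 ≤ p ^ m := Nat.one_le_pow _ _ hp.pos
  constructor
  · intro hp0
    have hpi : ∀ i, p₀ i ≤ p := fun i =>
      (Finset.single_le_sum (f := p₀) (fun _ _ => Nat.zero_le _) (Finset.mem_univ i)).trans hp0
    constructor
    · intro hr0
      have : ∑ i, Nat.card (Γ(𝒰.X i, ⊤) →+* F) = 0 :=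
        Finset.sum_eq_zero fun i _ => ((hb i p m hp hm F hF).1 (hpi i)).1 hr0
      omega
    · refine hle.trans ?_
      rw [Finset.sum_mul]
      exact Finset.sum_le_sum fun i _ => ((hb i p m hp hm F hF).1 (hpi i)).2
  · intro _
    refine hle.trans ?_
    rw [Finset.sum_mul]
    refine Finset.sum_le_sum fun i _ => ?_
    rcases lt_or_ge p (p₀ i) with h | h
    · exact (hb i p m hp hm F hF).2 h
    · refine ((hb i p m hp hm F hF).1 h).2.trans (Nat.mul_le_mul_left _ ?_)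
      exact Nat.pow_le_pow_right hq (Nat.sub_le _ _)

end Groth.Agent.Lib27.ArithPoints
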