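import Groth.Agent.Lib27.EulerCount
import Groth.Agent.Lib27.Sch.ArithPoints
import Groth.Agent.Lib.Helper12.FTZMain
import Groth.Prelude.Def_W4c1zetahwZeta
import Mathlib.FieldTheory.Finite.GaloisField

/-!
# The zeta function of an arithmetic scheme: convergence and non-vanishing for `Re s > dim X`
-/

set_option autoImplicit false

universe u

open CategoryTheory AlgebraicGeometry

namespace Groth.Agent.Lib27.ArithZeta

open Groth.Agent.Lib27.KPoints Groth.Agent.Lib27.ArithPoints Groth.Agent.Lib27

/-- The type of closed points of a scheme. -/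
abbrev ClPt (X : Scheme.{u}) : Type u := ↥{x : X | IsClosed ({x} : Set X)}

/-- The norm of a closed point. -/
noncomputable def nrm (X : Scheme.{u}) (x : ClPt X) : ℕ := Nat.card (X.residueField x.1)

theorem cycleNormCount_eq (X : Scheme.{u}) (n : ℕ) :
    Zeta.cycleNormCount X n =
      Nat.card {β : ClPt X →₀ ℕ // EulerAbstract.Nm (nrm X) β = n} := by
  unfold Zeta.cycleNormCount
  refine Nat.card_congr ?_
  refine (Equiv.subtypeSubtypeEquivSubtypeInter
    (fun α : X →₀ ℕ => (α.support : Set X) ⊆ {x : X | IsClosed ({x} : Set X)})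
    (fun α : X →₀ ℕ => α.prod (fun x m => Nat.card (X.residueField x) ^ m) = n)).symm.trans ?_
  refine (Finsupp.restrictSupportEquiv {x : X | IsClosed ({x} : Set X)} ℕ).subtypeEquiv ?_
  intro a
  have : EulerAbstract.Nm (nrm X)
      ((Finsupp.restrictSupportEquiv {x : X | IsClosed ({x} : Set X)} ℕ) a) =
      a.1.prod (fun x m => Nat.card (X.residueField x) ^ m) := by
    rw [Finsupp.restrictSupportEquiv_apply]
    exact Finsupp.prod_subtypeDomain_index
      (h := fun x m => Nat.card (X.residueField x) ^ m) (fun x hx => a.2 hx)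
  rw [this]

theorem arithCoeff_eq (X : Scheme.{u}) : Zeta.arithCoeff X = EulerAbstract.coeff (nrm X) := by
  funext n
  unfold Zeta.arithCoeff EulerAbstract.coeff
  rw [cycleNormCount_eq]

section

variable {X : Scheme.{u}} (f : X ⟶ Spec (CommRingCat.of (ULift.{u} ℤ)))
  [LocallyOfFiniteType f] [QuasiCompact f]

include f in
theorem finite_homs (F : Type u) [Field F] [Finite F] :
    Finite (Spec (CommRingCat.of F) ⟶ X) := by
  haveI : CompactSpace X := QuasiCompact.compactSpace_of_compactSpace f
  let 𝒰 := X.affineCover.finiteSubcover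
  haveI : ∀ i, IsAffine (𝒰.X i) := fun i => by
    change IsAffine (X.affineCover.X _); infer_instance
  haveI : ∀ i, Algebra.FiniteType ℤ Γ(𝒰.X i, ⊤) := fun i => finiteType_int_of_lft (𝒰.f i ≫ f)
  haveI : ∀ i, Finite (Γ(𝒰.X i, ⊤) →+* F) := fun i => finite_homs_affine F
  haveI : ∀ i, Finite (Spec (CommRingCat.of F) ⟶ 𝒰.X i) := fun i =>
    Finite.of_injective _ (ptHom_injective (Y := 𝒰.X i) (K := F))
  exact Finite.of_surjective _ (sigma_surjective' 𝒰 F)

include f in
theorem finite_residueField (x : ClPt X) : Finite (X.residueField x.1) := by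
  haveI : LocallyOfFiniteType (Limits.IsTerminal.from specULiftZIsTerminal X) := by
    rw [specULiftZIsTerminal.hom_ext (Limits.IsTerminal.from specULiftZIsTerminal X) f]
    infer_instance
  exact (Groth.Agent.Lib.Helper12.H12FTZ.isClosed_singleton_iff X x.1).mp x.2

include f in
theorem two_le_nrm (x : ClPt X) : 2 ≤ nrm X x := by
  haveI := finite_residueField f x
  exact Finite.one_lt_card

/-- The morphism `Spec F ⟶ X` attached to a point and an identification of its residue field. -/
noncomputable def ptMor (x : X) (F : Type u) [Field F] (φ : X.residueField x ≃+* F) :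
    Spec (CommRingCat.of F) ⟶ X :=
  Spec.map (CommRingCat.ofHom φ.toRingHom) ≫ X.fromSpecResidueField x

lemma ptMor_apply (x : X) (F : Type u) [Field F] (φ : X.residueField x ≃+* F)
    (y : Spec (CommRingCat.of F)) : (ptMor x F φ) y = x := by
  unfold ptMor
  simp only [Scheme.Hom.comp_base, TopCat.hom_comp, ContinuousMap.comp_apply]
  exact Scheme.fromSpecResidueField_apply x _


include f in
/-- The closed points of norm `n` inject into the `F`-points, `F` any residue field of
cardinality `n`. -/
theorem fibre_inj (n : ℕ) (x₀ : ClPt X) (hx₀ : nrm X x₀ = n) :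
    ∃ g : {x : ClPt X // nrm X x = n} → (Spec (CommRingCat.of (X.residueField x₀.1)) ⟶ X),
      Function.Injective g := by
  classical
  haveI := finite_residueField f x₀
  letI : Fintype (X.residueField x₀.1) := Fintype.ofFinite _
  have hex : ∀ x : {x : ClPt X // nrm X x = n},
      Nonempty (X.residueField x.1.1 ≃+* X.residueField x₀.1) := by
    intro x
    haveI := finite_residueField f x.1
    letI : Fintype (X.residueField x.1.1) := Fintype.ofFinite _
    refine ⟨FiniteField.ringEquivOfCardEq ?_⟩
    rw [← Nat.card_eq_fintype_card, ← Nat.card_eq_fintype_card]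
    exact x.2.trans hx₀.symm
  refine ⟨fun x => ptMor x.1.1 (X.residueField x₀.1) (Classical.choice (hex x)), ?_⟩
  intro x x' h
  obtain ⟨y⟩ : Nonempty (Spec (CommRingCat.of (X.residueField x₀.1))) := inferInstance
  have h1 := congrArg (fun g : Spec (CommRingCat.of (X.residueField x₀.1)) ⟶ X => g y) h
  simp only [ptMor_apply] at h1
  exact Subtype.ext (Subtype.ext h1)

include f in
theorem finite_fibre (n : ℕ) : Finite {x : ClPt X // nrm X x = n} := by
  by_cases hne : Nonempty {x : ClPt X // nrm X x = n}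
  · obtain ⟨⟨x₀, hx₀⟩⟩ := hne
    obtain ⟨g, hg⟩ := fibre_inj f n x₀ hx₀
    have := finite_residueField f x₀
    have := finite_homs f (X.residueField x₀.1)
    exact Finite.of_injective g hg
  · have : IsEmpty {x : ClPt X // nrm X x = n} := not_nonempty_iff.mp hne
    infer_instance

include f in
theorem count_bounds (r : ℕ) (hr : topologicalKrullDim X ≤ r) :
    ∃ c p₀ : ℕ, (∀ n, Finite {x : ClPt X // nrm X x = n}) ∧
      ∀ n, Nat.card {x : ClPt X // nrm X x = n} ≠ 0 → ∃ p m : ℕ, p.Prime ∧ 1 ≤ m ∧ n = p ^ m ∧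
      (p₀ ≤ p → r ≠ 0 ∧ Nat.card {x : ClPt X // nrm X x = n} ≤ c * n ^ (r - 1)) ∧
      (p < p₀ → Nat.card {x : ClPt X // nrm X x = n} ≤ c * n ^ r) := by
  classical
  obtain ⟨c, p₀, hb⟩ := exists_card_points_le f r hr
  refine ⟨c, p₀, ?_, ?_⟩
  · intro n
    by_cases hne : Nonempty {x : ClPt X // nrm X x = n}
    · obtain ⟨⟨x₀, hx₀⟩⟩ := hne
      obtain ⟨g, hg⟩ := fibre_inj f n x₀ hx₀
      have := finite_residueField f x₀
      have := finite_homs f (X.residueField x₀.1)
      exact Finite.of_injective g hg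
    · have : IsEmpty {x : ClPt X // nrm X x = n} := not_nonempty_iff.mp hne
      infer_instance
  · intro n hn
    obtain ⟨⟨⟨x₀, hx₀⟩⟩, -⟩ := Nat.card_ne_zero.mp hn
    obtain ⟨g, hg⟩ := fibre_inj f n x₀ hx₀
    have := finite_residueField f x₀
    have := finite_homs f (X.residueField x₀.1)
    have hle : Nat.card {x : ClPt X // nrm X x = n} ≤
        Nat.card (Spec (CommRingCat.of (X.residueField x₀.1)) ⟶ X) :=
      Nat.card_le_card_of_injective g hg
    letI : Fintype (X.residueField x₀.1) := Fintype.ofFinite _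
    obtain ⟨p, -, k, hp, hk⟩ := FiniteField.card' (X.residueField x₀.1)
    have hF : Nat.card (X.residueField x₀.1) = p ^ (k : ℕ) := by
      rw [Nat.card_eq_fintype_card]; exact hk
    have hnp : n = p ^ (k : ℕ) := by rw [← hx₀]; exact hF
    obtain ⟨h1, h2⟩ := hb p k hp k.pos (X.residueField x₀.1) hF
    subst hnp
    refine ⟨p, k, hp, k.pos, rfl, ?_, ?_⟩
    · intro hpp
      obtain ⟨h3, h4⟩ := h1 hpp
      refine ⟨fun hr0 => hn ?_, ?_⟩
      · have := h3 hr0
        omega
      · exact hle.trans h4
    · intro hpp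
      exact hle.trans (h2 hpp)

include f in
/-- **Convergence and non-vanishing of the zeta function of an arithmetic scheme** in the
half-plane `Re s > dim X`. -/
theorem zeta_main (r : ℕ) (hr : topologicalKrullDim X ≤ r) :
    LSeries.abscissaOfAbsConv (Zeta.arithCoeff X) ≤ (r : ℝ) ∧
      ∀ s : ℂ, (r : ℝ) < s.re → LSeries (Zeta.arithCoeff X) s ≠ 0 := by
  rw [arithCoeff_eq]
  obtain ⟨c, p₀, hfin, hb⟩ := count_bounds f r hr
  exact EulerAbstract.abscissa_le_and_ne_zero (nrm X) (two_le_nrm f) r
    (fun σ hσ => EulerCount.summable_of_count_bounds (nrm X) c p₀ r hfin hb σ hσ)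

end

end Groth.Agent.Lib27.ArithZeta
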