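import Groth.Agent.Lib27.ZetaFormal
import Groth.Agent.Lib27.Sch.ArithZeta
import Mathlib.AlgebraicGeometry.Morphisms.Immersion

/-!
# Multiplicativity of the zeta function over partitions by immersions
-/

set_option autoImplicit false

universe u

open CategoryTheory AlgebraicGeometry

namespace Groth.Agent.Lib27.ZetaPartition

open Groth.Agent.Lib27 Groth.Agent.Lib27.ArithZeta

section ResidueField

lemma residueFieldMap_surjective {Y X : Scheme.{u}} (g : Y ⟶ X) [SurjectiveOnStalks g] (y : Y) :
    Function.Surjective (g.residueFieldMap y).hom := by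
  have h := Scheme.residue_residueFieldMap g y
  have h1 : Function.Surjective (g.stalkMap y ≫ Y.residue y).hom := by
    rw [CommRingCat.hom_comp, RingHom.coe_comp]
    exact (IsLocalRing.residue_surjective).comp (g.stalkMap_surjective y)
  rw [← h, CommRingCat.hom_comp, RingHom.coe_comp] at h1
  exact Function.Surjective.of_comp h1

lemma residueFieldMap_bijective {Y X : Scheme.{u}} (g : Y ⟶ X) [SurjectiveOnStalks g] (y : Y) :
    Function.Bijective (g.residueFieldMap y).hom :=
  ⟨RingHom.injective _, residueFieldMap_surjective g y⟩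

lemma finrank_comp_bijective {K L M : Type*} [Field K] [Field L] [Field M] (φ : K →+* L)
    (ψ : L →+* M) (hψ : Function.Bijective ψ) :
    @Module.finrank K M _ _ (ψ.comp φ).toAlgebra.toModule =
      @Module.finrank K L _ _ φ.toAlgebra.toModule := by
  letI := φ.toAlgebra
  letI := (ψ.comp φ).toAlgebra
  let e : L ≃ₗ[K] M :=
    { RingEquiv.ofBijective ψ hψ with
      map_smul' := fun c x => by
        simp only [Algebra.smul_def, RingHom.id_apply]
        change ψ (φ c * x) = ψ (φ c) * ψ x
        rw [map_mul] }
  exact e.finrank_eq.symm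

theorem residueDegree_comp {Y X S : Scheme.{u}} (g : Y ⟶ X) [SurjectiveOnStalks g] (f : X ⟶ S)
    (y : Y) : EGA4loc.residueDegree (g ≫ f) y = EGA4loc.residueDegree f (g y) := by
  have h := Scheme.residueFieldMap_comp g f y
  have h2 : ((g ≫ f).residueFieldMap y).hom =
      (g.residueFieldMap y).hom.comp (f.residueFieldMap (g y)).hom := by
    rw [h]; rfl
  exact (congrArg (fun χ : S.residueField (f (g y)) →+* Y.residueField y =>
    @Module.finrank _ _ _ _ χ.toAlgebra.toModule) h2).trans
    (finrank_comp_bijective _ _ (residueFieldMap_bijective g y))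

end ResidueField


section FiniteField

variable (k : Type u) [Field k] [Finite k]

/-- The ring hom `ℤ → k`. -/
noncomputable def intHom : ULift.{u} ℤ →+* k :=
  (Int.castRingHom k).comp (ULift.ringEquiv : ULift.{u} ℤ ≃+* ℤ).toRingHom

/-- The structure morphism `Spec k ⟶ Spec ℤ`. -/
noncomputable def toZ : Spec (CommRingCat.of k) ⟶ Spec (CommRingCat.of (ULift.{u} ℤ)) :=
  Spec.map (CommRingCat.ofHom (intHom k))

instance : LocallyOfFiniteType (toZ k) := by
  have hgfin : (intHom k).Finite :=
    @Module.Finite.of_finite (ULift.{u} ℤ) k _ _ ((intHom k).toAlgebra.toModule) _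
  exact (HasRingHomProperty.Spec_iff (P := @LocallyOfFiniteType)).mpr hgfin.finiteType

variable {k} {X : Scheme.{u}} (f : X ⟶ Spec (CommRingCat.of k)) [LocallyOfFiniteType f]

include f in
theorem isClosed_iff_finite (x : X) : IsClosed ({x} : Set X) ↔ Finite (X.residueField x) := by
  have : LocallyOfFiniteType (Limits.IsTerminal.from specULiftZIsTerminal X) := by
    rw [specULiftZIsTerminal.hom_ext (Limits.IsTerminal.from specULiftZIsTerminal X) (f ≫ toZ k)]
    infer_instance
  exact Groth.Agent.Lib.Helper12.H12FTZ.isClosed_singleton_iff X x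

theorem finite_residueField_base (s : Spec (CommRingCat.of k)) :
    Finite ((Spec (CommRingCat.of k)).residueField s) := by
  rw [← isClosed_iff_finite (𝟙 (Spec (CommRingCat.of k))) s]
  have : ({s} : Set (Spec (CommRingCat.of k))) = Set.univ := by
    rw [Set.eq_univ_iff_forall]
    intro y
    exact Subsingleton.elim (α := PrimeSpectrum k) _ _
  rw [this]
  exact isClosed_univ

theorem finite_of_residueDegree_pos (x : X) (h : 0 < EGA4loc.residueDegree f x) :
    Finite (X.residueField x) := by
  letI := (f.residueFieldMap x).hom.toAlgebra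
  have h1 : Module.Finite ((Spec (CommRingCat.of k)).residueField (f x)) (X.residueField x) :=
    Module.finite_of_finrank_pos h
  have := finite_residueField_base (f x)
  exact Module.finite_of_finite ((Spec (CommRingCat.of k)).residueField (f x))

theorem isClosed_of_residueDegree_pos (x : X) (h : 0 < EGA4loc.residueDegree f x) :
    IsClosed ({x} : Set X) :=
  (isClosed_iff_finite f x).mpr (finite_of_residueDegree_pos f x h)

/-- The cardinality of the residue field of the point of `Spec k`. -/
noncomputable def baseCard (k : Type u) [Field k] : ℕ :=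
  Nat.card ((Spec (CommRingCat.of k)).residueField
    (show Spec (CommRingCat.of k) from (⟨⊥, Ideal.isPrime_bot⟩ : PrimeSpectrum k)))

theorem card_residueField (x : X) (h : 0 < EGA4loc.residueDegree f x) :
    Nat.card (X.residueField x) = baseCard k ^ EGA4loc.residueDegree f x := by
  letI := (f.residueFieldMap x).hom.toAlgebra
  have h1 : Module.Finite ((Spec (CommRingCat.of k)).residueField (f x)) (X.residueField x) :=
    Module.finite_of_finrank_pos h
  have h2 : Nat.card ((Spec (CommRingCat.of k)).residueField (f x)) = baseCard k := by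
    unfold baseCard
    exact congrArg (fun s => Nat.card ((Spec (CommRingCat.of k)).residueField s))
      (Subsingleton.elim (α := PrimeSpectrum k) _ _)
  rw [← h2]
  exact Module.natCard_eq_pow_finrank

variable [QuasiCompact f]

theorem finite_degree_eq (e : ℕ) (he : 0 < e) :
    Finite {x : X // IsClosed ({x} : Set X) ∧ EGA4loc.residueDegree f x = e} := by
  have := finite_fibre (f ≫ toZ k) (baseCard k ^ e)
  let φ : {x : X // IsClosed ({x} : Set X) ∧ EGA4loc.residueDegree f x = e} →
      {x : ClPt X // nrm X x = baseCard k ^ e} := fun x =>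
    ⟨⟨x.1, x.2.1⟩, by
      change Nat.card (X.residueField x.1) = _
      rw [card_residueField f x.1 (by rw [x.2.2]; exact he), x.2.2]⟩
  refine Finite.of_injective φ ?_
  intro x x' hxx
  have := congrArg (fun z => z.1.1) hxx
  exact Subtype.ext this

end FiniteField


section Partition

open PowerSeries

variable {k : Type u} [Field k] [Finite k] {X : Scheme.{u}} (f : X ⟶ Spec (CommRingCat.of k))
  [LocallyOfFiniteType f] [QuasiCompact f]
  {ι : Type u} [Fintype ι] (Y : ι → Scheme.{u}) (g : ∀ i, Y i ⟶ X) [∀ i, IsImmersion (g i)]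
  (hpart : ∀ x : X, IsClosed ({x} : Set X) → ∃! i, x ∈ Set.range (g i).base)

include hpart in
theorem degCount_eq_sum (e : ℕ) (he : 0 < e) :
    Zeta.degCount f e = ∑ i, Zeta.degCount (g i ≫ f) e := by
  classical
  unfold Zeta.degCount
  let Φ : (Σ i, {y : Y i // IsClosed ({y} : Set (Y i)) ∧ EGA4loc.residueDegree (g i ≫ f) y = e}) →
      {x : X // IsClosed ({x} : Set X) ∧ EGA4loc.residueDegree f x = e} := fun p =>
    ⟨g p.1 p.2.1, isClosed_of_residueDegree_pos f _ (by
        rw [← residueDegree_comp, p.2.2.2]; exact he), by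
        rw [← residueDegree_comp]; exact p.2.2.2⟩
  have hinj : Function.Injective Φ := by
    rintro ⟨i, y⟩ ⟨j, y'⟩ h
    have h1 : g i y.1 = g j y'.1 := congrArg Subtype.val h
    have hcl : IsClosed ({g i y.1} : Set X) := (Φ ⟨i, y⟩).2.1
    obtain ⟨i₀, -, huniq⟩ := hpart _ hcl
    have hi : i = i₀ := huniq i ⟨y.1, rfl⟩
    have hj : j = i₀ := huniq j ⟨y'.1, h1.symm⟩
    obtain rfl : i = j := hi.trans hj.symm
    have h2 : y.1 = y'.1 := (g i).isEmbedding.injective h1
    have h3 : y = y' := Subtype.ext h2
    rw [h3]
  have hsurj : Function.Surjective Φ := by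
    rintro ⟨x, hxcl, hxe⟩
    obtain ⟨i, ⟨y, hy⟩, -⟩ := hpart x hxcl
    have hdeg : EGA4loc.residueDegree (g i ≫ f) y = e := by
      rw [residueDegree_comp]
      change EGA4loc.residueDegree f ((g i).base y) = e
      rw [hy]; exact hxe
    refine ⟨⟨i, ⟨y, isClosed_of_residueDegree_pos (g i ≫ f) y (by rw [hdeg]; exact he), hdeg⟩⟩, ?_⟩
    exact Subtype.ext hy
  have hfin := finite_degree_eq f e he
  have hfinB : ∀ i, Finite {y : Y i // IsClosed ({y} : Set (Y i)) ∧
      EGA4loc.residueDegree (g i ≫ f) y = e} := fun i =>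
    Finite.of_injective (fun y => Φ ⟨i, y⟩) (fun y y' h => by
      have := hinj h
      exact eq_of_heq (Sigma.mk.inj this).2)
  rw [← Nat.card_congr (Equiv.ofBijective Φ ⟨hinj, hsurj⟩), Nat.card_sigma]

include hpart in
theorem nPts_eq_sum (m : ℕ) : Zeta.nPts f m = ∑ i, Zeta.nPts (g i ≫ f) m := by
  unfold Zeta.nPts
  rw [Finset.sum_comm]
  refine Finset.sum_congr rfl fun e he => ?_
  rw [degCount_eq_sum f Y g hpart e (Nat.pos_of_mem_divisors he), Finset.mul_sum]

include hpart in
theorem zetaFun_eq_prod : Zeta.zetaFun f = ∏ i, Zeta.zetaFun (g i ≫ f) := by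
  classical
  apply ZetaFormal.eq_of_derivative_eq_mul (H := derivative ℚ (Zeta.logZeta f))
  · exact ZetaFormal.derivative_zetaFun f
  · have h := ZetaFormal.derivative_prod_pow Finset.univ (fun i => Zeta.zetaFun (g i ≫ f))
      (fun i => derivative ℚ (Zeta.logZeta (g i ≫ f))) (fun _ => 1)
      (fun i _ => ZetaFormal.derivative_zetaFun _)
    simp only [pow_one, Nat.cast_one, one_mul] at h
    rw [h]
    congr 1
    ext m
    rw [map_sum]
    simp_rw [ZetaFormal.coeff_derivative_logZeta]
    rw [nPts_eq_sum f Y g hpart]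
    push_cast
    rfl
  · rw [ZetaFormal.constantCoeff_zetaFun, map_prod]
    simp [ZetaFormal.constantCoeff_zetaFun]

end Partition

end Groth.Agent.Lib27.ZetaPartition
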