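import Mathlib
open CategoryTheory AlgebraicGeometry Limits

universe u

namespace Groth.Agent.Lib27.FibreGalois

/-- two embeddings of a normal extension differ by an automorphism -/
theorem exists_aut_of_normal (k E Ω : Type*) [Field k] [Field E] [Field Ω] [Algebra k E]
    [Algebra k Ω] [Normal k E] (α β : E →ₐ[k] Ω) :
    ∃ σ : E ≃ₐ[k] E, ∀ e, α (σ e) = β e := by
  let _ : Algebra E Ω := α.toRingHom.toAlgebra
  have : IsScalarTower k E Ω := IsScalarTower.of_algebraMap_eq (fun r => (α.commutes r).symm)
  refine ⟨β.restrictNormal' E, fun e => ?_⟩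
  exact β.restrictNormal_commutes E e


theorem main' {k : Type u} [Field k] (E : Type u) [Field E] [Algebra k E] [Normal k E]
    {X : Scheme.{u}} (f : X ⟶ Spec (CommRingCat.of k))
    (g : Spec (CommRingCat.of E) ⟶ Spec (CommRingCat.of k))
    (hg : g = Spec.map (CommRingCat.ofHom (algebraMap k E)))
    (τ : (E ≃ₐ[k] E) → (pullback f g ⟶ pullback f g))
    (hτ1 : ∀ σ, τ σ ≫ pullback.fst f g = pullback.fst f g)
    (hτ2 : ∀ σ, τ σ ≫ pullback.snd f g =
        pullback.snd f g ≫ Spec.map (CommRingCat.ofHom (σ : E →+* E)))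
    (x y : ↑(pullback f g)) :
    (pullback.fst f g).base x = (pullback.fst f g).base y ↔ ∃ σ, (τ σ).base x = y := by
  obtain ⟨π, hπ⟩ : ∃ π, π = pullback.fst f g := ⟨_, rfl⟩
  rw [← hπ]
  rw [← hπ] at hτ1
  constructor
  · intro h
    obtain ⟨w, hw1, hw2⟩ := Scheme.Pullback.exists_preimage_pullback (f := π) (g := π) x y h
    let Ω := (pullback π π).residueField w
    let i : Spec Ω ⟶ pullback π π := (pullback π π).fromSpecResidueField w
    obtain ⟨a, ha⟩ : ∃ a, a = i ≫ pullback.fst π π := ⟨_, rfl⟩
    obtain ⟨b, hb'⟩ : ∃ b, b = i ≫ pullback.snd π π := ⟨_, rfl⟩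
    have hab : a ≫ π = b ≫ π := by
      simp only [ha, hb', Category.assoc, pullback.condition]
    let α : CommRingCat.of E ⟶ Ω := Spec.preimage (a ≫ pullback.snd f g)
    let β : CommRingCat.of E ⟶ Ω := Spec.preimage (b ≫ pullback.snd f g)
    have hα : Spec.map α = a ≫ pullback.snd f g := Spec.map_preimage _
    have hβ : Spec.map β = b ≫ pullback.snd f g := Spec.map_preimage _
    have hαβ : CommRingCat.ofHom (algebraMap k E) ≫ α = CommRingCat.ofHom (algebraMap k E) ≫ β := by
      apply Spec.map_injective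
      have hc : π ≫ f = pullback.snd f g ≫ g := by rw [hπ]; exact pullback.condition
      have e1 : ∀ c : Spec Ω ⟶ pullback f g, (c ≫ pullback.snd f g) ≫ g = (c ≫ π) ≫ f :=
        fun c => by rw [Category.assoc, Category.assoc, hc]
      rw [Spec.map_comp, Spec.map_comp, hα, hβ, ← hg, e1, e1, hab]
    let _ : Algebra k Ω := (CommRingCat.ofHom (algebraMap k E) ≫ α).hom.toAlgebra
    let α' : E →ₐ[k] Ω := { α.hom with commutes' := fun r => rfl }
    let β' : E →ₐ[k] Ω :=
      { β.hom with commutes' := fun r => (congrArg (fun g => g.hom r) hαβ).symm }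
    obtain ⟨σ, hσ⟩ := exists_aut_of_normal k E Ω α' β'
    refine ⟨σ, ?_⟩
    have hb : b = a ≫ τ σ := by
      apply pullback.hom_ext
      · rw [← hπ, Category.assoc, hτ1]
        exact hab.symm
      · rw [Category.assoc, hτ2, ← Category.assoc, ← hβ, ← hα, ← Spec.map_comp]
        congr 1
        ext e
        exact (hσ e).symm
    have hax : a.base (IsLocalRing.closedPoint Ω) = x := by
      have : a.base (IsLocalRing.closedPoint Ω) =
        (pullback.fst π π).base (i.base (IsLocalRing.closedPoint Ω)) := by rw [ha]; rfl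
      have e2 : i.base (IsLocalRing.closedPoint Ω) = w := Scheme.fromSpecResidueField_apply w _
      rw [this, e2, hw1]
    have hby : b.base (IsLocalRing.closedPoint Ω) = y := by
      have : b.base (IsLocalRing.closedPoint Ω) =
        (pullback.snd π π).base (i.base (IsLocalRing.closedPoint Ω)) := by rw [hb']; rfl
      have e2 : i.base (IsLocalRing.closedPoint Ω) = w := Scheme.fromSpecResidueField_apply w _
      rw [this, e2, hw2]
    rw [← hby, hb, ← hax]
    rfl
  · rintro ⟨σ, rfl⟩
    have : π.base ((τ σ).base x) = (τ σ ≫ π).base x := rfl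
    rw [this, hτ1]

end Groth.Agent.Lib27.FibreGalois
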