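import Mathlib
import Groth.Prelude.Def_SGA1t
import Groth.Agent.Lib27.Alg.ASTorsor

/-!
# Artin–Schreier theory over an affine base: the scheme-theoretic glue (helper27)
-/

universe u

open CategoryTheory CategoryTheory.Limits AlgebraicGeometry

namespace Groth.Agent.Lib27.ASCover

open Groth.Agent.Lib27.ASTorsor

theorem main_scheme (A : Type u) [CommRing A] (p : ℕ) [Fact p.Prime] [CharP A p]
    {X : Scheme.{u}} (f : X ⟶ Spec (CommRingCat.of A)) [IsFinite f] [Etale f]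
    (hsurj : Function.Surjective f.base)
    (τ : Multiplicative (ZMod p) → (X ⟶ X)) (hτf : ∀ g, τ g ≫ f = f) (hτ1 : τ 1 = 𝟙 X)
    (hτmul : ∀ g h, τ (g * h) = τ h ≫ τ g)
    (hP : ∀ (Ω : Type u) [Field Ω] [IsAlgClosed Ω] (ξ : Spec (CommRingCat.of Ω) ⟶ Spec (CommRingCat.of A))
      (s t : Spec (CommRingCat.of Ω) ⟶ X), s ≫ f = ξ → t ≫ f = ξ → ∃! g, s ≫ τ g = t) :
    ∃ (a : A) (e : X ≅ Spec (CommRingCat.of (SGA1t.artinSchreier A p a))),
      e.hom ≫ Spec.map (CommRingCat.ofHom (algebraMap A (SGA1t.artinSchreier A p a))) = f ∧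
      ∀ j : ZMod p, τ (Multiplicative.ofAdd j) ≫ e.hom =
        e.hom ≫ Spec.map (CommRingCat.ofHom (SGA1t.artinSchreierShift A p a j)) := by
  classical
  haveI : IsAffine X := isAffine_of_isAffineHom f
  -- the ring map
  let φc : CommRingCat.of A ⟶ Γ(X, ⊤) := (Scheme.ΓSpecIso (CommRingCat.of A)).inv ≫ f.appTop
  have hf : X.isoSpec.hom ≫ Spec.map φc = f := by
    have h1 := Scheme.isoSpec_hom_naturality f
    rw [Scheme.isoSpec_Spec_hom] at h1
    change X.isoSpec.hom ≫ Spec.map ((Scheme.ΓSpecIso (CommRingCat.of A)).inv ≫ f.appTop) = _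
    rw [Spec.map_comp, reassoc_of% h1, ← Spec.map_comp, Iso.inv_hom_id, Spec.map_id,
      Category.comp_id]
  have hf' : Spec.map φc = X.isoSpec.inv ≫ f := by
    rw [← hf, Iso.inv_hom_id_assoc]
  letI : Algebra A Γ(X, ⊤) := φc.hom.toAlgebra
  have hfinS : IsFinite (Spec.map φc) := by rw [hf']; infer_instance
  have hetS : Etale (Spec.map φc) := by rw [hf']; infer_instance
  haveI : Module.Finite A Γ(X, ⊤) := by
    have := (IsFinite.SpecMap_iff φc).mp hfinS
    exact this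
  haveI : Algebra.Etale A Γ(X, ⊤) := by
    have := (HasRingHomProperty.Spec_iff (P := @Etale)).mp hetS
    exact this
  -- injectivity of the structure map
  have hinj : Function.Injective (algebraMap A Γ(X, ⊤)) := by
    have hs : Function.Surjective (PrimeSpectrum.comap (algebraMap A Γ(X, ⊤))) := by
      intro y
      obtain ⟨x, hx⟩ := hsurj y
      refine ⟨X.isoSpec.hom.base x, ?_⟩
      have h2 : (X.isoSpec.hom ≫ Spec.map φc).base x = y := by rw [hf]; exact hx
      exact h2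
    haveI := Module.FaithfullyFlat.of_comap_surjective hs
    exact FaithfulSMul.algebraMap_injective A Γ(X, ⊤)
  -- the action on the ring
  have hτapp : ∀ g, f.appTop ≫ (τ g).appTop = f.appTop := by
    intro g
    rw [← Scheme.Hom.comp_appTop, hτf]
  let σ : Multiplicative (ZMod p) → (Γ(X, ⊤) →ₐ[A] Γ(X, ⊤)) := fun g =>
    { toRingHom := (τ g).appTop.hom
      commutes' := by
        intro a
        have h2 := congrArg (fun m => m.hom (((Scheme.ΓSpecIso (CommRingCat.of A)).inv).hom a))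
          (hτapp g)
        exact h2 }
  have hσapp : ∀ g x, σ g x = (τ g).appTop.hom x := fun _ _ => rfl
  have hσ1 : σ 1 = AlgHom.id A Γ(X, ⊤) := by
    apply AlgHom.ext
    intro x
    rw [hσapp, hτ1]
    rfl
  have hσmul : ∀ g h, σ (g * h) = (σ g).comp (σ h) := by
    intro g h
    apply AlgHom.ext
    intro x
    rw [AlgHom.comp_apply, hσapp, hσapp, hσapp, mul_comm, hτmul, Scheme.Hom.comp_appTop]
    rfl
  -- the geometric points
  have hT : ∀ (Ω : Type u) [Field Ω] [IsAlgClosed Ω] [Algebra A Ω] (χ χ' : Γ(X, ⊤) →ₐ[A] Ω),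
      ∃! g : Multiplicative (ZMod p), χ.comp (σ g) = χ' := by
    intro Ω _ _ _
    let ξ : Spec (CommRingCat.of Ω) ⟶ Spec (CommRingCat.of A) :=
      Spec.map (CommRingCat.ofHom (algebraMap A Ω))
    let pt : (Γ(X, ⊤) →ₐ[A] Ω) → (Spec (CommRingCat.of Ω) ⟶ X) := fun χ =>
      Spec.map (CommRingCat.ofHom (χ : Γ(X, ⊤) →+* Ω)) ≫ X.isoSpec.inv
    have hpt : ∀ χ, pt χ ≫ f = ξ := by
      intro χ
      change (Spec.map (CommRingCat.ofHom (χ : Γ(X, ⊤) →+* Ω)) ≫ X.isoSpec.inv) ≫ f = _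
      rw [Category.assoc, ← hf', ← Spec.map_comp]
      congr 1
      ext a
      exact χ.commutes a
    have hptτ : ∀ χ g, pt χ ≫ τ g = pt (χ.comp (σ g)) := by
      intro χ g
      change (Spec.map (CommRingCat.ofHom (χ : Γ(X, ⊤) →+* Ω)) ≫ X.isoSpec.inv) ≫ τ g =
        Spec.map (CommRingCat.ofHom ((χ.comp (σ g) : Γ(X, ⊤) →ₐ[A] Ω) : Γ(X, ⊤) →+* Ω)) ≫
          X.isoSpec.inv
      rw [Category.assoc, ← Scheme.isoSpec_inv_naturality (τ g), ← Category.assoc,
        ← Spec.map_comp]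
      rfl
    have hptinj : Function.Injective pt := by
      intro χ χ' h
      have h1 : Spec.map (CommRingCat.ofHom (χ : Γ(X, ⊤) →+* Ω)) =
          Spec.map (CommRingCat.ofHom (χ' : Γ(X, ⊤) →+* Ω)) := by
        rwa [cancel_mono] at h
      have h2 := Spec.map_injective h1
      apply AlgHom.ext
      intro x
      exact congrArg (fun m => m.hom x) h2
    intro χ χ'
    obtain ⟨g, hg, huniq⟩ := hP Ω ξ (pt χ) (pt χ') (hpt χ) (hpt χ')
    refine ⟨g, ?_, ?_⟩
    · apply hptinj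
      rw [← hptτ, hg]
    · intro g' hg'
      apply huniq
      rw [hptτ, hg']
  obtain ⟨a, Ψ, hΨbij, hΨeq⟩ := main_AS A p Γ(X, ⊤) hinj σ hσ1 hσmul hT
  refine ⟨a, ?_⟩
  let Ke : SGA1t.artinSchreier A p a ≃+* Γ(X, ⊤) :=
    RingEquiv.ofBijective (Ψ : _ →+* Γ(X, ⊤)) hΨbij
  let Ki : CommRingCat.of (SGA1t.artinSchreier A p a) ≅ Γ(X, ⊤) :=
    Ke.toCommRingCatIso
  let e : X ≅ Spec (CommRingCat.of (SGA1t.artinSchreier A p a)) :=
    X.isoSpec ≪≫ Scheme.Spec.mapIso Ki.op
  have he : e.hom = X.isoSpec.hom ≫ Spec.map (CommRingCat.ofHom (Ψ : _ →+* Γ(X, ⊤))) := rfl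
  refine ⟨e, ?_, ?_⟩
  · rw [he, Category.assoc, ← Spec.map_comp]
    rw [← hf]
    congr 2
    ext x
    exact Ψ.commutes x
  · intro j
    rw [he, Category.assoc, ← Spec.map_comp, ← Category.assoc,
      ← Scheme.isoSpec_hom_naturality (τ (Multiplicative.ofAdd j)), Category.assoc,
      ← Spec.map_comp]
    congr 2
    refine CommRingCat.hom_ext (RingHom.ext fun x => ?_)
    exact hΨeq j x

theorem main (A : Type u) [CommRing A] (p : ℕ) [Fact p.Prime] [CharP A p]
    (P : FEt.Cat (Spec (CommRingCat.of A))) (ρ : Multiplicative (ZMod p) →* Aut P)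
    (hP : SGA1t.IsPrincipal (Multiplicative (ZMod p)) P ρ) :
    ∃ (a : A) (e : P.left ≅ Spec (CommRingCat.of (SGA1t.artinSchreier A p a))),
      e.hom ≫ Spec.map (CommRingCat.ofHom (algebraMap A (SGA1t.artinSchreier A p a))) = P.hom ∧
      ∀ j : ZMod p, (ρ (Multiplicative.ofAdd j)).hom.left ≫ e.hom =
        e.hom ≫ Spec.map (CommRingCat.ofHom (SGA1t.artinSchreierShift A p a j)) := by
  let f : P.left ⟶ Spec (CommRingCat.of A) := P.hom
  haveI : IsFinite f := P.prop.1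
  haveI : Etale f := P.prop.2
  refine main_scheme A p f hP.1 (fun g => (ρ g).hom.left) ?_ ?_ ?_ ?_
  · intro g
    exact Over.w (ρ g).hom.hom
  · rw [map_one]
    rfl
  · intro g h
    rw [map_mul]
    rfl
  · intro Ω _ _ ξ s t hs ht
    obtain ⟨g, hg, huniq⟩ := hP.2 Ω ξ ⟨s, hs⟩ ⟨t, ht⟩
    refine ⟨g, ?_, ?_⟩
    · exact congrArg Subtype.val hg
    · intro g' hg'
      apply huniq
      exact Subtype.ext hg'

end Groth.Agent.Lib27.ASCover
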