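import Mathlib.AlgebraicGeometry.Morphisms.Immersion
import Mathlib.AlgebraicGeometry.Morphisms.IsIso
import Mathlib.AlgebraicGeometry.Morphisms.ClosedImmersion
import Mathlib.RingTheory.AdicCompletion.AsTensorProduct
import Mathlib.RingTheory.AdicCompletion.Noetherian
import Mathlib.RingTheory.AdicCompletion.RingHom
import Mathlib.AlgebraicGeometry.Limits
import Mathlib.AlgebraicGeometry.Gluing

/-!
# Morphisms from the spectrum of an adically complete semi-local ring

Uniqueness: two morphisms `Spec R ⟶ Y` agreeing on all infinitesimal neighbourhoods `Spec R/Kₙ`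
agree, as soon as `⋂ Kₙ = 0` and `K₁` lies in the Jacobson radical (equalizer argument).
-/

set_option autoImplicit false
universe u

open CategoryTheory AlgebraicGeometry Limits IsLocalRing

namespace Groth.Agent.Lib27.AdicHom

section Complete

theorem isPrecomplete_of_finite {R : Type*} [CommRing R] (I : Ideal R) [IsPrecomplete I R]
    (M : Type*) [AddCommGroup M] [Module R M] [Module.Finite R M] : IsPrecomplete I M := by
  rw [← AdicCompletion.of_surjective_iff]
  intro z
  obtain ⟨w, rfl⟩ := AdicCompletion.ofTensorProduct_surjective_of_finite I M z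
  induction w using TensorProduct.induction_on with
  | zero => exact ⟨0, by simp⟩
  | tmul r x =>
    obtain ⟨a, rfl⟩ := AdicCompletion.of_surjective I R r
    refine ⟨a • x, ?_⟩
    rw [AdicCompletion.ofTensorProduct_tmul, map_smul]
    ext n
    simp
    rfl
  | add x y hx hy =>
    obtain ⟨a, ha⟩ := hx
    obtain ⟨b, hb⟩ := hy
    exact ⟨a + b, by rw [map_add, ha, hb, map_add]⟩

theorem isAdicComplete_map_of_finite (A : Type*) [CommRing A] [IsLocalRing A] [IsNoetherianRing A]
    [IsAdicComplete (maximalIdeal A) A] (B : Type*) [CommRing B] [Algebra A B] [Module.Finite A B] :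
    IsAdicComplete (Ideal.map (algebraMap A B) (maximalIdeal A)) B := by
  rw [IsAdicComplete.map_algebraMap_iff]
  have : IsPrecomplete (maximalIdeal A) B := isPrecomplete_of_finite _ B
  exact { }

end Complete

section Uniqueness

variable {R : Type u} [CommRing R] (K : ℕ → Ideal R)

/-- An open subset of `Spec R` containing all closed points is everything. -/
lemma eq_univ_of_isOpen_of_maximal_mem (W : Set (PrimeSpectrum R)) (hW : IsOpen W)
    (h : ∀ x : PrimeSpectrum R, x.asIdeal.IsMaximal → x ∈ W) : W = Set.univ := by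
  by_contra hne
  obtain ⟨a, ha⟩ := (PrimeSpectrum.isClosed_iff_zeroLocus_ideal _).mp hW.isClosed_compl
  have hne' : (Wᶜ : Set (PrimeSpectrum R)).Nonempty := by
    rw [Set.nonempty_compl]; exact hne
  have hatop : a ≠ ⊤ := by
    intro h1
    rw [ha, h1] at hne'
    simp at hne'
  obtain ⟨M, hM, haM⟩ := Ideal.exists_le_maximal a hatop
  have hx : (⟨M, hM.isPrime⟩ : PrimeSpectrum R) ∈ Wᶜ := by
    rw [ha]; exact haM
  exact hx (h ⟨M, hM.isPrime⟩ hM)

theorem hom_ext_of_levels (hK : ∀ x : R, (∀ n, x ∈ K n) → x = 0)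
    (hjac : K 1 ≤ Ideal.jacobson ⊥) (Y : Scheme.{u})
    (f g : Spec (CommRingCat.of R) ⟶ Y)
    (h : ∀ n : ℕ, Spec.map (CommRingCat.ofHom (Ideal.Quotient.mk (K n))) ≫ f =
      Spec.map (CommRingCat.ofHom (Ideal.Quotient.mk (K n))) ≫ g) : f = g := by
  let ι := equalizer.ι f g
  let l : ∀ n, Spec (CommRingCat.of (R ⧸ K n)) ⟶ equalizer f g := fun n =>
    equalizer.lift _ (h n)
  have hl : ∀ n, l n ≫ ι = Spec.map (CommRingCat.ofHom (Ideal.Quotient.mk (K n))) := fun n =>
    equalizer.lift_ι _ _
  -- the range of `ι` contains all closed points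
  have hmax : ∀ x : PrimeSpectrum R, x.asIdeal.IsMaximal → x ∈ Set.range ι.base := by
    intro x hx
    have h1 : K 1 ≤ x.asIdeal := hjac.trans (sInf_le ⟨bot_le, hx⟩)
    have h2 : x ∈ Set.range (PrimeSpectrum.comap (Ideal.Quotient.mk (K 1))) := by
      rw [_root_.range_comap_of_surjective _ _ Ideal.Quotient.mk_surjective, Ideal.mk_ker]
      exact h1
    obtain ⟨z, hz⟩ := h2
    refine ⟨(l 1).base z, ?_⟩
    have h3 := congrArg (fun k => k.base z) (hl 1)
    simp only [Scheme.Hom.comp_base, TopCat.hom_comp, ContinuousMap.comp_apply] at h3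
    rw [h3]
    exact hz
  have hclosed : IsClosed (Set.range ι.base) := by
    rw [← coborder_eq_univ_iff]
    exact eq_univ_of_isOpen_of_maximal_mem _ (ι.isLocallyClosed_range.isOpen_coborder)
      (fun x hx => subset_coborder (hmax x hx))
  have hci : IsClosedImmersion ι := IsClosedImmersion.of_isPreimmersion ι hclosed
  obtain ⟨haff, hsurj⟩ := IsClosedImmersion.isAffine_surjective_of_isAffine ι
  have hinj : Function.Injective ι.appTop.hom := by
    rw [injective_iff_map_eq_zero]
    intro s hs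
    obtain ⟨r, rfl⟩ := (ConcreteCategory.bijective_of_isIso
      (Scheme.ΓSpecIso (CommRingCat.of R)).inv).2 s
    have hr : r = 0 := by
      refine hK r (fun n => ?_)
      have h3 := congrArg Scheme.Hom.appTop (hl n)
      rw [Scheme.Hom.comp_appTop] at h3
      have h4 := congrArg (fun φ => φ.hom ((Scheme.ΓSpecIso (CommRingCat.of R)).inv.hom r)) h3
      simp only [CommRingCat.hom_comp, RingHom.comp_apply] at h4
      rw [hs, map_zero] at h4
      have h5 := congrArg (fun φ => φ.hom r)
        (Scheme.ΓSpecIso_inv_naturality (CommRingCat.ofHom (Ideal.Quotient.mk (K n))))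
      simp only [CommRingCat.hom_comp, RingHom.comp_apply] at h5
      rw [← h4] at h5
      have h6 : (CommRingCat.ofHom (Ideal.Quotient.mk (K n))).hom r = 0 := by
        apply (ConcreteCategory.bijective_of_isIso
          (Scheme.ΓSpecIso (CommRingCat.of (R ⧸ K n))).inv).1
        rw [h5, map_zero]
      exact Ideal.Quotient.eq_zero_iff_mem.mp h6
    rw [hr, map_zero]
  have hiso : IsIso ι :=
    (HasAffineProperty.iff_of_isAffine (P := MorphismProperty.isomorphisms Scheme)).mpr
      ⟨haff, (ConcreteCategory.isIso_iff_bijective _).mpr ⟨hinj, hsurj⟩⟩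
  exact (cancel_epi ι).mp (equalizer.condition f g)

end Uniqueness


section Existence

variable {R : Type u} [CommRing R] (K : ℕ → Ideal R) (hK : ∀ n, K (n + 1) ≤ K n)

/-- The transition morphisms between the levels. -/
noncomputable abbrev tr (n : ℕ) :
    Spec (CommRingCat.of (R ⧸ K n)) ⟶ Spec (CommRingCat.of (R ⧸ K (n + 1))) :=
  Spec.map (CommRingCat.ofHom (Ideal.Quotient.factor (hK n)))

/-- The closed immersions of the levels. -/
noncomputable abbrev q (n : ℕ) : Spec (CommRingCat.of (R ⧸ K n)) ⟶ Spec (CommRingCat.of R) :=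
  Spec.map (CommRingCat.ofHom (Ideal.Quotient.mk (K n)))

lemma pullback_isEmpty_of_disjoint {X : Scheme.{u}} (V W : X.Opens) (h : Disjoint V W) :
    IsEmpty ↥(pullback V.ι W.ι) := by
  constructor
  intro z
  have h1 : (pullback.fst V.ι W.ι ≫ V.ι).base z = (pullback.snd V.ι W.ι ≫ W.ι).base z := by
    rw [pullback.condition]
  simp only [Scheme.Hom.comp_base, TopCat.hom_comp, ContinuousMap.comp_apply] at h1
  have hV : (V.ι.base ((pullback.fst V.ι W.ι).base z)) ∈ V := ((pullback.fst V.ι W.ι).base z).2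
  have hW : (W.ι.base ((pullback.snd V.ι W.ι).base z)) ∈ W := ((pullback.snd V.ι W.ι).base z).2
  rw [← h1] at hW
  exact (Set.disjoint_left.mp (by exact_mod_cast h) hV hW)


/-- Gluing morphisms over a cover by pairwise disjoint opens. -/
theorem exists_glue_of_disjoint {X Z : Scheme.{u}} {P : Type u} (W : P → X.Opens)
    (hW : TopologicalSpace.IsOpenCover W) (hdisj : ∀ p p', p ≠ p' → Disjoint (W p) (W p'))
    (v : ∀ p, (W p : Scheme.{u}) ⟶ Z) :
    ∃ g : X ⟶ Z, ∀ p, (W p).ι ≫ g = v p := by
  classical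
  let 𝒰 := X.openCoverOfIsOpenCover W hW
  have compat : ∀ p p' : P, pullback.fst (𝒰.f p) (𝒰.f p') ≫ v p =
      pullback.snd (𝒰.f p) (𝒰.f p') ≫ v p' := by
    intro p p'
    by_cases hpp : p = p'
    · subst hpp
      have h1 : pullback.fst (𝒰.f p) (𝒰.f p) = pullback.snd (𝒰.f p) (𝒰.f p) := by
        have hm : Mono (𝒰.f p) := by
          change Mono (W p).ι
          infer_instance
        exact (cancel_mono (𝒰.f p)).mp pullback.condition
      rw [h1]
    · have : IsEmpty ↥(pullback (𝒰.f p) (𝒰.f p')) :=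
        pullback_isEmpty_of_disjoint (W p) (W p') (hdisj p p' hpp)
      exact (isInitialOfIsEmpty).hom_ext _ _
  exact ⟨𝒰.glueMorphisms v compat, fun p => 𝒰.ι_glueMorphisms v compat p⟩


/-- **Existence**: algebraization of a compatible family of morphisms from the levels, given a
locally constant labelling of the points of the levels by a finite set `P` and affine opens `U p`
of the target receiving the points labelled `p`. -/
theorem exists_hom_of_levels
    (hlift : ∀ (S : CommRingCat.{u}) (φ : ∀ n, S ⟶ CommRingCat.of (R ⧸ K n)),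
      (∀ n, φ (n + 1) ≫ CommRingCat.ofHom (Ideal.Quotient.factor (hK n)) = φ n) →
      ∃ ψ : S ⟶ CommRingCat.of R, ∀ n, ψ ≫ CommRingCat.ofHom (Ideal.Quotient.mk (K n)) = φ n)
    (Y : Scheme.{u}) (u : ∀ n, Spec (CommRingCat.of (R ⧸ K n)) ⟶ Y)
    (hu : ∀ n, tr K hK n ≫ u (n + 1) = u n)
    (P : Type u) [Finite P] (c : ∀ n, Spec (CommRingCat.of (R ⧸ K n)) → P)
    (hc : ∀ n p, IsOpen (c n ⁻¹' {p}))
    (hcc : ∀ n t, c (n + 1) ((tr K hK n).base t) = c n t)
    (U : P → Y.Opens) (hU : ∀ p, IsAffineOpen (U p))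
    (hmem : ∀ n t, (u n).base t ∈ U (c n t)) :
    ∃ f : Spec (CommRingCat.of R) ⟶ Y, ∀ n, q K n ≫ f = u n := by
  classical
  -- the disjoint union of the affine opens
  haveI : ∀ p, IsAffine (U p : Scheme.{u}) := fun p => hU p
  let Y' : Scheme.{u} := ∐ fun p => (U p : Scheme.{u})
  let π : Y' ⟶ Y := Sigma.desc fun p => (U p).ι
  have hπ : ∀ p, Sigma.ι (fun p => (U p : Scheme.{u})) p ≫ π = (U p).ι := fun p =>
    Sigma.ι_desc _ _
  -- the opens of the levels
  let W : ∀ n, P → (Spec (CommRingCat.of (R ⧸ K n))).Opens := fun n p => ⟨c n ⁻¹' {p}, hc n p⟩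
  have hWcov : ∀ n, TopologicalSpace.IsOpenCover (W n) := by
    intro n
    rw [TopologicalSpace.IsOpenCover, eq_top_iff]
    intro t _
    exact TopologicalSpace.Opens.mem_iSup.mpr ⟨c n t, rfl⟩
  have hWdisj : ∀ n p p', p ≠ p' → Disjoint (W n p) (W n p') := by
    intro n p p' hpp
    rw [← TopologicalSpace.Opens.coe_disjoint, Set.disjoint_left]
    intro t ht ht'
    exact hpp ((show c n t = p from ht).symm.trans (show c n t = p' from ht'))
  -- local lifts
  have hrange : ∀ n p, Set.range ((W n p).ι ≫ u n).base ⊆ Set.range (U p).ι.base := by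
    intro n p
    rw [Scheme.Opens.range_ι]
    rintro _ ⟨t, rfl⟩
    simp only [Scheme.Hom.comp_base, TopCat.hom_comp, ContinuousMap.comp_apply]
    have ht : c n ((W n p).ι.base t) = p := t.2
    have := hmem n ((W n p).ι.base t)
    rw [ht] at this
    exact this
  let vloc : ∀ n p, (W n p : Scheme.{u}) ⟶ (U p : Scheme.{u}) := fun n p =>
    IsOpenImmersion.lift (U p).ι ((W n p).ι ≫ u n) (hrange n p)
  have hvloc : ∀ n p, vloc n p ≫ (U p).ι = (W n p).ι ≫ u n := fun n p =>
    IsOpenImmersion.lift_fac _ _ _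
  choose lift hlift' using fun n => exists_glue_of_disjoint (W n) (hWcov n) (hWdisj n)
    (fun p => vloc n p ≫ Sigma.ι (fun p => (U p : Scheme.{u})) p)
  have hliftπ : ∀ n, lift n ≫ π = u n := by
    intro n
    refine (Scheme.openCoverOfIsOpenCover _ (W n) (hWcov n)).hom_ext _ _ fun p => ?_
    change (W n p).ι ≫ lift n ≫ π = (W n p).ι ≫ u n
    rw [← Category.assoc, hlift' n p, Category.assoc, hπ, hvloc]
  have hlifttr : ∀ n, tr K hK n ≫ lift (n + 1) = lift n := by
    intro n
    refine (Scheme.openCoverOfIsOpenCover _ (W n) (hWcov n)).hom_ext _ _ fun p => ?_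
    change (W n p).ι ≫ tr K hK n ≫ lift (n + 1) = (W n p).ι ≫ lift n
    have hr : Set.range ((W n p).ι ≫ tr K hK n).base ⊆ Set.range (W (n + 1) p).ι.base := by
      rw [Scheme.Opens.range_ι]
      rintro _ ⟨t, rfl⟩
      simp only [Scheme.Hom.comp_base, TopCat.hom_comp, ContinuousMap.comp_apply]
      change c (n + 1) _ = p
      rw [hcc]
      exact t.2
    let r := IsOpenImmersion.lift (W (n + 1) p).ι ((W n p).ι ≫ tr K hK n) hr
    have hr' : r ≫ (W (n + 1) p).ι = (W n p).ι ≫ tr K hK n := IsOpenImmersion.lift_fac _ _ _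
    rw [hlift' n p, ← Category.assoc, ← hr', Category.assoc, hlift' (n + 1) p, ← Category.assoc]
    congr 1
    rw [← cancel_mono (U p).ι, Category.assoc, hvloc, ← Category.assoc, hr', Category.assoc, hu,
      hvloc]
  -- pass to rings
  let e : Y' ≅ Spec Γ(Y', ⊤) := Y'.isoSpec
  let φ : ∀ n, Γ(Y', ⊤) ⟶ CommRingCat.of (R ⧸ K n) := fun n => Spec.preimage (lift n ≫ e.hom)
  have hφ : ∀ n, Spec.map (φ n) = lift n ≫ e.hom := fun n => Spec.map_preimage _
  have hφc : ∀ n, φ (n + 1) ≫ CommRingCat.ofHom (Ideal.Quotient.factor (hK n)) = φ n := by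
    intro n
    apply Spec.map_injective
    rw [Spec.map_comp, hφ, hφ, ← Category.assoc]
    exact congrArg (· ≫ e.hom) (hlifttr n)
  obtain ⟨ψ, hψ⟩ := hlift Γ(Y', ⊤) φ hφc
  refine ⟨Spec.map ψ ≫ e.inv ≫ π, fun n => ?_⟩
  change Spec.map _ ≫ Spec.map ψ ≫ e.inv ≫ π = u n
  rw [← Category.assoc, ← Spec.map_comp, hψ, hφ, Category.assoc, e.hom_inv_id_assoc, hliftπ]

end Existence

end Groth.Agent.Lib27.AdicHom
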