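import Groth.Agent.Lib27.Sch.AdicHom
import Mathlib.RingTheory.Artinian.Module
import Mathlib.RingTheory.Spectrum.Prime.Noetherian
import Mathlib.RingTheory.Ideal.Over

/-!
# Morphisms from the spectrum of a finite algebra over a complete Noetherian local ring

`Hom(Spec B, Y) = lim Hom(Spec B/mⁿB, Y)` for `B` finite over a complete Noetherian local ring
`(A, m)`.
-/

set_option autoImplicit false
universe u

open CategoryTheory AlgebraicGeometry Limits IsLocalRing

namespace Groth.Agent.Lib27.AdicHom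

section Label

variable {R : Type u} [CommRing R] (K : ℕ → Ideal R) (hK : ∀ n, K (n + 1) ≤ K n)
  (hpow : ∀ n, K 1 ^ n ≤ K n)

include hpow in
lemma K_one_le_comap (n : ℕ) (t : PrimeSpectrum (R ⧸ K n)) :
    K 1 ≤ (PrimeSpectrum.comap (Ideal.Quotient.mk (K n)) t).asIdeal := by
  have hprime := (PrimeSpectrum.comap (Ideal.Quotient.mk (K n)) t).isPrime
  apply hprime.le_of_pow_le (n := n)
  refine (hpow n).trans ?_
  intro a ha
  change Ideal.Quotient.mk (K n) a ∈ t.asIdeal
  rw [Ideal.Quotient.eq_zero_iff_mem.mpr ha]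
  exact t.asIdeal.zero_mem

include hpow in
lemma mem_range_comap (n : ℕ) (t : PrimeSpectrum (R ⧸ K n)) :
    PrimeSpectrum.comap (Ideal.Quotient.mk (K n)) t ∈
      Set.range (PrimeSpectrum.comap (Ideal.Quotient.mk (K 1))) := by
  rw [_root_.range_comap_of_surjective _ _ Ideal.Quotient.mk_surjective, Ideal.mk_ker]
  exact K_one_le_comap K hpow n t

/-- `Spec (R/K₁)` is homeomorphic to its image in `Spec R`. -/
noncomputable def homeo :
    PrimeSpectrum (R ⧸ K 1) ≃ₜ Set.range (PrimeSpectrum.comap (Ideal.Quotient.mk (K 1))) :=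
  (PrimeSpectrum.isClosedEmbedding_comap_of_surjective _ _
    Ideal.Quotient.mk_surjective).isEmbedding.toHomeomorph

/-- The labelling of the points of the levels by the points of the first level. -/
noncomputable def lab (n : ℕ) (t : PrimeSpectrum (R ⧸ K n)) : PrimeSpectrum (R ⧸ K 1) :=
  (homeo K).symm ⟨PrimeSpectrum.comap (Ideal.Quotient.mk (K n)) t, mem_range_comap K hpow n t⟩

lemma comap_lab (n : ℕ) (t : PrimeSpectrum (R ⧸ K n)) :
    PrimeSpectrum.comap (Ideal.Quotient.mk (K 1)) (lab K hpow n t) =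
      PrimeSpectrum.comap (Ideal.Quotient.mk (K n)) t := by
  have := (homeo K).apply_symm_apply ⟨_, mem_range_comap K hpow n t⟩
  exact congrArg Subtype.val this

lemma continuous_lab (n : ℕ) : Continuous (lab K hpow n) :=
  (homeo K).symm.continuous.comp ((PrimeSpectrum.continuous_comap _).subtype_mk _)

lemma lab_eq_of_comap_eq (n m : ℕ) (t : PrimeSpectrum (R ⧸ K n)) (s : PrimeSpectrum (R ⧸ K m))
    (h : PrimeSpectrum.comap (Ideal.Quotient.mk (K n)) t =
      PrimeSpectrum.comap (Ideal.Quotient.mk (K m)) s) :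
    lab K hpow n t = lab K hpow m s := by
  apply PrimeSpectrum.comap_injective_of_surjective _ Ideal.Quotient.mk_surjective
  rw [comap_lab, comap_lab, h]

end Label

section Exist

variable {R : Type u} [CommRing R] (K : ℕ → Ideal R) (hK : ∀ n, K (n + 1) ≤ K n)
  (hpow : ∀ n, K 1 ^ n ≤ K n)

lemma tr_comp_q (n : ℕ) : tr K hK n ≫ q K (n + 1) = q K n := by
  rw [← Spec.map_comp, ← CommRingCat.ofHom_comp, Ideal.Quotient.factor_comp_mk]

include hK in
lemma K_le_one (n : ℕ) (hn : 1 ≤ n) : K n ≤ K 1 := by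
  induction n, hn using Nat.le_induction with
  | base => exact le_rfl
  | succ n hn ih => exact (hK n).trans ih

/-- The closed immersion of the first level into a higher level. -/
noncomputable abbrev tr1 (n : ℕ) (hn : 1 ≤ n) :
    Spec (CommRingCat.of (R ⧸ K 1)) ⟶ Spec (CommRingCat.of (R ⧸ K n)) :=
  Spec.map (CommRingCat.ofHom (Ideal.Quotient.factor (K_le_one K hK n hn)))

lemma tr1_comp_q (n : ℕ) (hn : 1 ≤ n) : tr1 K hK n hn ≫ q K n = q K 1 := by
  rw [← Spec.map_comp, ← CommRingCat.ofHom_comp, Ideal.Quotient.factor_comp_mk]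

lemma tr1_comp_u {Y : Scheme.{u}} (u : ∀ n, Spec (CommRingCat.of (R ⧸ K n)) ⟶ Y)
    (hu : ∀ n, tr K hK n ≫ u (n + 1) = u n) (n : ℕ) (hn : 1 ≤ n) :
    tr1 K hK n hn ≫ u n = u 1 := by
  induction n, hn using Nat.le_induction with
  | base =>
    have h1 : tr1 K hK 1 le_rfl = 𝟙 _ := by
      rw [tr1, Ideal.Quotient.factor_eq]
      exact Spec.map_id _
    rw [h1, Category.id_comp]
  | succ n hn ih =>
    have h1 : tr1 K hK (n + 1) (Nat.le_succ_of_le hn) = tr1 K hK n hn ≫ tr K hK n := by
      rw [← Spec.map_comp, ← CommRingCat.ofHom_comp, Ideal.Quotient.factor_comp]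
    rw [h1, Category.assoc, hu, ih]

include hpow in
lemma isEmpty_level_zero : IsEmpty (PrimeSpectrum (R ⧸ K 0)) := by
  have h0 : K 0 = ⊤ := by
    have := hpow 0
    rw [pow_zero, Ideal.one_eq_top] at this
    exact top_unique this
  have : Subsingleton (R ⧸ K 0) := by
    rw [Ideal.Quotient.subsingleton_iff]
    exact h0
  infer_instance

include hpow in
/-- **Existence**, when the first level has a finite discrete spectrum. -/
theorem exists_hom_of_levels_of_discrete [Finite (PrimeSpectrum (R ⧸ K 1))]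
    [DiscreteTopology (PrimeSpectrum (R ⧸ K 1))]
    (hlift : ∀ (S : CommRingCat.{u}) (φ : ∀ n, S ⟶ CommRingCat.of (R ⧸ K n)),
      (∀ n, φ (n + 1) ≫ CommRingCat.ofHom (Ideal.Quotient.factor (hK n)) = φ n) →
      ∃ ψ : S ⟶ CommRingCat.of R, ∀ n, ψ ≫ CommRingCat.ofHom (Ideal.Quotient.mk (K n)) = φ n)
    (Y : Scheme.{u}) (u : ∀ n, Spec (CommRingCat.of (R ⧸ K n)) ⟶ Y)
    (hu : ∀ n, tr K hK n ≫ u (n + 1) = u n) :
    ∃ f : Spec (CommRingCat.of R) ⟶ Y, ∀ n, q K n ≫ f = u n := by
  have hex : ∀ p : PrimeSpectrum (R ⧸ K 1), ∃ U : Y.Opens, IsAffineOpen U ∧ (u 1).base p ∈ U := by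
    intro p
    obtain ⟨_, ⟨U, hU, rfl⟩, hxU, -⟩ := Y.isBasis_affineOpens.exists_subset_of_mem_open
      (Set.mem_univ ((u 1).base p)) isOpen_univ
    exact ⟨U, hU, hxU⟩
  choose U hU hUmem using hex
  refine exists_hom_of_levels K hK hlift Y u hu (PrimeSpectrum (R ⧸ K 1)) (lab K hpow) ?_ ?_ U hU ?_
  · intro n p
    exact (isOpen_discrete {p}).preimage (continuous_lab K hpow n)
  · intro n t
    apply lab_eq_of_comap_eq
    have h1 := congrArg (fun k => k.base t) (tr_comp_q K hK n)
    simp only [Scheme.Hom.comp_base, TopCat.hom_comp, ContinuousMap.comp_apply] at h1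
    exact h1
  · intro n t
    rcases Nat.eq_zero_or_pos n with hn | hn
    · subst hn
      exact ((isEmpty_level_zero K hpow).false t).elim
    · have hn1 : 1 ≤ n := hn
      have h1 : (tr1 K hK n hn1).base (lab K hpow n t) = t := by
        apply PrimeSpectrum.comap_injective_of_surjective _
          (Ideal.Quotient.mk_surjective (I := K n))
        have h2 := congrArg (fun k => k.base (lab K hpow n t)) (tr1_comp_q K hK n hn1)
        simp only [Scheme.Hom.comp_base, TopCat.hom_comp, ContinuousMap.comp_apply] at h2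
        refine Eq.trans h2 ?_
        exact comap_lab K hpow n t
      have h3 := congrArg (fun k => k.base (lab K hpow n t)) (tr1_comp_u K hK u hu n hn1)
      simp only [Scheme.Hom.comp_base, TopCat.hom_comp, ContinuousMap.comp_apply] at h3
      rw [h1] at h3
      rw [h3]
      exact hUmem _

end Exist

section Lift

theorem exists_lift_pow {R : Type u} [CommRing R] (J : Ideal R) [IsAdicComplete J R]
    (S : CommRingCat.{u}) (φ : ∀ n, S ⟶ CommRingCat.of (R ⧸ J ^ n))
    (hφ : ∀ n, φ (n + 1) ≫ CommRingCat.ofHom (Ideal.Quotient.factor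
      (Ideal.pow_le_pow_right (I := J) (Nat.le_succ n))) = φ n) :
    ∃ ψ : S ⟶ CommRingCat.of R, ∀ n, ψ ≫ CommRingCat.ofHom (Ideal.Quotient.mk (J ^ n)) = φ n := by
  have hstep' : ∀ n (b : S), Ideal.Quotient.factor
      (Ideal.pow_le_pow_right (I := J) (Nat.le_succ n)) ((φ (n + 1)).hom b) =
      (φ n).hom b := fun n b => congrArg (fun k => k.hom b) (hφ n)
  have hcompat : ∀ {m n : ℕ} (hle : m ≤ n),
      (Ideal.Quotient.factorPow J hle).comp (φ n).hom = (φ m).hom := by
    intro m n hle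
    induction n, hle using Nat.le_induction with
    | base =>
      ext b
      obtain ⟨a, ha⟩ := Ideal.Quotient.mk_surjective ((φ m).hom b)
      simp only [RingHom.comp_apply]
      rw [← ha]
      rfl
    | succ n hmn ih =>
      ext b
      obtain ⟨a, ha⟩ := Ideal.Quotient.mk_surjective ((φ (n + 1)).hom b)
      have h1 : (φ n).hom b = Ideal.Quotient.mk _ a := by
        rw [← hstep' n b, ← ha]
        rfl
      have h2 := congrArg (fun k => k b) ih
      simp only [RingHom.comp_apply] at h2 ⊢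
      rw [← h2, h1, ← ha]
      rfl
  let ψ : S →+* R := IsAdicComplete.liftRingHom J (fun n => (φ n).hom) hcompat
  refine ⟨CommRingCat.ofHom ψ, fun n => ?_⟩
  ext b
  exact IsAdicComplete.mk_liftRingHom J (fun n => (φ n).hom) hcompat n b

theorem exists_lift_of_pow {R : Type u} [CommRing R] (J : Ideal R) [IsAdicComplete J R]
    (K : ℕ → Ideal R) (hK : ∀ n, K (n + 1) ≤ K n) (hKJ : ∀ n, K n = J ^ n)
    (S : CommRingCat.{u}) (φ : ∀ n, S ⟶ CommRingCat.of (R ⧸ K n))
    (hφ : ∀ n, φ (n + 1) ≫ CommRingCat.ofHom (Ideal.Quotient.factor (hK n)) = φ n) :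
    ∃ ψ : S ⟶ CommRingCat.of R, ∀ n, ψ ≫ CommRingCat.ofHom (Ideal.Quotient.mk (K n)) = φ n := by
  obtain rfl : K = fun n => J ^ n := funext hKJ
  exact exists_lift_pow J S φ hφ

end Lift

section Final

variable (A : Type u) [CommRing A] [IsLocalRing A] [IsNoetherianRing A]
  [IsAdicComplete (maximalIdeal A) A] (B : Type u) [CommRing B] [Algebra A B] [Module.Finite A B]

/-- The ideals `mⁿB`. -/
abbrev KK (n : ℕ) : Ideal B := Ideal.map (algebraMap A B) (maximalIdeal A ^ n)

lemma KK_succ_le (n : ℕ) : KK A B (n + 1) ≤ KK A B n :=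
  Ideal.map_mono (Ideal.pow_le_pow_right (Nat.le_succ n))

lemma KK_eq_pow (n : ℕ) : KK A B n = Ideal.map (algebraMap A B) (maximalIdeal A) ^ n :=
  Ideal.map_pow _ _ _

lemma KK_one : KK A B 1 = Ideal.map (algebraMap A B) (maximalIdeal A) := by
  rw [KK, pow_one]

lemma KK_haus (x : B) (hx : ∀ n, x ∈ KK A B n) : x = 0 := by
  have := isAdicComplete_map_of_finite A B
  apply IsHausdorff.haus (I := Ideal.map (algebraMap A B) (maximalIdeal A)) (M := B) inferInstance
  intro n
  rw [SModEq.zero, smul_eq_mul, Ideal.mul_top, ← KK_eq_pow]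
  exact hx n

lemma KK_one_le_jac : KK A B 1 ≤ Ideal.jacobson ⊥ := by
  have := isAdicComplete_map_of_finite A B
  rw [KK_one]
  exact IsAdicComplete.le_jacobson_bot _

lemma KK_pow (n : ℕ) : KK A B 1 ^ n ≤ KK A B n := by
  rw [KK_one, KK_eq_pow]

lemma isArtinianRing_quot (I : Ideal B) (hI : I = Ideal.map (algebraMap A B) (maximalIdeal A)) :
    IsArtinianRing (B ⧸ I) := by
  subst hI
  have h1 : Module.Finite A (B ⧸ Ideal.map (algebraMap A B) (maximalIdeal A)) := inferInstance
  have h2 : Module.Finite (A ⧸ maximalIdeal A) (B ⧸ Ideal.map (algebraMap A B) (maximalIdeal A)) :=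
    Module.Finite.of_restrictScalars_finite A _ _
  have h3 : IsArtinianRing (A ⧸ maximalIdeal A) := by
    let _ := Ideal.Quotient.field (maximalIdeal A)
    infer_instance
  exact IsArtinianRing.of_finite (A ⧸ maximalIdeal A) _

/-- Uniqueness part. -/
theorem finite_hom_ext (Y : Scheme.{u}) (f g : Spec (CommRingCat.of B) ⟶ Y)
    (h : ∀ n : ℕ, q (KK A B) n ≫ f = q (KK A B) n ≫ g) : f = g :=
  hom_ext_of_levels (KK A B) (KK_haus A B) (KK_one_le_jac A B) Y f g h

/-- Existence part. -/
theorem finite_exists_hom (Y : Scheme.{u})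
    (u : ∀ n, Spec (CommRingCat.of (B ⧸ KK A B n)) ⟶ Y)
    (hu : ∀ n, tr (KK A B) (KK_succ_le A B) n ≫ u (n + 1) = u n) :
    ∃ f : Spec (CommRingCat.of B) ⟶ Y, ∀ n, q (KK A B) n ≫ f = u n := by
  have := isAdicComplete_map_of_finite A B
  have hart : IsArtinianRing (B ⧸ KK A B 1) := isArtinianRing_quot A B _ (KK_one A B)
  exact exists_hom_of_levels_of_discrete (KK A B) (KK_succ_le A B) (KK_pow A B)
    (exists_lift_of_pow (Ideal.map (algebraMap A B) (maximalIdeal A)) (KK A B) (KK_succ_le A B)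
      (KK_eq_pow A B)) Y u hu

end Final

end Groth.Agent.Lib27.AdicHom
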