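import Mathlib
import Groth.Agent.Lib.Helper25.BlowUpReg
import Groth.Agent.Lib.Helper25.BlowUpUP
import Groth.Agent.Lib.Helper1.IdealSheafComap

/-!
# The complement of a locally principal closed subscheme (helper27)

* `compl_support_inf_eq_basicOpen`: on an affine open where the ideal is principal, the complement
  of the support is a basic open.
* `quasiCompact_ι_of_locally_basicOpen`: an open which is locally a basic open has a quasi-compact
  inclusion.
* `mem_nonZeroDivisors_of_dominant`: if the open immersion of an open `O` is scheme-theoretically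
  dominant and quasi-compact and `O ⊓ U = D(g)` on an affine open `U`, then `g` is a
  nonzerodivisor.
-/

set_option autoImplicit false

universe u

open CategoryTheory AlgebraicGeometry TopologicalSpace

namespace Groth.Agent.Lib27.ComplCartier

variable {X : Scheme.{u}}

/-- on an affine open where the ideal is principal, the complement of the support is the basic
open of the generator. -/
theorem compl_support_inf_eq_basicOpen (𝓙 : X.IdealSheafData) (U : X.affineOpens)
    (g : Γ(X, U.1)) (hg : 𝓙.ideal U = Ideal.span {g}) :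
    ((𝓙.support : Set X)ᶜ ∩ (U.1 : Set X)) = (X.basicOpen g : Set X) := by
  have h1 := 𝓙.coe_support_inter U
  rw [hg, Scheme.zeroLocus_span, Scheme.zeroLocus_singleton] at h1
  have h2 : (X.basicOpen g : Set X) ⊆ U.1 := X.basicOpen_le g
  ext x
  constructor
  · rintro ⟨hx1, hx2⟩
    by_contra hx3
    have : x ∈ (𝓙.support : Set X) ∩ U.1 := by
      rw [h1]
      exact ⟨hx3, hx2⟩
    exact hx1 this.1
  · intro hx
    refine ⟨fun hx' => ?_, h2 hx⟩
    have : x ∈ (𝓙.support : Set X) ∩ U.1 := ⟨hx', h2 hx⟩
    rw [h1] at this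
    exact this.1 hx

/-- an open which is locally a basic open has a quasi-compact inclusion. -/
theorem quasiCompact_ι_of_locally_basicOpen (O : X.Opens)
    (h : ∀ x : X, ∃ U : X.affineOpens, x ∈ U.1 ∧ ∃ g : Γ(X, U.1),
      ((O : Set X) ∩ (U.1 : Set X)) = (X.basicOpen g : Set X)) :
    QuasiCompact O.ι := by
  choose U hxU g hg using h
  refine IsZariskiLocalAtTarget.of_iSup_eq_top (P := @QuasiCompact) (fun x => (U x).1) ?_ ?_
  · rw [eq_top_iff]
    intro x _
    exact Opens.mem_iSup.mpr ⟨x, hxU x⟩
  · intro x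
    haveI : IsAffine ((U x).1 : Scheme.{u}) := (U x).2
    rw [HasAffineProperty.iff_of_isAffine (P := @QuasiCompact)]
    have hc : IsCompact ((O.ι ⁻¹ᵁ (U x).1 : O.toScheme.Opens) : Set O) := by
      rw [O.ι.isOpenEmbedding.isEmbedding.isCompact_iff]
      have : (O.ι : O → X) '' ((O.ι ⁻¹ᵁ (U x).1 : O.toScheme.Opens) : Set O) =
          (X.basicOpen (g x) : Set X) := by
        rw [← hg x]
        change (O.ι : O → X) '' ((O.ι : O → X) ⁻¹' ((U x).1 : Set X)) = _
        rw [Set.image_preimage_eq_inter_range, Scheme.Opens.range_ι, Set.inter_comm]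
      rw [this]
      exact ((U x).2.basicOpen (g x)).isCompact
    exact isCompact_iff_compactSpace.mp hc

/-- if `O ↪ X` is scheme-theoretically dominant and quasi-compact and `O ∩ U = D(g)` on an
affine open `U`, then `g` is a nonzerodivisor on `U`. -/
theorem mem_nonZeroDivisors_of_dominant (O : X.Opens) [IsSchemeTheoreticallyDominant O.ι]
    [QuasiCompact O.ι] (U : X.Opens) (g : Γ(X, U))
    (hg : ((O : Set X) ∩ (U : Set X)) = (X.basicOpen g : Set X)) :
    g ∈ nonZeroDivisors Γ(X, U) := by
  rw [mem_nonZeroDivisors_iff_right]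
  intro a ha
  have hinj := O.ι.app_injective U
  apply hinj
  rw [map_zero]
  -- the image of `a` is the restriction of `a` to `O ⊓ U = D(g)`
  have hle : O.ι ''ᵁ (O.ι ⁻¹ᵁ U) ≤ X.basicOpen g := by
    intro y hy
    have : y ∈ ((O : Set X) ∩ (U : Set X)) := by
      obtain ⟨z, hz, rfl⟩ := hy
      exact ⟨z.2, hz⟩
    rw [hg] at this
    exact this
  have hres : (X.presheaf.map (homOfLE (X.basicOpen_le g)).op).hom a = 0 := by
    have hu := RingedSpace.isUnit_res_basicOpen X.toRingedSpace g
    have h0 : (X.presheaf.map (homOfLE (X.basicOpen_le g)).op).hom g *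
        (X.presheaf.map (homOfLE (X.basicOpen_le g)).op).hom a = 0 := by
      rw [← map_mul, mul_comm, ha, map_zero]
    exact (hu.mul_right_eq_zero).mp h0
  rw [Scheme.Opens.ι_app]
  have h2 : X.presheaf.map (homOfLE (O.ι.image_preimage_le U)).op =
      X.presheaf.map (homOfLE (X.basicOpen_le g)).op ≫ X.presheaf.map (homOfLE hle).op := by
    rw [← Functor.map_comp]
    rfl
  rw [h2]
  change (X.presheaf.map (homOfLE hle).op).hom
    ((X.presheaf.map (homOfLE (X.basicOpen_le g)).op).hom a) = 0
  rw [hres, map_zero]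

/-- an open which is locally the basic open of a nonzerodivisor is scheme-theoretically dense. -/
theorem ker_ι_eq_bot_of_locally_basicOpen_nzd (O : X.Opens)
    (h : ∀ x : X, ∃ U : X.affineOpens, x ∈ U.1 ∧ ∃ g : Γ(X, U.1),
      g ∈ nonZeroDivisors Γ(X, U.1) ∧ ((O : Set X) ∩ (U.1 : Set X)) = (X.basicOpen g : Set X)) :
    O.ι.ker = ⊥ := by
  haveI : QuasiCompact O.ι := quasiCompact_ι_of_locally_basicOpen O (fun x => by
    obtain ⟨U, hxU, g, -, hg⟩ := h x
    exact ⟨U, hxU, g, hg⟩)
  choose U hxU g hgnzd hg using h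
  refine Scheme.IdealSheafData.ext_of_iSup_eq_top U ?_ ?_
  · rw [eq_top_iff]
    intro x _
    exact Opens.mem_iSup.mpr ⟨x, hxU x⟩
  · intro x
    rw [Scheme.Hom.ker_apply]
    change _ = (⊥ : Ideal Γ(X, (U x).1))
    rw [eq_bot_iff]
    intro a ha
    rw [RingHom.mem_ker, Scheme.Opens.ι_app] at ha
    rw [Ideal.mem_bot]
    -- `a` vanishes on `D(g x)`
    have hle : X.basicOpen (g x) ≤ O.ι ''ᵁ (O.ι ⁻¹ᵁ (U x).1) := by
      intro y hy
      have hy' : y ∈ ((O : Set X) ∩ ((U x).1 : Set X)) := by rw [hg x]; exact hy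
      exact ⟨⟨y, hy'.1⟩, hy'.2, rfl⟩
    have hres : (X.presheaf.map (homOfLE (X.basicOpen_le (g x))).op).hom a = 0 := by
      have h2 : X.presheaf.map (homOfLE (X.basicOpen_le (g x))).op =
          X.presheaf.map (homOfLE (O.ι.image_preimage_le (U x).1)).op ≫
            X.presheaf.map (homOfLE hle).op := by
        rw [← Functor.map_comp]
        rfl
      rw [h2]
      change (X.presheaf.map (homOfLE hle).op).hom
        ((X.presheaf.map (homOfLE (O.ι.image_preimage_le (U x).1)).op).hom a) = 0
      have ha' : (X.presheaf.map (homOfLE (O.ι.image_preimage_le (U x).1)).op).hom a = 0 := ha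
      rw [ha', map_zero]
    obtain ⟨n, hn⟩ := exists_pow_mul_eq_zero_of_res_basicOpen_eq_zero_of_isAffineOpen X (U x).2
      a (g x) hres
    exact (mem_nonZeroDivisors_iff.mp (pow_mem (hgnzd x) n)).1 a hn

end Groth.Agent.Lib27.ComplCartier
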