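import Mathlib
import Groth.Agent.Lib27.Sch.ComplCartier

/-!
# The locus where two effective Cartier ideals `J ≤ 𝓚` agree (helper27)
-/

set_option autoImplicit false

universe u

open CategoryTheory AlgebraicGeometry TopologicalSpace

namespace Groth.Agent.Lib27.EqLocus

open Groth.Agent.Lib.Helper25.BlowUpUP

variable {X Y : Scheme.{u}}

/-- a factor of a nonzerodivisor is a nonzerodivisor. -/
lemma nzd_of_mul {A : Type*} [CommRing A] {a b : A} (h : a * b ∈ nonZeroDivisors A) :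
    b ∈ nonZeroDivisors A := (mul_mem_nonZeroDivisors.mp h).2

/-- pull-back of an effective Cartier ideal along a morphism satisfying the modulus condition. -/
theorem isEffCartierIdeal_comap_of_le (I : X.IdealSheafData) (J : Y.IdealSheafData)
    (hI : BlowUp.IsEffCartierIdeal I) (hJ : BlowUp.IsEffCartierIdeal J) (f : X ⟶ Y)
    (hf : I ≤ J.comap f) : BlowUp.IsEffCartierIdeal (J.comap f) := by
  intro x
  obtain ⟨V, hxV, t, ht, hJV⟩ := hJ (f x)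
  obtain ⟨U₀, hxU₀, s, hs, hIU₀⟩ := hI x
  obtain ⟨U, hxU, hUV, hUU₀⟩ := exists_affineOpens_le_preimage f x V.1 hxV U₀.1 hxU₀
  obtain ⟨hs', hIU⟩ := principal_of_le I (show U ≤ U₀ from hUU₀) s hs hIU₀
  have hJU : (J.comap f).ideal U = Ideal.span {(f.appLE V.1 U.1 hUV).hom t} := by
    rw [Groth.Agent.Lib.Helper1.ideal_comap J f U V hUV, hJV, Ideal.map_span, Set.image_singleton]
  refine ⟨U, hxU, (f.appLE V.1 U.1 hUV).hom t, ?_, hJU⟩
  have hle : I.ideal U ≤ (J.comap f).ideal U := hf U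
  have hmem : (X.presheaf.map (homOfLE (show U ≤ U₀ from hUU₀)).op).hom s ∈
      (J.comap f).ideal U := hle (by rw [hIU]; exact Ideal.mem_span_singleton_self _)
  rw [hJU, Ideal.mem_span_singleton'] at hmem
  obtain ⟨a, ha⟩ := hmem
  rw [← ha] at hs'
  exact nzd_of_mul hs'

/-- a common chart for two effective Cartier ideals `J ≤ 𝓚`. -/
theorem exists_chart (J 𝓚 : Y.IdealSheafData) (hJ : BlowUp.IsEffCartierIdeal J)
    (h𝓚 : BlowUp.IsEffCartierIdeal 𝓚) (hle : J ≤ 𝓚) (y : Y) :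
    ∃ (V : Y.affineOpens) (s t a : Γ(Y, V.1)), y ∈ V.1 ∧ s ∈ nonZeroDivisors Γ(Y, V.1) ∧
      t ∈ nonZeroDivisors Γ(Y, V.1) ∧ J.ideal V = Ideal.span {s} ∧ 𝓚.ideal V = Ideal.span {t} ∧
      a * t = s := by
  obtain ⟨V₁, hyV₁, s₁, hs₁, hJV₁⟩ := hJ y
  obtain ⟨V₂, hyV₂, t₂, ht₂, hKV₂⟩ := h𝓚 y
  obtain ⟨V, hyV, hVV₁, hVV₂⟩ := exists_affineOpens_le_preimage (𝟙 Y) y V₁.1 hyV₁ V₂.1 hyV₂
  obtain ⟨s, hs, hJV⟩ : ∃ s : Γ(Y, V.1), s ∈ nonZeroDivisors Γ(Y, V.1) ∧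
      J.ideal V = Ideal.span {s} :=
    ⟨_, principal_of_le J (show V ≤ V₁ from hVV₁) s₁ hs₁ hJV₁⟩
  obtain ⟨t, ht, hKV⟩ : ∃ t : Γ(Y, V.1), t ∈ nonZeroDivisors Γ(Y, V.1) ∧
      𝓚.ideal V = Ideal.span {t} :=
    ⟨_, principal_of_le 𝓚 (show V ≤ V₂ from hVV₂) t₂ ht₂ hKV₂⟩
  have hsK : s ∈ 𝓚.ideal V := hle V (by rw [hJV]; exact Ideal.mem_span_singleton_self s)
  rw [hKV, Ideal.mem_span_singleton'] at hsK
  obtain ⟨a, ha⟩ := hsK
  exact ⟨V, s, t, a, hyV, hs, ht, hJV, hKV, ha⟩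

/-- the open locus where two ideal sheaves agree on an affine neighbourhood. -/
def eqLocus (J 𝓚 : Y.IdealSheafData) : Y.Opens :=
  ⨆ V : {V : Y.affineOpens // J.ideal V = 𝓚.ideal V}, (V.1).1

lemma mem_eqLocus {J 𝓚 : Y.IdealSheafData} {y : Y} :
    y ∈ eqLocus J 𝓚 ↔ ∃ V : Y.affineOpens, y ∈ V.1 ∧ J.ideal V = 𝓚.ideal V := by
  unfold eqLocus
  rw [Opens.mem_iSup]
  constructor
  · rintro ⟨⟨V, hV⟩, hy⟩
    exact ⟨V, hy, hV⟩
  · rintro ⟨V, hy, hV⟩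
    exact ⟨⟨V, hV⟩, hy⟩

/-- agreement of two ideal sheaves passes to smaller affine opens. -/
lemma ideal_eq_of_le {J 𝓚 : Y.IdealSheafData} {U V : Y.affineOpens} (h : U ≤ V)
    (hV : J.ideal V = 𝓚.ideal V) : J.ideal U = 𝓚.ideal U := by
  rw [← J.map_ideal h, ← 𝓚.map_ideal h, hV]

/-- on a chart, the equality locus is the basic open of the quotient `a = s / t`. -/
theorem eqLocus_inter_chart (J 𝓚 : Y.IdealSheafData) (V : Y.affineOpens) (s t a : Γ(Y, V.1))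
    (hs : s ∈ nonZeroDivisors Γ(Y, V.1)) (ht : t ∈ nonZeroDivisors Γ(Y, V.1))
    (hJV : J.ideal V = Ideal.span {s}) (hKV : 𝓚.ideal V = Ideal.span {t}) (ha : a * t = s) :
    ((eqLocus J 𝓚 : Set Y) ∩ (V.1 : Set Y)) = (Y.basicOpen a : Set Y) := by
  ext y
  constructor
  · rintro ⟨hy, hyV⟩
    obtain ⟨V', hyV', hV'⟩ := mem_eqLocus.mp hy
    obtain ⟨W, hyW, hWV, hWV'⟩ := exists_affineOpens_le_preimage (𝟙 Y) y V.1 hyV V'.1 hyV'
    have hWV0 : W ≤ V := hWV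
    have hWV1 : W ≤ V' := hWV'
    set r : Γ(Y, V.1) →+* Γ(Y, W.1) := (Y.presheaf.map (homOfLE hWV0).op).hom with hr
    have hJW : J.ideal W = Ideal.span {r s} := (principal_of_le J hWV0 s hs hJV).2
    obtain ⟨htW, hKW⟩ := principal_of_le 𝓚 hWV0 t ht hKV
    have hKW' : 𝓚.ideal W = Ideal.span {r t} := hKW
    have htW' : r t ∈ nonZeroDivisors Γ(Y, W.1) := htW
    have heq := ideal_eq_of_le hWV1 hV'
    rw [hJW, hKW'] at heq
    have h1 : r t ∈ Ideal.span {r s} := by rw [heq]; exact Ideal.mem_span_singleton_self _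
    rw [Ideal.mem_span_singleton'] at h1
    obtain ⟨c, hc⟩ := h1
    rw [← ha, map_mul] at hc
    have h2 : (1 - c * r a) * r t = 0 := by
      rw [sub_mul, one_mul, sub_eq_zero]
      calc r t = c * (r a * r t) := hc.symm
        _ = c * r a * r t := by ring
    have h3 : 1 - c * r a = 0 := (mem_nonZeroDivisors_iff_right.mp htW') _ h2
    have hu : IsUnit (r a) := IsUnit.of_mul_eq_one c (by rw [mul_comm]; exact (sub_eq_zero.mp h3).symm)
    have h4 : Y.basicOpen (r a) = W.1 := Y.basicOpen_of_isUnit hu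
    have h5 : Y.basicOpen (r a) = W.1 ⊓ Y.basicOpen a := Y.basicOpen_res a (homOfLE hWV0).op
    have h6 : y ∈ Y.basicOpen (r a) := by rw [h4]; exact hyW
    rw [h5] at h6
    exact h6.2
  · intro hy
    have hle : Y.affineBasicOpen a ≤ V := Y.basicOpen_le a
    refine ⟨mem_eqLocus.mpr ⟨Y.affineBasicOpen a, hy, ?_⟩, Y.basicOpen_le a hy⟩
    set r : Γ(Y, V.1) →+* Γ(Y, (Y.affineBasicOpen a).1) :=
      (Y.presheaf.map (homOfLE hle).op).hom with hr
    have hJW : J.ideal (Y.affineBasicOpen a) = Ideal.span {r s} :=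
      (principal_of_le J hle s hs hJV).2
    have hKW : 𝓚.ideal (Y.affineBasicOpen a) = Ideal.span {r t} :=
      (principal_of_le 𝓚 hle t ht hKV).2
    have hu : IsUnit (r a) := RingedSpace.isUnit_res_basicOpen Y.toRingedSpace a
    rw [hJW, hKW, ← ha, map_mul]
    exact Ideal.span_singleton_mul_left_unit hu _

/-- the inclusion of the equality locus of `J ≤ 𝓚` (both effective Cartier) is quasi-compact. -/
theorem quasiCompact_eqLocus_ι (J 𝓚 : Y.IdealSheafData) (hJ : BlowUp.IsEffCartierIdeal J)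
    (h𝓚 : BlowUp.IsEffCartierIdeal 𝓚) (hle : J ≤ 𝓚) : QuasiCompact (eqLocus J 𝓚).ι := by
  refine Groth.Agent.Lib27.ComplCartier.quasiCompact_ι_of_locally_basicOpen _ (fun y => ?_)
  obtain ⟨V, s, t, a, hyV, hs, ht, hJV, hKV, ha⟩ := exists_chart J 𝓚 hJ h𝓚 hle y
  exact ⟨V, hyV, a, eqLocus_inter_chart J 𝓚 V s t a hs ht hJV hKV ha⟩

/-- on the equality locus the two ideal sheaves agree. -/
theorem comap_eqLocus_ι_eq (J 𝓚 : Y.IdealSheafData) :
    J.comap (eqLocus J 𝓚).ι = 𝓚.comap (eqLocus J 𝓚).ι := by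
  set U := eqLocus J 𝓚 with hU
  have hle : ∀ V : {V : Y.affineOpens // J.ideal V = 𝓚.ideal V}, (V.1).1 ≤ U.ι.opensRange := by
    intro V
    rw [Scheme.Opens.opensRange_ι]
    exact le_iSup (fun V : {V : Y.affineOpens // J.ideal V = 𝓚.ideal V} => (V.1).1) V
  refine Scheme.IdealSheafData.ext_of_iSup_eq_top
    (fun V : {V : Y.affineOpens // J.ideal V = 𝓚.ideal V} =>
      (⟨U.ι ⁻¹ᵁ (V.1).1, (V.1).2.preimage_of_isOpenImmersion U.ι (hle V)⟩ :
        (U : Scheme.{u}).affineOpens)) ?_ ?_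
  · rw [eq_top_iff]
    intro z _
    obtain ⟨V, hzV, hV⟩ := mem_eqLocus.mp z.2
    exact Opens.mem_iSup.mpr ⟨⟨V, hV⟩, hzV⟩
  · intro V
    rw [Groth.Agent.Lib.Helper1.ideal_comap J U.ι _ V.1 le_rfl,
      Groth.Agent.Lib.Helper1.ideal_comap 𝓚 U.ι _ V.1 le_rfl, V.2]

/-- if `I = J.comap f = 𝓚.comap f` is effective Cartier, the image of `f` lies in the equality
locus of `J ≤ 𝓚`. -/
theorem range_subset_eqLocus (J 𝓚 : Y.IdealSheafData) (hJ : BlowUp.IsEffCartierIdeal J)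
    (h𝓚 : BlowUp.IsEffCartierIdeal 𝓚) (hle : J ≤ 𝓚) (f : X ⟶ Y) (I : X.IdealSheafData)
    (hI : BlowUp.IsEffCartierIdeal I) (hIJ : I = J.comap f) (hIK : I = 𝓚.comap f) :
    Set.range f ⊆ (eqLocus J 𝓚 : Set Y) := by
  rintro _ ⟨x, rfl⟩
  obtain ⟨V, s, t, a, hyV, hs, ht, hJV, hKV, ha⟩ := exists_chart J 𝓚 hJ h𝓚 hle (f x)
  have hchart := eqLocus_inter_chart J 𝓚 V s t a hs ht hJV hKV ha
  suffices h : f x ∈ Y.basicOpen a by
    have : f x ∈ ((eqLocus J 𝓚 : Set Y) ∩ (V.1 : Set Y)) := by rw [hchart]; exact h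
    exact this.1
  obtain ⟨U₀, hxU₀, s₀, hs₀, hIU₀⟩ := hI x
  obtain ⟨U', hxU', hU'V, hU'U₀⟩ := exists_affineOpens_le_preimage f x V.1 hyV U₀.1 hxU₀
  obtain ⟨hs₀', hIU'⟩ := principal_of_le I (show U' ≤ U₀ from hU'U₀) s₀ hs₀ hIU₀
  set φ : Γ(Y, V.1) →+* Γ(X, U'.1) := (f.appLE V.1 U'.1 hU'V).hom with hφ
  have hJU' : I.ideal U' = Ideal.span {φ s} := by
    rw [hIJ, Groth.Agent.Lib.Helper1.ideal_comap J f U' V hU'V, hJV, Ideal.map_span,
      Set.image_singleton]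
  have hKU' : I.ideal U' = Ideal.span {φ t} := by
    rw [hIK, Groth.Agent.Lib.Helper1.ideal_comap 𝓚 f U' V hU'V, hKV, Ideal.map_span,
      Set.image_singleton]
  -- `φ t` is a nonzerodivisor
  have hφt : φ t ∈ nonZeroDivisors Γ(X, U'.1) := by
    have hmem : (X.presheaf.map (homOfLE (show U' ≤ U₀ from hU'U₀)).op).hom s₀ ∈
        Ideal.span {φ t} := by
      rw [← hKU', hIU']
      exact Ideal.mem_span_singleton_self _
    rw [Ideal.mem_span_singleton'] at hmem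
    obtain ⟨d, hd⟩ := hmem
    rw [← hd] at hs₀'
    exact nzd_of_mul hs₀'
  have h1 : φ t ∈ Ideal.span {φ s} := by
    rw [← hJU', hKU']
    exact Ideal.mem_span_singleton_self _
  rw [Ideal.mem_span_singleton'] at h1
  obtain ⟨c, hc⟩ := h1
  rw [← ha, map_mul] at hc
  have h2 : (1 - c * φ a) * φ t = 0 := by
    rw [sub_mul, one_mul, sub_eq_zero]
    calc φ t = c * (φ a * φ t) := hc.symm
      _ = c * φ a * φ t := by ring
  have h3 : 1 - c * φ a = 0 := (mem_nonZeroDivisors_iff_right.mp hφt) _ h2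
  have hu : IsUnit (φ a) :=
    IsUnit.of_mul_eq_one c (by rw [mul_comm]; exact (sub_eq_zero.mp h3).symm)
  have h4 : X.basicOpen (φ a) = U'.1 := X.basicOpen_of_isUnit hu
  have h5 : X.basicOpen (φ a) = U'.1 ⊓ f ⁻¹ᵁ (Y.basicOpen a) :=
    Scheme.basicOpen_appLE f U'.1 V.1 hU'V a
  have h6 : x ∈ X.basicOpen (φ a) := by rw [h4]; exact hxU'
  rw [h5] at h6
  exact h6.2

end Groth.Agent.Lib27.EqLocus
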