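import Mathlib
import Groth.Prelude.Def_W4c6modpairsegaMP
import Groth.Agent.Lib27.Sch.EqLocus

/-!
# Products of modulus pairs: density of the product of the interiors (helper27)
-/

set_option autoImplicit false

universe u

open CategoryTheory CategoryTheory.Limits AlgebraicGeometry TopologicalSpace

namespace Groth.Agent.Lib27.ModPairProd

open Groth.Agent.Lib.Helper25.BlowUpUP

variable {X T S P : Scheme.{u}}

/-- a common chart for two effective Cartier ideals. -/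
theorem exists_common_chart (𝓐 𝓑 : P.IdealSheafData) (h𝓐 : BlowUp.IsEffCartierIdeal 𝓐)
    (h𝓑 : BlowUp.IsEffCartierIdeal 𝓑) (z : P) :
    ∃ (U : P.affineOpens) (s₁ s₂ : Γ(P, U.1)), z ∈ U.1 ∧ s₁ ∈ nonZeroDivisors Γ(P, U.1) ∧
      s₂ ∈ nonZeroDivisors Γ(P, U.1) ∧ 𝓐.ideal U = Ideal.span {s₁} ∧
      𝓑.ideal U = Ideal.span {s₂} := by
  obtain ⟨V₁, hzV₁, a₁, ha₁, hAV₁⟩ := h𝓐 z
  obtain ⟨V₂, hzV₂, b₂, hb₂, hBV₂⟩ := h𝓑 z
  obtain ⟨V, hzV, hVV₁, hVV₂⟩ := exists_affineOpens_le_preimage (𝟙 P) z V₁.1 hzV₁ V₂.1 hzV₂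
  exact ⟨V, _, _, hzV, (principal_of_le 𝓐 (show V ≤ V₁ from hVV₁) a₁ ha₁ hAV₁).1,
    (principal_of_le 𝓑 (show V ≤ V₂ from hVV₂) b₂ hb₂ hBV₂).1,
    (principal_of_le 𝓐 (show V ≤ V₁ from hVV₁) a₁ ha₁ hAV₁).2,
    (principal_of_le 𝓑 (show V ≤ V₂ from hVV₂) b₂ hb₂ hBV₂).2⟩

/-- the complement of the union of two effective Cartier divisors is scheme-theoretically
dense. -/
theorem ker_ι_eq_bot_of_compl_supports (𝓐 𝓑 : P.IdealSheafData)
    (h𝓐 : BlowUp.IsEffCartierIdeal 𝓐) (h𝓑 : BlowUp.IsEffCartierIdeal 𝓑) (O : P.Opens)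
    (hO : (O : Set P) = ((𝓐.support : Set P))ᶜ ∩ ((𝓑.support : Set P))ᶜ) : O.ι.ker = ⊥ := by
  refine Groth.Agent.Lib27.ComplCartier.ker_ι_eq_bot_of_locally_basicOpen_nzd O (fun z => ?_)
  obtain ⟨U, s₁, s₂, hzU, hs₁, hs₂, hA, hB⟩ := exists_common_chart 𝓐 𝓑 h𝓐 h𝓑 z
  refine ⟨U, hzU, s₁ * s₂, mul_mem hs₁ hs₂, ?_⟩
  have h1 := Groth.Agent.Lib27.ComplCartier.compl_support_inf_eq_basicOpen 𝓐 U s₁ hA
  have h2 := Groth.Agent.Lib27.ComplCartier.compl_support_inf_eq_basicOpen 𝓑 U s₂ hB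
  rw [Scheme.basicOpen_mul, hO]
  change _ = ((P.basicOpen s₁ : Set P) ∩ (P.basicOpen s₂ : Set P))
  rw [← h1, ← h2]
  ext y
  simp only [Set.mem_inter_iff]
  tauto

/-- the product of the interiors is scheme-theoretically dense in the fibre product as soon as
both pulled back moduli are effective Cartier. -/
theorem ker_prodInterior_ι_eq_bot (f : X ⟶ S) (g : T ⟶ S) (IX : X.IdealSheafData)
    (IT : T.IdealSheafData)
    (h₁ : BlowUp.IsEffCartierIdeal (IX.comap (pullback.fst f g)))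
    (h₂ : BlowUp.IsEffCartierIdeal (IT.comap (pullback.snd f g))) :
    (ModPair.prodInterior f g IX IT).ι.ker = ⊥ := by
  refine ker_ι_eq_bot_of_compl_supports _ _ h₁ h₂ _ ?_
  rw [Scheme.IdealSheafData.support_comap, Scheme.IdealSheafData.support_comap]
  rfl

end Groth.Agent.Lib27.ModPairProd
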