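import Mathlib
import Groth.Agent.Lib27.Sch.ModPairProd

/-!
# Effective Cartier ideals on scheme-theoretic images (helper27)
-/

set_option autoImplicit false

universe u

open CategoryTheory CategoryTheory.Limits AlgebraicGeometry TopologicalSpace

namespace Groth.Agent.Lib27.ImageCartier

open Groth.Agent.Lib.Helper25.BlowUpUP

variable {Z P Q : Scheme.{u}}

/-- locally principal ideal sheaves. -/
def LocPrin (𝓐 : P.IdealSheafData) : Prop :=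
  ∀ z : P, ∃ U : P.affineOpens, z ∈ U.1 ∧ ∃ g : Γ(P, U.1), 𝓐.ideal U = Ideal.span {g}

lemma locPrin_of_isEffCartier {𝓐 : P.IdealSheafData} (h : BlowUp.IsEffCartierIdeal 𝓐) :
    LocPrin 𝓐 := fun z => by
  obtain ⟨U, hzU, g, -, hg⟩ := h z
  exact ⟨U, hzU, g, hg⟩

lemma locPrin_comap {𝓐 : P.IdealSheafData} (h𝓐 : LocPrin 𝓐) (h : Z ⟶ P) :
    LocPrin (𝓐.comap h) := fun z => by
  obtain ⟨V, hzV, t, hV⟩ := h𝓐 (h z)
  obtain ⟨U, hzU, hUV, -⟩ := exists_affineOpens_le_preimage h z V.1 hzV ⊤ trivial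
  exact ⟨U, hzU, (h.appLE V.1 U.1 hUV).hom t, by
    rw [Groth.Agent.Lib.Helper1.ideal_comap 𝓐 h U V hUV, hV, Ideal.map_span,
      Set.image_singleton]⟩

/-- principal generators restrict to principal generators. -/
lemma principal_res (𝓐 : P.IdealSheafData) {U V : P.affineOpens} (h : V ≤ U) (g : Γ(P, U.1))
    (hg : 𝓐.ideal U = Ideal.span {g}) :
    𝓐.ideal V = Ideal.span {(P.presheaf.map (homOfLE h).op).hom g} := by
  rw [← 𝓐.map_ideal h, hg, Ideal.map_span, Set.image_singleton]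

/-- a common principal chart for two locally principal ideal sheaves. -/
theorem exists_common_principal_chart {𝓐 𝓑 : P.IdealSheafData} (h𝓐 : LocPrin 𝓐)
    (h𝓑 : LocPrin 𝓑) (z : P) :
    ∃ (U : P.affineOpens) (s₁ s₂ : Γ(P, U.1)), z ∈ U.1 ∧ 𝓐.ideal U = Ideal.span {s₁} ∧
      𝓑.ideal U = Ideal.span {s₂} := by
  obtain ⟨V₁, hzV₁, a₁, hAV₁⟩ := h𝓐 z
  obtain ⟨V₂, hzV₂, b₂, hBV₂⟩ := h𝓑 z
  obtain ⟨V, hzV, hVV₁, hVV₂⟩ := exists_affineOpens_le_preimage (𝟙 P) z V₁.1 hzV₁ V₂.1 hzV₂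
  exact ⟨V, _, _, hzV, principal_res 𝓐 (show V ≤ V₁ from hVV₁) a₁ hAV₁,
    principal_res 𝓑 (show V ≤ V₂ from hVV₂) b₂ hBV₂⟩

/-- the complement of the union of the supports of two locally principal ideal sheaves has a
quasi-compact inclusion. -/
theorem quasiCompact_ι_of_compl_supports {𝓐 𝓑 : P.IdealSheafData} (h𝓐 : LocPrin 𝓐)
    (h𝓑 : LocPrin 𝓑) (O : P.Opens)
    (hO : (O : Set P) = ((𝓐.support : Set P))ᶜ ∩ ((𝓑.support : Set P))ᶜ) :
    QuasiCompact O.ι := by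
  refine Groth.Agent.Lib27.ComplCartier.quasiCompact_ι_of_locally_basicOpen O (fun z => ?_)
  obtain ⟨U, s₁, s₂, hzU, hA, hB⟩ := exists_common_principal_chart h𝓐 h𝓑 z
  refine ⟨U, hzU, s₁ * s₂, ?_⟩
  have h1 := Groth.Agent.Lib27.ComplCartier.compl_support_inf_eq_basicOpen 𝓐 U s₁ hA
  have h2 := Groth.Agent.Lib27.ComplCartier.compl_support_inf_eq_basicOpen 𝓑 U s₂ hB
  rw [Scheme.basicOpen_mul, hO]
  change _ = ((P.basicOpen s₁ : Set P) ∩ (P.basicOpen s₂ : Set P))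
  rw [← h1, ← h2]
  ext y
  simp only [Set.mem_inter_iff]
  tauto

/-- **Key lemma**: if `𝓐` is locally principal on `P` and pulls back to the unit ideal along a
quasi-compact `j : Z ⟶ P`, then `𝓐` pulls back to an effective Cartier ideal on the
scheme-theoretic image of `j`. -/
theorem isEffCartierIdeal_comap_imageι (j : Z ⟶ P) [QuasiCompact j] (𝓐 : P.IdealSheafData)
    (h𝓐 : LocPrin 𝓐) (htop : 𝓐.comap j = ⊤) :
    BlowUp.IsEffCartierIdeal (𝓐.comap j.imageι) := by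
  intro y
  obtain ⟨U, hzU, g, hg⟩ := h𝓐 (j.imageι y)
  have hW : IsAffineOpen (j.imageι ⁻¹ᵁ U.1) := U.2.preimage j.imageι
  set ψ : Γ(P, U.1) →+* Γ(j.image, j.imageι ⁻¹ᵁ U.1) :=
    (j.imageι.appLE U.1 (j.imageι ⁻¹ᵁ U.1) le_rfl).hom with hψ
  have hideal : (𝓐.comap j.imageι).ideal ⟨j.imageι ⁻¹ᵁ U.1, hW⟩ = Ideal.span {ψ g} := by
    rw [Groth.Agent.Lib.Helper1.ideal_comap 𝓐 j.imageι ⟨j.imageι ⁻¹ᵁ U.1, hW⟩ U le_rfl, hg,
      Ideal.map_span, Set.image_singleton]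
  refine ⟨⟨j.imageι ⁻¹ᵁ U.1, hW⟩, hzU, ψ g, ?_, hideal⟩
  rw [mem_nonZeroDivisors_iff_right]
  intro a ha
  -- push to `Z`
  have hinj := j.toImage_app_injective U
  apply hinj
  rw [map_zero]
  have htop' : 𝓐.comap (j.toImage ≫ j.imageι) = ⊤ := by rw [j.toImage_imageι]; exact htop
  refine Z.IsSheaf.section_ext fun x hx => ?_
  obtain ⟨_, ⟨V', hV', rfl⟩, hxV', hV'le⟩ := Z.isBasis_affineOpens.exists_subset_of_mem_open hx
    (j.toImage ⁻¹ᵁ j.imageι ⁻¹ᵁ U.1).2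
  have hV'le' : V' ≤ j.toImage ⁻¹ᵁ j.imageι ⁻¹ᵁ U.1 := hV'le
  refine ⟨V', hV'le', hxV', ?_⟩
  rw [map_zero]
  -- the restriction of the generator to `V'` is a unit
  have e : V' ≤ (j.toImage ≫ j.imageι) ⁻¹ᵁ U.1 := hV'le'
  have hunit : IsUnit (((j.toImage ≫ j.imageι).appLE U.1 V' e).hom g) := by
    have h1 := Groth.Agent.Lib.Helper1.ideal_comap 𝓐 (j.toImage ≫ j.imageι) ⟨V', hV'⟩ U e
    rw [htop', hg, Ideal.map_span, Set.image_singleton] at h1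
    exact Ideal.span_singleton_eq_top.mp h1.symm
  have hcomp : (j.toImage ≫ j.imageι).appLE U.1 V' e =
      j.imageι.appLE U.1 (j.imageι ⁻¹ᵁ U.1) le_rfl ≫
        j.toImage.app (j.imageι ⁻¹ᵁ U.1) ≫ Z.presheaf.map (homOfLE hV'le').op := by
    rw [← Scheme.Hom.appLE_comp_appLE j.toImage j.imageι U.1 (j.imageι ⁻¹ᵁ U.1) V' le_rfl hV'le']
    rfl
  have h2 : (Z.presheaf.map (homOfLE hV'le').op).hom
      ((j.toImage.app (j.imageι ⁻¹ᵁ U.1)).hom (ψ g)) =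
      ((j.toImage ≫ j.imageι).appLE U.1 V' e).hom g := by
    rw [hcomp]
    rfl
  have h3 : (Z.presheaf.map (homOfLE hV'le').op).hom
      ((j.toImage.app (j.imageι ⁻¹ᵁ U.1)).hom a) *
      (Z.presheaf.map (homOfLE hV'le').op).hom
      ((j.toImage.app (j.imageι ⁻¹ᵁ U.1)).hom (ψ g)) = 0 := by
    rw [← map_mul, ← map_mul, ha, map_zero, map_zero]
  rw [h2] at h3
  exact (hunit.mul_left_eq_zero).mp h3

end Groth.Agent.Lib27.ImageCartier
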