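import Mathlib
import Groth.Agent.Lib27.Sch.ImageCartier

/-!
# Tools for the ambient product of modulus pairs (helper27)
-/

set_option autoImplicit false

universe u

open CategoryTheory CategoryTheory.Limits AlgebraicGeometry TopologicalSpace

namespace Groth.Agent.Lib27.AmbProd

open Groth.Agent.Lib.Helper25.BlowUpUP

variable {Z P : Scheme.{u}}

/-- if `j : Z ⟶ P` is quasi-compact and scheme-theoretically dominant and `𝓐.comap j` is
effective Cartier, then any principal generator of `𝓐` on an affine open is a nonzerodivisor. -/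
theorem mem_nonZeroDivisors_of_comap_dominant (j : Z ⟶ P) [QuasiCompact j]
    [IsSchemeTheoreticallyDominant j] (𝓐 : P.IdealSheafData)
    (hj : BlowUp.IsEffCartierIdeal (𝓐.comap j)) (U : P.affineOpens) (g : Γ(P, U.1))
    (hg : 𝓐.ideal U = Ideal.span {g}) : g ∈ nonZeroDivisors Γ(P, U.1) := by
  rw [mem_nonZeroDivisors_iff_right]
  intro a ha
  have hinj := j.app_injective U.1
  apply hinj
  rw [map_zero]
  refine Z.IsSheaf.section_ext fun x hx => ?_
  obtain ⟨V, hxV, s, hs, hV⟩ := hj x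
  obtain ⟨V', hxV', hV'V, hV'U⟩ :=
    exists_affineOpens_le_preimage (𝟙 Z) x V.1 hxV (j ⁻¹ᵁ U.1) hx
  have hV'V' : V' ≤ V := hV'V
  refine ⟨V'.1, hV'U, hxV', ?_⟩
  rw [map_zero]
  obtain ⟨hs', hV'⟩ := principal_of_le (𝓐.comap j) hV'V' s hs hV
  have h1 := Groth.Agent.Lib.Helper1.ideal_comap 𝓐 j V' U hV'U
  rw [hV', hg, Ideal.map_span, Set.image_singleton] at h1
  -- the restriction of `s` is a multiple of the image of `g`
  have h2 : (Z.presheaf.map (homOfLE hV'V').op).hom s ∈
      Ideal.span {(j.appLE U.1 V'.1 hV'U).hom g} := by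
    rw [← h1]; exact Ideal.mem_span_singleton_self _
  obtain ⟨v, hv⟩ := Ideal.mem_span_singleton'.mp h2
  have h3 : (Z.presheaf.map (homOfLE hV'U).op).hom ((j.app U.1).hom a) =
      (j.appLE U.1 V'.1 hV'U).hom a := by
    rw [Scheme.Hom.appLE]
    rfl
  rw [h3]
  have h4 : (j.appLE U.1 V'.1 hV'U).hom a * (Z.presheaf.map (homOfLE hV'V').op).hom s = 0 := by
    rw [← hv, mul_comm v, ← mul_assoc, ← map_mul, ha, map_zero, zero_mul]
  exact (mem_nonZeroDivisors_iff_right.mp hs') _ h4

/-- a locally principal ideal sheaf whose pull-back along a quasi-compact scheme-theoretically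
dominant morphism is effective Cartier is effective Cartier. -/
theorem isEffCartierIdeal_of_comap_dominant (j : Z ⟶ P) [QuasiCompact j]
    [IsSchemeTheoreticallyDominant j] (𝓐 : P.IdealSheafData)
    (h𝓐 : Groth.Agent.Lib27.ImageCartier.LocPrin 𝓐)
    (hj : BlowUp.IsEffCartierIdeal (𝓐.comap j)) : BlowUp.IsEffCartierIdeal 𝓐 := fun y => by
  obtain ⟨U, hyU, g, hg⟩ := h𝓐 y
  exact ⟨U, hyU, g, mem_nonZeroDivisors_of_comap_dominant j 𝓐 hj U g hg, hg⟩

/-- a principal generator of an effective Cartier ideal sheaf on an affine open is a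
nonzerodivisor. -/
theorem mem_nonZeroDivisors_of_isEffCartierIdeal (𝓐 : P.IdealSheafData)
    (h : BlowUp.IsEffCartierIdeal 𝓐) (U : P.affineOpens) (g : Γ(P, U.1))
    (hg : 𝓐.ideal U = Ideal.span {g}) : g ∈ nonZeroDivisors Γ(P, U.1) := by
  refine mem_nonZeroDivisors_of_comap_dominant (𝟙 P) 𝓐 ?_ U g hg
  rw [Scheme.IdealSheafData.comap_id]
  exact h

open Groth.Agent.Lib27.ImageCartier in
/-- local structure of `K` with `K * (A ⊔ B) = A * B`, where `A`, `B` are locally principal and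
`A ⊔ B` is effective Cartier. -/
theorem exists_chart (A B K : P.IdealSheafData) (hA : LocPrin A) (hB : LocPrin B)
    (hE : BlowUp.IsEffCartierIdeal (A ⊔ B)) (hK : K * (A ⊔ B) = A * B) (y : P) :
    ∃ (U : P.affineOpens) (e a b : Γ(P, U.1)), y ∈ U.1 ∧ e ∈ nonZeroDivisors Γ(P, U.1) ∧
      (A ⊔ B).ideal U = Ideal.span {e} ∧ A.ideal U = Ideal.span {a * e} ∧
      B.ideal U = Ideal.span {b * e} ∧ K.ideal U = Ideal.span {a * b * e} := by
  obtain ⟨V, s₁, s₂, hyV, hAV, hBV⟩ := exists_common_principal_chart hA hB y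
  obtain ⟨U₀, hyU₀, e₀, he₀, hEU₀⟩ := hE y
  obtain ⟨U, hyU, hUV, hUU₀⟩ := exists_affineOpens_le_preimage (𝟙 P) y V.1 hyV U₀.1 hyU₀
  have hUV' : U ≤ V := hUV
  have hUU₀' : U ≤ U₀ := hUU₀
  obtain ⟨e, he, hEU⟩ : ∃ e : Γ(P, U.1), e ∈ nonZeroDivisors Γ(P, U.1) ∧
      (A ⊔ B).ideal U = Ideal.span {e} := ⟨_, principal_of_le (A ⊔ B) hUU₀' e₀ he₀ hEU₀⟩
  obtain ⟨α, hAU⟩ : ∃ α : Γ(P, U.1), A.ideal U = Ideal.span {α} :=
    ⟨_, principal_res A hUV' s₁ hAV⟩
  obtain ⟨β, hBU⟩ : ∃ β : Γ(P, U.1), B.ideal U = Ideal.span {β} :=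
    ⟨_, principal_res B hUV' s₂ hBV⟩
  have hsup : A.ideal U ⊔ B.ideal U = Ideal.span {e} := hEU
  have hα : α ∈ Ideal.span {e} := by
    rw [← hsup]
    refine Ideal.mem_sup_left ?_
    rw [hAU]
    exact Ideal.mem_span_singleton_self α
  have hβ : β ∈ Ideal.span {e} := by
    rw [← hsup]
    refine Ideal.mem_sup_right ?_
    rw [hBU]
    exact Ideal.mem_span_singleton_self β
  obtain ⟨a, ha⟩ := Ideal.mem_span_singleton'.mp hα
  obtain ⟨b, hb⟩ := Ideal.mem_span_singleton'.mp hβ
  refine ⟨U, e, a, b, hyU, he, hEU, by rw [hAU, ha], by rw [hBU, hb], ?_⟩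
  have h := congrArg (fun L : P.IdealSheafData => L.ideal U) hK
  change K.ideal U * (A ⊔ B).ideal U = A.ideal U * B.ideal U at h
  rw [hEU, hAU, hBU, Ideal.span_singleton_mul_span_singleton] at h
  have hαβ : α * β = a * b * e * e := by rw [← ha, ← hb]; ring
  refine le_antisymm ?_ ?_
  · intro k hk
    have h1 : k * e ∈ K.ideal U * Ideal.span {e} :=
      Ideal.mul_mem_mul hk (Ideal.mem_span_singleton_self e)
    rw [h] at h1
    obtain ⟨r, hr⟩ := Ideal.mem_span_singleton'.mp h1
    rw [hαβ, ← mul_assoc] at hr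
    have h2 : r * (a * b * e) = k := (mul_cancel_right_mem_nonZeroDivisors he).mp hr
    rw [← h2]
    exact Ideal.mul_mem_left _ _ (Ideal.mem_span_singleton_self _)
  · rw [Ideal.span_singleton_le_iff_mem]
    have h1 : α * β ∈ K.ideal U * Ideal.span {e} := by
      rw [h]; exact Ideal.mem_span_singleton_self _
    obtain ⟨k, hk, hke⟩ := Ideal.mem_mul_span_singleton.mp h1
    rw [hαβ] at hke
    have h2 : k = a * b * e := (mul_cancel_right_mem_nonZeroDivisors he).mp hke
    rw [← h2]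
    exact hk

open Groth.Agent.Lib27.ImageCartier in
/-- the ideal `K` with `K * (A ⊔ B) = A * B` is contained in `A` and in `B`, its support is the
union of the supports of `A` and `B`, and it is effective Cartier when `A` and `B` are. -/
theorem ambProd_aux (A B K : P.IdealSheafData) (hA : LocPrin A) (hB : LocPrin B)
    (hE : BlowUp.IsEffCartierIdeal (A ⊔ B)) (hK : K * (A ⊔ B) = A * B) :
    K ≤ A ∧ K ≤ B ∧ K.support = A.support ⊔ B.support ∧
      (BlowUp.IsEffCartierIdeal A → BlowUp.IsEffCartierIdeal B → BlowUp.IsEffCartierIdeal K) := by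
  choose U e a b hyU he hEU hAU hBU hKU using exists_chart A B K hA hB hE hK
  have hcov : ⨆ y, (U y).1 = ⊤ := by
    rw [eq_top_iff]
    intro x _
    exact Opens.mem_iSup.mpr ⟨x, hyU x⟩
  have hKA : K ≤ A := by
    refine Scheme.IdealSheafData.le_of_iSup_eq_top U hcov (fun y => ?_)
    rw [hKU, hAU, Ideal.span_singleton_le_iff_mem]
    have : a y * b y * e y = b y * (a y * e y) := by ring
    rw [this]
    exact Ideal.mul_mem_left _ _ (Ideal.mem_span_singleton_self _)
  have hKB : K ≤ B := by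
    refine Scheme.IdealSheafData.le_of_iSup_eq_top U hcov (fun y => ?_)
    rw [hKU, hBU, Ideal.span_singleton_le_iff_mem]
    have : a y * b y * e y = a y * (b y * e y) := by ring
    rw [this]
    exact Ideal.mul_mem_left _ _ (Ideal.mem_span_singleton_self _)
  refine ⟨hKA, hKB, ?_, ?_⟩
  · refine le_antisymm ?_ ?_
    · have h1 : (K * (A ⊔ B)).support = (A * B).support := by rw [hK]
      rw [Scheme.IdealSheafData.support_mul, Scheme.IdealSheafData.support_mul] at h1
      rw [← h1]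
      exact le_sup_left
    · exact sup_le (Scheme.IdealSheafData.support_antitone hKA)
        (Scheme.IdealSheafData.support_antitone hKB)
  · intro hAC hBC y
    refine ⟨U y, hyU y, a y * b y * e y, ?_, hKU y⟩
    have h1 := mem_nonZeroDivisors_of_isEffCartierIdeal A hAC (U y) _ (hAU y)
    have h2 := mem_nonZeroDivisors_of_isEffCartierIdeal B hBC (U y) _ (hBU y)
    have h3 : a y * b y * e y * e y = a y * e y * (b y * e y) := by ring
    have h4 : a y * b y * e y * e y ∈ nonZeroDivisors Γ(P, (U y).1) := by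
      rw [h3]; exact mul_mem_nonZeroDivisors.mpr ⟨h1, h2⟩
    exact (mul_mem_nonZeroDivisors.mp h4).1

end Groth.Agent.Lib27.AmbProd
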