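import Mathlib
import Groth.Agent.Lib27.Sch.AmbProd

/-!
# The ambient product of modulus pairs: basic facts (helper27)
-/

set_option autoImplicit false

universe u

open CategoryTheory CategoryTheory.Limits AlgebraicGeometry TopologicalSpace

namespace Groth.Agent.Lib27.AmbProdMP

open Groth.Agent.Lib.Helper25.BlowUpUP Groth.Agent.Lib27.ImageCartier

variable {X T S Y P : Scheme.{u}}

/-- cancellation of an effective Cartier ideal. -/
theorem eq_of_mul_eq_mul (E K K' : P.IdealSheafData) (hE : BlowUp.IsEffCartierIdeal E)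
    (h : K * E = K' * E) : K = K' := by
  choose U hyU e he hU using hE
  refine Scheme.IdealSheafData.ext_of_iSup_eq_top U ?_ (fun y => ?_)
  · rw [eq_top_iff]
    intro x _
    exact Opens.mem_iSup.mpr ⟨x, hyU x⟩
  · have h1 := congrArg (fun L : P.IdealSheafData => L.ideal (U y)) h
    change K.ideal (U y) * E.ideal (U y) = K'.ideal (U y) * E.ideal (U y) at h1
    rw [hU y] at h1
    have key : ∀ L L' : Ideal Γ(P, (U y).1), L * Ideal.span {e y} = L' * Ideal.span {e y} →
        L ≤ L' := by
      intro L L' hLL k hk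
      have h2 : k * e y ∈ L * Ideal.span {e y} :=
        Ideal.mul_mem_mul hk (Ideal.mem_span_singleton_self _)
      rw [hLL] at h2
      obtain ⟨k', hk', hke⟩ := Ideal.mem_mul_span_singleton.mp h2
      have : k' = k := (mul_cancel_right_mem_nonZeroDivisors (he y)).mp hke
      rw [← this]
      exact hk'
    exact le_antisymm (key _ _ h1) (key _ _ h1.symm)

lemma prodInterior_coe (f : X ⟶ S) (g : T ⟶ S) (I : X.IdealSheafData) (J : T.IdealSheafData) :
    ((ModPair.prodInterior f g I J : (pullback f g).Opens) : Set ↥(pullback f g)) =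
      (((I.comap (pullback.fst f g)).support : Set ↥(pullback f g)))ᶜ ∩
        (((J.comap (pullback.snd f g)).support : Set ↥(pullback f g)))ᶜ := by
  rw [Scheme.IdealSheafData.support_comap, Scheme.IdealSheafData.support_comap]
  rfl

/-- the inclusion of the product of the interiors is quasi-compact. -/
theorem quasiCompact_prodInterior_ι (f : X ⟶ S) (g : T ⟶ S) (I : X.IdealSheafData)
    (J : T.IdealSheafData) (hX : BlowUp.IsEffCartierIdeal I) (hT : BlowUp.IsEffCartierIdeal J) :
    QuasiCompact (ModPair.prodInterior f g I J).ι :=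
  quasiCompact_ι_of_compl_supports (locPrin_comap (locPrin_of_isEffCartier hX) _)
    (locPrin_comap (locPrin_of_isEffCartier hT) _) _ (prodInterior_coe f g I J)

/-- the two moduli pull back to effective Cartier ideals on the closure of the product of the
interiors. -/
theorem isEffCartierIdeal_comap_mprodι (f : X ⟶ S) (g : T ⟶ S) (I : X.IdealSheafData)
    (J : T.IdealSheafData) (hX : BlowUp.IsEffCartierIdeal I) (hT : BlowUp.IsEffCartierIdeal J) :
    BlowUp.IsEffCartierIdeal (I.comap (ModPair.mprodι f g I J ≫ pullback.fst f g)) ∧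
      BlowUp.IsEffCartierIdeal (J.comap (ModPair.mprodι f g I J ≫ pullback.snd f g)) := by
  haveI := quasiCompact_prodInterior_ι f g I J hX hT
  constructor
  · rw [Scheme.IdealSheafData.comap_comp]
    refine isEffCartierIdeal_comap_imageι
      (ModPair.prodInterior f g I J).ι (I.comap (pullback.fst f g))
      (locPrin_comap (locPrin_of_isEffCartier hX) _) ?_
    rw [← Scheme.IdealSheafData.comap_comp]
    refine comap_eq_top_of_support I _ (fun y => ?_)
    exact y.2.1
  · rw [Scheme.IdealSheafData.comap_comp]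
    refine isEffCartierIdeal_comap_imageι
      (ModPair.prodInterior f g I J).ι (J.comap (pullback.snd f g))
      (locPrin_comap (locPrin_of_isEffCartier hT) _) ?_
    rw [← Scheme.IdealSheafData.comap_comp]
    refine comap_eq_top_of_support J _ (fun y => ?_)
    exact y.2.2

/-- the pull-back of the centre is the sum of the pull-backs of the two moduli. -/
theorem comap_prodCentre (f : X ⟶ S) (g : T ⟶ S) (I : X.IdealSheafData)
    (J : T.IdealSheafData) (π : Y ⟶ ModPair.mprod f g I J) :
    (ModPair.prodCentre f g I J).comap π =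
      (I.comap (ModPair.mprodι f g I J ≫ pullback.fst f g)).comap π ⊔
        (J.comap (ModPair.mprodι f g I J ≫ pullback.snd f g)).comap π :=
  (Scheme.IdealSheafData.map_gc π).l_sup

/-- on a blowing up of the closure of the product of the interiors in the intersection of the
two moduli, both moduli pull back to effective Cartier ideals. -/
theorem isEffCartierIdeal_comap_blowUp (f : X ⟶ S) (g : T ⟶ S) (I : X.IdealSheafData)
    (J : T.IdealSheafData) (hX : BlowUp.IsEffCartierIdeal I) (hT : BlowUp.IsEffCartierIdeal J)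
    (π : Y ⟶ ModPair.mprod f g I J) (hπ : BlowUp.IsBlowUp π (ModPair.prodCentre f g I J)) :
    BlowUp.IsEffCartierIdeal ((I.comap (ModPair.mprodι f g I J ≫ pullback.fst f g)).comap π) ∧
      BlowUp.IsEffCartierIdeal
        ((J.comap (ModPair.mprodι f g I J ≫ pullback.snd f g)).comap π) := by
  have hYE : BlowUp.IsEffCartierIdeal ((ModPair.prodCentre f g I J).comap π) := hπ.1
  obtain ⟨hAC₀, hBC₀⟩ := isEffCartierIdeal_comap_mprodι f g I J hX hT
  have hA' : LocPrin ((I.comap (ModPair.mprodι f g I J ≫ pullback.fst f g)).comap π) :=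
    locPrin_comap (locPrin_comap (locPrin_of_isEffCartier hX) _) _
  have hB' : LocPrin ((J.comap (ModPair.mprodι f g I J ≫ pullback.snd f g)).comap π) :=
    locPrin_comap (locPrin_comap (locPrin_of_isEffCartier hT) _) _
  haveI hiso : IsIso (π ∣_ (ModPair.prodCentre f g I J).support.compl) :=
    isIso_restrict_compl_support _ π hπ
  obtain ⟨W, hW⟩ : ∃ W : Y.Opens, W = π ⁻¹ᵁ (ModPair.prodCentre f g I J).support.compl := ⟨_, rfl⟩
  haveI hflat : Flat (W.ι ≫ π) := by
    rw [hW, ← morphismRestrict_ι]
    infer_instance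
  have hWset : (W : Set Y) =
      ((((ModPair.prodCentre f g I J).comap π).support : Set Y))ᶜ := by
    rw [Scheme.IdealSheafData.support_comap, hW]
    rfl
  have hWloc : ∀ y : Y, ∃ U : Y.affineOpens, y ∈ U.1 ∧ ∃ e : Γ(Y, U.1),
      e ∈ nonZeroDivisors Γ(Y, U.1) ∧ ((W : Set Y) ∩ (U.1 : Set Y)) = (Y.basicOpen e : Set Y) := by
    intro y
    obtain ⟨U, hyU, e, he, hU⟩ := hYE y
    refine ⟨U, hyU, e, he, ?_⟩
    rw [hWset]
    exact Groth.Agent.Lib27.ComplCartier.compl_support_inf_eq_basicOpen _ U e hU
  haveI : QuasiCompact W.ι :=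
    Groth.Agent.Lib27.ComplCartier.quasiCompact_ι_of_locally_basicOpen W (fun y => by
      obtain ⟨U, hyU, e, -, hU⟩ := hWloc y
      exact ⟨U, hyU, e, hU⟩)
  haveI : IsSchemeTheoreticallyDominant W.ι :=
    ⟨Groth.Agent.Lib27.ComplCartier.ker_ι_eq_bot_of_locally_basicOpen_nzd W hWloc⟩
  constructor
  · refine Groth.Agent.Lib27.AmbProd.isEffCartierIdeal_of_comap_dominant W.ι _ hA' ?_
    rw [← Scheme.IdealSheafData.comap_comp]
    exact isEffCartierIdeal_comap_of_flat _ _ hAC₀
  · refine Groth.Agent.Lib27.AmbProd.isEffCartierIdeal_of_comap_dominant W.ι _ hB' ?_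
    rw [← Scheme.IdealSheafData.comap_comp]
    exact isEffCartierIdeal_comap_of_flat _ _ hBC₀

/-- the preimage of the product of the interiors is scheme-theoretically dense in the blowing
up. -/
theorem ker_preimage_prodInterior_ι (f : X ⟶ S) (g : T ⟶ S) (I : X.IdealSheafData)
    (J : T.IdealSheafData) (hX : BlowUp.IsEffCartierIdeal I) (hT : BlowUp.IsEffCartierIdeal J)
    (π : Y ⟶ ModPair.mprod f g I J) (hπ : BlowUp.IsBlowUp π (ModPair.prodCentre f g I J)) :
    ((π ≫ ModPair.mprodι f g I J) ⁻¹ᵁ ModPair.prodInterior f g I J).ι.ker = ⊥ := by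
  obtain ⟨hA, hB⟩ := isEffCartierIdeal_comap_blowUp f g I J hX hT π hπ
  refine Groth.Agent.Lib27.ModPairProd.ker_ι_eq_bot_of_compl_supports _ _ hA hB _ ?_
  rw [Scheme.IdealSheafData.support_comap, Scheme.IdealSheafData.support_comap,
    Scheme.IdealSheafData.support_comap, Scheme.IdealSheafData.support_comap]
  rfl

end Groth.Agent.Lib27.AmbProdMP
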