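import Mathlib
import Groth.Agent.Lib27.Sch.AmbProdMP
import Groth.Agent.Lib.Helper25.BlowUpDense

/-!
# Abstract admissible blow-ups of modulus pairs (helper27)
-/

set_option autoImplicit false

universe u

open CategoryTheory CategoryTheory.Limits AlgebraicGeometry TopologicalSpace

namespace Groth.Agent.Lib27.AdmBlowup

open Groth.Agent.Lib.Helper25.BlowUpUP Groth.Agent.Lib27.ImageCartier

variable {X Y Z W S T P : Scheme.{u}}

/-- two morphisms which agree over a separated morphism and on a scheme-theoretically dense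
part are equal. -/
theorem ext_of_ker_eq_bot_of_isSeparated {f g : X ⟶ Y} (s : Y ⟶ Z) [IsSeparated s]
    (h : f ≫ s = g ≫ s) (ι : W ⟶ X) (hι : ι.ker = ⊥) (hU : ι ≫ f = ι ≫ g) : f = g := by
  let X' : Over Z := Over.mk (f ≫ s)
  let Y' : Over Z := Over.mk s
  let U' : Over Z := Over.mk (ι ≫ f ≫ s)
  let f' : X' ⟶ Y' := Over.homMk f
  let g' : X' ⟶ Y' := Over.homMk g
  let ι' : U' ⟶ X' := Over.homMk ι
  have : IsSeparated Y'.hom := ‹_›
  have hlift : ι' ≫ f' = ι' ≫ g' := by ext1; exact hU
  have hfac : (equalizer.lift ι' hlift).left ≫ (equalizer.ι f' g').left = ι := by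
    rw [← Over.comp_left, equalizer.lift_ι]
    rfl
  have hker : (equalizer.ι f' g').left.ker = ⊥ := by
    rw [eq_bot_iff, ← hι, ← hfac]
    exact Scheme.Hom.le_ker_comp _ _
  have : IsIso (equalizer.ι f' g').left := IsClosedImmersion.isIso_iff_ker_eq_bot.mpr hker
  rw [← cancel_epi (equalizer.ι f' g').left]
  exact congr($(equalizer.condition f' g').left)

/-- the scheme-theoretic image of an open immersion restricted to the open is the open. -/
theorem isIso_imageι_restrict (O : P.Opens) : IsIso (O.ι.imageι ∣_ O) := by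
  have hrange : Set.range O.ι.toImage ⊆ Set.range (O.ι.imageι ⁻¹ᵁ O).ι := by
    rintro _ ⟨w, rfl⟩
    rw [Scheme.Opens.range_ι]
    change O.ι.imageι (O.ι.toImage w) ∈ O
    rw [← Scheme.Hom.comp_apply, Scheme.Hom.toImage_imageι]
    exact w.2
  let σ : O.toScheme ⟶ (O.ι.imageι ⁻¹ᵁ O).toScheme :=
    IsOpenImmersion.lift (O.ι.imageι ⁻¹ᵁ O).ι O.ι.toImage hrange
  have hσ : σ ≫ (O.ι.imageι ⁻¹ᵁ O).ι = O.ι.toImage := IsOpenImmersion.lift_fac _ _ _
  have h1 : σ ≫ (O.ι.imageι ∣_ O) = 𝟙 _ := by
    rw [← cancel_mono O.ι, Category.assoc, morphismRestrict_ι, ← Category.assoc, hσ,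
      Scheme.Hom.toImage_imageι, Category.id_comp]
  haveI : IsClosedImmersion (O.ι.imageι ∣_ O) :=
    IsZariskiLocalAtTarget.restrict (P := @IsClosedImmersion) inferInstance O
  have h2 : (O.ι.imageι ∣_ O) ≫ σ = 𝟙 _ := by
    rw [← cancel_mono (O.ι.imageι ∣_ O), Category.assoc, h1, Category.id_comp, Category.comp_id]
  exact ⟨σ, h2, h1⟩

/-- base change of a morphism which is an isomorphism over an open. -/
theorem isIso_snd_restrict (s : X ⟶ S) (U : S.Opens) [IsIso (s ∣_ U)] (g : T ⟶ S) (V : T.Opens)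
    (hV : V ≤ g ⁻¹ᵁ U) : IsIso (pullback.snd s g ∣_ V) := by
  have sq1 := (isPullback_morphismRestrict (pullback.snd s g) V).flip
  have sq2 := IsPullback.of_hasPullback s g
  have big := sq1.paste_horiz sq2
  have hrange : Set.range (V.ι ≫ g) ⊆ Set.range U.ι := by
    rintro _ ⟨w, rfl⟩
    rw [Scheme.Opens.range_ι]
    exact hV w.2
  let g₀ : V.toScheme ⟶ U.toScheme := IsOpenImmersion.lift U.ι (V.ι ≫ g) hrange
  have hg₀ : g₀ ≫ U.ι = V.ι ≫ g := IsOpenImmersion.lift_fac _ _ _
  rw [← hg₀] at big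
  have sq3 := (isPullback_morphismRestrict s U).flip
  have left := IsPullback.of_right' big sq3
  have h : (MorphismProperty.isomorphisms Scheme) (s ∣_ U) := ‹IsIso (s ∣_ U)›
  exact (MorphismProperty.isomorphisms Scheme).of_isPullback left h

/-- base change of an abstract admissible blow-up along an ambient morphism. -/
theorem isAdmBlowup_mprod (IS : S.IdealSheafData) (IT : T.IdealSheafData)
    (IX : X.IdealSheafData) (hT : BlowUp.IsEffCartierIdeal IT) (hX : BlowUp.IsEffCartierIdeal IX)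
    (g : T ⟶ S) (hg : ModPair.IsAmbient IT IS g) (s : X ⟶ S) (hs : ModPair.IsAdmBlowup IX IS s) :
    BlowUp.IsEffCartierIdeal (IT.comap (ModPair.mprodι s g IX IT ≫ pullback.snd s g)) ∧
      ModPair.IsAdmBlowup (IT.comap (ModPair.mprodι s g IX IT ≫ pullback.snd s g)) IT
        (ModPair.mprodι s g IX IT ≫ pullback.snd s g) ∧
      ModPair.IsAmbient (IT.comap (ModPair.mprodι s g IX IT ≫ pullback.snd s g)) IX
        (ModPair.mprodι s g IX IT ≫ pullback.fst s g) := by
  obtain ⟨hmin, hprop, hiso⟩ := hs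
  have hmin' : IX = IS.comap s := hmin
  have hg' : IT ≤ IS.comap g := hg
  have hgsupp : ∀ t : T, t ∈ ModPair.interior IT → g t ∉ IS.support := by
    intro t ht hmem
    have : t ∈ (IS.comap g).support := by
      rw [Scheme.IdealSheafData.support_comap]; exact hmem
    exact ht (Scheme.IdealSheafData.support_antitone hg' this)
  refine ⟨(Groth.Agent.Lib27.AmbProdMP.isEffCartierIdeal_comap_mprodι s g IX IT hX hT).2,
    ⟨rfl, ?_, ?_⟩, ?_⟩
  · haveI := hprop
    infer_instance
  · have hO : pullback.snd s g ⁻¹ᵁ ModPair.interior IT = ModPair.prodInterior s g IX IT := by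
      apply le_antisymm
      · intro z hz
        refine ⟨?_, hz⟩
        change pullback.fst s g z ∉ IX.support
        rw [hmin', Scheme.IdealSheafData.support_comap]
        change s (pullback.fst s g z) ∉ IS.support
        rw [← Scheme.Hom.comp_apply, pullback.condition, Scheme.Hom.comp_apply]
        exact hgsupp _ hz
      · exact inf_le_right
    rw [morphismRestrict_comp]
    have h1 : IsIso (ModPair.mprodι s g IX IT ∣_ pullback.snd s g ⁻¹ᵁ ModPair.interior IT) := by
      rw [hO]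
      exact isIso_imageι_restrict _
    have h2 : IsIso (pullback.snd s g ∣_ ModPair.interior IT) := by
      haveI := hiso
      exact isIso_snd_restrict s (ModPair.interior IS) g _ (fun t ht => hgsupp t ht)
    exact IsIso.comp_isIso' h1 h2
  · change IT.comap (ModPair.mprodι s g IX IT ≫ pullback.snd s g) ≤
      IX.comap (ModPair.mprodι s g IX IT ≫ pullback.fst s g)
    have e0 : IX.comap (ModPair.mprodι s g IX IT ≫ pullback.fst s g) =
        (IS.comap s).comap (ModPair.mprodι s g IX IT ≫ pullback.fst s g) :=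
      congrArg (fun K : X.IdealSheafData =>
        K.comap (ModPair.mprodι s g IX IT ≫ pullback.fst s g)) hmin'
    have e1 : (IS.comap s).comap (ModPair.mprodι s g IX IT ≫ pullback.fst s g) =
        (IS.comap g).comap (ModPair.mprodι s g IX IT ≫ pullback.snd s g) := by
      rw [← Scheme.IdealSheafData.comap_comp, ← Scheme.IdealSheafData.comap_comp,
        Category.assoc, Category.assoc, pullback.condition]
    rw [e0, e1]
    exact Scheme.IdealSheafData.comap_mono _ hg'

lemma interior_comap (I : Y.IdealSheafData) (f : X ⟶ Y) :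
    ModPair.interior (I.comap f) = f ⁻¹ᵁ ModPair.interior I := by
  apply Opens.ext
  change ((I.comap f).support : Set X)ᶜ = _
  rw [Scheme.IdealSheafData.support_comap]
  rfl

theorem isAdmBlowup_id (I : X.IdealSheafData) : ModPair.IsAdmBlowup I I (𝟙 X) :=
  ⟨(Scheme.IdealSheafData.comap_id I).symm, inferInstance, inferInstance⟩

theorem isAdmBlowup_comp {IX : X.IdealSheafData} {IY : Y.IdealSheafData}
    {IZ : Z.IdealSheafData} (f : X ⟶ Y) (g : Y ⟶ Z) (hf : ModPair.IsAdmBlowup IX IY f)
    (hg : ModPair.IsAdmBlowup IY IZ g) : ModPair.IsAdmBlowup IX IZ (f ≫ g) := by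
  obtain ⟨hf1, hf2, hf3⟩ := hf
  obtain ⟨hg1, hg2, hg3⟩ := hg
  have hf1' : IX = IY.comap f := hf1
  have hg1' : IY = IZ.comap g := hg1
  refine ⟨?_, ?_, ?_⟩
  · change IX = IZ.comap (f ≫ g)
    rw [Scheme.IdealSheafData.comap_comp, ← hg1', ← hf1']
  · haveI := hf2
    haveI := hg2
    infer_instance
  · rw [morphismRestrict_comp]
    have h1 : IsIso (f ∣_ g ⁻¹ᵁ ModPair.interior IZ) := by
      rw [← interior_comap, ← hg1']
      exact hf3
    exact IsIso.comp_isIso' h1 hg3

/-- two ambient morphisms which become equal after composing with an admissible blow-up are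
equal. -/
theorem eq_of_comp_admBlowup_eq {IX : X.IdealSheafData} {IY : Y.IdealSheafData}
    {IZ : Z.IdealSheafData} (hX : BlowUp.IsEffCartierIdeal IX) (f₁ f₂ : X ⟶ Y)
    (h₁ : ModPair.IsAmbient IX IY f₁) (h₂ : ModPair.IsAmbient IX IY f₂) (s : Y ⟶ Z)
    (hs : ModPair.IsAdmBlowup IY IZ s) (h : f₁ ≫ s = f₂ ≫ s) : f₁ = f₂ := by
  obtain ⟨hs1, hs2, hs3⟩ := hs
  have hs1' : IY = IZ.comap s := hs1
  haveI := hs2
  haveI := hs3
  haveI hdom : IsSchemeTheoreticallyDominant (ModPair.interior IX).ι :=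
    isSchemeTheoreticallyDominant_ι_complSupport IX hX
  refine ext_of_ker_eq_bot_of_isSeparated s h (ModPair.interior IX).ι
    (IsSchemeTheoreticallyDominant.ker_eq_bot _) ?_
  -- both composites factor through the preimage of the interior
  have hfac : ∀ (f : X ⟶ Y), ModPair.IsAmbient IX IY f →
      Set.range ((ModPair.interior IX).ι ≫ f) ⊆ Set.range (s ⁻¹ᵁ ModPair.interior IZ).ι := by
    intro f hf
    have hf' : IX ≤ IY.comap f := hf
    rintro _ ⟨x, rfl⟩
    rw [Scheme.Opens.range_ι, ← interior_comap, ← hs1']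
    intro hmem
    have : (ModPair.interior IX).ι x ∈ (IY.comap f).support := by
      rw [Scheme.IdealSheafData.support_comap]; exact hmem
    exact x.2 (Scheme.IdealSheafData.support_antitone hf' this)
  let φ₁ := IsOpenImmersion.lift (s ⁻¹ᵁ ModPair.interior IZ).ι _ (hfac f₁ h₁)
  let φ₂ := IsOpenImmersion.lift (s ⁻¹ᵁ ModPair.interior IZ).ι _ (hfac f₂ h₂)
  have hφ₁ : φ₁ ≫ (s ⁻¹ᵁ ModPair.interior IZ).ι = (ModPair.interior IX).ι ≫ f₁ :=
    IsOpenImmersion.lift_fac _ _ _
  have hφ₂ : φ₂ ≫ (s ⁻¹ᵁ ModPair.interior IZ).ι = (ModPair.interior IX).ι ≫ f₂ :=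
    IsOpenImmersion.lift_fac _ _ _
  have heq : φ₁ = φ₂ := by
    rw [← cancel_mono (s ∣_ ModPair.interior IZ), ← cancel_mono (ModPair.interior IZ).ι,
      Category.assoc, Category.assoc, morphismRestrict_ι, ← Category.assoc, ← Category.assoc,
      hφ₁, hφ₂, Category.assoc, Category.assoc, h]
  rw [← hφ₁, ← hφ₂, heq]

end Groth.Agent.Lib27.AdmBlowup
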