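import Mathlib

/-!
# Sheaves on the basis of affine opens from binary standard gluing (for S9513)
-/

set_option autoImplicit false
universe u
open AlgebraicGeometry CategoryTheory TopologicalSpace Opposite Limits

namespace Groth.Agent.Lib27.AffBasisSheaf

section top

variable {T : TopCat.{u}} (G : TopCat.Sheaf (Type u) T)

lemma G_map_map {U V W : Opens T} (h1 : V ≤ U) (h2 : W ≤ V) (s : G.1.obj (op U)) :
    G.1.map (homOfLE h2).op (G.1.map (homOfLE h1).op s) = G.1.map (homOfLE (h2.trans h1)).op s := by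
  have : (homOfLE (h2.trans h1)).op = (homOfLE h1).op ≫ (homOfLE h2).op := rfl
  rw [this, G.1.map_comp]; rfl

lemma G_glue {U V W VW : Opens T} (hV : V ≤ U) (hW : W ≤ U) (hU : U ≤ V ⊔ W)
    (h1 : VW ≤ V) (h2 : VW ≤ W) (hVW : V ⊓ W ≤ VW) (q1 : G.1.obj (op V)) (q2 : G.1.obj (op W))
    (h : G.1.map (homOfLE h1).op q1 = G.1.map (homOfLE h2).op q2) :
    ∃ s : G.1.obj (op U), G.1.map (homOfLE hV).op s = q1 ∧ G.1.map (homOfLE hW).op s = q2 := by
  obtain rfl : U = V ⊔ W := le_antisymm hU (sup_le hV hW)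
  have hl := G.isLimitPullbackCone V W
  let c : PullbackCone (G.1.map (homOfLE inf_le_left : V ⊓ W ⟶ V).op)
      (G.1.map (homOfLE inf_le_right : V ⊓ W ⟶ W).op) :=
    PullbackCone.mk (W := PUnit.{u+1}) (TypeCat.ofHom fun _ => q1) (TypeCat.ofHom fun _ => q2) (by
      ext _
      show G.1.map (homOfLE inf_le_left : V ⊓ W ⟶ V).op q1 = G.1.map (homOfLE inf_le_right : V ⊓ W ⟶ W).op q2
      rw [← G_map_map G h1 hVW q1, ← G_map_map G h2 hVW q2, h])
  refine ⟨hl.lift c PUnit.unit, ?_, ?_⟩
  · exact ConcreteCategory.congr_hom (hl.fac c WalkingCospan.left) PUnit.unit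
  · exact ConcreteCategory.congr_hom (hl.fac c WalkingCospan.right) PUnit.unit

end top

variable (X : Scheme.{u})

/-- the inclusion functor of affine opens into opens -/
abbrev ι : X.affineOpens ⥤ X.Opens :=
  Monotone.functor (f := fun U : X.affineOpens => (U : X.Opens)) (fun _ _ h => h)

instance : (ι X).Full where
  map_surjective {U V} f := ⟨homOfLE (show U ≤ V from f.le), Subsingleton.elim _ _⟩

instance : (ι X).Faithful where

instance : (ι X).IsCoverDense (Opens.grothendieckTopology X) where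
  is_cover := by
    intro U x hx
    obtain ⟨_, ⟨V, hV, rfl⟩, hxV, hVU⟩ := X.isBasis_affineOpens.exists_subset_of_mem_open hx U.2
    exact ⟨V, homOfLE hVU, ⟨⟨V, hV⟩, 𝟙 _, homOfLE hVU, rfl⟩, hxV⟩

/-- induced topology -/
def J : GrothendieckTopology X.affineOpens :=
  (ι X).inducedTopology (Opens.grothendieckTopology X)

variable {X}

lemma mem_J {U : X.affineOpens} {S : Sieve U} :
    S ∈ J X U ↔ ∀ x ∈ (U : X.Opens), ∃ (V : X.affineOpens) (f : V ⟶ U), S.arrows f ∧ x ∈ (V : X.Opens) := by
  rw [J, Functor.mem_inducedTopology_iff_of_isCoverDense]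
  apply forall₂_congr fun x hxU ↦ ⟨?_, ?_⟩
  · rintro ⟨V, f, ⟨W, g, h, hg, rfl⟩, hxV⟩
    exact ⟨W, g, hg, h.le hxV⟩
  · rintro ⟨W, g, hg, hxW⟩
    exact ⟨(W : X.Opens), homOfLE g.le, ⟨W, g, 𝟙 _, hg, rfl⟩, hxW⟩



lemma aff (U : X.affineOpens) : IsAffineOpen (U : X.Opens) := U.2

/-- basic open as an affine open -/
def bo (U : X.affineOpens) (f : Γ(X, (U : X.Opens))) : X.affineOpens :=
  ⟨X.basicOpen f, (aff U).basicOpen f⟩

lemma bo_le (U : X.affineOpens) (f : Γ(X, (U : X.Opens))) : bo U f ≤ U :=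
  X.basicOpen_le f

@[simp] lemma bo_coe (U : X.affineOpens) (f : Γ(X, (U : X.Opens))) :
    ((bo U f : X.affineOpens) : X.Opens) = X.basicOpen f := rfl

variable (F : (X.affineOpens)ᵒᵖ ⥤ Type u)

/-- condition (b) of the statement -/
def CondB : Prop :=
  ∀ (U V W VW : X.affineOpens) (f g : Γ(X, (U : X.Opens))),
        (V : X.Opens) = X.basicOpen f → (W : X.Opens) = X.basicOpen g →
        (VW : X.Opens) = X.basicOpen (f * g) → (U : X.Opens) = (V : X.Opens) ⊔ (W : X.Opens) →
        ∀ (hV : V ≤ U) (hW : W ≤ U) (h1 : VW ≤ V) (h2 : VW ≤ W),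
        Function.Injective (fun s : F.obj (op U) => (F.map (homOfLE hV).op s, F.map (homOfLE hW).op s)) ∧
        Set.range (fun s : F.obj (op U) => (F.map (homOfLE hV).op s, F.map (homOfLE hW).op s)) =
          {p | F.map (homOfLE h1).op p.1 = F.map (homOfLE h2).op p.2}

/-- the sieve of affine opens contained in `V` or `W` -/
def binSieve (U V W : X.affineOpens) : Sieve U where
  arrows Y _ := Y ≤ V ∨ Y ≤ W
  downward_closed := by
    rintro Y Z f (h | h) g
    · exact Or.inl (g.le.trans h)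
    · exact Or.inr (g.le.trans h)

lemma map_map_le {U V W : X.affineOpens} (h1 : V ≤ U) (h2 : W ≤ V) (s : F.obj (op U)) :
    F.map (homOfLE h2).op (F.map (homOfLE h1).op s) = F.map (homOfLE (h2.trans h1)).op s := by
  have : (homOfLE (h2.trans h1)).op = (homOfLE h1).op ≫ (homOfLE h2).op := rfl
  rw [this, F.map_comp]; rfl

variable {F} {E : X.affineOpens}

lemma isSheafFor_binSieve (hB : CondB F) (U : X.affineOpens) (f g : Γ(X, (U : X.Opens)))
    (hU : (U : X.Opens) ≤ X.basicOpen f ⊔ X.basicOpen g) :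
    Presieve.IsSheafFor F (binSieve U (bo U f) (bo U g)).arrows := by
  have hV : bo U f ≤ U := bo_le U f
  have hW : bo U g ≤ U := bo_le U g
  have h1 : bo U (f * g) ≤ bo U f := by
    show X.basicOpen (f * g) ≤ X.basicOpen f
    rw [X.basicOpen_mul]; exact inf_le_left
  have h2 : bo U (f * g) ≤ bo U g := by
    show X.basicOpen (f * g) ≤ X.basicOpen g
    rw [X.basicOpen_mul]; exact inf_le_right
  have hUeq : (U : X.Opens) = ((bo U f : X.affineOpens) : X.Opens) ⊔ ((bo U g : X.affineOpens) : X.Opens) :=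
    le_antisymm hU (sup_le hV hW)
  obtain ⟨hinj, hrange⟩ := hB U (bo U f) (bo U g) (bo U (f * g)) f g rfl rfl rfl hUeq hV hW h1 h2
  intro x hx
  have hRV : (binSieve U (bo U f) (bo U g)).arrows (homOfLE hV) := Or.inl le_rfl
  have hRW : (binSieve U (bo U f) (bo U g)).arrows (homOfLE hW) := Or.inr le_rfl
  have hmem : (x (homOfLE hV) hRV, x (homOfLE hW) hRW) ∈
      {p : F.obj (op (bo U f)) × F.obj (op (bo U g)) |
        F.map (homOfLE h1).op p.1 = F.map (homOfLE h2).op p.2} :=
    hx (homOfLE h1) (homOfLE h2) hRV hRW (Subsingleton.elim _ _)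
  rw [← hrange] at hmem
  obtain ⟨s, hs⟩ := hmem
  have hsV : F.map (homOfLE hV).op s = x (homOfLE hV) hRV := congrArg Prod.fst hs
  have hsW : F.map (homOfLE hW).op s = x (homOfLE hW) hRW := congrArg Prod.snd hs
  refine ⟨s, ?_, ?_⟩
  · intro Y h hh
    rcases hh with hY | hY
    · have e : h = homOfLE hY ≫ homOfLE hV := Subsingleton.elim _ _
      have := Presieve.FamilyOfElements.comp_of_compatible _ hx hRV (homOfLE hY)
      subst e
      rw [this, ← hsV]
      exact (map_map_le F hV hY s).symm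
    · have e : h = homOfLE hY ≫ homOfLE hW := Subsingleton.elim _ _
      have := Presieve.FamilyOfElements.comp_of_compatible _ hx hRW (homOfLE hY)
      subst e
      rw [this, ← hsW]
      exact (map_map_le F hW hY s).symm
  · intro s' hs'
    apply hinj
    show (F.map (homOfLE hV).op s', F.map (homOfLE hW).op s') = (F.map (homOfLE hV).op s, F.map (homOfLE hW).op s)
    rw [hsV, hsW, hs' _ hRV, hs' _ hRW]

lemma binSieve_pullback (U : X.affineOpens) (f g : Γ(X, (U : X.Opens))) {Y : X.affineOpens}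
    (h : Y ⟶ U) :
    (binSieve U (bo U f) (bo U g)).pullback h =
      binSieve Y (bo Y (X.presheaf.map (homOfLE (show (Y : X.Opens) ≤ U from h.le)).op f))
        (bo Y (X.presheaf.map (homOfLE (show (Y : X.Opens) ≤ U from h.le)).op g)) := by
  ext Z k
  have hZ : (Z : X.Opens) ≤ Y := k.le
  show (Z ≤ bo U f ∨ Z ≤ bo U g) ↔ (Z ≤ bo Y _ ∨ Z ≤ bo Y _)
  have key : ∀ a : Γ(X, (U : X.Opens)),
      Z ≤ bo U a ↔ Z ≤ bo Y (X.presheaf.map (homOfLE (show (Y : X.Opens) ≤ U from h.le)).op a) := by
    intro a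
    show (Z : X.Opens) ≤ X.basicOpen a ↔ (Z : X.Opens) ≤ X.basicOpen _
    rw [Scheme.basicOpen_res]
    exact ⟨fun hh => le_inf hZ hh, fun hh => hh.trans inf_le_right⟩
  rw [key f, key g]

lemma binSieve_mem (hB : CondB F) (U : X.affineOpens) (f g : Γ(X, (U : X.Opens)))
    (hU : (U : X.Opens) ≤ X.basicOpen f ⊔ X.basicOpen g) :
    binSieve U (bo U f) (bo U g) ∈ Sheaf.finestTopologySingle F U := by
  intro Y h
  rw [binSieve_pullback]
  apply isSheafFor_binSieve hB
  rw [Scheme.basicOpen_res, Scheme.basicOpen_res, ← inf_sup_left]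
  exact le_inf le_rfl ((show (Y : X.Opens) ≤ U from h.le).trans hU)

lemma mem_of_bot (hA : Nonempty (F.obj (op E)) ∧ Subsingleton (F.obj (op E)))
    (hE : (E : X.Opens) = ⊥) (U : X.affineOpens) (hU : (U : X.Opens) = ⊥) (S : Sieve U) :
    S ∈ Sheaf.finestTopologySingle F U := by
  intro Y h
  have hY : Y = E := Subtype.ext (by
    have : (Y : X.Opens) ≤ U := h.le
    rw [hU] at this
    rw [hE]; exact le_bot_iff.mp this)
  subst hY
  by_cases hid : (S.pullback h).arrows (𝟙 Y)
  · rw [(Sieve.id_mem_iff_eq_top).mp hid]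
    exact Presieve.isSheafFor_top F
  · have hnone : ∀ (Z : X.affineOpens) (k : Z ⟶ Y), ¬ (S.pullback h).arrows k := by
      intro Z k hk
      have hZ : Z = Y := Subtype.ext (by
        have : (Z : X.Opens) ≤ Y := k.le
        rw [hE] at this ⊢
        exact le_bot_iff.mp this)
      subst hZ
      exact hid (by rwa [Subsingleton.elim (𝟙 Z) k])
    intro x _
    obtain ⟨⟨t⟩, hsub⟩ := hA
    exact ⟨t, fun Z k hk => (hnone Z k hk).elim, fun t' _ => Subsingleton.elim _ _⟩

lemma le_sup_of_add_eq_one (U : X.affineOpens) (f g : Γ(X, (U : X.Opens))) (h : f + g = 1) :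
    (U : X.Opens) ≤ X.basicOpen f ⊔ X.basicOpen g := by
  have hs : Ideal.span ({f, g} : Set Γ(X, (U : X.Opens))) = ⊤ := by
    rw [Ideal.eq_top_iff_one, ← h]
    exact Ideal.add_mem _ (Ideal.subset_span (by simp)) (Ideal.subset_span (by simp))
  have := ((aff U).self_le_iSup_basicOpen_iff (s := {f, g})).mpr hs
  refine this.trans (iSup_le ?_)
  rintro ⟨a, ha⟩
  rcases ha with rfl | ha
  · exact le_sup_left
  · rw [Set.mem_singleton_iff] at ha; subst ha; exact le_sup_right

lemma mem_of_sum (hA : Nonempty (F.obj (op E)) ∧ Subsingleton (F.obj (op E)))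
    (hE : (E : X.Opens) = ⊥) (hB : CondB F) :
    ∀ (n : ℕ) (U : X.affineOpens) (S : Sieve U) (c a : Fin n → Γ(X, (U : X.Opens))),
      ∑ i, c i * a i = 1 → (∀ i, S.arrows (homOfLE (bo_le U (a i)))) →
      S ∈ Sheaf.finestTopologySingle F U := by
  intro n
  induction n with
  | zero =>
    intro U S c a hsum _
    apply mem_of_bot hA hE
    simp only [Finset.univ_eq_empty, Finset.sum_empty] at hsum
    have h1 : X.basicOpen (1 : Γ(X, (U : X.Opens))) = U := Scheme.basicOpen_of_isUnit _ isUnit_one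
    rw [← h1, ← hsum, Scheme.basicOpen_zero]
  | succ n ih =>
    intro U S c a hsum hmem
    rw [Fin.sum_univ_succ] at hsum
    set f := c 0 * a 0 with hf
    set g := ∑ i : Fin n, c i.succ * a i.succ with hg
    have hU := le_sup_of_add_eq_one U f g hsum
    refine (Sheaf.finestTopologySingle F).transitive (binSieve_mem hB U f g hU) S ?_
    intro Y h hh
    rcases hh with hY | hY
    · have hle : bo U f ≤ bo U (a 0) := by
        show X.basicOpen (c 0 * a 0) ≤ X.basicOpen (a 0)
        rw [X.basicOpen_mul]; exact inf_le_right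
      have : S.arrows h := by
        have e : h = homOfLE (hY.trans hle) ≫ homOfLE (bo_le U (a 0)) := Subsingleton.elim _ _
        rw [e]
        exact S.downward_closed (hmem 0) _
      rw [Sieve.pullback_eq_top_of_mem S this]
      exact (Sheaf.finestTopologySingle F).top_mem _
    · have e : h = homOfLE hY ≫ homOfLE (bo_le U g) := Subsingleton.elim _ _
      rw [e, Sieve.pullback_comp]
      apply (Sheaf.finestTopologySingle F).pullback_stable
      let res : Γ(X, (U : X.Opens)) →+* Γ(X, ((bo U g : X.affineOpens) : X.Opens)) :=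
        (X.presheaf.map (homOfLE (X.basicOpen_le g)).op).hom
      have hunit : IsUnit (res g) := RingedSpace.isUnit_res_basicOpen X.toRingedSpace g
      obtain ⟨u, hu⟩ := hunit.exists_left_inv
      refine ih (bo U g) _ (fun i => u * res (c i.succ)) (fun i => res (a i.succ)) ?_ ?_
      · have : ∑ i : Fin n, u * res (c i.succ) * res (a i.succ) = u * res g := by
          have hres : res g = ∑ i : Fin n, res (c i.succ) * res (a i.succ) := by
            have := map_sum res (fun i : Fin n => c i.succ * a i.succ) Finset.univ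
            simpa only [map_mul] using this
          rw [hres, Finset.mul_sum]
          refine Finset.sum_congr rfl fun i _ => ?_
          rw [mul_assoc]
        rw [this, hu]
      · intro i
        show S.arrows (homOfLE (bo_le (bo U g) (res (a i.succ))) ≫ homOfLE (bo_le U g))
        have hle : bo (bo U g) (res (a i.succ)) ≤ bo U (a i.succ) := by
          show X.basicOpen (res (a i.succ)) ≤ X.basicOpen (a i.succ)
          show X.basicOpen (X.presheaf.map (homOfLE (X.basicOpen_le g)).op (a i.succ)) ≤ _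
          rw [Scheme.basicOpen_res]; exact inf_le_right
        have e' : homOfLE (bo_le (bo U g) (res (a i.succ))) ≫ homOfLE (bo_le U g) =
            homOfLE hle ≫ homOfLE (bo_le U (a i.succ)) := Subsingleton.elim _ _
        rw [e']
        exact S.downward_closed (hmem i.succ) _


lemma J_le (hA : Nonempty (F.obj (op E)) ∧ Subsingleton (F.obj (op E)))
    (hE : (E : X.Opens) = ⊥) (hB : CondB F) : J X ≤ Sheaf.finestTopologySingle F := by
  intro U S hS
  rw [mem_J] at hS
  let s : Set Γ(X, (U : X.Opens)) := {f | S.arrows (homOfLE (bo_le U f))}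
  have hs : Ideal.span s = ⊤ := by
    rw [← (aff U).self_le_iSup_basicOpen_iff]
    intro x hx
    obtain ⟨V, k, hk, hxV⟩ := hS x hx
    obtain ⟨f, hfV, hxf⟩ := (aff U).exists_basicOpen_le (V := (V : X.Opens)) ⟨x, hxV⟩ hx
    have hfs : f ∈ s := by
      show S.arrows (homOfLE (bo_le U f))
      have e : homOfLE (bo_le U f) = homOfLE (show bo U f ≤ V from hfV) ≫ k := Subsingleton.elim _ _
      rw [e]
      exact S.downward_closed hk _
    exact Opens.mem_iSup.mpr ⟨⟨f, hfs⟩, hxf⟩
  have h1 : (1 : Γ(X, (U : X.Opens))) ∈ Ideal.span s := by rw [hs]; trivial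
  obtain ⟨n, c, g, hsum⟩ := Submodule.mem_span_set'.mp h1
  exact mem_of_sum hA hE hB n U S c (fun i => (g i).1) hsum (fun i => (g i).2)

lemma isSheaf (hA : Nonempty (F.obj (op E)) ∧ Subsingleton (F.obj (op E)))
    (hE : (E : X.Opens) = ⊥) (hB : CondB F) : Presheaf.IsSheaf (J X) F := by
  rw [isSheaf_iff_isSheaf_of_type]
  intro U S hS
  have := J_le hA hE hB U hS U (𝟙 U)
  rwa [Sieve.pullback_id] at this

/-- the equivalence of sheaf categories -/
noncomputable def sheafEquiv : Sheaf (J X) (Type u) ≌ TopCat.Sheaf (Type u) X.carrier :=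
  (ι X).sheafInducedTopologyEquivOfIsCoverDense _ _

theorem exists_sheaf (hA : Nonempty (F.obj (op E)) ∧ Subsingleton (F.obj (op E)))
    (hE : (E : X.Opens) = ⊥) (hB : CondB F) :
    ∃ G : TopCat.Sheaf (Type u) X.carrier, Nonempty ((ι X).op ⋙ G.1 ≅ F) := by
  let F' : Sheaf (J X) (Type u) := ⟨F, isSheaf hA hE hB⟩
  refine ⟨(sheafEquiv (X := X)).functor.obj F', ⟨?_⟩⟩
  have e := (sheafEquiv (X := X)).unitIso.app F'
  exact ((sheafToPresheaf _ _).mapIso e).symm

theorem forward (G : TopCat.Sheaf (Type u) X.carrier) (e : (ι X).op ⋙ G.1 ≅ F)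
    (hE : (E : X.Opens) = ⊥) :
    (Nonempty (F.obj (op E)) ∧ Subsingleton (F.obj (op E))) ∧ CondB F := by
  let φ : ∀ A : X.affineOpens, G.1.obj (op (A : X.Opens)) ≃ F.obj (op A) :=
    fun A => (e.app (op A)).toEquiv
  have nat : ∀ {A B : X.affineOpens} (k : A ≤ B) (s : F.obj (op B)),
      (φ A).symm (F.map (homOfLE k).op s) =
        G.1.map (homOfLE (show (A : X.Opens) ≤ B from k)).op ((φ B).symm s) :=
    fun k s => ConcreteCategory.congr_hom (e.inv.naturality (homOfLE k).op) s
  have nat' : ∀ {A B : X.affineOpens} (k : A ≤ B) (s : G.1.obj (op (B : X.Opens))),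
      (φ A) (G.1.map (homOfLE (show (A : X.Opens) ≤ B from k)).op s) =
        F.map (homOfLE k).op ((φ B) s) :=
    fun k s => ConcreteCategory.congr_hom (e.hom.naturality (homOfLE k).op) s
  refine ⟨?_, ?_⟩
  · have hT : IsTerminal (G.1.obj (op (E : X.Opens))) := G.isTerminalOfEqEmpty hE
    have hu : Unique (G.1.obj (op (E : X.Opens))) := (Types.isTerminalEquivUnique _) hT
    exact ⟨⟨φ E default⟩, (φ E).symm.subsingleton⟩
  · intro U V W VW f g hVf hWg hVWfg hUeq hV hW h1 h2
    have hV' : (V : X.Opens) ≤ U := hV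
    have hW' : (W : X.Opens) ≤ U := hW
    have h1' : (VW : X.Opens) ≤ V := h1
    have h2' : (VW : X.Opens) ≤ W := h2
    have hVW : (V : X.Opens) ⊓ W ≤ VW := by
      rw [hVf, hWg, hVWfg, X.basicOpen_mul]
    refine ⟨?_, ?_⟩
    · intro s t hst
      have hs1 : F.map (homOfLE hV).op s = F.map (homOfLE hV).op t := congrArg Prod.fst hst
      have hs2 : F.map (homOfLE hW).op s = F.map (homOfLE hW).op t := congrArg Prod.snd hst
      apply (φ U).symm.injective
      refine G.eq_of_locally_eq₂ (homOfLE hV') (homOfLE hW') hUeq.le _ _ ?_ ?_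
      · rw [← nat hV, ← nat hV, hs1]
      · rw [← nat hW, ← nat hW, hs2]
    · ext ⟨p1, p2⟩
      constructor
      · rintro ⟨s, hs⟩
        obtain ⟨rfl, rfl⟩ := Prod.mk.inj hs
        show F.map (homOfLE h1).op (F.map (homOfLE hV).op s) =
          F.map (homOfLE h2).op (F.map (homOfLE hW).op s)
        rw [map_map_le, map_map_le]
      · intro h
        have h : F.map (homOfLE h1).op p1 = F.map (homOfLE h2).op p2 := h
        obtain ⟨s', hs1, hs2⟩ := G_glue G hV' hW' hUeq.le h1' h2' hVW ((φ V).symm p1)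
          ((φ W).symm p2) (by rw [← nat h1, ← nat h2, h])
        refine ⟨φ U s', ?_⟩
        show (F.map (homOfLE hV).op (φ U s'), F.map (homOfLE hW).op (φ U s')) = (p1, p2)
        rw [← nat' hV, ← nat' hW, hs1, hs2, Equiv.apply_symm_apply, Equiv.apply_symm_apply]

theorem main (X : Scheme.{u})
    (F : (X.affineOpens)ᵒᵖ ⥤ Type u) (E : X.affineOpens) (hE : (E : X.Opens) = ⊥) :
    (∃ G : TopCat.Sheaf (Type u) X.carrier,
        Nonempty ((Monotone.functor (f := fun U : X.affineOpens => (U : X.Opens)) (fun _ _ h => h)).op ⋙ G.1 ≅ F)) ↔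
    ((Nonempty (F.obj (op E)) ∧ Subsingleton (F.obj (op E))) ∧
      ∀ (U V W VW : X.affineOpens) (f g : Γ(X, (U : X.Opens))),
        (V : X.Opens) = X.basicOpen f → (W : X.Opens) = X.basicOpen g →
        (VW : X.Opens) = X.basicOpen (f * g) → (U : X.Opens) = (V : X.Opens) ⊔ (W : X.Opens) →
        ∀ (hV : V ≤ U) (hW : W ≤ U) (h1 : VW ≤ V) (h2 : VW ≤ W),
        Function.Injective (fun s : F.obj (op U) => (F.map (homOfLE hV).op s, F.map (homOfLE hW).op s)) ∧
        Set.range (fun s : F.obj (op U) => (F.map (homOfLE hV).op s, F.map (homOfLE hW).op s)) =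
          {p | F.map (homOfLE h1).op p.1 = F.map (homOfLE h2).op p.2}) := by
  constructor
  · rintro ⟨G, ⟨e⟩⟩
    exact forward G e hE
  · rintro ⟨hA, hB⟩
    exact exists_sheaf hA hE hB

end Groth.Agent.Lib27.AffBasisSheaf
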