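import Mathlib

/-!
# Affine stratifications of quasi-compact quasi-separated schemes
-/

set_option autoImplicit false
universe u

open AlgebraicGeometry CategoryTheory Limits TopologicalSpace

namespace Groth.Agent.Lib27.AffStrat

/-- `A` is the range of an affine immersion from an affine scheme. -/
def IsAffStratum (X : Scheme.{u}) (A : Set X) : Prop :=
  ∃ (Z : Scheme.{u}) (ι : Z ⟶ X), IsImmersion ι ∧ IsAffine Z ∧ IsAffineHom ι ∧ Set.range ι = A

lemma isAffStratum_empty (X : Scheme.{u}) : IsAffStratum X ∅ := by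
  refine ⟨⊥_ Scheme, initial.to X, inferInstance, inferInstance, ⟨fun U _ => ?_⟩, ?_⟩
  · exact @isAffine_of_isEmpty _ (Function.isEmpty (fun x : ((initial.to X) ⁻¹ᵁ U) => x.1))
  · ext x
    simp only [Set.mem_range, Set.mem_empty_iff_false, iff_false, not_exists]
    intro y
    exact isEmptyElim y

/-- An affine open intersected with a closed subset is the range of an immersion from an affine
scheme. -/
lemma exists_immersion_of_affineOpen_inter_closed (T : Scheme.{u}) (W : T.Opens)
    (hW : IsAffineOpen W) (C : Set T) (hC : IsClosed C) :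
    ∃ (Z : Scheme.{u}) (j : Z ⟶ T), IsImmersion j ∧ IsAffine Z ∧
      Set.range j = (W : Set T) ∩ C := by
  let F : TopologicalSpace.Closeds T := ⟨C, hC⟩
  let I := AlgebraicGeometry.Scheme.IdealSheafData.vanishingIdeal F
  haveI haff : IsAffine (I.subschemeι ⁻¹ᵁ W).toScheme := hW.preimage I.subschemeι
  refine ⟨(I.subschemeι ⁻¹ᵁ W).toScheme, (I.subschemeι ⁻¹ᵁ W).ι ≫ I.subschemeι,
    inferInstance, haff, ?_⟩
  rw [AlgebraicGeometry.Scheme.Hom.comp_base, TopCat.coe_comp, Set.range_comp,
    AlgebraicGeometry.Scheme.Opens.range_ι]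
  change I.subschemeι '' (I.subschemeι ⁻¹' (W : Set T)) = _
  rw [Set.image_preimage_eq_inter_range,
    AlgebraicGeometry.Scheme.IdealSheafData.range_subschemeι,
    AlgebraicGeometry.Scheme.IdealSheafData.coe_support_vanishingIdeal]
  rfl

lemma isAffineOpen_of_eq_univ_or_empty {Z : Scheme.{u}} [IsAffine Z] (V : Z.Opens)
    (h : (V : Set Z) = Set.univ ∨ (V : Set Z) = ∅) : IsAffineOpen V := by
  rcases h with h | h
  · have : V = ⊤ := by
      apply TopologicalSpace.Opens.ext
      simpa using h
    rw [this]
    exact isAffineOpen_top Z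
  · have : V = ⊥ := by
      apply TopologicalSpace.Opens.ext
      simpa using h
    rw [this]
    exact isAffineOpen_bot Z

lemma isAffineHom_of_cover {Z X : Scheme.{u}} (f : Z ⟶ X) {ι : Type*} (U : ι → X.Opens)
    (hU : ⨆ i, U i = ⊤) (hUa : ∀ i, IsAffineOpen (U i))
    (h : ∀ i, IsAffineOpen (f ⁻¹ᵁ U i)) : IsAffineHom f := by
  apply isAffineHom_of_forall_exists_isAffineOpen
  intro x
  have hx : x ∈ (⨆ i, U i : X.Opens) := by rw [hU]; trivial
  obtain ⟨i, hi⟩ := TopologicalSpace.Opens.mem_iSup.mp hx
  exact ⟨U i, hi, hUa i, h i⟩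

lemma mem_basicOpen_prod {T : Scheme.{u}} {M : ℕ} (f : Fin M → Γ(T, ⊤)) (s : Finset (Fin M))
    (y : T) : y ∈ T.basicOpen (∏ i ∈ s, f i) ↔ ∀ i ∈ s, y ∈ T.basicOpen (f i) := by
  classical
  induction s using Finset.induction_on with
  | empty =>
    simp only [Finset.prod_empty, Finset.notMem_empty, false_imp_iff, implies_true, iff_true]
    rw [AlgebraicGeometry.Scheme.basicOpen_of_isUnit T isUnit_one]
    trivial
  | insert a s ha ih =>
    rw [Finset.prod_insert ha, AlgebraicGeometry.Scheme.basicOpen_mul]
    simp only [Finset.mem_insert, forall_eq_or_imp]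
    rw [← ih]
    rfl

/-- Core lemma: an affine scheme immersed in a quasi-separated scheme `X` (with a chosen finite affine
cover) can be stratified into finitely many locally closed pieces, each affine and affine over
`X`. -/
theorem exists_strat_of_affine_immersion {X T : Scheme.{u}} [QuasiSeparatedSpace X] [IsAffine T]
    (t : T ⟶ X) [IsImmersion t] {N : ℕ} (U : Fin N → X.Opens) (hU : ⨆ i, U i = ⊤)
    (hUa : ∀ i, IsAffineOpen (U i)) :
    ∃ (κ : Type) (_ : LinearOrder κ) (_ : Fintype κ) (r : X → κ),
      (∀ k, IsClosed (t ⁻¹' {x | r x ≤ k})) ∧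
        ∀ k, IsAffStratum X {x | x ∈ Set.range t ∧ r x = k} := by
  classical
  have htinj : Function.Injective t := t.isEmbedding.injective
  have hcomp : ∀ a, IsCompact ((t ⁻¹ᵁ U a : T.Opens) : Set T) := fun a =>
    quasiCompact_iff_forall_isAffineOpen.mp inferInstance (U a) (hUa a)
  have hex : ∀ a, ∃ s : Set Γ(T, ⊤), s.Finite ∧
      ((t ⁻¹ᵁ U a : T.Opens) : Set T) = ⋃ i ∈ s, (T.basicOpen i : Set T) := fun a =>
    isCompact_and_isOpen_iff_finite_and_eq_biUnion_basicOpen.mp ⟨hcomp a, (t ⁻¹ᵁ U a).isOpen⟩
  choose F hFfin hFeq using hex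
  have hfin : (⋃ a, F a).Finite := Set.finite_iUnion hFfin
  obtain ⟨M, f, -, hfrange⟩ := hfin.fin_param
  let χ : T → Lex (Fin M → Bool) := fun y => toLex (fun m => decide (y ∈ T.basicOpen (f m)))
  let r : X → Lex (Fin M → Bool) :=
    fun x => toLex (fun m => decide (x ∈ t '' (T.basicOpen (f m) : Set T)))
  have hrχ : ∀ y, r (t y) = χ y := by
    intro y
    simp only [r, χ]
    congr 1
    funext m
    congr 1
    exact propext (htinj.mem_set_image)
  have hχm : ∀ y m, (ofLex (χ y)) m = true ↔ y ∈ T.basicOpen (f m) := by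
    intro y m
    simp [χ]
  refine ⟨Lex (Fin M → Bool), inferInstance, inferInstance, r, ?_, ?_⟩
  · intro k
    let Cl : (Fin M → Bool) → Set T := fun c => ⋂ m, {y | c m = true ∨ y ∉ T.basicOpen (f m)}
    have hCl : ∀ c, IsClosed (Cl c) := by
      intro c
      refine isClosed_iInter (fun m => ?_)
      by_cases hc : c m = true
      · have : {y : T | c m = true ∨ y ∉ T.basicOpen (f m)} = Set.univ := by
          ext y; simp [hc]
        rw [this]; exact isClosed_univ
      · have : {y : T | c m = true ∨ y ∉ T.basicOpen (f m)} = ((T.basicOpen (f m) : Set T))ᶜ := by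
          ext y; simp [hc]
        rw [this]; exact (T.basicOpen (f m)).isOpen.isClosed_compl
    have hset : t ⁻¹' {x | r x ≤ k} = ⋃ c ∈ {c : Lex (Fin M → Bool) | c ≤ k}, Cl (ofLex c) := by
      ext y
      simp only [Set.mem_preimage, Set.mem_setOf_eq, Set.mem_iUnion, exists_prop, hrχ]
      constructor
      · intro h
        refine ⟨χ y, h, ?_⟩
        simp only [Cl, Set.mem_iInter, Set.mem_setOf_eq]
        intro m
        by_cases hm : y ∈ T.basicOpen (f m)
        · exact Or.inl ((hχm y m).mpr hm)
        · exact Or.inr hm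
      · rintro ⟨c, hck, hy⟩
        refine le_trans ?_ hck
        have hpw : ofLex (χ y) ≤ ofLex c := by
          intro m
          simp only [Cl, Set.mem_iInter, Set.mem_setOf_eq] at hy
          rcases hy m with h | h
          · rw [h]; exact Bool.le_true _
          · have : (ofLex (χ y)) m = false := by
              rw [← Bool.not_eq_true, hχm]; exact h
            rw [this]; exact Bool.false_le _
        exact Pi.toLex_monotone hpw
    rw [hset]
    exact Set.Finite.isClosed_biUnion (Set.toFinite _) (fun c _ => hCl _)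
  · intro k
    let k' : Fin M → Bool := ofLex k
    let S : Finset (Fin M) := Finset.univ.filter (fun m => k' m = true)
    let g : Γ(T, ⊤) := ∏ i ∈ S, f i
    let W : T.Opens := T.basicOpen g
    have hW : IsAffineOpen W := (isAffineOpen_top T).basicOpen g
    let C : Set T := ⋂ m, {y | k' m = true ∨ y ∉ T.basicOpen (f m)}
    have hC : IsClosed C := by
      refine isClosed_iInter (fun m => ?_)
      by_cases hc : k' m = true
      · have : {y : T | k' m = true ∨ y ∉ T.basicOpen (f m)} = Set.univ := by
          ext y; simp [hc]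
        rw [this]; exact isClosed_univ
      · have : {y : T | k' m = true ∨ y ∉ T.basicOpen (f m)} = ((T.basicOpen (f m) : Set T))ᶜ := by
          ext y; simp [hc]
        rw [this]; exact (T.basicOpen (f m)).isOpen.isClosed_compl
    have hlevel : ∀ y, y ∈ (W : Set T) ∩ C ↔ χ y = k := by
      intro y
      simp only [Set.mem_inter_iff, SetLike.mem_coe, W, g, mem_basicOpen_prod, C, Set.mem_iInter,
        Set.mem_setOf_eq, S, Finset.mem_filter, Finset.mem_univ, true_and]
      constructor
      · rintro ⟨h1, h2⟩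
        apply ofLex_inj.mp
        funext m
        by_cases hm : k' m = true
        · rw [(hχm y m).mpr (h1 m hm)]; exact hm.symm
        · rcases h2 m with h | h
          · exact absurd h hm
          · have : (ofLex (χ y)) m = false := by
              rw [← Bool.not_eq_true, hχm]; exact h
            rw [this]
            exact (Bool.not_eq_true _).mp hm |>.symm
      · intro h
        have hk : ∀ m, k' m = true ↔ y ∈ T.basicOpen (f m) := by
          intro m
          rw [← hχm, h]
        refine ⟨fun m hm => (hk m).mp hm, fun m => ?_⟩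
        by_cases hm : k' m = true
        · exact Or.inl hm
        · exact Or.inr (fun hy => hm ((hk m).mpr hy))
    obtain ⟨Z, j, hj, hZ, hrange⟩ := exists_immersion_of_affineOpen_inter_closed T W hW C hC
    have hjχ : ∀ z : Z, χ (j z) = k := fun z => (hlevel _).mp (hrange ▸ Set.mem_range_self z)
    refine ⟨Z, j ≫ t, inferInstance, hZ, ?_, ?_⟩
    · refine isAffineHom_of_cover (j ≫ t) U hU hUa (fun a => ?_)
      apply isAffineOpen_of_eq_univ_or_empty
      by_cases hex : ∃ m, f m ∈ F a ∧ k' m = true
      · left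
        obtain ⟨m, hmF, hmk⟩ := hex
        ext z
        simp only [Set.mem_univ, iff_true]
        change t (j z) ∈ U a
        have h1 : j z ∈ ((t ⁻¹ᵁ U a : T.Opens) : Set T) := by
          rw [hFeq a]
          simp only [Set.mem_iUnion, exists_prop]
          refine ⟨f m, hmF, ?_⟩
          rw [SetLike.mem_coe, ← hχm, hjχ z]
          exact hmk
        exact h1
      · right
        ext z
        simp only [Set.mem_empty_iff_false, iff_false]
        intro hz
        have h1 : j z ∈ ((t ⁻¹ᵁ U a : T.Opens) : Set T) := hz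
        rw [hFeq a] at h1
        simp only [Set.mem_iUnion, exists_prop] at h1
        obtain ⟨f', hf'F, hf'⟩ := h1
        have : f' ∈ Set.range f := by
          rw [hfrange]; exact Set.mem_iUnion.mpr ⟨a, hf'F⟩
        obtain ⟨m, rfl⟩ := this
        apply hex
        refine ⟨m, hf'F, ?_⟩
        have := (hχm (j z) m).mpr hf'
        rw [hjχ z] at this
        exact this
    · rw [AlgebraicGeometry.Scheme.Hom.comp_base, TopCat.coe_comp, Set.range_comp, hrange]
      ext x
      simp only [Set.mem_image, Set.mem_setOf_eq, Set.mem_range]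
      constructor
      · rintro ⟨y, hy, rfl⟩
        exact ⟨⟨y, rfl⟩, by rw [hrχ]; exact (hlevel y).mp hy⟩
      · rintro ⟨⟨y, rfl⟩, hy⟩
        rw [hrχ] at hy
        exact ⟨y, (hlevel y).mpr hy, rfl⟩

/-- Inductive statement: the open `S` of `X` is stratified. Values of `s` outside `S` are junk. -/
def HasStratOn (X : Scheme.{u}) (S : X.Opens) : Prop :=
  ∃ (ι : Type) (_ : LinearOrder ι) (_ : Fintype ι) (s : X → ι),
    (∀ i, IsOpen {x | x ∈ S ∧ i < s x}) ∧ ∀ i, IsAffStratum X {x | x ∈ S ∧ s x = i}

theorem hasStratOn_bot (X : Scheme.{u}) : HasStratOn X ⊥ := by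
  refine ⟨PUnit, inferInstance, inferInstance, fun _ => ⟨⟩, fun i => ?_, fun i => ?_⟩
  · have : {x : X | x ∈ (⊥ : X.Opens) ∧ i < PUnit.unit} = ∅ := by
      ext x; simp
    rw [this]; exact isOpen_empty
  · have : {x : X | x ∈ (⊥ : X.Opens) ∧ PUnit.unit = i} = ∅ := by
      ext x; simp
    rw [this]; exact isAffStratum_empty X

theorem hasStratOn_sup {X : Scheme.{u}} [QuasiSeparatedSpace X] {N : ℕ} (U : Fin N → X.Opens)
    (hU : ⨆ i, U i = ⊤) (hUa : ∀ i, IsAffineOpen (U i)) (S V : X.Opens) (hV : IsAffineOpen V)
    (h : HasStratOn X S) : HasStratOn X (S ⊔ V) := by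
  classical
  obtain ⟨ι, _, _, s, hopen, hstr⟩ := h
  obtain ⟨T, t, ht, hT, hrange⟩ :=
    exists_immersion_of_affineOpen_inter_closed X V hV ((S : Set X)ᶜ) S.isOpen.isClosed_compl
  obtain ⟨κ, _, _, r, hcl, hrs⟩ := exists_strat_of_affine_immersion t U hU hUa
  have hmemT : ∀ x, x ∈ Set.range t ↔ x ∈ V ∧ x ∉ S := by
    intro x; rw [hrange]; rfl
  let s' : X → κ ⊕ₗ ι := fun x =>
    if x ∈ Set.range t then toLex (Sum.inl (r x)) else toLex (Sum.inr (s x))
  have hs'T : ∀ x, x ∈ Set.range t → s' x = toLex (Sum.inl (r x)) := fun x hx => if_pos hx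
  have hs'S : ∀ x, x ∉ Set.range t → s' x = toLex (Sum.inr (s x)) := fun x hx => if_neg hx
  have hSnT : ∀ x, x ∈ S → x ∉ Set.range t := fun x hx hx' => ((hmemT x).mp hx').2 hx
  refine ⟨κ ⊕ₗ ι, inferInstance, inferInstance, s', ?_, ?_⟩
  · intro i'
    obtain ⟨i', rfl⟩ := toLex.surjective i'
    rcases i' with k | i
    · obtain ⟨K, hK, hKeq⟩ := t.isEmbedding.isInducing.isClosed_iff.mp (hcl k)
      have : {x | x ∈ S ⊔ V ∧ toLex (Sum.inl k) < s' x} = (S : Set X) ∪ ((V : Set X) ∩ Kᶜ) := by
        ext x
        simp only [Set.mem_setOf_eq, Set.mem_union, Set.mem_inter_iff, SetLike.mem_coe,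
          Set.mem_compl_iff]
        by_cases hxS : x ∈ S
        · simp only [hxS, true_or, iff_true]
          refine ⟨TopologicalSpace.Opens.mem_sup.mpr (Or.inl hxS), ?_⟩
          rw [hs'S x (hSnT x hxS)]
          exact Sum.Lex.inl_lt_inr _ _
        · simp only [hxS, false_or]
          constructor
          · rintro ⟨hx, hlt⟩
            have hxV : x ∈ V := by
              rcases TopologicalSpace.Opens.mem_sup.mp hx with h | h
              · exact absurd h hxS
              · exact h
            have hxT : x ∈ Set.range t := (hmemT x).mpr ⟨hxV, hxS⟩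
            refine ⟨hxV, fun hxK => ?_⟩
            rw [hs'T x hxT, Sum.Lex.inl_lt_inl_iff] at hlt
            obtain ⟨y, rfl⟩ := hxT
            have : y ∈ t ⁻¹' K := hxK
            rw [hKeq] at this
            exact absurd this (not_le.mpr hlt)
          · rintro ⟨hxV, hxK⟩
            have hxT : x ∈ Set.range t := (hmemT x).mpr ⟨hxV, hxS⟩
            refine ⟨TopologicalSpace.Opens.mem_sup.mpr (Or.inr hxV), ?_⟩
            rw [hs'T x hxT, Sum.Lex.inl_lt_inl_iff]
            by_contra hle
            obtain ⟨y, rfl⟩ := hxT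
            have : y ∈ t ⁻¹' {x | r x ≤ k} := not_lt.mp hle
            rw [← hKeq] at this
            exact hxK this
      rw [this]
      exact S.isOpen.union (V.isOpen.inter hK.isOpen_compl)
    · have : {x | x ∈ S ⊔ V ∧ toLex (Sum.inr i) < s' x} = {x | x ∈ S ∧ i < s x} := by
        ext x
        simp only [Set.mem_setOf_eq]
        constructor
        · rintro ⟨hx, hlt⟩
          have hxT : x ∉ Set.range t := by
            intro hxT
            rw [hs'T x hxT] at hlt
            exact Sum.Lex.not_inr_lt_inl hlt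
          rw [hs'S x hxT, Sum.Lex.inr_lt_inr_iff] at hlt
          refine ⟨?_, hlt⟩
          by_contra hxS
          rcases TopologicalSpace.Opens.mem_sup.mp hx with h | h
          · exact hxS h
          · exact hxT ((hmemT x).mpr ⟨h, hxS⟩)
        · rintro ⟨hxS, hlt⟩
          refine ⟨TopologicalSpace.Opens.mem_sup.mpr (Or.inl hxS), ?_⟩
          rw [hs'S x (hSnT x hxS), Sum.Lex.inr_lt_inr_iff]
          exact hlt
      rw [this]
      exact hopen i
  · intro i'
    obtain ⟨i', rfl⟩ := toLex.surjective i'
    rcases i' with k | i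
    · have : {x | x ∈ S ⊔ V ∧ s' x = toLex (Sum.inl k)} = {x | x ∈ Set.range t ∧ r x = k} := by
        ext x
        simp only [Set.mem_setOf_eq]
        constructor
        · rintro ⟨hx, heq⟩
          have hxT : x ∈ Set.range t := by
            by_contra hxT
            rw [hs'S x hxT] at heq
            exact Sum.inr_ne_inl (toLex.injective heq)
          rw [hs'T x hxT] at heq
          exact ⟨hxT, Sum.inl_injective (toLex.injective heq)⟩
        · rintro ⟨hxT, heq⟩
          refine ⟨TopologicalSpace.Opens.mem_sup.mpr (Or.inr ((hmemT x).mp hxT).1), ?_⟩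
          rw [hs'T x hxT, heq]
      rw [this]
      exact hrs k
    · have : {x | x ∈ S ⊔ V ∧ s' x = toLex (Sum.inr i)} = {x | x ∈ S ∧ s x = i} := by
        ext x
        simp only [Set.mem_setOf_eq]
        constructor
        · rintro ⟨hx, heq⟩
          have hxT : x ∉ Set.range t := by
            intro hxT
            rw [hs'T x hxT] at heq
            exact Sum.inl_ne_inr (toLex.injective heq)
          rw [hs'S x hxT] at heq
          refine ⟨?_, Sum.inr_injective (toLex.injective heq)⟩
          by_contra hxS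
          rcases TopologicalSpace.Opens.mem_sup.mp hx with h | h
          · exact hxS h
          · exact hxT ((hmemT x).mpr ⟨h, hxS⟩)
        · rintro ⟨hxS, heq⟩
          refine ⟨TopologicalSpace.Opens.mem_sup.mpr (Or.inl hxS), ?_⟩
          rw [hs'S x (hSnT x hxS), heq]
      rw [this]
      exact hstr i

/-- A quasi-compact quasi-separated scheme has a finite affine stratification. -/
theorem exists_fin_strat (X : Scheme.{u}) [CompactSpace X] [QuasiSeparatedSpace X] :
    ∃ n : ℕ, ∃ s : X → Fin (n + 1), (∀ i, IsClosed {x | s x ≤ i}) ∧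
      ∀ i, IsAffStratum X {x | s x = i} := by
  classical
  obtain ⟨A, hAfin, hA⟩ := isCompact_iff_finite_and_eq_biUnion_affineOpens.mp
    (show IsCompact (X := X) ((⊤ : X.Opens) : Set X) from isCompact_univ)
  obtain ⟨N, U', -, hU'⟩ := hAfin.fin_param
  let U : Fin N → X.Opens := fun i => (U' i : X.Opens)
  have hU : ⨆ i, U i = ⊤ := by
    rw [hA, ← hU']
    simp only [U]
    rw [iSup_range]
  have hUa : ∀ i, IsAffineOpen (U i) := fun i => (U' i).2
  have key : HasStratOn X ⊤ :=
    compact_open_induction_on (P := HasStratOn X) ⊤ isCompact_univ (hasStratOn_bot X)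
      (fun S _ V h => hasStratOn_sup U hU hUa S V V.2 h)
  obtain ⟨ι, _, _, s, hopen, hstr⟩ := key
  by_cases hX : IsEmpty X
  · refine ⟨0, fun x => isEmptyElim x, fun i => ?_, fun i => ?_⟩
    · have : {x : X | (isEmptyElim x : Fin (0 + 1)) ≤ i} = ∅ := by
        ext x; exact isEmptyElim x
      rw [this]; exact isClosed_empty
    · have : {x : X | (isEmptyElim x : Fin (0 + 1)) = i} = ∅ := by
        ext x; exact isEmptyElim x
      rw [this]; exact isAffStratum_empty X
  · rw [not_isEmpty_iff] at hX
    obtain ⟨x₀⟩ := hX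
    haveI : Nonempty ι := ⟨s x₀⟩
    have hcard : Fintype.card ι = (Fintype.card ι - 1) + 1 :=
      (Nat.sub_add_cancel Fintype.card_pos).symm
    let e : ι ≃o Fin ((Fintype.card ι - 1) + 1) := (Fintype.orderIsoFinOfCardEq ι hcard).symm
    refine ⟨Fintype.card ι - 1, fun x => e (s x), fun i => ?_, fun i => ?_⟩
    · have : {x : X | e (s x) ≤ i} = {x | x ∈ (⊤ : X.Opens) ∧ e.symm i < s x}ᶜ := by
        ext x
        simp only [Set.mem_setOf_eq, Set.mem_compl_iff, TopologicalSpace.Opens.mem_top, true_and,
          not_lt]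
        rw [← e.le_iff_le, e.apply_symm_apply]
      rw [this]
      exact (hopen _).isClosed_compl
    · have : {x : X | e (s x) = i} = {x | x ∈ (⊤ : X.Opens) ∧ s x = e.symm i} := by
        ext x
        simp only [Set.mem_setOf_eq, TopologicalSpace.Opens.mem_top, true_and]
        constructor
        · intro h; rw [← h, e.symm_apply_apply]
        · intro h; rw [h, e.apply_symm_apply]
      rw [this]
      exact hstr _

/-- A scheme with a finite affine stratification is quasi-compact and quasi-separated. -/
theorem compactSpace_quasiSeparatedSpace_of_strat (X : Scheme.{u}) {n : ℕ} (s : X → Fin (n + 1))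
    (h : ∀ i, IsAffStratum X {x | s x = i}) : CompactSpace X ∧ QuasiSeparatedSpace X := by
  choose Z j hj hZ hja hrange using h
  constructor
  · rw [← isCompact_univ_iff]
    have : (Set.univ : Set X) = ⋃ i, Set.range (j i) := by
      ext x
      simp only [Set.mem_univ, Set.mem_iUnion, true_iff]
      exact ⟨s x, by rw [hrange]; rfl⟩
    rw [this]
    exact isCompact_iUnion (fun i => isCompact_range (j i).continuous)
  · rw [quasiSeparatedSpace_iff_forall_affineOpens]
    intro V W
    have : ((V : X.Opens) : Set X) ∩ ((W : X.Opens) : Set X) =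
        ⋃ i, (j i) '' ((((j i) ⁻¹ᵁ (V : X.Opens) : (Z i).Opens) : Set (Z i)) ∩
          (((j i) ⁻¹ᵁ (W : X.Opens) : (Z i).Opens) : Set (Z i))) := by
      ext x
      simp only [Set.mem_inter_iff, SetLike.mem_coe, Set.mem_iUnion, Set.mem_image]
      constructor
      · rintro ⟨hV, hW⟩
        have hx : x ∈ Set.range (j (s x)) := by rw [hrange]; rfl
        obtain ⟨z, hz⟩ := hx
        refine ⟨s x, z, ⟨?_, ?_⟩, hz⟩
        · change (j (s x)) z ∈ (V : X.Opens)
          rw [hz]; exact hV
        · change (j (s x)) z ∈ (W : X.Opens)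
          rw [hz]; exact hW
      · rintro ⟨i, z, ⟨hV, hW⟩, rfl⟩
        exact ⟨hV, hW⟩
    rw [this]
    refine isCompact_iUnion (fun i => IsCompact.image ?_ (j i).continuous)
    have := hZ i
    have := hja i
    exact IsCompact.inter_of_isOpen (V.2.preimage (j i)).isCompact (W.2.preimage (j i)).isCompact
      ((j i) ⁻¹ᵁ (V : X.Opens)).isOpen ((j i) ⁻¹ᵁ (W : X.Opens)).isOpen

end Groth.Agent.Lib27.AffStrat
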