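import Mathlib
import Groth.Agent.Lib27.Sch.AffStrat

/-!
# Affine stratification number of a Noetherian scheme is at most its dimension
-/

set_option autoImplicit false
universe u

open AlgebraicGeometry CategoryTheory Limits TopologicalSpace

namespace Groth.Agent.Lib27.AffStrat

/-- A disjoint union of two affine opens is an affine open. -/
lemma isAffineOpen_sup_of_disjoint {X : Scheme.{u}} {U V : X.Opens} (hU : IsAffineOpen U)
    (hV : IsAffineOpen V) (hd : Disjoint U V) : IsAffineOpen (U ⊔ V) := by
  let f : (U : Scheme.{u}) ⟶ ((U ⊔ V : X.Opens) : Scheme.{u}) := X.homOfLE le_sup_left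
  let g : (V : Scheme.{u}) ⟶ ((U ⊔ V : X.Opens) : Scheme.{u}) := X.homOfLE le_sup_right
  have hf : f.opensRange = (U ⊔ V : X.Opens).ι ⁻¹ᵁ U := X.opensRange_homOfLE le_sup_left
  have hg : g.opensRange = (U ⊔ V : X.Opens).ι ⁻¹ᵁ V := X.opensRange_homOfLE le_sup_right
  have hc : IsCompl f.opensRange g.opensRange := by
    rw [hf, hg]
    constructor
    · rw [disjoint_iff]
      apply TopologicalSpace.Opens.ext
      ext x
      simp only [TopologicalSpace.Opens.coe_inf, Set.mem_inter_iff, SetLike.mem_coe,
        TopologicalSpace.Opens.coe_bot, Set.mem_empty_iff_false, iff_false, not_and]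
      intro h1 h2
      have : ((U ⊔ V : X.Opens).ι x) ∈ U ⊓ V := ⟨h1, h2⟩
      rw [disjoint_iff.mp hd] at this
      exact this
    · rw [codisjoint_iff]
      apply TopologicalSpace.Opens.ext
      ext x
      simp only [TopologicalSpace.Opens.coe_sup, Set.mem_union, SetLike.mem_coe,
        TopologicalSpace.Opens.coe_top, Set.mem_univ, iff_true]
      have : ((U ⊔ V : X.Opens).ι x) ∈ U ⊔ V := x.2
      exact TopologicalSpace.Opens.mem_sup.mp this
  obtain ⟨H⟩ := nonempty_isColimit_binaryCofanMk_of_isCompl f g hc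
  have hUa : IsAffine (U : Scheme.{u}) := hU
  have hVa : IsAffine (V : Scheme.{u}) := hV
  let e : ((U ⊔ V : X.Opens) : Scheme.{u}) ≅ ((U : Scheme.{u}) ⨿ (V : Scheme.{u})) :=
    H.coconePointUniqueUpToIso (colimit.isColimit _)
  exact IsAffine.of_isIso e.hom

/-- A finite pairwise disjoint union of affine opens is an affine open. -/
lemma isAffineOpen_biSup_of_pairwise_disjoint {X : Scheme.{u}} {ι : Type*} (s : Finset ι)
    (A : ι → X.Opens) (hA : ∀ i ∈ s, IsAffineOpen (A i))
    (hd : ∀ i ∈ s, ∀ j ∈ s, i ≠ j → Disjoint (A i) (A j)) : IsAffineOpen (⨆ i ∈ s, A i) := by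
  classical
  induction s using Finset.induction_on with
  | empty =>
    simp only [Finset.notMem_empty, not_false_eq_true, iSup_neg, iSup_bot]
    exact isAffineOpen_bot X
  | insert a s ha ih =>
    rw [Finset.iSup_insert]
    refine isAffineOpen_sup_of_disjoint (hA a (Finset.mem_insert_self a s))
      (ih (fun i hi => hA i (Finset.mem_insert_of_mem hi))
        (fun i hi j hj hij => hd i (Finset.mem_insert_of_mem hi) j
          (Finset.mem_insert_of_mem hj) hij)) ?_
    rw [disjoint_iSup₂_iff]
    intro i hi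
    refine hd a (Finset.mem_insert_self a s) i (Finset.mem_insert_of_mem hi) ?_
    rintro rfl
    exact ha hi

/-- On a Noetherian scheme there is a dense affine open whose inclusion is an affine morphism. -/
theorem exists_dense_affineOpen_isAffineHom (X : Scheme.{u}) [IsNoetherian X] :
    ∃ U : X.Opens, IsAffineOpen U ∧ Dense (U : Set X) ∧ IsAffineHom U.ι := by
  classical
  have hfin : (irreducibleComponents X).Finite :=
    TopologicalSpace.NoetherianSpace.finite_irreducibleComponents
  -- a finite affine cover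
  obtain ⟨𝒱, h𝒱fin, h𝒱⟩ := isCompact_iff_finite_and_eq_biUnion_affineOpens.mp
    (show IsCompact (X := X) ((⊤ : X.Opens) : Set X) from isCompact_univ)
  obtain ⟨N, V', -, hV'⟩ := h𝒱fin.fin_param
  let V : Fin N → X.Opens := fun i => (V' i : X.Opens)
  have hV : ⨆ i, V i = ⊤ := by
    rw [h𝒱, ← hV']
    simp only [V]
    rw [iSup_range]
  have hVa : ∀ i, IsAffineOpen (V i) := fun i => (V' i).2
  -- the open parts of the components
  let O : Set X → Set X := fun Z => (⋃₀ (irreducibleComponents X \ {Z}))ᶜ
  have hOopen : ∀ Z, IsOpen (O Z) := by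
    intro Z
    simp only [O]
    rw [Set.sUnion_eq_biUnion, isOpen_compl_iff]
    exact hfin.sdiff.isClosed_biUnion fun W hW ↦ isClosed_of_mem_irreducibleComponents W hW.1
  have hOcl : ∀ Z ∈ irreducibleComponents X, closure (O Z) = Z := fun Z hZ =>
    closure_sUnion_irreducibleComponents_sdiff_singleton hfin Z hZ
  have hOsub : ∀ Z ∈ irreducibleComponents X, O Z ⊆ Z := fun Z hZ =>
    subset_closure.trans (hOcl Z hZ).le
  have hOne : ∀ Z ∈ irreducibleComponents X, (O Z).Nonempty := by
    intro Z hZ
    by_contra h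
    rw [Set.not_nonempty_iff_eq_empty] at h
    have := hOcl Z hZ
    rw [h, closure_empty] at this
    exact hZ.1.nonempty.ne_empty this.symm
  have hOdisj : ∀ Z ∈ irreducibleComponents X, ∀ Z' ∈ irreducibleComponents X, Z ≠ Z' →
      Disjoint (O Z) (O Z') := by
    intro Z hZ Z' hZ' hne
    rw [Set.disjoint_left]
    intro x hx hx'
    apply hx
    exact Set.mem_sUnion.mpr ⟨Z', ⟨hZ', fun h => hne h.symm⟩, hOsub Z' hZ' hx'⟩
  have hOirr : ∀ Z ∈ irreducibleComponents X, IsIrreducible (O Z) := fun Z hZ =>
    ⟨hOne Z hZ, hZ.1.isPreirreducible.open_subset (hOopen Z) (hOsub Z hZ)⟩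
  -- choose affine opens
  have hex : ∀ Z ∈ irreducibleComponents X, ∃ A : X.Opens, IsAffineOpen A ∧
      (A : Set X).Nonempty ∧ (A : Set X) ⊆ O Z ∧ ∀ i, (A ≤ V i ∨ Disjoint A (V i)) := by
    intro Z hZ
    let T : Finset (Set X) :=
      (Finset.univ.filter (fun i : Fin N => (O Z ∩ (V i : Set X)).Nonempty)).image
        (fun i => (V i : Set X))
    have hT1 : ∀ u ∈ T, IsOpen u := by
      intro u hu
      simp only [T, Finset.mem_image, Finset.mem_filter, Finset.mem_univ, true_and] at hu
      obtain ⟨i, -, rfl⟩ := hu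
      exact (V i).isOpen
    have hT2 : ∀ u ∈ T, (O Z ∩ u).Nonempty := by
      intro u hu
      simp only [T, Finset.mem_image, Finset.mem_filter, Finset.mem_univ, true_and] at hu
      obtain ⟨i, hi, rfl⟩ := hu
      exact hi
    obtain ⟨x, hxO, hxT⟩ := isIrreducible_iff_sInter.mp (hOirr Z hZ) T hT1 hT2
    have hopen : IsOpen (O Z ∩ ⋂₀ (↑T : Set (Set X))) :=
      (hOopen Z).inter (T.finite_toSet.isOpen_sInter hT1)
    obtain ⟨A, hAaff, hxA, hAsub⟩ :=
      TopologicalSpace.Opens.isBasis_iff_nbhd.mp X.isBasis_affineOpens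
        (U := ⟨O Z ∩ ⋂₀ (↑T : Set (Set X)), hopen⟩) (x := x) ⟨hxO, hxT⟩
    refine ⟨A, hAaff, ⟨x, hxA⟩, fun y hy => (hAsub hy).1, fun i => ?_⟩
    by_cases hi : (O Z ∩ (V i : Set X)).Nonempty
    · left
      intro y hy
      have h1 := (hAsub hy).2
      have h2 : (V i : Set X) ∈ (↑T : Set (Set X)) := by
        simp only [T, Finset.coe_image, Finset.coe_filter, Finset.mem_univ, true_and,
          Set.mem_image, Set.mem_setOf_eq]
        exact ⟨i, hi, rfl⟩
      exact Set.mem_sInter.mp h1 _ h2
    · right
      rw [disjoint_iff]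
      apply TopologicalSpace.Opens.ext
      ext y
      simp only [TopologicalSpace.Opens.coe_inf, Set.mem_inter_iff, SetLike.mem_coe,
        TopologicalSpace.Opens.coe_bot, Set.mem_empty_iff_false, iff_false, not_and]
      intro hyA hyV
      exact hi ⟨y, (hAsub hyA).1, hyV⟩
  choose! A hAaff hAne hAsub hAV using hex
  let s : Finset (Set X) := hfin.toFinset
  have hs : ∀ Z, Z ∈ s ↔ Z ∈ irreducibleComponents X := fun Z => hfin.mem_toFinset
  have hAdisj : ∀ Z ∈ s, ∀ Z' ∈ s, Z ≠ Z' → Disjoint (A Z) (A Z') := by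
    intro Z hZ Z' hZ' hne
    rw [disjoint_iff]
    apply TopologicalSpace.Opens.ext
    ext y
    simp only [TopologicalSpace.Opens.coe_inf, Set.mem_inter_iff, SetLike.mem_coe,
      TopologicalSpace.Opens.coe_bot, Set.mem_empty_iff_false, iff_false, not_and]
    intro h1 h2
    exact Set.disjoint_left.mp (hOdisj Z ((hs Z).mp hZ) Z' ((hs Z').mp hZ') hne)
      (hAsub Z ((hs Z).mp hZ) h1) (hAsub Z' ((hs Z').mp hZ') h2)
  refine ⟨⨆ Z ∈ s, A Z, ?_, ?_, ?_⟩
  · exact isAffineOpen_biSup_of_pairwise_disjoint s A
      (fun Z hZ => hAaff Z ((hs Z).mp hZ)) hAdisj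
  · rw [dense_iff_closure_eq, Set.eq_univ_iff_forall]
    intro x
    have hx : x ∈ ⋃₀ irreducibleComponents X := by
      rw [sUnion_irreducibleComponents]; trivial
    obtain ⟨Z, hZ, hxZ⟩ := Set.mem_sUnion.mp hx
    have h1 : Z ⊆ closure (Z ∩ (A Z : Set X)) :=
      subset_closure_inter_of_isPreirreducible_of_isOpen hZ.1.isPreirreducible (A Z).isOpen
        (by
          obtain ⟨y, hy⟩ := hAne Z hZ
          exact ⟨y, hOsub Z hZ (hAsub Z hZ hy), hy⟩)
    refine closure_mono ?_ (h1 hxZ)
    intro y hy
    have : A Z ≤ ⨆ Z ∈ s, A Z := le_iSup₂ (f := fun Z (_ : Z ∈ s) => A Z) Z ((hs Z).mpr hZ)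
    exact this hy.2
  · refine isAffineHom_of_cover _ V hV hVa (fun i => ?_)
    rw [← Scheme.Hom.isAffineOpen_iff_of_isOpenImmersion (⨆ Z ∈ s, A Z).ι,
      Scheme.Hom.image_preimage_eq_opensRange_inf, Scheme.Opens.opensRange_ι]
    have hU : (⨆ Z ∈ s, A Z) ⊓ V i = ⨆ Z ∈ s.filter (fun Z => A Z ≤ V i), A Z := by
      rw [iSup₂_inf_eq]
      apply le_antisymm
      · refine iSup₂_le (fun Z hZ => ?_)
        rcases hAV Z ((hs Z).mp hZ) i with h | h
        · refine le_trans inf_le_left ?_
          exact le_iSup₂ (f := fun Z (_ : Z ∈ s.filter (fun Z => A Z ≤ V i)) => A Z) Z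
            (Finset.mem_filter.mpr ⟨hZ, h⟩)
        · rw [disjoint_iff.mp h]; exact bot_le
      · refine iSup₂_le (fun Z hZ => ?_)
        obtain ⟨hZs, hZV⟩ := Finset.mem_filter.mp hZ
        refine le_trans (le_inf le_rfl hZV) ?_
        exact le_iSup₂ (f := fun Z (_ : Z ∈ s) => A Z ⊓ V i) Z hZs
    rw [hU]
    exact isAffineOpen_biSup_of_pairwise_disjoint _ A
      (fun Z hZ => hAaff Z ((hs Z).mp (Finset.mem_filter.mp hZ).1))
      (fun Z hZ Z' hZ' hne => hAdisj Z (Finset.mem_filter.mp hZ).1 Z'
        (Finset.mem_filter.mp hZ').1 hne)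

/-- A closed subspace missing a dense open subset of a Noetherian space has smaller dimension. -/
theorem topologicalKrullDim_lt_of_isClosedEmbedding_of_dense {X' X : Type*} [TopologicalSpace X']
    [TopologicalSpace X] [NoetherianSpace X] {f : X' → X} (hf : Topology.IsClosedEmbedding f)
    (U : Set X) (hUd : Dense U) (hfU : Set.range f ⊆ Uᶜ) (n : ℕ)
    (h : topologicalKrullDim X < ((n + 1 : ℕ) : WithBot ℕ∞)) :
    topologicalKrullDim X' < ((n : ℕ) : WithBot ℕ∞) := by
  have hfin : (irreducibleComponents X).Finite :=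
    TopologicalSpace.NoetherianSpace.finite_irreducibleComponents
  unfold topologicalKrullDim at h ⊢
  rw [Order.krullDim_lt_coe_iff] at h ⊢
  intro l
  let l₁ : LTSeries (IrreducibleCloseds X) :=
    l.map (IrreducibleCloseds.map f hf.continuous)
      (IrreducibleCloseds.map_strictMono_of_isInducing hf.isInducing)
  let T : IrreducibleCloseds X := l₁.last
  have hT : (T : Set X) ⊆ Set.range f := by
    have : (T : Set X) = closure (f '' (l.last : Set X')) := by
      simp only [T, l₁, LTSeries.last_map]
      rfl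
    rw [this]
    exact closure_minimal (Set.image_subset_range _ _) hf.isClosed_range
  obtain ⟨C, hCpre, hTC, hCmax⟩ := exists_preirreducible (T : Set X)
    T.isIrreducible.isPreirreducible
  have hCirr : IsIrreducible C := ⟨T.isIrreducible.nonempty.mono hTC, hCpre⟩
  have hC : C ∈ irreducibleComponents X := by
    refine ⟨hCirr, fun u hu hCu => ?_⟩
    exact (hCmax u hu.isPreirreducible hCu).le
  have hCcl : IsClosed C := isClosed_of_mem_irreducibleComponents C hC
  let C' : IrreducibleCloseds X := ⟨C, hCirr, hCcl⟩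
  have hO : closure (⋃₀ (irreducibleComponents X \ {C}))ᶜ = C :=
    closure_sUnion_irreducibleComponents_sdiff_singleton hfin C hC
  have hOopen : IsOpen (⋃₀ (irreducibleComponents X \ {C}))ᶜ := by
    rw [Set.sUnion_eq_biUnion, isOpen_compl_iff]
    exact hfin.sdiff.isClosed_biUnion fun W hW ↦ isClosed_of_mem_irreducibleComponents W hW.1
  have hOne : ((⋃₀ (irreducibleComponents X \ {C}))ᶜ).Nonempty := by
    by_contra hne
    rw [Set.not_nonempty_iff_eq_empty] at hne
    rw [hne, closure_empty] at hO
    exact hCirr.nonempty.ne_empty hO.symm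
  obtain ⟨x, hxO, hxU⟩ := hUd.inter_open_nonempty _ hOopen hOne
  have hxC : x ∈ C := hO ▸ subset_closure hxO
  have hlt : T < C' := by
    refine lt_of_le_of_ne hTC ?_
    intro heq
    have : x ∈ (T : Set X) := by rw [heq]; exact hxC
    exact hfU (hT this) hxU
  let l₂ : LTSeries (IrreducibleCloseds X) := l₁.snoc C' hlt
  have hlen : l₂.length = l.length + 1 := by
    simp [l₂, l₁]
  have := h l₂
  rw [hlen] at this
  exact Nat.lt_of_succ_lt_succ this

/-- A Noetherian scheme of dimension `< n` has an affine stratification indexed by `Fin n`. -/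
theorem exists_strat_of_dim_lt : ∀ (n : ℕ) (X : Scheme.{u}) [IsNoetherian X],
    topologicalKrullDim X < ((n : ℕ) : WithBot ℕ∞) →
    ∃ s : X → Fin n, (∀ i, IsClosed {x | s x ≤ i}) ∧ ∀ i, IsAffStratum X {x | s x = i} := by
  classical
  intro n
  induction n with
  | zero =>
    intro X _ hdim
    have hX : IsEmpty X := by
      by_contra hne
      rw [not_isEmpty_iff] at hne
      obtain ⟨x⟩ := hne
      have : Nonempty (IrreducibleCloseds X) :=
        ⟨⟨closure {x}, isIrreducible_singleton.closure, isClosed_closure⟩⟩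
      have h0 : (0 : WithBot ℕ∞) ≤ topologicalKrullDim X := Order.krullDim_nonneg
      exact absurd (lt_of_le_of_lt h0 hdim) (by simp)
    exact ⟨fun x => isEmptyElim x, fun i => Fin.elim0 i, fun i => Fin.elim0 i⟩
  | succ n ih =>
    intro X _ hdim
    obtain ⟨U, hUaff, hUd, hUι⟩ := exists_dense_affineOpen_isAffineHom X
    let F : TopologicalSpace.Closeds X := ⟨(U : Set X)ᶜ, U.isOpen.isClosed_compl⟩
    let I := AlgebraicGeometry.Scheme.IdealSheafData.vanishingIdeal F
    let ι : I.subscheme ⟶ X := I.subschemeι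
    have hrange : Set.range ι = (U : Set X)ᶜ := by
      simp only [ι]
      rw [AlgebraicGeometry.Scheme.IdealSheafData.range_subschemeι,
        AlgebraicGeometry.Scheme.IdealSheafData.coe_support_vanishingIdeal]
      rfl
    have hce : Topology.IsClosedEmbedding ι := ι.isClosedEmbedding
    have hinj : Function.Injective ι := hce.injective
    have hloc : IsLocallyNoetherian I.subscheme := LocallyOfFiniteType.isLocallyNoetherian ι
    have hcomp : CompactSpace I.subscheme := hce.compactSpace
    have hnoeth : IsNoetherian I.subscheme := { }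
    have hdim' : topologicalKrullDim I.subscheme < ((n : ℕ) : WithBot ℕ∞) :=
      topologicalKrullDim_lt_of_isClosedEmbedding_of_dense hce (U : Set X) hUd hrange.le n hdim
    obtain ⟨s', hcl', hstr'⟩ := ih I.subscheme hdim'
    let s : X → Fin (n + 1) := fun x =>
      if h : x ∈ Set.range ι then (s' (Classical.choose h)).castSucc else Fin.last n
    have hsι : ∀ y, s (ι y) = (s' y).castSucc := by
      intro y
      have h : ι y ∈ Set.range ι := ⟨y, rfl⟩
      simp only [s, dif_pos h]
      congr 2
      exact hinj (Classical.choose_spec h)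
    have hsU : ∀ x, x ∉ Set.range ι → s x = Fin.last n := fun x hx => dif_neg hx
    have hlast : ∀ x, s x = Fin.last n ↔ x ∉ Set.range ι := by
      intro x
      constructor
      · rintro h ⟨y, rfl⟩
        rw [hsι] at h
        exact (Fin.castSucc_lt_last _).ne h
      · exact hsU x
    refine ⟨s, fun i => ?_, fun i => ?_⟩
    · induction i using Fin.lastCases with
      | last =>
        have : {x | s x ≤ Fin.last n} = Set.univ := by
          ext x; simp [Fin.le_last]
        rw [this]; exact isClosed_univ
      | cast i' =>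
        have : {x | s x ≤ i'.castSucc} = ι '' {y | s' y ≤ i'} := by
          ext x
          simp only [Set.mem_setOf_eq, Set.mem_image]
          constructor
          · intro h
            have hx : x ∈ Set.range ι := by
              by_contra hx
              rw [hsU x hx] at h
              exact absurd (lt_of_le_of_lt h (Fin.castSucc_lt_last _)) (lt_irrefl _)
            obtain ⟨y, rfl⟩ := hx
            rw [hsι, Fin.castSucc_le_castSucc_iff] at h
            exact ⟨y, h, rfl⟩
          · rintro ⟨y, hy, rfl⟩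
            rw [hsι, Fin.castSucc_le_castSucc_iff]
            exact hy
        rw [this]
        exact hce.isClosedMap _ (hcl' i')
    · induction i using Fin.lastCases with
      | last =>
        have : {x | s x = Fin.last n} = (U : Set X) := by
          ext x
          simp only [Set.mem_setOf_eq]
          rw [hlast, hrange]
          simp
        rw [this]
        exact ⟨U, U.ι, inferInstance, hUaff, hUι, Scheme.Opens.range_ι U⟩
      | cast i' =>
        have : {x | s x = i'.castSucc} = ι '' {y | s' y = i'} := by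
          ext x
          simp only [Set.mem_setOf_eq, Set.mem_image]
          constructor
          · intro h
            have hx : x ∈ Set.range ι := by
              by_contra hx
              rw [hsU x hx] at h
              exact (Fin.castSucc_lt_last _).ne h.symm
            obtain ⟨y, rfl⟩ := hx
            rw [hsι] at h
            exact ⟨y, Fin.castSucc_injective _ h, rfl⟩
          · rintro ⟨y, hy, rfl⟩
            rw [hsι, hy]
        rw [this]
        obtain ⟨Z, j, hj, hZ, hja, hjr⟩ := hstr' i'
        refine ⟨Z, j ≫ ι, inferInstance, hZ, inferInstance, ?_⟩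
        rw [AlgebraicGeometry.Scheme.Hom.comp_base, TopCat.coe_comp, Set.range_comp, hjr]

end Groth.Agent.Lib27.AffStrat
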