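import Mathlib
import Groth.Agent.Lib27.Sch.AdmBlowup

/-!
# Aligned sections under the weak Néron mapping property are closed immersions
-/

set_option autoImplicit false
universe u

open AlgebraicGeometry CategoryTheory Limits TopologicalSpace

namespace Groth.Agent.Lib27.AlignedSep

/-- An immersion into a locally Noetherian scheme is quasi-compact. -/
lemma quasiCompact_of_isImmersion {X Y : Scheme.{u}} (f : X ⟶ Y) [IsImmersion f]
    [IsLocallyNoetherian Y] : QuasiCompact f := by
  apply quasiCompact_iff_forall_isAffineOpen.mpr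
  intro U hU
  have hN : IsNoetherianRing Γ(Y, U) := IsLocallyNoetherian.component_noetherian ⟨U, hU⟩
  have hNS : NoetherianSpace U := noetherianSpace_of_isAffineOpen U hU
  rw [f.isEmbedding.isInducing.isCompact_iff]
  have hsub : f '' (f ⁻¹' (U : Set Y)) ⊆ (U : Set Y) := Set.image_preimage_subset _ _
  have : f '' (f ⁻¹' (U : Set Y)) =
      Subtype.val '' ((Subtype.val : U → Y) ⁻¹' (f '' (f ⁻¹' (U : Set Y)))) := by
    rw [Set.image_preimage_eq_inter_range (f := (Subtype.val : U → Y)), Subtype.range_coe]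
    exact (Set.inter_eq_left.mpr hsub).symm
  change IsCompact (f '' (f ⁻¹' (U : Set Y)))
  rw [this]
  exact (@NoetherianSpace.isCompact _ _ hNS _).image continuous_subtype_val

/-- The canonical morphism to the scheme-theoretic image is scheme-theoretically dominant. -/
lemma ker_toImage_eq_bot {X Y : Scheme.{u}} (f : X ⟶ Y) : f.toImage.ker = ⊥ := by
  let J := f.toImage.ker
  let j : J.subscheme ⟶ f.image := J.subschemeι
  have h1 : (j ≫ f.imageι).ker ≤ f.imageι.ker := by
    have hfac : f.toImage.toImage ≫ (j ≫ f.imageι) = f := by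
      rw [← Category.assoc]
      change (f.toImage.toImage ≫ f.toImage.imageι) ≫ f.imageι = f
      rw [Scheme.Hom.toImage_imageι, Scheme.Hom.toImage_imageι]
    calc (j ≫ f.imageι).ker ≤ (f.toImage.toImage ≫ (j ≫ f.imageι)).ker :=
          Scheme.Hom.le_ker_comp _ _
      _ = f.ker := by rw [hfac]
      _ = f.imageι.ker := (Scheme.IdealSheafData.ker_subschemeι _).symm
  let l : f.image ⟶ J.subscheme := IsClosedImmersion.lift (j ≫ f.imageι) f.imageι h1
  have hl : l ≫ j ≫ f.imageι = f.imageι := IsClosedImmersion.lift_fac _ _ _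
  have hl' : l ≫ j = 𝟙 _ := by
    rw [← cancel_mono f.imageι, Category.assoc, hl, Category.id_comp]
  have hjl : j ≫ l = 𝟙 _ := by
    rw [← cancel_mono j, Category.assoc, hl', Category.comp_id, Category.id_comp]
  have : IsIso j := ⟨l, hjl, hl'⟩
  exact (Scheme.isIso_subschemeι_iff_eq_bot J).mp this

/-- Under the weak Néron mapping property (injectivity on étale test schemes suffices), an aligned
section of a smooth scheme mapping monomorphically to `G`, separated over the dense open, is a
closed immersion. -/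
theorem isClosedImmersion_section_of_aligned {S : Scheme.{u}} [IsLocallyNoetherian S]
    (S₀ : S.Opens) (hS₀ : S₀.ι.ker = ⊥) (G : Over S)
    (hG : ∀ U : Over S, Etale U.hom →
      Function.Injective (fun g : U ⟶ G => (Over.pullback S₀.ι).map g))
    {H : Scheme.{u}} (h : H ⟶ S) [Smooth h] (j : H ⟶ G.left) (hj : j ≫ G.hom = h) [Mono j]
    (u : S ⟶ H) (hu : u ≫ h = 𝟙 S) (hal : Etale (u.ker.subschemeι ≫ h))
    (h0 : IsSeparated (pullback.snd h S₀.ι)) : IsClosedImmersion u := by
  have himm : IsImmersion u := by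
    have : IsImmersion (u ≫ h) := by rw [hu]; infer_instance
    exact IsImmersion.of_comp u h
  have hHN : IsLocallyNoetherian H := LocallyOfFiniteType.isLocallyNoetherian h
  have hqc : QuasiCompact u := quasiCompact_of_isImmersion u
  let ιE : u.image ⟶ H := u.imageι
  let u' : S ⟶ u.image := u.toImage
  have hu' : u' ≫ ιE = u := u.toImage_imageι
  have hu'ker : u'.ker = ⊥ := ker_toImage_eq_bot u
  have hu'dom : IsSchemeTheoreticallyDominant u' := ⟨hu'ker⟩
  have hu'qc : QuasiCompact u' := inferInstance
  let e : u.image ⟶ S := ιE ≫ h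
  have he : Etale e := hal
  -- the part over `S₀`
  let pr₁ : pullback e S₀.ι ⟶ u.image := pullback.fst e S₀.ι
  let pr₂ : pullback e S₀.ι ⟶ S₀.toScheme := pullback.snd e S₀.ι
  have hcond : pr₁ ≫ e = pr₂ ≫ S₀.ι := pullback.condition
  let d : pullback u' pr₁ ⟶ pullback e S₀.ι := pullback.snd u' pr₁
  have hd : IsSchemeTheoreticallyDominant d := inferInstance
  have hdcond : pullback.fst u' pr₁ ≫ u' = d ≫ pr₁ := pullback.condition
  let a₀ : pullback e S₀.ι ⟶ H := pr₁ ≫ ιE
  let b₀ : pullback e S₀.ι ⟶ H := pr₁ ≫ e ≫ u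
  have ha₀ : a₀ ≫ h = pr₂ ≫ S₀.ι := by
    simp only [a₀, Category.assoc]; exact hcond
  have hb₀ : b₀ ≫ h = pr₂ ≫ S₀.ι := by
    simp only [b₀, Category.assoc, hu, Category.comp_id]; exact hcond
  let a₁ : pullback e S₀.ι ⟶ pullback h S₀.ι := pullback.lift a₀ pr₂ ha₀
  let b₁ : pullback e S₀.ι ⟶ pullback h S₀.ι := pullback.lift b₀ pr₂ hb₀
  have hab : a₁ = b₁ := by
    refine Groth.Agent.Lib27.AdmBlowup.ext_of_ker_eq_bot_of_isSeparated
      (pullback.snd h S₀.ι) ?_ d hd.ker_eq_bot ?_
    · simp only [a₁, b₁, pullback.lift_snd]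
    · apply pullback.hom_ext
      · simp only [a₁, b₁, Category.assoc, pullback.lift_fst, a₀, b₀]
        rw [← Category.assoc d, ← hdcond, Category.assoc, hu']
        rw [← Category.assoc d pr₁, ← hdcond]
        simp only [e, Category.assoc]
        rw [← Category.assoc u' ιE, hu', ← Category.assoc u h, hu, Category.id_comp]
      · simp only [a₁, b₁, Category.assoc, pullback.lift_snd]
  have hab₀ : a₀ = b₀ := by
    have := congrArg (fun t => t ≫ pullback.fst h S₀.ι) hab
    simpa only [a₁, b₁, pullback.lift_fst] using this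
  -- weak Néron mapping property
  let U : Over S := Over.mk e
  let A : U ⟶ G := Over.homMk (ιE ≫ j) (by
    simp only [Category.assoc, hj]; rfl)
  let B : U ⟶ G := Over.homMk ((e ≫ u) ≫ j) (by
    simp only [Category.assoc, hj, hu, Category.comp_id]; rfl)
  have hAB : (Over.pullback S₀.ι).map A = (Over.pullback S₀.ι).map B := by
    ext1
    simp only [Over.pullback_map_left]
    apply pullback.hom_ext
    · simp only [pullback.lift_fst]
      change pr₁ ≫ (ιE ≫ j) = pr₁ ≫ ((e ≫ u) ≫ j)
      have := congrArg (fun t => t ≫ j) hab₀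
      simpa only [a₀, b₀, Category.assoc] using this
    · simp only [pullback.lift_snd]
  have hAB' : A = B := hG U he hAB
  have hι : ιE = e ≫ u := by
    have := congrArg (fun t => t.left) hAB'
    have h2 : ιE ≫ j = (e ≫ u) ≫ j := this
    exact (cancel_mono j).mp h2
  -- `u'` is an isomorphism
  have h1 : u' ≫ e = 𝟙 S := by
    simp only [e]
    rw [← Category.assoc, hu', hu]
  have h2 : e ≫ u' = 𝟙 _ := by
    rw [← cancel_mono ιE, Category.assoc, hu', Category.id_comp, ← hι]
  have : IsIso u' := ⟨e, h1, h2⟩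
  rw [← hu']
  infer_instance

end Groth.Agent.Lib27.AlignedSep
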