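import Mathlib.AlgebraicGeometry.Morphisms.Separated
import Mathlib.AlgebraicGeometry.Morphisms.ClosedImmersion

/-!
# A faithful action of a finite group on an integral separated scheme is almost free
-/

set_option autoImplicit false
universe u

open CategoryTheory AlgebraicGeometry Limits

namespace Groth.Agent.Lib27.AlmostFree

variable {X : Scheme.{u}}

/-- The fixed locus of an endomorphism. -/
noncomputable abbrev fixSet (φ : X ⟶ X) : Set X := Set.range (equalizer.ι φ (𝟙 X)).base

lemma range_subset_fixSet (φ : X ⟶ X) {T : Scheme.{u}} (p : T ⟶ X) (hp : p ≫ φ = p) :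
    Set.range p.base ⊆ fixSet φ := by
  rintro _ ⟨t, rfl⟩
  refine ⟨(equalizer.lift p (by rw [hp, Category.comp_id])).base t, ?_⟩
  rw [← Scheme.Hom.comp_apply, equalizer.lift_ι]

lemma isClosed_fixSet [X.IsSeparated] (φ : X ⟶ X) : IsClosed (fixSet φ) :=
  (Scheme.Hom.isClosedEmbedding (equalizer.ι φ (𝟙 X))).isClosed_range

lemma eq_id_of_fixSet_eq_univ [X.IsSeparated] [IsReduced X] (φ : X ⟶ X)
    (h : fixSet φ = Set.univ) : φ = 𝟙 X := by
  haveI : Surjective (equalizer.ι φ (𝟙 X)) := ⟨by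
    intro x
    have : x ∈ fixSet φ := by rw [h]; trivial
    exact this⟩
  haveI := isIso_of_isClosedImmersion_of_surjective (equalizer.ι φ (𝟙 X))
  rw [← cancel_epi (equalizer.ι φ (𝟙 X))]
  exact equalizer.condition _ _

lemma image_fixSet_subset (φ ψ φ' : X ⟶ X) (h : ψ ≫ φ' = φ ≫ ψ) :
    ψ.base '' fixSet φ ⊆ fixSet φ' := by
  have := range_subset_fixSet φ' (equalizer.ι φ (𝟙 X) ≫ ψ) (by
    rw [Category.assoc, h, ← Category.assoc, equalizer.condition, Category.comp_id])
  rintro _ ⟨_, ⟨z, rfl⟩, rfl⟩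
  apply this
  exact ⟨z, by rw [Scheme.Hom.comp_apply]⟩

theorem main [X.IsSeparated] [IsIntegral X] (G : Type u) [Group G] [Finite G]
    (ρ : G →* Aut X) (hfaith : Function.Injective ρ) :
    ∃ U : X.Opens, (U : Set X).Nonempty ∧ (∀ g : G, (ρ g).hom ⁻¹ᵁ U = U) ∧
      ∀ (T : Scheme.{u}) [Nonempty T] (x : T ⟶ X), Set.range x.base ⊆ (U : Set X) →
        ∀ g : G, x ≫ (ρ g).hom = x → g = 1 := by
  classical
  have hfin : (Set.univ : Set G).Finite := Set.finite_univ
  let B : Set X := ⋃ g ∈ {g : G | g ≠ 1}, fixSet (ρ g).hom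
  have hBclosed : IsClosed B :=
    Set.Finite.isClosed_biUnion (Set.toFinite _) fun g _ => isClosed_fixSet _
  let U : X.Opens := ⟨Bᶜ, hBclosed.isOpen_compl⟩
  have hproper : ∀ g : G, g ≠ 1 → fixSet (ρ g).hom ≠ Set.univ := by
    intro g hg h
    apply hg
    apply hfaith
    rw [map_one]
    apply Iso.ext
    exact eq_id_of_fixSet_eq_univ _ h
  -- stability
  have hstab : ∀ (h : G) (x : X), x ∈ B → (ρ h).hom.base x ∈ B := by
    intro h x hx
    simp only [B, Set.mem_iUnion] at hx ⊢
    obtain ⟨g, hg, hxg⟩ := hx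
    refine ⟨h * g * h⁻¹, ?_, ?_⟩
    · intro h1
      apply hg
      have : h * g = h := by
        have := congrArg (· * h) h1
        simpa using this
      simpa using this
    · apply image_fixSet_subset (ρ g).hom (ρ h).hom (ρ (h * g * h⁻¹)).hom ?_ ⟨x, hxg, rfl⟩
      have e1 : (ρ h).hom ≫ (ρ (h * g * h⁻¹)).hom = (ρ (h * g * h⁻¹ * h)).hom := by
        rw [map_mul ρ (h * g * h⁻¹) h]; rfl
      have e2 : (ρ g).hom ≫ (ρ h).hom = (ρ (h * g)).hom := by
        rw [map_mul ρ h g]; rfl
      rw [e1, e2, show h * g * h⁻¹ * h = h * g by group]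
  refine ⟨U, ?_, ?_, ?_⟩
  · -- nonempty
    change (Bᶜ : Set X).Nonempty
    have hirr : IsPreirreducible (Set.univ : Set X) :=
      (IrreducibleSpace.isIrreducible_univ X).isPreirreducible
    by_contra hne
    rw [Set.not_nonempty_iff_eq_empty, Set.compl_empty_iff] at hne
    have hcov : (Set.univ : Set X) ⊆ ⋃ g ∈ ({g : G | g ≠ 1} : Set G), fixSet (ρ g).hom := by
      rw [← hne]
    obtain ⟨g, hg, hsub⟩ := (isIrreducible_iff_sUnion_isClosed.mp
      (IrreducibleSpace.isIrreducible_univ X)) ((Set.toFinite {g : G | g ≠ 1}).toFinset.image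
        fun g => fixSet (ρ g).hom) (by
          intro Z hZ
          simp only [Finset.mem_image] at hZ
          obtain ⟨g, _, rfl⟩ := hZ
          exact isClosed_fixSet _) (by
          intro x hx
          have := hcov hx
          simp only [Set.mem_iUnion] at this
          obtain ⟨g, hg, hxg⟩ := this
          refine Set.mem_sUnion.mpr ⟨fixSet (ρ g).hom, ?_, hxg⟩
          simp only [Finset.coe_image, Set.mem_image, Finset.mem_coe, Set.Finite.mem_toFinset]
          exact ⟨g, hg, rfl⟩)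
    simp only [Finset.mem_image, Set.Finite.mem_toFinset] at hg
    obtain ⟨g', hg', rfl⟩ := hg
    exact hproper g' hg' (Set.univ_subset_iff.mp hsub)
  · intro h
    ext x
    change (ρ h).hom.base x ∈ Bᶜ ↔ x ∈ Bᶜ
    simp only [Set.mem_compl_iff, not_iff_not]
    constructor
    · intro hx
      have := hstab h⁻¹ _ hx
      rwa [← Scheme.Hom.comp_apply, show (ρ h).hom ≫ (ρ h⁻¹).hom = (ρ (h⁻¹ * h)).hom from by
        rw [map_mul ρ h⁻¹ h]; rfl, inv_mul_cancel, map_one] at this
    · exact hstab h x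
  · intro T _ x hx g hxg
    by_contra hg
    obtain ⟨t⟩ := ‹Nonempty T›
    have h1 : x.base t ∈ fixSet (ρ g).hom := range_subset_fixSet _ x hxg ⟨t, rfl⟩
    have h2 : x.base t ∈ B := by
      simp only [B, Set.mem_iUnion]
      exact ⟨g, hg, h1⟩
    exact hx ⟨t, rfl⟩ h2

end Groth.Agent.Lib27.AlmostFree
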