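import Mathlib
import Groth.Agent.Lib.Helper25.BlowUpExist
import Groth.Agent.Lib.Helper25.BlowUpFinType

/-!
# A blowing up in an ideal of finite type is proper (helper27)
-/

set_option autoImplicit false

universe u

open CategoryTheory CategoryTheory.Limits AlgebraicGeometry TopologicalSpace Polynomial

namespace Groth.Agent.Lib27.BlowUpProper

open Groth.Agent.Lib.Helper25.BlowUpUP Groth.Agent.Lib.Helper25.ProjRees

section Affine

variable {A : Type u} [CommRing A] (I : Ideal A)

lemma algebraMap_deg_zero_surjective :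
    Function.Surjective (algebraMap A (Rees.deg (reesAlgebra I) 0)) := by
  intro x
  refine ⟨((x : reesAlgebra I) : A[X]).coeff 0, ?_⟩
  apply Subtype.ext
  apply Subtype.ext
  change (algebraMap A A[X]) (((x : reesAlgebra I) : A[X]).coeff 0) = ((x : reesAlgebra I) : A[X])
  refine Polynomial.ext fun m => ?_
  rw [Polynomial.algebraMap_apply, Algebra.algebraMap_self_apply, Polynomial.coeff_C]
  split_ifs with h
  · rw [h]
  · exact (x.2 m h).symm

theorem isProper_proj (hI : I.FG) : IsProper (proj I) := by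
  haveI h1 : Algebra.FiniteType A (reesAlgebra I) :=
    ⟨(reesAlgebra I).fg_top.mpr (reesAlgebra.fg hI)⟩
  haveI h0 : IsScalarTower A (Rees.deg (reesAlgebra I) 0) (reesAlgebra I) :=
    IsScalarTower.of_algebraMap_eq (R := A) (S := Rees.deg (reesAlgebra I) 0)
      (A := reesAlgebra I) (fun x => by
        change algebraMap A (reesAlgebra I) x =
          ((algebraMap A (Rees.deg (reesAlgebra I) 0) x : Rees.deg (reesAlgebra I) 0) :
            reesAlgebra I)
        rfl)
  haveI h2 : Algebra.FiniteType (Rees.deg (reesAlgebra I) 0) (reesAlgebra I) :=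
    Algebra.FiniteType.of_restrictScalars_finiteType A _ _
  haveI : IsProper (Proj.toSpecZero (Rees.deg (reesAlgebra I))) := inferInstance
  haveI : IsClosedImmersion
      (Spec.map (CommRingCat.ofHom (R := A) (S := (Rees.deg (reesAlgebra I) 0))
        (algebraMap A (Rees.deg (reesAlgebra I) 0)))) :=
    IsClosedImmersion.spec_of_surjective (CommRingCat.ofHom (R := A)
      (S := (Rees.deg (reesAlgebra I) 0)) (algebraMap A (Rees.deg (reesAlgebra I) 0)))
      (algebraMap_deg_zero_surjective I)
  change IsProper (Proj.toSpecZero _ ≫ Spec.map _)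
  infer_instance

end Affine

/-- a blowing up of an affine scheme in an ideal of finite type is proper. -/
theorem isProper_of_isBlowUp_of_isAffine (Z : Scheme.{u}) [IsAffine Z] (𝓙 : Z.IdealSheafData)
    (h𝓙 : BlowUp.IsFiniteTypeIdeal 𝓙) {P : Scheme.{u}} (p : P ⟶ Z)
    (hp : BlowUp.IsBlowUp p 𝓙) : IsProper p := by
  have h1 : BlowUp.IsBlowUp (proj (𝓙.ideal ⟨⊤, isAffineOpen_top Z⟩) ≫ Z.isoSpec.inv) 𝓙 := by
    have := isBlowUp_comp_iso_inv _ _ Z.isoSpec
      (isBlowUp_proj (𝓙.ideal ⟨⊤, isAffineOpen_top Z⟩))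
    rwa [specIdeal_comap_isoSpec_hom] at this
  haveI := isProper_proj _ (h𝓙 ⟨⊤, isAffineOpen_top Z⟩)
  obtain ⟨e, he⟩ := exists_iso_of_isBlowUp p _ 𝓙 hp h1
  rw [← he]
  infer_instance

/-- **a blowing up in an ideal of finite type is proper.** -/
theorem isProper_of_isBlowUp {Z Y : Scheme.{u}} (π : Y ⟶ Z) (C : Z.IdealSheafData)
    (hπ : BlowUp.IsBlowUp π C) (hC : BlowUp.IsFiniteTypeIdeal C) : IsProper π := by
  refine IsZariskiLocalAtTarget.of_openCover (P := @IsProper) Z.affineCover (fun i => ?_)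
  have h1 : BlowUp.IsBlowUp (pullback.fst (Z.affineCover.f i) π) (C.comap (Z.affineCover.f i)) :=
    isBlowUp_pullback_fst_of_flat _ C π hπ
  have h2 : BlowUp.IsBlowUp (pullback.snd π (Z.affineCover.f i))
      (C.comap (Z.affineCover.f i)) := by
    have := isBlowUp_iso_comp _ _ (pullbackSymmetry π (Z.affineCover.f i)) h1
    rwa [pullbackSymmetry_hom_comp_fst] at this
  exact isProper_of_isBlowUp_of_isAffine _ _ (isFiniteTypeIdeal_comap _ _ hC) _ h2

end Groth.Agent.Lib27.BlowUpProper
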