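import Mathlib
import Groth.Agent.Lib27.Sch.AdmBlowup
import Groth.Agent.Lib27.Sch.BlowUpProper

/-!
# The universal property of the ambient product up to admissible blow-up (helper27)
-/

set_option autoImplicit false

universe u

open CategoryTheory CategoryTheory.Limits AlgebraicGeometry TopologicalSpace

namespace Groth.Agent.Lib27.AmbProdUP

open Groth.Agent.Lib.Helper25.BlowUpUP Groth.Agent.Lib27.ImageCartier

variable {X Y Z S T P : Scheme.{u}}

/-- a morphism which is an isomorphism over an open is an isomorphism over any smaller open. -/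
theorem isIso_restrict_of_le (f : X ⟶ Y) (U V : Y.Opens) (h : V ≤ U) [IsIso (f ∣_ U)] :
    IsIso (f ∣_ V) := by
  have sq1 := (isPullback_morphismRestrict f V).flip
  have sq3 := (isPullback_morphismRestrict f U).flip
  have hι : Y.homOfLE h ≫ U.ι = V.ι := Scheme.homOfLE_ι Y h
  rw [← hι] at sq1
  have left := IsPullback.of_right' sq1 sq3
  have h' : (MorphismProperty.isomorphisms Scheme) (f ∣_ U) := ‹IsIso (f ∣_ U)›
  exact (MorphismProperty.isomorphisms Scheme).of_isPullback left h'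

/-- the sum of two locally principal ideal sheaves is of finite type. -/
theorem isFiniteTypeIdeal_sup {A B : P.IdealSheafData} (hA : LocPrin A) (hB : LocPrin B) :
    BlowUp.IsFiniteTypeIdeal (A ⊔ B) := by
  refine isFiniteTypeIdeal_of_local _ (fun x => ?_)
  obtain ⟨V, s₁, s₂, hxV, hAV, hBV⟩ := exists_common_principal_chart hA hB x
  refine ⟨V, hxV, ?_⟩
  change (A.ideal V ⊔ B.ideal V).FG
  rw [hAV, hBV]
  exact Submodule.FG.sup ⟨{s₁}, by simp⟩ ⟨{s₂}, by simp⟩

/-- if `K * (A ⊔ B) = A * B` with `A ⊔ B` effective Cartier, then any ideal contained in both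
`A` and `B` is contained in `K`. -/
theorem le_of_le_of_le (A B K L : P.IdealSheafData) (hA : LocPrin A) (hB : LocPrin B)
    (hE : BlowUp.IsEffCartierIdeal (A ⊔ B)) (hK : K * (A ⊔ B) = A * B) (hLA : L ≤ A)
    (hLB : L ≤ B) : L ≤ K := by
  choose U e a b hyU he hEU hAU hBU hKU using
    Groth.Agent.Lib27.AmbProd.exists_chart A B K hA hB hE hK
  have hcov : ⨆ y, (U y).1 = ⊤ := by
    rw [eq_top_iff]
    intro x _
    exact Opens.mem_iSup.mpr ⟨x, hyU x⟩
  refine Scheme.IdealSheafData.le_of_iSup_eq_top U hcov (fun y => ?_)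
  intro l hl
  rw [hKU y]
  -- `x a + y b = 1`
  have h1 : e y ∈ A.ideal (U y) ⊔ B.ideal (U y) := by
    have : e y ∈ (A ⊔ B).ideal (U y) := by rw [hEU y]; exact Ideal.mem_span_singleton_self _
    exact this
  rw [hAU y, hBU y] at h1
  obtain ⟨p, hp, q, hq, hpq⟩ := Submodule.mem_sup.mp h1
  obtain ⟨x₁, rfl⟩ := Ideal.mem_span_singleton'.mp hp
  obtain ⟨y₁, rfl⟩ := Ideal.mem_span_singleton'.mp hq
  have h2 : (x₁ * a y + y₁ * b y) * e y = 1 * e y := by
    have h0 : (x₁ * a y + y₁ * b y) * e y = x₁ * (a y * e y) + y₁ * (b y * e y) := by ring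
    rw [h0, hpq, one_mul]
  have h3 : x₁ * a y + y₁ * b y = 1 := (mul_cancel_right_mem_nonZeroDivisors (he y)).mp h2
  have hlA : l ∈ A.ideal (U y) := hLA (U y) hl
  have hlB : l ∈ B.ideal (U y) := hLB (U y) hl
  rw [hAU y] at hlA
  rw [hBU y] at hlB
  obtain ⟨u, hu⟩ := Ideal.mem_span_singleton'.mp hlA
  obtain ⟨v, hv⟩ := Ideal.mem_span_singleton'.mp hlB
  have h4 : l = (x₁ * v + y₁ * u) * (a y * b y * e y) := by
    calc l = (x₁ * a y + y₁ * b y) * l := by rw [h3, one_mul]
      _ = x₁ * a y * l + y₁ * b y * l := by ring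
      _ = x₁ * a y * (v * (b y * e y)) + y₁ * b y * (u * (a y * e y)) := by
          rw [hv, hu]
      _ = (x₁ * v + y₁ * u) * (a y * b y * e y) := by ring
  rw [h4]
  exact Ideal.mul_mem_left _ _ (Ideal.mem_span_singleton_self _)

/-- **uniqueness**: two ambient morphisms into the ambient product with the same projections are
equal. -/
theorem hom_ext (f : X ⟶ S) (g : T ⟶ S) (I : X.IdealSheafData) (J : T.IdealSheafData)
    (π : Y ⟶ ModPair.mprod f g I J) (K : Y.IdealSheafData)
    (hY : ModPair.IsAmbProd f g I J π K)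
    (hKX : ModPair.IsAmbient K I (π ≫ ModPair.mprodι f g I J ≫ pullback.fst f g))
    (L : Z.IdealSheafData) (hL : BlowUp.IsEffCartierIdeal L) (c c' : Z ⟶ Y)
    (hc : ModPair.IsAmbient L K c)
    (h1 : c ≫ π ≫ ModPair.mprodι f g I J ≫ pullback.snd f g =
      c' ≫ π ≫ ModPair.mprodι f g I J ≫ pullback.snd f g)
    (h2 : c ≫ π ≫ ModPair.mprodι f g I J ≫ pullback.fst f g =
      c' ≫ π ≫ ModPair.mprodι f g I J ≫ pullback.fst f g) : c = c' := by
  have hπ : c ≫ π = c' ≫ π := by
    rw [← cancel_mono (ModPair.mprodι f g I J)]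
    apply pullback.hom_ext
    · simpa only [Category.assoc] using h2
    · simpa only [Category.assoc] using h1
  have hKX' : K ≤ (I.comap (ModPair.mprodι f g I J ≫ pullback.fst f g)).comap π := by
    rw [← Scheme.IdealSheafData.comap_comp]; exact hKX
  have hc' : L ≤ K.comap c := hc
  have hle : L ≤ ((ModPair.prodCentre f g I J).comap π).comap c := by
    refine hc'.trans (Scheme.IdealSheafData.comap_mono c (hKX'.trans ?_))
    rw [Groth.Agent.Lib27.AmbProdMP.comap_prodCentre]
    exact le_sup_left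
  have hEff : BlowUp.IsEffCartierIdeal ((ModPair.prodCentre f g I J).comap (c ≫ π)) := by
    rw [Scheme.IdealSheafData.comap_comp]
    exact Groth.Agent.Lib27.EqLocus.isEffCartierIdeal_comap_of_le L _ hL hY.1.1 c hle
  obtain ⟨h, -, hu⟩ := hY.1.2 Z (c ≫ π) hEff
  rw [hu c rfl, hu c' hπ.symm]

/-- **existence**: a pair of compatible ambient morphisms lifts to the ambient product after an
admissible blow-up of the source. -/
theorem exists_lift (f : X ⟶ S) (g : T ⟶ S) (I : X.IdealSheafData) (J : T.IdealSheafData)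
    (hX : BlowUp.IsEffCartierIdeal I) (hT : BlowUp.IsEffCartierIdeal J)
    (π : Y ⟶ ModPair.mprod f g I J) (K : Y.IdealSheafData)
    (hY : ModPair.IsAmbProd f g I J π K)
    (L : Z.IdealSheafData) (hL : BlowUp.IsEffCartierIdeal L) (a : Z ⟶ T) (b : Z ⟶ X)
    (ha : ModPair.IsAmbient L J a) (hb : ModPair.IsAmbient L I b) (hab : a ≫ g = b ≫ f) :
    ∃ (Z' : Scheme.{u}) (β : Z' ⟶ Z) (c : Z' ⟶ Y), BlowUp.IsEffCartierIdeal (L.comap β) ∧
      ModPair.IsAdmBlowup (L.comap β) L β ∧ ModPair.IsAmbient (L.comap β) K c ∧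
      c ≫ π ≫ ModPair.mprodι f g I J ≫ pullback.snd f g = β ≫ a ∧
      c ≫ π ≫ ModPair.mprodι f g I J ≫ pullback.fst f g = β ≫ b := by
  have ha' : L ≤ J.comap a := ha
  have hb' : L ≤ I.comap b := hb
  have hTa : BlowUp.IsEffCartierIdeal (J.comap a) :=
    Groth.Agent.Lib27.EqLocus.isEffCartierIdeal_comap_of_le L J hL hT a ha'
  have hXb : BlowUp.IsEffCartierIdeal (I.comap b) :=
    Groth.Agent.Lib27.EqLocus.isEffCartierIdeal_comap_of_le L I hL hX b hb'
  obtain ⟨c₀, hc₀⟩ : ∃ c₀ : Z ⟶ pullback f g, c₀ = pullback.lift b a hab.symm := ⟨_, rfl⟩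
  have hc₀1 : c₀ ≫ pullback.fst f g = b := by rw [hc₀]; exact pullback.lift_fst _ _ _
  have hc₀2 : c₀ ≫ pullback.snd f g = a := by rw [hc₀]; exact pullback.lift_snd _ _ _
  -- factor through the closure of the product of the interiors
  have hW'set : ((c₀ ⁻¹ᵁ ModPair.prodInterior f g I J : Z.Opens) : Set Z) =
      (((I.comap b).support : Set Z))ᶜ ∩ (((J.comap a).support : Set Z))ᶜ := by
    rw [Scheme.IdealSheafData.support_comap, Scheme.IdealSheafData.support_comap]
    ext w
    have e1 : pullback.fst f g (c₀ w) = b w := by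
      rw [← Scheme.Hom.comp_apply, hc₀1]
    have e2 : pullback.snd f g (c₀ w) = a w := by
      rw [← Scheme.Hom.comp_apply, hc₀2]
    change (pullback.fst f g (c₀ w) ∉ I.support ∧ pullback.snd f g (c₀ w) ∉ J.support) ↔
      (b w ∉ I.support ∧ a w ∉ J.support)
    rw [e1, e2]
  have hW'ker : (c₀ ⁻¹ᵁ ModPair.prodInterior f g I J).ι.ker = ⊥ :=
    Groth.Agent.Lib27.ModPairProd.ker_ι_eq_bot_of_compl_supports _ _ hXb hTa _ hW'set
  have hker : (ModPair.prodInterior f g I J).ι.ker ≤ c₀.ker := by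
    calc (ModPair.prodInterior f g I J).ι.ker
        ≤ ((c₀ ∣_ ModPair.prodInterior f g I J) ≫ (ModPair.prodInterior f g I J).ι).ker :=
          Scheme.Hom.le_ker_comp _ _
      _ = ((c₀ ⁻¹ᵁ ModPair.prodInterior f g I J).ι ≫ c₀).ker := by
          rw [morphismRestrict_ι]
      _ = (c₀ ⁻¹ᵁ ModPair.prodInterior f g I J).ι.ker.map c₀ := Scheme.Hom.ker_comp _ _
      _ = c₀.ker := by rw [hW'ker, Scheme.IdealSheafData.map_bot]
  have hker' : (ModPair.mprodι f g I J).ker ≤ c₀.ker := by
    rw [Scheme.IdealSheafData.ker_subschemeι]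
    exact hker
  obtain ⟨c₁, hc₁⟩ : ∃ c₁ : Z ⟶ ModPair.mprod f g I J, c₁ ≫ ModPair.mprodι f g I J = c₀ :=
    ⟨IsClosedImmersion.lift (ModPair.mprodι f g I J) c₀ hker', IsClosedImmersion.lift_fac _ _ _⟩
  have hc₁1 : c₁ ≫ ModPair.mprodι f g I J ≫ pullback.fst f g = b := by
    rw [← Category.assoc, hc₁, hc₀1]
  have hc₁2 : c₁ ≫ ModPair.mprodι f g I J ≫ pullback.snd f g = a := by
    rw [← Category.assoc, hc₁, hc₀2]
  -- the centre on `Z`
  have hCZ : (ModPair.prodCentre f g I J).comap c₁ = I.comap b ⊔ J.comap a := by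
    rw [Groth.Agent.Lib27.AmbProdMP.comap_prodCentre, ← Scheme.IdealSheafData.comap_comp,
      ← Scheme.IdealSheafData.comap_comp, hc₁1, hc₁2]
  have hAZ : LocPrin (I.comap b) := locPrin_comap (locPrin_of_isEffCartier hX) _
  have hBZ : LocPrin (J.comap a) := locPrin_comap (locPrin_of_isEffCartier hT) _
  have hCft : BlowUp.IsFiniteTypeIdeal (I.comap b ⊔ J.comap a) := isFiniteTypeIdeal_sup hAZ hBZ
  obtain ⟨Z', β, hβ⟩ := exists_isBlowUp Z (I.comap b ⊔ J.comap a)
  -- `β` is an admissible blow-up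
  have hLβ : BlowUp.IsEffCartierIdeal (L.comap β) :=
    isEffCartierIdeal_comap_of_isBlowUp _ β hβ L hL
  haveI hβprop : IsProper β :=
    Groth.Agent.Lib27.BlowUpProper.isProper_of_isBlowUp β _ hβ hCft
  have hβiso : IsIso (β ∣_ ModPair.interior L) := by
    haveI : IsIso (β ∣_ (I.comap b ⊔ J.comap a).support.compl) :=
      isIso_restrict_compl_support _ β hβ
    refine isIso_restrict_of_le β (I.comap b ⊔ J.comap a).support.compl _ ?_
    intro z hz hz'
    exact hz (Scheme.IdealSheafData.support_antitone (hb'.trans le_sup_left) hz')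
  -- the lift to the blow-up `Y`
  have hEff : BlowUp.IsEffCartierIdeal ((ModPair.prodCentre f g I J).comap (β ≫ c₁)) := by
    rw [Scheme.IdealSheafData.comap_comp, hCZ]
    exact hβ.1
  obtain ⟨c, hc, -⟩ := hY.1.2 Z' (β ≫ c₁) hEff
  have hc' : c ≫ π = β ≫ c₁ := hc
  have hcfst : c ≫ π ≫ ModPair.mprodι f g I J ≫ pullback.fst f g = β ≫ b := by
    rw [← Category.assoc, hc', Category.assoc, hc₁1]
  have hcsnd : c ≫ π ≫ ModPair.mprodι f g I J ≫ pullback.snd f g = β ≫ a := by
    rw [← Category.assoc, hc', Category.assoc, hc₁2]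
  refine ⟨Z', β, c, hLβ, ⟨rfl, hβprop, hβiso⟩, ?_, hcsnd, hcfst⟩
  -- the modulus condition for `c`
  change L.comap β ≤ K.comap c
  have hA' : ((I.comap (ModPair.mprodι f g I J ≫ pullback.fst f g)).comap π).comap c =
      (I.comap b).comap β := by
    rw [← Scheme.IdealSheafData.comap_comp, ← Scheme.IdealSheafData.comap_comp,
      ← Scheme.IdealSheafData.comap_comp, Category.assoc, hcfst]
  have hB' : ((J.comap (ModPair.mprodι f g I J ≫ pullback.snd f g)).comap π).comap c =
      (J.comap a).comap β := by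
    rw [← Scheme.IdealSheafData.comap_comp, ← Scheme.IdealSheafData.comap_comp,
      ← Scheme.IdealSheafData.comap_comp, Category.assoc, hcsnd]
  have hsup : (I.comap b ⊔ J.comap a).comap β = (I.comap b).comap β ⊔ (J.comap a).comap β :=
    (Scheme.IdealSheafData.map_gc β).l_sup
  have hKc : K.comap c * ((I.comap b).comap β ⊔ (J.comap a).comap β) =
      (I.comap b).comap β * (J.comap a).comap β := by
    have h0 := congrArg (fun M : Y.IdealSheafData => M.comap c) hY.2
    simp only [Groth.Agent.Lib.Helper1.comap_mul] at h0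
    rw [← Scheme.IdealSheafData.comap_comp (f := c) (g := π), hc',
      Scheme.IdealSheafData.comap_comp, hCZ, hsup, hA', hB'] at h0
    exact h0
  refine le_of_le_of_le _ _ _ _ (locPrin_comap hAZ β) (locPrin_comap hBZ β) ?_ hKc
    (Scheme.IdealSheafData.comap_mono β hb') (Scheme.IdealSheafData.comap_mono β ha')
  rw [← hsup]
  exact hβ.1

end Groth.Agent.Lib27.AmbProdUP
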