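import Mathlib.AlgebraicGeometry.Morphisms.UniversallyOpen
import Mathlib.AlgebraicGeometry.Morphisms.ClosedImmersion
import Mathlib.AlgebraicGeometry.Morphisms.QuasiCompact
import Mathlib.AlgebraicGeometry.PullbackCarrier
import Mathlib.AlgebraicGeometry.Pullbacks
import Mathlib.RingTheory.Artinian.Module
import Mathlib.RingTheory.KrullDimension.Zero

/-!
# Dominant morphisms and products over an Artinian local ring
-/

set_option autoImplicit false
universe u
open CategoryTheory CategoryTheory.Limits AlgebraicGeometry MonoidalCategory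

namespace Groth.Agent.Lib27.ArtinDominant

lemma exists_preimage_of_isPullback {P W X' X : Scheme.{u}} {a : P ⟶ W} {b : P ⟶ X'} {h : W ⟶ X}
    {f : X' ⟶ X} (sq : IsPullback a b h f) (w : W) (x' : X') (e : h w = f x') :
    ∃ z : P, a z = w ∧ b z = x' := by
  obtain ⟨z, hz1, hz2⟩ := Scheme.Pullback.exists_preimage_pullback (f := h) (g := f) w x' e
  refine ⟨sq.isoPullback.inv z, ?_, ?_⟩
  · rw [← Scheme.Hom.comp_apply, sq.isoPullback_inv_fst, hz1]
  · rw [← Scheme.Hom.comp_apply, sq.isoPullback_inv_snd, hz2]

lemma denseRange_of_isPullback {P W X' X : Scheme.{u}} {a : P ⟶ W} {b : P ⟶ X'} {h : W ⟶ X}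
    {f : X' ⟶ X} (sq : IsPullback a b h f) (hf : DenseRange f) (hh : IsOpenMap h) :
    DenseRange a := by
  rw [DenseRange, dense_iff_inter_open]
  intro V hV hVne
  have h1 : (h '' V).Nonempty := hVne.image _
  obtain ⟨_, ⟨w, hwV, rfl⟩, x', hx'⟩ := hf.inter_open_nonempty _ (hh V hV) h1
  obtain ⟨z, hz1, -⟩ := exists_preimage_of_isPullback sq w x' hx'.symm
  exact ⟨w, hwV, z, hz1⟩

section Artin

variable (A : Type u) [CommRing A] [IsArtinianRing A] [IsLocalRing A]

/-- the closed point `Spec k → Spec A` -/
noncomputable abbrev cpt : Spec (CommRingCat.of (IsLocalRing.ResidueField A)) ⟶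
    Spec (CommRingCat.of A) :=
  Spec.map (CommRingCat.ofHom (IsLocalRing.residue A))

instance : IsClosedImmersion (cpt A) :=
  IsClosedImmersion.spec_of_surjective _ IsLocalRing.residue_surjective

instance : Surjective (cpt A) := by
  constructor
  intro x
  refine ⟨IsLocalRing.closedPoint _, ?_⟩
  apply PrimeSpectrum.ext
  have h1 : x.asIdeal = IsLocalRing.maximalIdeal A :=
    IsLocalRing.eq_maximalIdeal (IsArtinianRing.isMaximal_of_isPrime x.asIdeal)
  rw [h1]
  show Ideal.comap (IsLocalRing.residue A) (IsLocalRing.maximalIdeal _) = _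
  rw [IsLocalRing.maximalIdeal_eq_bot, ← RingHom.ker_eq_comap_bot, IsLocalRing.ker_residue]

lemma isOpenMap_of_isClosedImmersion_of_surjective {T T' : Scheme.{u}} (h : T' ⟶ T)
    [IsClosedImmersion h] [Surjective h] : IsOpenMap h :=
  (isHomeomorph_iff_isEmbedding_surjective.mpr
    ⟨h.isClosedEmbedding.isEmbedding, h.surjective⟩).isOpenMap

theorem universallyOpen_of_artinian {W : Scheme.{u}} (w : W ⟶ Spec (CommRingCat.of A)) :
    UniversallyOpen w := by
  refine ⟨MorphismProperty.universally_mk' _ _ fun {T} g _ => ?_⟩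
  show IsOpenMap (pullback.fst g w)
  have sq1 : IsPullback (pullback.snd g w) (pullback.fst g w) w g :=
    (IsPullback.of_hasPullback g w).flip
  have sq2 := IsPullback.of_hasPullback (pullback.fst g w) (pullback.fst g (cpt A))
  have sq3 := IsPullback.of_hasPullback w (cpt A)
  have big := sq2.paste_horiz sq1
  have hcond : pullback.fst g (cpt A) ≫ g = pullback.snd g (cpt A) ≫ cpt A := pullback.condition
  have hlift : (pullback.fst (pullback.fst g w) (pullback.fst g (cpt A)) ≫ pullback.snd g w) ≫ w =
      (pullback.snd (pullback.fst g w) (pullback.fst g (cpt A)) ≫ pullback.snd g (cpt A)) ≫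
        cpt A := by
    rw [big.w, Category.assoc, hcond]
  have big' : IsPullback
      (pullback.lift _ _ hlift ≫ pullback.fst w (cpt A))
      (pullback.snd (pullback.fst g w) (pullback.fst g (cpt A))) w
      (pullback.snd g (cpt A) ≫ cpt A) := by
    rw [pullback.lift_fst, ← hcond]
    exact big
  have sq4 := IsPullback.of_right big' (pullback.lift_snd _ _ hlift) sq3
  have hopen : UniversallyOpen (pullback.snd (pullback.fst g w) (pullback.fst g (cpt A))) :=
    MorphismProperty.of_isPullback (P := @UniversallyOpen) sq4 inferInstance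
  have h1 : IsOpenMap (pullback.fst g (cpt A)) :=
    isOpenMap_of_isClosedImmersion_of_surjective _
  have h2 : Function.Surjective (pullback.fst (pullback.fst g w) (pullback.fst g (cpt A))) :=
    Scheme.Hom.surjective _
  intro V hV
  have himg : (pullback.fst g w) '' V = (pullback.fst g (cpt A)) ''
      ((pullback.snd (pullback.fst g w) (pullback.fst g (cpt A))) ''
        ((pullback.fst (pullback.fst g w) (pullback.fst g (cpt A))) ⁻¹' V)) := by
    ext t
    constructor
    · rintro ⟨v, hvV, rfl⟩
      obtain ⟨v', rfl⟩ := h2 v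
      refine ⟨_, ⟨v', hvV, rfl⟩, ?_⟩
      rw [← Scheme.Hom.comp_apply, ← Scheme.Hom.comp_apply, sq2.w]
    · rintro ⟨_, ⟨v', hv', rfl⟩, rfl⟩
      refine ⟨_, hv', ?_⟩
      rw [← Scheme.Hom.comp_apply, ← Scheme.Hom.comp_apply, sq2.w]
  rw [himg]
  exact h1 _ (Scheme.Hom.isOpenMap _ _ (hV.preimage (Scheme.Hom.continuous _)))

end Artin

section Main

variable (A : Type u) [CommRing A] [IsArtinianRing A] [IsLocalRing A]

theorem denseRange_tensorHom (X X' Y Y' : Over (Spec (CommRingCat.of A)))
    (f : X' ⟶ X) (g : Y' ⟶ Y) [QuasiCompact f.left] [QuasiCompact g.left]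
    (hf : DenseRange f.left) (hg : DenseRange g.left) :
    DenseRange (f ⊗ₘ g).left ∧ QuasiCompact (f ⊗ₘ g).left := by
  have e : (f ⊗ₘ g).left = (f ▷ Y').left ≫ (X ◁ g).left := by
    rw [tensorHom_def]
    rfl
  have sqA : IsPullback (f ▷ Y').left (pullback.fst X'.hom Y'.hom) (pullback.fst X.hom Y'.hom)
      f.left := by
    refine IsPullback.of_right ?_ (Over.whiskerRight_left_fst f)
      (IsPullback.of_hasPullback X.hom Y'.hom).flip
    rw [Over.whiskerRight_left_snd, Over.w f]
    exact (IsPullback.of_hasPullback X'.hom Y'.hom).flip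
  have sqB : IsPullback (X ◁ g).left (pullback.snd X.hom Y'.hom) (pullback.snd X.hom Y.hom)
      g.left := by
    refine IsPullback.of_right ?_ (Over.whiskerLeft_left_snd g)
      (IsPullback.of_hasPullback X.hom Y.hom)
    rw [Over.whiskerLeft_left_fst, Over.w g]
    exact IsPullback.of_hasPullback X.hom Y'.hom
  have hX : UniversallyOpen X.hom := universallyOpen_of_artinian A X.hom
  have hY' : UniversallyOpen Y'.hom := universallyOpen_of_artinian A Y'.hom
  have dA : DenseRange (f ▷ Y').left :=
    denseRange_of_isPullback sqA hf (Scheme.Hom.isOpenMap (pullback.fst X.hom Y'.hom))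
  have dB : DenseRange (X ◁ g).left :=
    denseRange_of_isPullback sqB hg (Scheme.Hom.isOpenMap (pullback.snd X.hom Y.hom))
  have qA : QuasiCompact (f ▷ Y').left :=
    MorphismProperty.of_isPullback (P := @QuasiCompact) sqA.flip inferInstance
  have qB : QuasiCompact (X ◁ g).left :=
    MorphismProperty.of_isPullback (P := @QuasiCompact) sqB.flip inferInstance
  rw [e]
  refine ⟨?_, inferInstance⟩
  have := dB.comp dA (Scheme.Hom.continuous _)
  exact this

end Main

end Groth.Agent.Lib27.ArtinDominant
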