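import Mathlib
import Groth.Agent.Lib27.Sch.AdmBlowup

/-!
# An open containing all associated points is scheme-theoretically dense (helper27)
-/

set_option autoImplicit false

universe u

open CategoryTheory CategoryTheory.Limits AlgebraicGeometry TopologicalSpace

namespace Groth.Agent.Lib27.AssDense

/-- On a locally Noetherian scheme, an open subset containing every associated point has trivial
kernel ideal sheaf. -/
theorem ker_ι_eq_bot_of_ass_subset {X : Scheme.{u}} [IsLocallyNoetherian X] (U : X.Opens)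
    (hU : ∀ s : X, IsLocalRing.maximalIdeal (X.presheaf.stalk s) ∈
        associatedPrimes (X.presheaf.stalk s) (X.presheaf.stalk s) → s ∈ U) : U.ι.ker = ⊥ := by
  rw [eq_bot_iff]
  intro V
  refine (U.ι.ideal_ker_le V).trans ?_
  intro a ha
  rw [RingHom.mem_ker] at ha
  change a ∈ (⊥ : Ideal Γ(X, V.1))
  rw [Ideal.mem_bot]
  by_contra ha0
  haveI : IsNoetherianRing Γ(X, V.1) := IsLocallyNoetherian.component_noetherian V
  obtain ⟨P, hP, hle⟩ := exists_le_isAssociatedPrime_of_isNoetherianRing Γ(X, V.1) a ha0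
  haveI hPp : P.IsPrime := hP.1
  let y : PrimeSpectrum Γ(X, V.1) := ⟨P, hPp⟩
  have hyV : V.2.fromSpec y ∈ V.1 := by
    have h1 : V.2.fromSpec y ∈ Set.range V.2.fromSpec := Set.mem_range_self y
    rw [V.2.range_fromSpec] at h1
    exact h1
  have hloc := V.2.isLocalization_stalk' y hyV
  letI : Algebra Γ(X, V.1) (X.presheaf.stalk (V.2.fromSpec y)) :=
    TopCat.Presheaf.algebra_section_stalk X.presheaf ⟨V.2.fromSpec y, hyV⟩
  haveI : IsLocalization.AtPrime (X.presheaf.stalk (V.2.fromSpec y)) P := hloc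
  have hass : IsLocalRing.maximalIdeal (X.presheaf.stalk (V.2.fromSpec y)) ∈
      associatedPrimes (X.presheaf.stalk (V.2.fromSpec y)) (X.presheaf.stalk (V.2.fromSpec y)) := by
    refine Module.associatedPrimes.mem_associatedPrimes_of_comap_mem_associatedPrimes_of_isLocalizedModule
      P.primeCompl (Algebra.linearMap Γ(X, V.1) (X.presheaf.stalk (V.2.fromSpec y))) _ ?_
    have hcm := IsLocalization.AtPrime.comap_maximalIdeal (X.presheaf.stalk (V.2.fromSpec y)) P
    have hcm' : Ideal.comap (algebraMap Γ(X, V.1) (X.presheaf.stalk (V.2.fromSpec y)))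
        (IsLocalRing.maximalIdeal (X.presheaf.stalk (V.2.fromSpec y))) = P := hcm
    rw [hcm']
    exact hP
  have hyU : V.2.fromSpec y ∈ U := hU _ hass
  -- the germ of `a` at this point vanishes
  have hle' : V.1 ⊓ U ≤ U.ι ''ᵁ U.ι ⁻¹ᵁ V.1 := by
    rintro z ⟨hzV, hzU⟩
    exact ⟨⟨z, hzU⟩, hzV, rfl⟩
  have hy' : V.2.fromSpec y ∈ U.ι ''ᵁ U.ι ⁻¹ᵁ V.1 := hle' ⟨hyV, hyU⟩
  have h2 : (X.presheaf.map
      (homOfLE (x := U.ι ''ᵁ U.ι ⁻¹ᵁ V.1) (Set.image_preimage_subset _ _)).op).hom a = 0 := ha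
  have hgerm : (X.presheaf.germ V.1 (V.2.fromSpec y) hyV).hom a = 0 := by
    rw [← X.presheaf.germ_res (homOfLE (x := U.ι ''ᵁ U.ι ⁻¹ᵁ V.1)
      (Set.image_preimage_subset _ _)) (V.2.fromSpec y) hy', CommRingCat.comp_apply, h2, map_zero]
  have halg : algebraMap Γ(X, V.1) (X.presheaf.stalk (V.2.fromSpec y)) a = 0 := hgerm
  obtain ⟨m, hm⟩ := (IsLocalization.map_eq_zero_iff P.primeCompl
    (X.presheaf.stalk (V.2.fromSpec y)) a).mp halg
  have hmem : (m : Γ(X, V.1)) ∈ (⊥ : Submodule Γ(X, V.1) Γ(X, V.1)).colon {a} := by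
    rw [Submodule.mem_colon_singleton]
    rw [Submodule.mem_bot, smul_eq_mul]
    exact hm
  exact m.2 (hle hmem)

end Groth.Agent.Lib27.AssDense
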