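import Groth.Agent.Lib27.Sch.MutualInverse
import Mathlib.AlgebraicGeometry.Birational.Birational
import Mathlib.AlgebraicGeometry.Birational.Composition

/-!
# Birational iff mutually inverse dominant rational maps
-/

set_option autoImplicit false
universe u

open CategoryTheory AlgebraicGeometry

namespace Groth.Agent.Lib27.BiratRat

variable {X Y : Scheme.{u}}

/-- The partial map of a partial iso is dominant. -/
lemma isDominant_toPartialMap_hom (φ : X.PartialIso Y) : IsDominant φ.toPartialMap.hom := by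
  have := AlgebraicGeometry.Opens.isDominant_ι φ.dense_target
  change IsDominant (φ.iso.hom ≫ φ.target.ι)
  infer_instance

lemma comp_symm_aux [IrreducibleSpace X] [IrreducibleSpace Y] (U : X.Opens) (V : Y.Opens)
    (e : U.toScheme ≅ V.toScheme) (W : X.Opens) (hW : W = U.ι ''ᵁ ((e.hom ≫ V.ι) ⁻¹ᵁ V))
    (h1 : W ≤ U.ι ''ᵁ ((e.hom ≫ V.ι) ⁻¹ᵁ V)) (h2 : W ≤ ⊤) :
    X.homOfLE h1 ≫ (U.ι.isoImage ((e.hom ≫ V.ι) ⁻¹ᵁ V)).inv ≫
      ((e.hom ≫ V.ι) ∣_ V) ≫ (e.inv ≫ U.ι) = X.homOfLE h2 ≫ (X.topIso.hom ≫ 𝟙 X) := by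
  subst hW
  have h1 : (e.hom ≫ V.ι) ∣_ V = ((e.hom ≫ V.ι) ⁻¹ᵁ V).ι ≫ e.hom := by
    rw [← cancel_mono V.ι, morphismRestrict_ι, Category.assoc]
  rw [h1]
  simp only [Category.assoc, Iso.hom_inv_id_assoc, Category.comp_id, Scheme.topIso_hom,
    Scheme.homOfLE_ι, Scheme.homOfLE_rfl, Category.id_comp]
  exact Scheme.Hom.isoImage_inv_ι _ _

/-- Composition of a partial iso with its inverse is the identity rational map. -/
lemma comp_symm [IrreducibleSpace X] [IrreducibleSpace Y] (φ : X.PartialIso Y) :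
    haveI := isDominant_toPartialMap_hom φ
    (φ.toPartialMap.comp φ.symm.toPartialMap).equiv (Scheme.PartialMap.id X) := by
  haveI := isDominant_toPartialMap_hom φ
  refine ⟨(φ.toPartialMap.comp φ.symm.toPartialMap).domain,
    (φ.toPartialMap.comp φ.symm.toPartialMap).dense_domain, le_rfl, le_top, ?_⟩
  exact comp_symm_aux φ.source φ.target φ.iso _ rfl _ _

lemma dense_image_preimage [PreirreducibleSpace X] [Nonempty Y] (f : X.PartialMap Y)
    [IsDominant f.hom]
    (V : Y.Opens) (hV : Dense (V : Set Y)) :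
    Dense ((f.domain.ι ''ᵁ f.hom ⁻¹ᵁ V : X.Opens) : Set X) :=
  (f.domain.ι ''ᵁ f.hom ⁻¹ᵁ V).2.dense <| by
    simpa [← Set.nonempty_preimage_iff] using
      f.hom.denseRange.inter_open_nonempty _ V.2 hV.nonempty

/-- Extracting the data from `f.comp g ∼ id`. -/
lemma exists_of_comp_equiv_id [IrreducibleSpace X] [IrreducibleSpace Y] (f₀ : X.PartialMap Y)
    [IsDominant f₀.hom] (g₀ : Y.PartialMap X)
    (h : (f₀.comp g₀).equiv (Scheme.PartialMap.id X)) :
    ∃ (W : X.Opens) (_ : Dense (W : Set X)) (hW : W ≤ f₀.domain)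
      (lA : W.toScheme ⟶ g₀.domain.toScheme),
      lA ≫ g₀.domain.ι = X.homOfLE hW ≫ f₀.hom ∧ lA ≫ g₀.hom = W.ι := by
  obtain ⟨W, hW, hWl', hWr', hWe'⟩ := h
  have hWl : W ≤ f₀.domain.ι ''ᵁ f₀.hom ⁻¹ᵁ g₀.domain := hWl'
  have hWr : W ≤ (⊤ : X.Opens) := hWr'
  have hWe : X.homOfLE hWl ≫ (f₀.domain.ι.isoImage (f₀.hom ⁻¹ᵁ g₀.domain)).inv ≫
      (f₀.hom ∣_ g₀.domain) ≫ g₀.hom = X.homOfLE hWr ≫ (X.topIso.hom ≫ 𝟙 X) := hWe'
  clear hWe' hWl' hWr'
  refine ⟨W, hW, hWl.trans (f₀.domain.ι_image_le _),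
    X.homOfLE hWl ≫ (f₀.domain.ι.isoImage _).inv ≫ (f₀.hom ∣_ g₀.domain), ?_, ?_⟩
  · rw [Category.assoc, Category.assoc, morphismRestrict_ι,
      Scheme.Opens.isoImage_ι_inv_ι_assoc, Scheme.homOfLE_homOfLE_assoc]
  · have : X.homOfLE hWr ≫ (X.topIso.hom ≫ 𝟙 X) = W.ι := by
      rw [Category.comp_id, Scheme.topIso_hom, Scheme.homOfLE_ι]
    rw [← this, ← hWe]
    simp only [Category.assoc]

theorem birational_iff (X Y : Scheme.{u}) [IsIntegral X] [IsIntegral Y] :
    Scheme.Birational X Y ↔ ∃ (f : X ⤏ Y) (g : Y ⤏ X) (_ : f.IsDominant) (_ : g.IsDominant),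
      f.comp g = Scheme.RationalMap.id X ∧ g.comp f = Scheme.RationalMap.id Y := by
  constructor
  · rintro ⟨φ⟩
    haveI := isDominant_toPartialMap_hom φ
    haveI := isDominant_toPartialMap_hom φ.symm
    refine ⟨φ.toRationalMap, φ.symm.toRationalMap, inferInstance, inferInstance, ?_, ?_⟩
    · rw [Scheme.RationalMap.toRationalMap_comp, Scheme.PartialMap.toRationalMap_eq_iff]
      exact comp_symm φ
    · rw [Scheme.RationalMap.toRationalMap_comp, Scheme.PartialMap.toRationalMap_eq_iff]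
      exact comp_symm φ.symm
  · rintro ⟨f, g, hf, hg, hfg, hgf⟩
    have e1 : (f.representative.comp g.representative).equiv (Scheme.PartialMap.id X) := by
      rw [← Scheme.PartialMap.toRationalMap_eq_iff, ← Scheme.RationalMap.comp_def,
        g.toRationalMap_representative, hfg]
    have e2 : (g.representative.comp f.representative).equiv (Scheme.PartialMap.id Y) := by
      rw [← Scheme.PartialMap.toRationalMap_eq_iff, ← Scheme.RationalMap.comp_def,
        f.toRationalMap_representative, hgf]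
    obtain ⟨W, hWd, hW, lA, hlA, hA⟩ := exists_of_comp_equiv_id _ _ e1
    obtain ⟨W', hWd', hW', lB, hlB, hB⟩ := exists_of_comp_equiv_id _ _ e2
    obtain ⟨hU, fU, hiso, -⟩ := Groth.Agent.Lib27.MutualInverse.exists_iso
      f.representative.domain f.representative.hom g.representative.domain g.representative.hom
      W hW lA hlA hA W' hW' lB hlB hB
    exact ⟨⟨_, hWd.inter_of_isOpen_left (dense_image_preimage f.representative W' hWd') W.2, _,
      hWd'.inter_of_isOpen_left (dense_image_preimage g.representative W hWd) W'.2,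
      asIso fU⟩⟩

end Groth.Agent.Lib27.BiratRat
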