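import Groth.Agent.Lib27.Sch.CMPoints
import Groth.Agent.Lib.Helper23.QFFlat
import Groth.Agent.S2092
import Groth.Agent.Lib.Helper18.CMOpen

/-!
# Closed points with Cohen–Macaulay local ring on schemes locally of finite type over an
Artinian ring
-/

set_option autoImplicit false
universe u
open CategoryTheory AlgebraicGeometry

namespace Groth.Agent.Lib27.CMClosedPt

open Groth.Agent.Lib27.CMPoints

/-- an Artinian ring is a Cohen–Macaulay ring -/
theorem isCohenMacaulayRing_of_isArtinianRing (A : Type u) [CommRing A] [IsArtinianRing A] :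
    LocCoh.IsCohenMacaulayRing A where
  isCohenMacaulayLocalRing_localization := fun p hp =>
    Groth.Agent.Lib.Helper23.QFFlat.isCohenMacaulayLocalRing_of_height_zero p
      (Ideal.height_eq_zero_iff.mpr (Ideal.mem_minimalPrimes_of_krullDimLE_zero p))

/-- a nonzero Jacobson quotient of a Cohen–Macaulay ring has a maximal ideal with
Cohen–Macaulay local ring -/
theorem exists_isMaximal_cm_of_surjective {R F : Type u} [CommRing R]
    [LocCoh.IsCohenMacaulayRing R] [CommRing F] [IsJacobsonRing F] [Nontrivial F]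
    (g : R →+* F) (hg : Function.Surjective g) :
    ∃ Q : Ideal F, Q.IsMaximal ∧ ∃ _ : Q.IsPrime,
      LocCoh.IsCohenMacaulayLocalRing (Localization.AtPrime Q) := by
  haveI : IsNoetherianRing F := isNoetherianRing_of_surjective R F g hg
  have hopen := Groth.Agent.Lib.Helper18.CMOpen.isOpen_cmLocus_of_surjective (A := F) g hg
  obtain ⟨m, hm⟩ := Ideal.exists_maximal F
  obtain ⟨P₀, hP₀, _⟩ := Ideal.exists_minimalPrimes_le (bot_le : (⊥ : Ideal F) ≤ m)
  haveI : P₀.IsPrime := hP₀.1.1
  have hmem : (⟨P₀, inferInstance⟩ : PrimeSpectrum F) ∈ {q : PrimeSpectrum F |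
      LocCoh.IsCohenMacaulayLocalRing (Localization.AtPrime q.asIdeal)} :=
    Groth.Agent.Lib.Helper23.QFFlat.isCohenMacaulayLocalRing_of_height_zero P₀
      (Ideal.height_eq_zero_iff.mpr hP₀)
  obtain ⟨x, hxU, hxc⟩ := PrimeSpectrum.exists_isClosed_singleton_of_isJacobsonRing _ hopen
    ⟨_, hmem⟩
  exact ⟨x.asIdeal, (PrimeSpectrum.isClosed_singleton_iff_isMaximal x).mp hxc, x.2, hxU⟩

theorem exists_closed_cm (A : Type u) [CommRing A] [IsArtinianRing A] (X : Scheme.{u})
    (f : X ⟶ Spec (CommRingCat.of A)) [LocallyOfFiniteType f] [Nonempty X] :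
    ∃ x : X, IsClosed ({x} : Set X) ∧
      LocCoh.IsCohenMacaulayLocalRing (X.presheaf.stalk x) := by
  obtain ⟨x₀⟩ := ‹Nonempty X›
  obtain ⟨_, ⟨U, hU : IsAffineOpen U, rfl⟩, hx₀U, -⟩ :=
    X.isBasis_affineOpens.exists_subset_of_mem_open (Set.mem_univ x₀) isOpen_univ
  have hft : (f.appLE ⊤ U le_top).hom.FiniteType :=
    f.finiteType_appLE (isAffineOpen_top _) hU _
  set φ : A →+* Γ(X, U) :=
    (f.appLE ⊤ U le_top).hom.comp (Scheme.ΓSpecIso (CommRingCat.of A)).inv.hom with hφdef
  have hφ : φ.FiniteType := by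
    refine hft.comp (RingHom.FiniteType.of_surjective _ ?_)
    exact (ConcreteCategory.bijective_of_isIso (Scheme.ΓSpecIso (CommRingCat.of A)).inv).2
  letI : Algebra A Γ(X, U) := φ.toAlgebra
  have hφ' : Algebra.FiniteType A Γ(X, U) := hφ
  obtain ⟨n, g, hg⟩ := Algebra.FiniteType.iff_quotient_mvPolynomial''.mp hφ'
  haveI : LocCoh.IsCohenMacaulayRing A := isCohenMacaulayRing_of_isArtinianRing A
  haveI : LocCoh.IsCohenMacaulayRing (MvPolynomial (Fin n) A) := Groth.Agent.S2092.result n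
  haveI : Nontrivial Γ(X, U) := by
    by_contra hcon
    rw [not_nontrivial_iff_subsingleton] at hcon
    exact (hU.primeIdealOf ⟨x₀, hx₀U⟩).2.ne_top (Subsingleton.elim _ _)
  haveI : IsJacobsonRing Γ(X, U) := isJacobsonRing_of_finiteType (A := A)
  obtain ⟨Q, hQmax, hQp, hQcm⟩ :=
    exists_isMaximal_cm_of_surjective (g : MvPolynomial (Fin n) A →+* Γ(X, U)) hg
  obtain ⟨u, hu⟩ := Groth.Agent.Lib.Helper9.ClosedPt.primeIdealOf_surjective hU ⟨Q, hQp⟩
  refine ⟨u.1, ?_, ?_⟩
  · haveI : JacobsonSpace X := LocallyOfFiniteType.jacobsonSpace f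
    apply isClosed_singleton_of_isLocallyClosed_singleton
    have hset : ({u.1} : Set X) = (U : Set X) ∩ closure {u.1} := by
      ext q
      constructor
      · rintro rfl
        exact ⟨u.2, subset_closure rfl⟩
      · rintro ⟨hqU, hq⟩
        have hsp : (u : X) ⤳ q := specializes_iff_mem_closure.mpr hq
        have h1 := (Groth.Agent.Lib.Helper9.ClosedPt.specializes_iff_primeIdealOf_le hU u
          ⟨q, hqU⟩).mp hsp
        rw [hu] at h1
        have h2 : Q = (hU.primeIdealOf ⟨q, hqU⟩).asIdeal :=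
          hQmax.eq_of_le (hU.primeIdealOf ⟨q, hqU⟩).2.ne_top h1
        have h3 : hU.primeIdealOf ⟨q, hqU⟩ = hU.primeIdealOf u := by
          rw [hu]
          exact PrimeSpectrum.ext h2.symm
        exact congrArg Subtype.val
          (Groth.Agent.Lib.Helper9.ClosedPt.primeIdealOf_injective hU h3)
    rw [hset]
    exact U.2.isLocallyClosed.inter isClosed_closure.isLocallyClosed
  · rw [cm_stalk_iff_atPrime hU u.1 u.2]
    have h4 : (hU.primeIdealOf ⟨u.1, u.2⟩) = ⟨Q, hQp⟩ := hu
    rw [h4]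
    exact hQcm

end Groth.Agent.Lib27.CMClosedPt
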