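import Groth.Prelude.Def_BlowUp2
import Groth.Agent.Lib.Helper25.BlowUpReg
import Mathlib.RingTheory.KrullDimension.Zero
import Mathlib.RingTheory.KrullDimension.Basic

/-!
# Dimension of local rings along an effective Cartier divisor
-/

set_option autoImplicit false
universe u
open CategoryTheory CategoryTheory.Limits AlgebraicGeometry TopologicalSpace

namespace Groth.Agent.Lib27.CartierDim

/-- a local ring containing a nonzerodivisor nonunit has dimension at least one -/
lemma one_le_ringKrullDim_of_nzd (R : Type*) [CommRing R] [IsLocalRing R] (t : R)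
    (ht : t ∈ nonZeroDivisors R) (hnu : ¬ IsUnit t) : 1 ≤ ringKrullDim R := by
  by_contra h
  have h0 : ringKrullDim R ≤ 0 := by
    rw [not_le] at h
    cases hd : ringKrullDim R with
    | bot => exact bot_le
    | coe e =>
      rw [hd] at h
      have h1 : e < 1 := by exact_mod_cast h
      have h2 : e = 0 := Order.lt_one_iff.mp h1
      rw [h2]
      rfl
  have : Ring.KrullDimLE 0 R := Ring.krullDimLE_iff.mpr (by simpa using h0)
  have hn : IsNilpotent t :=
    Ring.KrullDimLE.isNilpotent_iff_mem_maximalIdeal.mpr ((IsLocalRing.mem_maximalIdeal t).mpr hnu)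
  obtain ⟨n, hn⟩ := hn
  exact zero_notMem_nonZeroDivisors (hn ▸ pow_mem ht n)

variable {X : Scheme.{u}}

/-- germ data of an effective Cartier divisor at a point of its support -/
lemma exists_germ_nzd (𝓘 : X.IdealSheafData) (hY : BlowUp.IsEffCartierIdeal 𝓘) (y : X)
    (hy : y ∈ 𝓘.support) :
    ∃ (U : X.affineOpens) (hyU : y ∈ U.1) (f : Γ(X, U.1)), f ∈ nonZeroDivisors Γ(X, U.1) ∧
      𝓘.ideal U = Ideal.span {f} ∧
      X.presheaf.germ U.1 y hyU f ∈ nonZeroDivisors (X.presheaf.stalk y) ∧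
      ¬ IsUnit (X.presheaf.germ U.1 y hyU f) := by
  obtain ⟨U, hyU, f, hf, hI⟩ := hY y
  refine ⟨U, hyU, f, hf, hI,
    Groth.Agent.Lib.Helper25.BlowUpUP.germ_mem_nonZeroDivisors_of_isAffineOpen U.2 f hf y hyU, ?_⟩
  rw [Scheme.IdealSheafData.mem_support_iff_of_mem (U := U) hyU, Scheme.mem_zeroLocus_iff] at hy
  have h1 := hy f (by rw [hI]; exact Ideal.mem_span_singleton_self f)
  rw [Scheme.mem_basicOpen X f y hyU] at h1
  exact h1

lemma one_le_dim_stalk (𝓘 : X.IdealSheafData) (hY : BlowUp.IsEffCartierIdeal 𝓘) (y : X)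
    (hy : y ∈ 𝓘.support) : 1 ≤ ringKrullDim (X.presheaf.stalk y) := by
  obtain ⟨U, hyU, f, -, -, h1, h2⟩ := exists_germ_nzd 𝓘 hY y hy
  exact one_le_ringKrullDim_of_nzd _ _ h1 h2

end Groth.Agent.Lib27.CartierDim
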