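import Mathlib

/-!
# Properties of the restriction of a morphism over an open, checked on a cover (helper27)
-/

set_option autoImplicit false

universe u

open CategoryTheory CategoryTheory.Limits AlgebraicGeometry TopologicalSpace

namespace Groth.Agent.Lib27.RestrictLocal

/-- a property local at the target holds for the restriction `m ∣_ U` if it holds for the base
changes of `m` along a family of open immersions covering `U`. -/
theorem prop_restrict_of_cover (P : MorphismProperty Scheme.{u}) [IsZariskiLocalAtTarget P]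
    {X Y : Scheme.{u}} (m : X ⟶ Y) (U : Y.Opens) {κ : Type*} (V : κ → Scheme.{u})
    (g : ∀ k, V k ⟶ Y) [∀ k, IsOpenImmersion (g k)]
    (hg : ∀ k, Set.range (g k) ⊆ (U : Set Y))
    (hcov : ∀ y ∈ U, ∃ k, y ∈ Set.range (g k)) (p : ∀ k, P (pullback.snd m (g k))) :
    P (m ∣_ U) := by
  let ℓ : ∀ k, V k ⟶ U.toScheme := fun k =>
    IsOpenImmersion.lift U.ι (g k) (by rw [Scheme.Opens.range_ι]; exact hg k)
  have hℓ : ∀ k, ℓ k ≫ U.ι = g k := fun k => IsOpenImmersion.lift_fac _ _ _
  haveI : ∀ k, IsOpenImmersion (ℓ k) := fun k => by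
    haveI : IsOpenImmersion (ℓ k ≫ U.ι) := by rw [hℓ]; infer_instance
    exact IsOpenImmersion.of_comp (ℓ k) U.ι
  refine IsZariskiLocalAtTarget.of_iSup_eq_top (P := P) (fun k => (ℓ k).opensRange) ?_
    (fun k => ?_)
  · rw [eq_top_iff]
    intro y _
    obtain ⟨k, v, hv⟩ := hcov y.1 y.2
    refine Opens.mem_iSup.mpr ⟨k, v, ?_⟩
    apply U.ι.isOpenEmbedding.injective
    rw [← Scheme.Hom.comp_apply, hℓ]
    exact hv
  · rw [P.arrow_mk_iso_iff (morphismRestrictOpensRange (m ∣_ U) (ℓ k))]
    have s₁ := IsPullback.of_hasPullback (m ∣_ U) (ℓ k)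
    have s₂ := (isPullback_morphismRestrict m U).flip
    have big := s₁.paste_horiz s₂
    rw [hℓ] at big
    rw [← big.isoPullback_hom_snd, P.cancel_left_of_respectsIso]
    exact p k

end Groth.Agent.Lib27.RestrictLocal
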