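import Mathlib
import Groth.Agent.Lib27.Sch.AdmBlowup
import Groth.Agent.Lib27.Sch.RestrictLocal
import Groth.Agent.Lib.Helper25.BlowUpGlue

/-!
# Splitting the interior of a modulus pair into two clopen pieces (helper27)
-/

set_option autoImplicit false

universe u

open CategoryTheory CategoryTheory.Limits AlgebraicGeometry TopologicalSpace

namespace Groth.Agent.Lib27.ClopenSplit

open Groth.Agent.Lib.Helper25.BlowUpUP Groth.Agent.Lib27.ImageCartier

variable {X Y Z : Scheme.{u}}

/-- an open which is locally (on affine charts) quasi-compact has a quasi-compact inclusion. -/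
theorem quasiCompact_ι_of_locally_compact (O : X.Opens)
    (h : ∀ x : X, ∃ U : X.affineOpens, x ∈ U.1 ∧
      IsCompact ((O : Set X) ∩ (U.1 : Set X))) :
    QuasiCompact O.ι := by
  choose U hxU hg using h
  refine IsZariskiLocalAtTarget.of_iSup_eq_top (P := @QuasiCompact) (fun x => (U x).1) ?_ ?_
  · rw [eq_top_iff]
    intro x _
    exact Opens.mem_iSup.mpr ⟨x, hxU x⟩
  · intro x
    haveI : IsAffine ((U x).1 : Scheme.{u}) := (U x).2
    rw [HasAffineProperty.iff_of_isAffine (P := @QuasiCompact)]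
    have hc : IsCompact ((O.ι ⁻¹ᵁ (U x).1 : O.toScheme.Opens) : Set O) := by
      rw [O.ι.isOpenEmbedding.isEmbedding.isCompact_iff]
      have : (O.ι : O → X) '' ((O.ι ⁻¹ᵁ (U x).1 : O.toScheme.Opens) : Set O) =
          ((O : Set X) ∩ ((U x).1 : Set X)) := by
        change (O.ι : O → X) '' ((O.ι : O → X) ⁻¹' ((U x).1 : Set X)) = _
        rw [Set.image_preimage_eq_inter_range, Scheme.Opens.range_ι, Set.inter_comm]
      rw [this]
      exact hg x
    exact isCompact_iff_compactSpace.mp hc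

/-- a clopen piece of the complement of an effective Cartier divisor has quasi-compact
inclusion. -/
theorem quasiCompact_ι_of_disjoint_sup (I : X.IdealSheafData)
    (hI : BlowUp.IsEffCartierIdeal I) (U₀ U₁ : X.Opens)
    (hU : U₀ ⊔ U₁ = ModPair.interior I) (hd : Disjoint U₀ U₁) : QuasiCompact U₀.ι := by
  refine quasiCompact_ι_of_locally_compact U₀ (fun x => ?_)
  obtain ⟨U, hxU, s, -, hs⟩ := hI x
  refine ⟨U, hxU, ?_⟩
  have h1 := Groth.Agent.Lib27.ComplCartier.compl_support_inf_eq_basicOpen I U s hs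
  have h2 : ((U₀ : Set X) ∩ (U.1 : Set X)) = (X.basicOpen s : Set X) ∩ (U₁ : Set X)ᶜ := by
    ext y
    constructor
    · rintro ⟨hy0, hyU⟩
      refine ⟨?_, fun hy1 => ?_⟩
      · rw [← h1]
        refine ⟨?_, hyU⟩
        have : y ∈ ModPair.interior I := by rw [← hU]; exact Or.inl hy0
        exact this
      · exact (disjoint_iff.mp hd).le ⟨hy0, hy1⟩
    · rintro ⟨hys, hy1⟩
      rw [← h1] at hys
      refine ⟨?_, hys.2⟩
      have : y ∈ ModPair.interior I := hys.1
      rw [← hU] at this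
      rcases this with h | h
      · exact h
      · exact absurd h hy1
  rw [h2]
  exact ((U.2.basicOpen s).isCompact).inter_right U₁.isOpen.isClosed_compl

/-- restriction over an open of a morphism which factors an isomorphism-over-the-open through an
open immersion containing the preimage of the open. -/
theorem isIso_restrict_of_openImmersion (m : Y ⟶ X) (O : X.Opens) (j : Z ⟶ Y)
    [IsOpenImmersion j] (hj : ((m ⁻¹ᵁ O : Y.Opens) : Set Y) ⊆ Set.range j)
    (h : IsIso ((j ≫ m) ∣_ O)) : IsIso (m ∣_ O) := by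
  have h1 : (j ≫ m) ∣_ O = j ∣_ (m ⁻¹ᵁ O) ≫ m ∣_ O := morphismRestrict_comp j m O
  haveI : IsOpenImmersion (j ∣_ (m ⁻¹ᵁ O)) :=
    IsZariskiLocalAtTarget.restrict (P := @IsOpenImmersion) inferInstance _
  haveI : Surjective (j ∣_ (m ⁻¹ᵁ O)) := by
    refine ⟨fun y => ?_⟩
    obtain ⟨z, hz⟩ := hj y.2
    have hz' : z ∈ j ⁻¹ᵁ (m ⁻¹ᵁ O) := by
      change j z ∈ m ⁻¹ᵁ O
      rw [hz]; exact y.2
    refine ⟨⟨z, hz'⟩, ?_⟩
    apply (m ⁻¹ᵁ O).ι.isOpenEmbedding.injective
    rw [← Scheme.Hom.comp_apply, morphismRestrict_ι, Scheme.Hom.comp_apply]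
    exact hz
  haveI : IsIso (j ∣_ (m ⁻¹ᵁ O)) :=
    (isIso_iff_isOpenImmersion_and_surjective _).mpr ⟨inferInstance, inferInstance⟩
  haveI : IsIso (j ∣_ (m ⁻¹ᵁ O) ≫ m ∣_ O) := by rw [← h1]; exact h
  exact IsIso.of_isIso_comp_left (j ∣_ (m ⁻¹ᵁ O)) (m ∣_ O)

/-- transport `IsIso (f ∣_ O)` along an equality of morphisms. -/
theorem isIso_restrict_congr {f g : Y ⟶ X} (h : f = g) (O : X.Opens) (hg : IsIso (g ∣_ O)) :
    IsIso (f ∣_ O) := by
  subst h; exact hg

/-- the base change along `O.ι` is an isomorphism if the restriction over `O` is. -/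
theorem isIso_snd_of_isIso_restrict (m : Y ⟶ X) (O : X.Opens) (h : IsIso (m ∣_ O)) :
    IsIso (pullback.snd m O.ι) := by
  have sq := (isPullback_morphismRestrict m O).flip
  have e := sq.isoPullback_hom_snd
  have : pullback.snd m O.ι = sq.isoPullback.inv ≫ (m ∣_ O) := by
    rw [Iso.eq_inv_comp]; exact e
  rw [this]
  infer_instance

/-- the scheme-theoretic closure of an open `U₁` does not meet a disjoint open `U₀`. -/
theorem imageι_not_mem_of_disjoint (U₀ U₁ : X.Opens) [QuasiCompact U₁.ι] (hd : Disjoint U₀ U₁)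
    (z : U₁.ι.image) : U₁.ι.imageι z ∉ U₀ := by
  intro hz
  have h1 : U₁.ι.imageι z ∈ Set.range U₁.ι.imageι := ⟨z, rfl⟩
  rw [Scheme.IdealSheafData.range_subschemeι, Scheme.Hom.support_ker,
    Scheme.Opens.range_ι] at h1
  obtain ⟨y, hy0, hy1⟩ := mem_closure_iff.mp h1 U₀ U₀.isOpen hz
  exact (disjoint_iff.mp hd).le ⟨hy0, hy1⟩

/-- **splitting an admissible blow-up along a clopen decomposition of the interior**. -/
theorem isAdmBlowup_coprodDesc (I : X.IdealSheafData) (hI : BlowUp.IsEffCartierIdeal I)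
    (U₀ U₁ : X.Opens) (hU : U₀ ⊔ U₁ = ModPair.interior I) (hd : Disjoint U₀ U₁) :
    BlowUp.IsEffCartierIdeal (I.comap (coprod.desc U₀.ι.imageι U₁.ι.imageι)) ∧
      ModPair.IsAdmBlowup (I.comap (coprod.desc U₀.ι.imageι U₁.ι.imageι)) I
        (coprod.desc U₀.ι.imageι U₁.ι.imageι) := by
  have q0 : QuasiCompact U₀.ι := quasiCompact_ι_of_disjoint_sup I hI U₀ U₁ hU hd
  have q1 : QuasiCompact U₁.ι :=
    quasiCompact_ι_of_disjoint_sup I hI U₁ U₀ (by rw [sup_comm]; exact hU) hd.symm
  have hle0 : U₀ ≤ ModPair.interior I := by rw [← hU]; exact le_sup_left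
  have hle1 : U₁ ≤ ModPair.interior I := by rw [← hU]; exact le_sup_right
  have htop0 : I.comap U₀.ι = ⊤ := comap_eq_top_of_support I U₀.ι (fun y => hle0 y.2)
  have htop1 : I.comap U₁.ι = ⊤ := comap_eq_top_of_support I U₁.ι (fun y => hle1 y.2)
  set p := coprod.desc U₀.ι.imageι U₁.ι.imageι with hp
  have hinl : (coprod.inl : U₀.ι.image ⟶ _) ≫ p = U₀.ι.imageι := coprod.inl_desc _ _
  have hinr : (coprod.inr : U₁.ι.image ⟶ _) ≫ p = U₁.ι.imageι := coprod.inr_desc _ _
  have hcover : ∀ x : ↥(U₀.ι.image ⨿ U₁.ι.image),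
      x ∈ Set.range (coprod.inl : U₀.ι.image ⟶ U₀.ι.image ⨿ U₁.ι.image) ∨
      x ∈ Set.range (coprod.inr : U₁.ι.image ⟶ U₀.ι.image ⨿ U₁.ι.image) := by
    intro x
    have := (isCompl_range_inl_inr U₀.ι.image U₁.ι.image).sup_eq_top
    have hx : x ∈ (Set.range (coprod.inl : U₀.ι.image ⟶ U₀.ι.image ⨿ U₁.ι.image) ⊔
      Set.range (coprod.inr : U₁.ι.image ⟶ U₀.ι.image ⨿ U₁.ι.image) : Set _) := by
      rw [this]; trivial
    exact hx
  refine ⟨?_, rfl, ?_, ?_⟩
  · refine isEffCartierIdeal_of_forall_openImmersion _ (fun x => ?_)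
    rcases hcover x with hx | hx
    · refine ⟨_, coprod.inl, inferInstance, hx, ?_⟩
      rw [← Scheme.IdealSheafData.comap_comp, hinl]
      exact isEffCartierIdeal_comap_imageι U₀.ι I (locPrin_of_isEffCartier hI) htop0
    · refine ⟨_, coprod.inr, inferInstance, hx, ?_⟩
      rw [← Scheme.IdealSheafData.comap_comp, hinr]
      exact isEffCartierIdeal_comap_imageι U₁.ι I (locPrin_of_isEffCartier hI) htop1
  · haveI : IsFinite p := by rw [hp]; infer_instance
    infer_instance
  · let W : Bool → X.Opens := fun b => bif b then U₁ else U₀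
    refine Groth.Agent.Lib27.RestrictLocal.prop_restrict_of_cover
      (MorphismProperty.isomorphisms Scheme.{u}) p (ModPair.interior I)
      (fun b : Bool => (W b).toScheme) (fun b => (W b).ι) ?_ ?_ ?_
    · rintro (_ | _)
      · change Set.range U₀.ι ⊆ _
        rw [Scheme.Opens.range_ι]; exact hle0
      · change Set.range U₁.ι ⊆ _
        rw [Scheme.Opens.range_ι]; exact hle1
    · intro y hy
      rw [← hU] at hy
      rcases hy with h | h
      · exact ⟨false, by change y ∈ Set.range U₀.ι; rw [Scheme.Opens.range_ι]; exact h⟩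
      · exact ⟨true, by change y ∈ Set.range U₁.ι; rw [Scheme.Opens.range_ι]; exact h⟩
    · rintro (_ | _)
      · change IsIso (pullback.snd p U₀.ι)
        refine isIso_snd_of_isIso_restrict p U₀ ?_
        refine isIso_restrict_of_openImmersion p U₀ coprod.inl ?_ ?_
        · intro y hy
          rcases hcover y with h | ⟨z, rfl⟩
          · exact h
          · exfalso
            have : p ((coprod.inr : U₁.ι.image ⟶ U₀.ι.image ⨿ U₁.ι.image) z) ∈ U₀ := hy
            rw [← Scheme.Hom.comp_apply, hinr] at this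
            exact imageι_not_mem_of_disjoint U₀ U₁ hd z this
        · exact isIso_restrict_congr hinl U₀
            (Groth.Agent.Lib27.AdmBlowup.isIso_imageι_restrict U₀)
      · change IsIso (pullback.snd p U₁.ι)
        refine isIso_snd_of_isIso_restrict p U₁ ?_
        refine isIso_restrict_of_openImmersion p U₁ coprod.inr ?_ ?_
        · intro y hy
          rcases hcover y with ⟨z, rfl⟩ | h
          · exfalso
            have : p ((coprod.inl : U₀.ι.image ⟶ U₀.ι.image ⨿ U₁.ι.image) z) ∈ U₁ := hy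
            rw [← Scheme.Hom.comp_apply, hinl] at this
            exact imageι_not_mem_of_disjoint U₁ U₀ hd.symm z this
          · exact h
        · exact isIso_restrict_congr hinr U₁
            (Groth.Agent.Lib27.AdmBlowup.isIso_imageι_restrict U₁)

end Groth.Agent.Lib27.ClopenSplit
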