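import Mathlib
import Groth.Agent.Lib.Helper25.EtaleSliceScheme

/-!
# Points closed in their fibre; étale slices in characteristic zero
-/

set_option autoImplicit false
universe u

open AlgebraicGeometry CategoryTheory Limits TopologicalSpace

namespace Groth.Agent.Lib27.ClosedInFibre

/-- `x` is a closed point of its fibre, phrased without dependent types. -/
def IsClosedInFibre {X Y : Scheme.{u}} (f : X ⟶ Y) (x : X) : Prop :=
  ∃ K : Set X, IsClosed K ∧ K ∩ f ⁻¹' {f x} = {x}

lemma isClosed_singleton_asFiber {X Y : Scheme.{u}} (f : X ⟶ Y) (x : X)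
    (h : IsClosedInFibre f x) : IsClosed ({f.asFiber x} : Set (f.fiber (f x))) := by
  obtain ⟨K, hK, hKx⟩ := h
  have : ({f.asFiber x} : Set (f.fiber (f x))) = (f.fiberι (f x)) ⁻¹' K := by
    ext y
    simp only [Set.mem_singleton_iff, Set.mem_preimage]
    constructor
    · rintro rfl
      rw [Scheme.Hom.fiberι_asFiber]
      have : x ∈ K ∩ f ⁻¹' {f x} := by rw [hKx]; rfl
      exact this.1
    · intro hy
      have h1 : f.fiberι (f x) y ∈ f ⁻¹' {f x} := by
        rw [← Scheme.Hom.range_fiberι]; exact ⟨y, rfl⟩
      have h2 : f.fiberι (f x) y ∈ K ∩ f ⁻¹' {f x} := ⟨hy, h1⟩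
      rw [hKx] at h2
      apply (f.fiberι (f x)).isEmbedding.injective
      rw [Scheme.Hom.fiberι_asFiber]
      exact h2
  rw [this]
  exact hK.preimage (f.fiberι (f x)).continuous

/-- Every nonempty closed subset meets some fibre in a point closed in that fibre. -/
lemma exists_isClosedInFibre_mem {X Y : Scheme.{u}} (f : X ⟶ Y) [LocallyOfFiniteType f]
    (C : Set X) (hC : IsClosed C) (c : X) (hc : c ∈ C) :
    ∃ x ∈ C, IsClosedInFibre f x := by
  let C' : Set (f.fiber (f c)) := (f.fiberι (f c)) ⁻¹' C
  have hC' : IsClosed C' := hC.preimage (f.fiberι (f c)).continuous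
  have hne : C'.Nonempty := ⟨f.asFiber c, by
    change f.fiberι (f c) (f.asFiber c) ∈ C
    rw [Scheme.Hom.fiberι_asFiber]; exact hc⟩
  obtain ⟨z', hz'C, hz'cl⟩ := nonempty_inter_closedPoints hne hC'.isLocallyClosed
  have hz'cl' : IsClosed ({z'} : Set (f.fiber (f c))) := hz'cl
  obtain ⟨K, hK, hKeq⟩ := (f.fiberι (f c)).isEmbedding.isInducing.isClosed_iff.mp hz'cl'
  refine ⟨f.fiberι (f c) z', hz'C, K, hK, ?_⟩
  have hfx : f (f.fiberι (f c) z') = f c := by
    have : f.fiberι (f c) z' ∈ f ⁻¹' {f c} := by
      rw [← Scheme.Hom.range_fiberι]; exact ⟨z', rfl⟩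
    exact this
  rw [hfx, ← Scheme.Hom.range_fiberι, ← Set.image_preimage_eq_inter_range, hKeq,
    Set.image_singleton]

/-- The residue field extension at a point closed in its fibre of a morphism locally of finite
type is finite. -/
lemma finite_residueFieldMap_of_isClosedInFibre {X Y : Scheme.{u}} (f : X ⟶ Y)
    [LocallyOfFiniteType f] (x : X) (h : IsClosedInFibre f x) :
    (f.residueFieldMap x).hom.Finite := by
  have hcl : IsClosed (Set.range (f.asFiberHom x)) := by
    rw [Scheme.Hom.range_asFiberHom]
    exact isClosed_singleton_asFiber f x h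
  have hci : IsClosedImmersion (f.asFiberHom x) := IsClosedImmersion.of_isPreimmersion _ hcl
  have hlft : LocallyOfFiniteType (f.fiberToSpecResidueField (f x)) :=
    MorphismProperty.pullback_snd _ _ inferInstance
  have hlft2 : LocallyOfFiniteType (Spec.map (f.residueFieldMap x)) := by
    rw [← Scheme.Hom.asFiberHom_fiberToSpecResidueField]
    infer_instance
  have hfin : IsFinite (Spec.map (f.residueFieldMap x)) :=
    (isFinite_iff_locallyOfFiniteType_of_jacobsonSpace
      (f := Spec.map (f.residueFieldMap x))).mpr hlft2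
  exact (IsFinite.SpecMap_iff _).mp hfin

/-- Étale slice through a point closed in its fibre, in characteristic zero. -/
theorem exists_etale_slice_of_isClosedInFibre {k : Type u} [Field k] [CharZero k]
    {X S : Scheme.{u}} (σ : S ⟶ Spec (CommRingCat.of k)) (f : X ⟶ S) [Smooth f] (x : X)
    (h : IsClosedInFibre f x) :
    ∃ (Z : Scheme.{u}) (i : Z ⟶ X) (z : Z), IsImmersion i ∧ Etale (i ≫ f) ∧ i z = x := by
  have hfin := finite_residueFieldMap_of_isClosedInFibre f x h
  -- characteristic zero
  let φ : k →+* S.residueField (f x) :=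
    ((S.Γevaluation (f x)).hom.comp σ.appTop.hom).comp
      (Scheme.ΓSpecIso (CommRingCat.of k)).inv.hom
  have hchar : CharZero (S.residueField (f x)) := charZero_of_injective_ringHom φ.injective
  letI := (f.residueFieldMap x).hom.toAlgebra
  have hmf : Module.Finite (S.residueField (f x)) (X.residueField x) := hfin
  have halg : Algebra.IsAlgebraic (S.residueField (f x)) (X.residueField x) :=
    Algebra.IsAlgebraic.of_finite _ _
  have hsep : Algebra.IsSeparable (S.residueField (f x)) (X.residueField x) :=
    Algebra.IsAlgebraic.isSeparable_of_perfectField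
  exact Groth.Agent.Lib.Helper25.EtaleSliceScheme.exists_etale_slice f x hsep

end Groth.Agent.Lib27.ClosedInFibre
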