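import Mathlib
open CategoryTheory AlgebraicGeometry Limits

universe u

namespace Groth.Agent.Lib27.ClosedPtsGalois

theorem exists_aut_of_two_embeddings (k L K : Type*) [Field k] [Field L] [Field K] [Algebra k L]
    [Algebra k K] [IsAlgClosure k K] (a b : L →ₐ[k] K) :
    ∃ σ : K ≃ₐ[k] K, ∀ l, σ (a l) = b l := by
  let _ : Algebra L K := a.toRingHom.toAlgebra
  have : IsScalarTower k L K := IsScalarTower.of_algebraMap_eq (fun r => (a.commutes r).symm)
  have : Algebra.IsAlgebraic k K := IsAlgClosure.isAlgebraic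
  have : IsAlgClosed K := IsAlgClosure.isAlgClosed k
  have : Algebra.IsAlgebraic L K := Algebra.IsAlgebraic.tower_top (K := k) L
  obtain ⟨σ₀, hσ₀⟩ := IsAlgClosed.surjective_domRestrict_of_isAlgebraic (K := k) (L := L) (E := K) (M := K) b
  have hb : Function.Bijective σ₀ := Algebra.IsAlgebraic.algHom_bijective σ₀
  refine ⟨AlgEquiv.ofBijective σ₀ hb, fun l => ?_⟩
  have := congrArg (fun g : L →ₐ[k] K => g l) hσ₀
  exact this

variable (k K : Type u) [Field k] [Field K] [Algebra k K] [IsAlgClosure k K]
  {X : Scheme.{u}} (f : X ⟶ Spec (CommRingCat.of k))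

/-- the image of a `K`-point over `k` is closed. -/
theorem isClosed_of_point (p : Spec (CommRingCat.of K) ⟶ X)
    (hp : p ≫ f = Spec.map (CommRingCat.ofHom (algebraMap k K))) :
    IsClosed ({p.base (IsLocalRing.closedPoint K)} : Set X) := by
  have : Algebra.IsAlgebraic k K := IsAlgClosure.isAlgebraic
  have : Algebra.IsIntegral k K := Algebra.IsAlgebraic.isIntegral
  let g : Spec (CommRingCat.of K) ⟶ Spec (CommRingCat.of k) :=
    Spec.map (CommRingCat.ofHom (algebraMap k K))
  have hg : IsIntegralHom g := by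
    rw [IsIntegralHom.SpecMap_iff]
    exact algebraMap_isIntegral_iff.mpr inferInstance
  let s : Spec (CommRingCat.of K) ⟶ pullback f g := pullback.lift p (𝟙 _) (by rw [hp]; simp [g])
  have hs : s ≫ pullback.snd f g = 𝟙 _ := pullback.lift_snd _ _ _
  have := isClosedImmersion_of_comp_eq_id _ _ hs
  have h1 := s.isClosedEmbedding.isClosed_range
  have h2 : IsClosedMap (pullback.fst f g).base := (pullback.fst f g).isClosedMap
  have h3 := h2 _ h1
  have h4 : (pullback.fst f g).base '' Set.range s.base = {p.base (IsLocalRing.closedPoint K)} := by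
    ext y
    simp only [Set.mem_image, Set.mem_range, Set.mem_singleton_iff]
    constructor
    · rintro ⟨_, ⟨z, rfl⟩, rfl⟩
      have hz : z = IsLocalRing.closedPoint K := Subsingleton.elim _ _
      have e1 : (pullback.fst f g).base (s.base z) = (s ≫ pullback.fst f g).base z := rfl
      rw [e1, pullback.lift_fst, hz]
    · rintro rfl
      refine ⟨_, ⟨IsLocalRing.closedPoint K, rfl⟩, ?_⟩
      have e1 : (pullback.fst f g).base (s.base (IsLocalRing.closedPoint K)) =
        (s ≫ pullback.fst f g).base (IsLocalRing.closedPoint K) := rfl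
      rw [e1, pullback.lift_fst]
  rwa [h4] at h3


/-- any `K`-point with image `x` factors through `Spec κ(x)`. -/
theorem exists_factor (p : Spec (CommRingCat.of K) ⟶ X) (x : X)
    (hx : p.base (IsLocalRing.closedPoint K) = x) :
    ∃ φ : X.residueField x ⟶ CommRingCat.of K, p = Spec.map φ ≫ X.fromSpecResidueField x := by
  subst hx
  exact ⟨((Scheme.SpecToEquivOfField K X) p).2,
    ((Scheme.SpecToEquivOfField K X).symm_apply_apply p).symm⟩

/-- the structure map `k → κ(x)`. -/
noncomputable def strMap (x : X) : CommRingCat.of k ⟶ X.residueField x :=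
  Spec.preimage (X.fromSpecResidueField x ≫ f)

theorem SpecMap_strMap (x : X) :
    Spec.map (strMap k f x) = X.fromSpecResidueField x ≫ f := Spec.map_preimage _

variable [LocallyOfFiniteType f]

theorem strMap_isIntegral (x : X) (hx : IsClosed ({x} : Set X)) :
    (strMap k f x).hom.IsIntegral := by
  have : IsFinite (X.fromSpecResidueField x ≫ f) := by
    rw [isClosed_singleton_iff_isClosedImmersion] at hx
    rw [isFinite_iff_locallyOfFiniteType_of_jacobsonSpace]
    infer_instance
  rw [← IsIntegralHom.SpecMap_iff, SpecMap_strMap]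
  infer_instance

theorem exists_point (x : X) (hx : IsClosed ({x} : Set X)) :
    ∃ p : Spec (CommRingCat.of K) ⟶ X, p ≫ f = Spec.map (CommRingCat.ofHom (algebraMap k K)) ∧
          p.base (IsLocalRing.closedPoint K) = x := by
  let _ : Algebra k (X.residueField x) := (strMap k f x).hom.toAlgebra
  have hint : Algebra.IsIntegral k (X.residueField x) :=
    algebraMap_isIntegral_iff.mp (strMap_isIntegral k f x hx)
  have : Algebra.IsAlgebraic k (X.residueField x) := Algebra.IsIntegral.isAlgebraic
  have : IsAlgClosed K := IsAlgClosure.isAlgClosed k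
  let ψ : X.residueField x →ₐ[k] K := IsAlgClosed.lift
  refine ⟨Spec.map (CommRingCat.ofHom ψ.toRingHom) ≫ X.fromSpecResidueField x, ?_, ?_⟩
  · rw [Category.assoc, ← SpecMap_strMap, ← Spec.map_comp]
    congr 1
    ext a
    exact ψ.commutes a
  · exact Scheme.fromSpecResidueField_apply x _


omit [LocallyOfFiniteType f] in
theorem exists_aut (p q : Spec (CommRingCat.of K) ⟶ X)
    (hp : p ≫ f = Spec.map (CommRingCat.ofHom (algebraMap k K)))
    (hq : q ≫ f = Spec.map (CommRingCat.ofHom (algebraMap k K)))
    (h : p.base (IsLocalRing.closedPoint K) = q.base (IsLocalRing.closedPoint K)) :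
    ∃ σ : K ≃ₐ[k] K, q = Spec.map (CommRingCat.ofHom σ.toRingHom) ≫ p := by
  obtain ⟨x, hx⟩ : ∃ x, p.base (IsLocalRing.closedPoint K) = x := ⟨_, rfl⟩
  obtain ⟨φp, hp'⟩ := exists_factor K p x hx
  obtain ⟨φq, hq'⟩ := exists_factor K q x (h.symm.trans hx)
  let _ : Algebra k (X.residueField x) := (strMap k f x).hom.toAlgebra
  have h1 : strMap k f x ≫ φp = CommRingCat.ofHom (algebraMap k K) := by
    apply Spec.map_injective
    rw [Spec.map_comp, SpecMap_strMap, ← Category.assoc, ← hp', hp]
  have h2 : strMap k f x ≫ φq = CommRingCat.ofHom (algebraMap k K) := by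
    apply Spec.map_injective
    rw [Spec.map_comp, SpecMap_strMap, ← Category.assoc, ← hq', hq]
  let a : X.residueField x →ₐ[k] K :=
    { φp.hom with commutes' := fun r => congrArg (fun g => g.hom r) h1 }
  let b : X.residueField x →ₐ[k] K :=
    { φq.hom with commutes' := fun r => congrArg (fun g => g.hom r) h2 }
  obtain ⟨σ, hσ⟩ := exists_aut_of_two_embeddings k (X.residueField x) K a b
  refine ⟨σ, ?_⟩
  rw [hq', hp', ← Category.assoc, ← Spec.map_comp]
  congr 2
  ext l
  exact (hσ l).symm

end Groth.Agent.Lib27.ClosedPtsGalois
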