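import Mathlib
import Groth.Agent.Lib27.Sch.ImageCartier
import Groth.Agent.Lib27.Sch.ComplCartier

/-!
# Closures of a closed cover of the interior of a modulus pair (helper27)
-/

set_option autoImplicit false

universe u

open CategoryTheory CategoryTheory.Limits AlgebraicGeometry TopologicalSpace

namespace Groth.Agent.Lib27.ClosureCover

open Groth.Agent.Lib.Helper25.BlowUpUP Groth.Agent.Lib27.ImageCartier

variable {S V : Scheme.{u}}

/-- every point of a scheme with an effective Cartier divisor is a specialization of a point of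
the complement of the divisor. -/
theorem exists_specializes_of_isEffCartierIdeal (I : S.IdealSheafData)
    (hI : BlowUp.IsEffCartierIdeal I) (s : S) :
    ∃ u : S, u ∈ ModPair.interior I ∧ u ⤳ s := by
  obtain ⟨W, hsW, f, hf, hfW⟩ := hI s
  let 𝔭 : PrimeSpectrum Γ(S, W.1) := W.2.primeIdealOf ⟨s, hsW⟩
  let M : Submonoid Γ(S, W.1) := Submonoid.powers f ⊔ 𝔭.asIdeal.primeCompl
  have hdisj : Disjoint ((⊥ : Ideal Γ(S, W.1)) : Set Γ(S, W.1)) (M : Set Γ(S, W.1)) := by
    rw [Set.disjoint_left]
    intro a ha haM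
    have ha0 : a = 0 := ha
    subst ha0
    obtain ⟨y, ⟨n, rfl⟩, z, hz, hyz⟩ := Submonoid.mem_sup.mp haM
    have hyz' : f ^ n * z = 0 := hyz
    have hz0 : z = 0 :=
      (mem_nonZeroDivisors_iff.mp (pow_mem hf n)).1 z hyz'
    exact hz (hz0 ▸ 𝔭.asIdeal.zero_mem)
  obtain ⟨𝔮, h𝔮, -, h𝔮M⟩ := Ideal.exists_le_prime_disjoint (⊥ : Ideal Γ(S, W.1)) M hdisj
  have hle : 𝔮 ≤ 𝔭.asIdeal := by
    intro a ha
    by_contra hna
    exact Set.disjoint_left.mp h𝔮M ha
      ((le_sup_right : 𝔭.asIdeal.primeCompl ≤ M) hna)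
  have hfq : f ∉ 𝔮 := fun hfq =>
    Set.disjoint_left.mp h𝔮M hfq
      ((le_sup_left : Submonoid.powers f ≤ M) (Submonoid.mem_powers f))
  let q : PrimeSpectrum Γ(S, W.1) := ⟨𝔮, h𝔮⟩
  have hspec : q ⤳ 𝔭 := (PrimeSpectrum.le_iff_specializes q 𝔭).mp hle
  have hmap := hspec.map W.2.fromSpec.continuous
  have hs : W.2.fromSpec 𝔭 = s := W.2.fromSpec_primeIdealOf ⟨s, hsW⟩
  rw [hs] at hmap
  refine ⟨W.2.fromSpec q, ?_, hmap⟩
  have hqW : W.2.fromSpec q ∈ W.1 := by
    have : W.2.fromSpec q ∈ Set.range W.2.fromSpec := ⟨q, rfl⟩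
    rw [W.2.range_fromSpec] at this
    exact this
  have hqf : W.2.fromSpec q ∈ S.basicOpen f := by
    change q ∈ W.2.fromSpec ⁻¹ᵁ S.basicOpen f
    rw [W.2.fromSpec_preimage_basicOpen]
    exact hfq
  have h1 := Groth.Agent.Lib27.ComplCartier.compl_support_inf_eq_basicOpen I W f hfW
  have : W.2.fromSpec q ∈ ((I.support : Set S)ᶜ ∩ (W.1 : Set S)) := by
    rw [h1]; exact hqf
  exact this.1

/-- the complement of an effective Cartier divisor has quasi-compact inclusion. -/
theorem quasiCompact_interior_ι (I : S.IdealSheafData) (hI : BlowUp.IsEffCartierIdeal I) :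
    QuasiCompact (ModPair.interior I).ι :=
  quasiCompact_ι_of_compl_supports (locPrin_of_isEffCartier hI) (locPrin_of_isEffCartier hI)
    (ModPair.interior I) (by
      change ((I.support : Set S))ᶜ = _
      rw [Set.inter_self])

/-- for a closed immersion `g : V ⟶ U` into an open `U ⊆ S` with quasi-compact inclusion, the
morphism from `V` to the scheme-theoretic image of `V ⟶ S` is an open immersion onto the
preimage of `U`. -/
theorem isOpenImmersion_toImage (U : S.Opens) [QuasiCompact U.ι] (g : V ⟶ U.toScheme)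
    [IsClosedImmersion g] :
    IsOpenImmersion (g ≫ U.ι).toImage ∧
      Set.range (g ≫ U.ι).toImage = (g ≫ U.ι).imageι ⁻¹' (U : Set S) := by
  set j := g ≫ U.ι with hj
  let W : j.image.Opens := j.imageι ⁻¹ᵁ U
  have hrange : Set.range j.toImage ⊆ Set.range W.ι := by
    rintro _ ⟨v, rfl⟩
    rw [Scheme.Opens.range_ι]
    change j.imageι (j.toImage v) ∈ U
    rw [← Scheme.Hom.comp_apply, Scheme.Hom.toImage_imageι]
    exact (g v).2
  let σ : V ⟶ W.toScheme := IsOpenImmersion.lift W.ι j.toImage hrange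
  have hσ : σ ≫ W.ι = j.toImage := IsOpenImmersion.lift_fac _ _ _
  let τ : W.toScheme ⟶ U.toScheme := j.imageι ∣_ U
  have : IsClosedImmersion τ :=
    IsZariskiLocalAtTarget.restrict (P := @IsClosedImmersion) inferInstance U
  have hστ : σ ≫ τ = g := by
    rw [← cancel_mono U.ι, Category.assoc, morphismRestrict_ι, ← Category.assoc, hσ,
      Scheme.Hom.toImage_imageι]
  -- the two closed subschemes of `U` have the same ideal
  have sq1 : IsPullback g (𝟙 V) U.ι j :=
    IsPullback.of_vert_isIso_mono ⟨by rw [Category.id_comp]⟩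
  have sq2 : IsPullback τ W.ι U.ι j.imageι := isPullback_morphismRestrict j.imageι U
  have hker : g.ker = τ.ker := by
    ext O : 2
    rw [Scheme.ker_ideal_of_isPullback_of_isOpenImmersion j g (𝟙 V) U.ι sq1 O,
      Scheme.ker_ideal_of_isPullback_of_isOpenImmersion j.imageι τ W.ι U.ι sq2 O,
      Scheme.IdealSheafData.ker_subschemeι]
  let ρ : W.toScheme ⟶ V := IsClosedImmersion.lift g τ hker.le
  have hρ : ρ ≫ g = τ := IsClosedImmersion.lift_fac _ _ _
  have h1 : σ ≫ ρ = 𝟙 _ := by
    rw [← cancel_mono g, Category.assoc, hρ, hστ, Category.id_comp]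
  have h2 : ρ ≫ σ = 𝟙 _ := by
    rw [← cancel_mono τ, Category.assoc, hστ, hρ, Category.id_comp]
  have : IsIso σ := ⟨ρ, h1, h2⟩
  constructor
  · rw [← hσ]; infer_instance
  · rw [← hσ]
    change Set.range (σ ≫ W.ι) = _
    rw [Scheme.Hom.comp_base, TopCat.coe_comp, Set.range_comp,
      Set.range_eq_univ.mpr (ConcreteCategory.bijective_of_isIso σ.base).2, Set.image_univ]
    exact Scheme.Opens.range_ι W

/-- **closures of a jointly surjective family of closed subschemes of the interior**. -/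
theorem closure_of_closed_cover (I : S.IdealSheafData) (hI : BlowUp.IsEffCartierIdeal I)
    {ι : Type u} (V : ι → Scheme.{u})
    (g : ∀ i, V i ⟶ (ModPair.interior I : Scheme.{u})) [∀ i, IsClosedImmersion (g i)]
    (hsurj : ∀ u : (ModPair.interior I : Scheme.{u}), ∃ (i : ι) (v : V i), (g i).base v = u) :
    (∀ s : S, ∃ (i : ι) (v : (g i ≫ (ModPair.interior I).ι).image),
        (g i ≫ (ModPair.interior I).ι).imageι.base v = s) ∧
      (∀ i, BlowUp.IsEffCartierIdeal (I.comap (g i ≫ (ModPair.interior I).ι).imageι)) ∧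
      ∀ i, IsOpenImmersion (g i ≫ (ModPair.interior I).ι).toImage ∧
        Set.range (g i ≫ (ModPair.interior I).ι).toImage.base =
          (g i ≫ (ModPair.interior I).ι).imageι.base ⁻¹' (ModPair.interior I : Set S) := by
  have := quasiCompact_interior_ι I hI
  refine ⟨fun s => ?_, fun i => ?_, fun i => ?_⟩
  · obtain ⟨u, hu, hus⟩ := exists_specializes_of_isEffCartierIdeal I hI s
    obtain ⟨i, v, hv⟩ := hsurj ⟨u, hu⟩
    refine ⟨i, ?_⟩
    have hmem : s ∈ Set.range (g i ≫ (ModPair.interior I).ι).imageι := by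
      rw [Scheme.IdealSheafData.range_subschemeι, Scheme.Hom.support_ker]
      have h1 : s ∈ closure {u} := specializes_iff_mem_closure.mp hus
      refine closure_mono ?_ h1
      intro x hx
      rw [Set.mem_singleton_iff.mp hx]
      refine ⟨v, ?_⟩
      rw [Scheme.Hom.comp_apply]
      change (ModPair.interior I).ι ((g i).base v) = u
      rw [hv]
      rfl
    obtain ⟨w, hw⟩ := hmem
    exact ⟨w, hw⟩
  · refine isEffCartierIdeal_comap_imageι _ I (locPrin_of_isEffCartier hI) ?_
    refine comap_eq_top_of_support I _ (fun y => ?_)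
    rw [Scheme.Hom.comp_apply]
    exact ((g i) y).2
  · exact isOpenImmersion_toImage (ModPair.interior I) (g i)

end Groth.Agent.Lib27.ClosureCover
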