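import Mathlib.AlgebraicGeometry.AffineScheme
import Mathlib.AlgebraicGeometry.Stalk
import Mathlib.RingTheory.AdicCompletion.RingHom

/-!
# Morphisms from the spectrum of a complete local ring

`Hom(Spec A, X) = lim Hom(Spec A/m^n, X)` for a local ring `A` complete for its maximal ideal.
-/

set_option autoImplicit false
universe u

open CategoryTheory AlgebraicGeometry IsLocalRing

namespace Groth.Agent.Lib27.CompleteLocalHom

variable (A : Type u) [CommRing A] [IsLocalRing A]

/-- Every prime of `A ⧸ m^n` pulls back to the maximal ideal of `A`. -/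
lemma comap_mk_eq (n : ℕ) (p : PrimeSpectrum (A ⧸ maximalIdeal A ^ n)) :
    PrimeSpectrum.comap (Ideal.Quotient.mk (maximalIdeal A ^ n)) p = closedPoint A := by
  apply PrimeSpectrum.ext
  have hprime : (PrimeSpectrum.comap (Ideal.Quotient.mk (maximalIdeal A ^ n)) p).asIdeal.IsPrime :=
    (PrimeSpectrum.comap (Ideal.Quotient.mk (maximalIdeal A ^ n)) p).isPrime
  have hle : maximalIdeal A ≤
      (PrimeSpectrum.comap (Ideal.Quotient.mk (maximalIdeal A ^ n)) p).asIdeal := by
    apply hprime.le_of_pow_le (n := n)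
    intro a ha
    change Ideal.Quotient.mk (maximalIdeal A ^ n) a ∈ p.asIdeal
    rw [Ideal.Quotient.eq_zero_iff_mem.mpr ha]
    exact p.asIdeal.zero_mem
  exact ((maximalIdeal.isMaximal A).eq_of_le hprime.ne_top hle).symm

instance subsingleton_spec (n : ℕ) : Subsingleton (PrimeSpectrum (A ⧸ maximalIdeal A ^ n)) := by
  constructor
  intro p q
  apply PrimeSpectrum.comap_injective_of_surjective _ Ideal.Quotient.mk_surjective
  rw [comap_mk_eq, comap_mk_eq]

lemma nontrivial_quot (n : ℕ) : Nontrivial (A ⧸ maximalIdeal A ^ (n + 1)) := by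
  apply Ideal.Quotient.nontrivial_iff.mpr
  intro h
  have : maximalIdeal A = ⊤ := by
    apply top_unique
    rw [← h]
    exact Ideal.pow_le_self (Nat.succ_ne_zero n)
  exact (maximalIdeal.isMaximal A).ne_top this

variable {A}

/-- A morphism from an affine scheme whose image lies in an affine open `U` comes from a ring map
out of `Γ(X, U)`. -/
lemma exists_ringHom_of_forall_mem {X : Scheme.{u}} {R : CommRingCat.{u}} (h : Spec R ⟶ X)
    {U : X.Opens} (hU : IsAffineOpen U) (hr : ∀ y : Spec R, h.base y ∈ U) :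
    ∃ φ : Γ(X, U) ⟶ R, Spec.map φ ≫ hU.fromSpec = h := by
  have hrange : Set.range h.base ⊆ Set.range hU.fromSpec.base := by
    rw [hU.range_fromSpec]
    rintro _ ⟨y, rfl⟩
    exact hr y
  refine ⟨Spec.preimage (IsOpenImmersion.lift hU.fromSpec h hrange), ?_⟩
  rw [Spec.map_preimage, IsOpenImmersion.lift_fac]

lemma ringHom_ext_of_fromSpec {X : Scheme.{u}} {R : CommRingCat.{u}}
    {U : X.Opens} (hU : IsAffineOpen U) (φ ψ : Γ(X, U) ⟶ R)
    (h : Spec.map φ ≫ hU.fromSpec = Spec.map ψ ≫ hU.fromSpec) : φ = ψ := by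
  apply Spec.map_injective
  exact (cancel_mono hU.fromSpec).mp h


variable (A)

/-- The quotient map `A → A/m^n` as a morphism of schemes. -/
noncomputable abbrev q (n : ℕ) :
    Spec (CommRingCat.of (A ⧸ maximalIdeal A ^ n)) ⟶ Spec (CommRingCat.of A) :=
  Spec.map (CommRingCat.ofHom (Ideal.Quotient.mk (maximalIdeal A ^ n)))

lemma q_base (n : ℕ) (z : Spec (CommRingCat.of (A ⧸ maximalIdeal A ^ n))) :
    (q A n).base z = closedPoint A :=
  comap_mk_eq A n z

lemma forall_mem_of_closedPoint_mem {X : Scheme.{u}} (f : Spec (CommRingCat.of A) ⟶ X)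
    (U : X.Opens) (h : f.base (closedPoint A) ∈ U) (y : Spec (CommRingCat.of A)) :
    f.base y ∈ U := by
  have hs : f.base y ⤳ f.base (closedPoint A) :=
    (IsLocalRing.specializes_closedPoint (R := A) y).map f.continuous
  exact hs.mem_open U.2 h

theorem hom_ext_of_complete [IsAdicComplete (maximalIdeal A) A] (X : Scheme.{u})
    (f g : Spec (CommRingCat.of A) ⟶ X)
    (h : ∀ n : ℕ, q A n ≫ f = q A n ≫ g) : f = g := by
  haveI := nontrivial_quot A 0
  obtain ⟨z⟩ := (inferInstance : Nonempty (PrimeSpectrum (A ⧸ maximalIdeal A ^ (0 + 1))))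
  have hfg : f.base (closedPoint A) = g.base (closedPoint A) := by
    have h1 := congrArg (fun k => k.base z) (h 1)
    simp only [Scheme.Hom.comp_base, TopCat.hom_comp, ContinuousMap.comp_apply] at h1
    rw [q_base A 1 z] at h1
    exact h1
  obtain ⟨_, ⟨U, hU, rfl⟩, hxU, -⟩ := X.isBasis_affineOpens.exists_subset_of_mem_open
    (Set.mem_univ (f.base (closedPoint A))) isOpen_univ
  have hU' : IsAffineOpen U := hU
  obtain ⟨φ, hφ⟩ := exists_ringHom_of_forall_mem f hU'
    (forall_mem_of_closedPoint_mem A f U hxU)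
  obtain ⟨ψ, hψ⟩ := exists_ringHom_of_forall_mem g hU'
    (forall_mem_of_closedPoint_mem A g U (hfg ▸ hxU))
  have hφψ : φ = ψ := by
    ext b
    have hsub : φ.hom b - ψ.hom b = 0 := by
      apply IsHausdorff.haus (I := maximalIdeal A) (M := A) inferInstance
      intro n
      have hn : φ ≫ CommRingCat.ofHom (Ideal.Quotient.mk (maximalIdeal A ^ n)) =
          ψ ≫ CommRingCat.ofHom (Ideal.Quotient.mk (maximalIdeal A ^ n)) := by
        apply ringHom_ext_of_fromSpec hU'
        rw [Spec.map_comp, Spec.map_comp, Category.assoc, Category.assoc, hφ, hψ]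
        exact h n
      have hb : Ideal.Quotient.mk (maximalIdeal A ^ n) (φ.hom b) =
          Ideal.Quotient.mk (maximalIdeal A ^ n) (ψ.hom b) :=
        congrArg (fun k => k.hom b) hn
      rw [SModEq.zero, smul_eq_mul, Ideal.mul_top]
      exact Ideal.Quotient.eq.mp hb
    exact sub_eq_zero.mp hsub
  rw [← hφ, ← hψ, hφψ]


theorem exists_hom_of_complete [IsAdicComplete (maximalIdeal A) A] (X : Scheme.{u})
    (u : (n : ℕ) → (Spec (CommRingCat.of (A ⧸ maximalIdeal A ^ n)) ⟶ X))
    (hu : ∀ n : ℕ, Spec.map (CommRingCat.ofHom (Ideal.Quotient.factor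
          (Ideal.pow_le_pow_right (I := maximalIdeal A) (Nat.le_succ n)))) ≫ u (n + 1) = u n) :
    ∃ f : Spec (CommRingCat.of A) ⟶ X, ∀ n : ℕ, q A n ≫ f = u n := by
  haveI := nontrivial_quot A 0
  obtain ⟨z₁⟩ := (inferInstance : Nonempty (PrimeSpectrum (A ⧸ maximalIdeal A ^ (0 + 1))))
  obtain ⟨x, hx⟩ : ∃ x : X, x = (u 1).base z₁ := ⟨_, rfl⟩
  have hall : ∀ (n : ℕ) (z : Spec (CommRingCat.of (A ⧸ maximalIdeal A ^ n))),
      (u n).base z = x := by
    intro n
    induction n with
    | zero =>
      intro z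
      exfalso
      haveI : Subsingleton (A ⧸ maximalIdeal A ^ 0) := by
        rw [Ideal.Quotient.subsingleton_iff, pow_zero, Ideal.one_eq_top]
      exact IsEmpty.false (α := PrimeSpectrum (A ⧸ maximalIdeal A ^ 0)) z
    | succ n ih =>
      intro z
      rcases n with _ | n
      · have hz : z = z₁ := Subsingleton.elim (α := PrimeSpectrum _) z z₁
        rw [hz, hx]
      · haveI := nontrivial_quot A n
        obtain ⟨z'⟩ := (inferInstance : Nonempty (PrimeSpectrum (A ⧸ maximalIdeal A ^ (n + 1))))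
        have ht : (Spec.map (CommRingCat.ofHom (Ideal.Quotient.factor
            (Ideal.pow_le_pow_right (I := maximalIdeal A) (Nat.le_succ (n + 1)))))).base z' = z :=
          Subsingleton.elim (α := PrimeSpectrum (A ⧸ maximalIdeal A ^ (n + 1 + 1))) _ _
        have h2 := congrArg (fun k => k.base z') (hu (n + 1))
        simp only [Scheme.Hom.comp_base, TopCat.hom_comp, ContinuousMap.comp_apply] at h2
        rw [ht] at h2
        rw [h2]
        exact ih z'
  obtain ⟨_, ⟨U, hU, rfl⟩, hxU, -⟩ := X.isBasis_affineOpens.exists_subset_of_mem_open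
    (Set.mem_univ x) isOpen_univ
  have hU' : IsAffineOpen U := hU
  choose φ hφ using fun n => exists_ringHom_of_forall_mem (u n) hU'
    (fun z => by rw [hall n z]; exact hxU)
  have hstep : ∀ n, φ (n + 1) ≫ CommRingCat.ofHom (Ideal.Quotient.factor
      (Ideal.pow_le_pow_right (I := maximalIdeal A) (Nat.le_succ n))) = φ n := by
    intro n
    apply ringHom_ext_of_fromSpec hU'
    rw [Spec.map_comp, Category.assoc, hφ, hφ]
    exact hu n
  have hstep' : ∀ n (b : Γ(X, U)), Ideal.Quotient.factor
      (Ideal.pow_le_pow_right (I := maximalIdeal A) (Nat.le_succ n)) ((φ (n + 1)).hom b) =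
      (φ n).hom b := fun n b => congrArg (fun k => k.hom b) (hstep n)
  have hcompat : ∀ {m n : ℕ} (hle : m ≤ n),
      (Ideal.Quotient.factorPow (maximalIdeal A) hle).comp (φ n).hom = (φ m).hom := by
    intro m n hle
    induction n, hle using Nat.le_induction with
    | base =>
      ext b
      obtain ⟨a, ha⟩ := Ideal.Quotient.mk_surjective ((φ m).hom b)
      simp only [RingHom.comp_apply]
      rw [← ha]
      rfl
    | succ n hmn ih =>
      ext b
      obtain ⟨a, ha⟩ := Ideal.Quotient.mk_surjective ((φ (n + 1)).hom b)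
      have h1 : (φ n).hom b = Ideal.Quotient.mk _ a := by
        rw [← hstep' n b, ← ha]
        rfl
      have h2 := congrArg (fun k => k b) ih
      simp only [RingHom.comp_apply] at h2 ⊢
      rw [← h2, h1, ← ha]
      rfl
  let ψ : Γ(X, U) →+* A := IsAdicComplete.liftRingHom (maximalIdeal A) (fun n => (φ n).hom) hcompat
  refine ⟨Spec.map (CommRingCat.ofHom ψ) ≫ hU'.fromSpec, fun n => ?_⟩
  have hn : CommRingCat.ofHom ψ ≫ CommRingCat.ofHom (Ideal.Quotient.mk (maximalIdeal A ^ n)) =
      φ n := by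
    ext b
    exact IsAdicComplete.mk_liftRingHom (maximalIdeal A) (fun n => (φ n).hom) hcompat n b
  rw [← Category.assoc, ← Spec.map_comp, hn, hφ]

end Groth.Agent.Lib27.CompleteLocalHom
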