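import Mathlib
open CategoryTheory AlgebraicGeometry Limits

universe w u
set_option maxHeartbeats 4000000
set_option synthInstance.maxHeartbeats 400000
set_option backward.isDefEq.respectTransparency.types false
set_option autoImplicit false

namespace Groth.Agent.Lib27.EtSheaf

variable {X : Scheme.{u}}

set_option backward.isDefEq.respectTransparency false in
/-- pointwise criterion for the small étale topology -/
theorem mem_et_iff (W : X.Etale) (R : Sieve W) :
    R ∈ X.smallEtaleTopology W ↔
      ∀ x : W.left, ∃ (Y : X.Etale) (f : Y ⟶ W) (y : Y.left), R f ∧ f.left y = x := by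
  rw [Scheme.smallEtaleTopology,
    Scheme.smallGrothendieckTopology_eq_toGrothendieck_smallPretopology _ le_rfl]
  refine (Scheme.mem_toGrothendieck_smallPretopology (P := @Etale) (Q := @Etale) W R).trans ?_
  constructor
  · intro h x
    obtain ⟨Y, f, y, h1, -, h3⟩ := h x
    exact ⟨Y, f, y, h1, h3⟩
  · intro h x
    obtain ⟨Y, f, y, h1, h3⟩ := h x
    exact ⟨Y, f, y, h1, inferInstance, h3⟩

theorem isOpenImmersion_le_etale : (@IsOpenImmersion : MorphismProperty Scheme.{u}) ≤ @Etale :=
  fun _ _ f hf => by
    have : IsOpenImmersion f := hf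
    infer_instance

set_option backward.isDefEq.respectTransparency false in
/-- pointwise criterion for the small Zariski topology on the étale site -/
theorem mem_zar_iff (W : X.Etale) (R : Sieve W) :
    R ∈ X.smallGrothendieckTopology (P := @IsOpenImmersion) (Q := @Etale) W ↔
      ∀ x : W.left, ∃ (Y : X.Etale) (f : Y ⟶ W) (y : Y.left),
        R f ∧ IsOpenImmersion f.left ∧ f.left y = x := by
  rw [Scheme.smallGrothendieckTopology_eq_toGrothendieck_smallPretopology _ isOpenImmersion_le_etale,
    Scheme.mem_toGrothendieck_smallPretopology]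
  exact Iff.rfl


/-- the forgetful functor to schemes. -/
noncomputable abbrev Φ (X : Scheme.{u}) : X.Etale ⥤ Scheme.{u} :=
  Scheme.Etale.forget X ⋙ Over.forget X

noncomputable instance : PreservesLimitsOfShape WalkingCospan (Φ X) := by
  unfold Φ
  infer_instance

/-- comparison of pullbacks. -/
noncomputable def pbIso {Y V U : X.Etale} (g : Y ⟶ U) (f : V ⟶ U) :
    (pullback g f).left ≅ pullback g.left f.left :=
  PreservesPullback.iso (Φ X) g f

theorem pbIso_hom_fst {Y V U : X.Etale} (g : Y ⟶ U) (f : V ⟶ U) :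
    (pbIso g f).hom ≫ pullback.fst g.left f.left = (pullback.fst g f).left :=
  PreservesPullback.iso_hom_fst (Φ X) g f

theorem pbIso_hom_snd {Y V U : X.Etale} (g : Y ⟶ U) (f : V ⟶ U) :
    (pbIso g f).hom ≫ pullback.snd g.left f.left = (pullback.snd g f).left :=
  PreservesPullback.iso_hom_snd (Φ X) g f

instance {Y V U : X.Etale} (g : Y ⟶ U) (f : V ⟶ U) [IsAffine Y.left] [IsAffine V.left]
    [IsAffine U.left] : IsAffine (pullback g f).left :=
  .of_isIso (pbIso g f).hom

instance {Y V U : X.Etale} (g : Y ⟶ U) (f : V ⟶ U) [Surjective f.left] :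
    Surjective (pullback.fst g f).left := by
  rw [← pbIso_hom_fst]
  infer_instance

instance {Y V U : X.Etale} (g : Y ⟶ U) (f : V ⟶ U) [IsOpenImmersion g.left] :
    IsOpenImmersion (pullback.snd g f).left := by
  rw [← pbIso_hom_snd]
  infer_instance

instance {Y V U : X.Etale} (g : Y ⟶ U) (f : V ⟶ U) [IsOpenImmersion f.left] :
    IsOpenImmersion (pullback.fst g f).left := by
  rw [← pbIso_hom_fst]
  infer_instance


section Aff

/-- objects of the affine open cover of an object of the étale site. -/
noncomputable def affObj (Y : X.Etale) (a : Y.left.affineCover.I₀) : X.Etale :=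
  Scheme.Etale.mk (Y.left.affineCover.f a ≫ Y.hom)

/-- inclusion of the members of the affine open cover. -/
noncomputable def affι (Y : X.Etale) (a : Y.left.affineCover.I₀) : affObj Y a ⟶ Y :=
  MorphismProperty.Over.homMk (P := @Etale) (Q := ⊤) (Y.left.affineCover.f a) rfl trivial

instance (Y : X.Etale) (a : Y.left.affineCover.I₀) : IsAffine (affObj Y a).left :=
  inferInstanceAs (IsAffine (Y.left.affineCover.X a))

instance (Y : X.Etale) (a : Y.left.affineCover.I₀) : IsOpenImmersion (affι Y a).left :=
  inferInstanceAs (IsOpenImmersion (Y.left.affineCover.f a))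

theorem affι_covers (Y : X.Etale) (y : Y.left) :
    ∃ (a : Y.left.affineCover.I₀) (z : (affObj Y a).left), (affι Y a).left z = y := by
  obtain ⟨z, hz⟩ := Y.left.affineCover.covers y
  exact ⟨_, z, hz⟩

end Aff

/-- a jointly surjective family of open immersions generates a Zariski covering sieve. -/
theorem ofArrows_mem_zar {W : X.Etale} {I : Type*} (Z : I → X.Etale) (ι : ∀ i, Z i ⟶ W)
    [∀ i, IsOpenImmersion (ι i).left] (hcov : ∀ w : W.left, ∃ i z, (ι i).left z = w) :
    Sieve.ofArrows Z ι ∈ X.smallGrothendieckTopology (P := @IsOpenImmersion) (Q := @Etale) W := by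
  rw [mem_zar_iff]
  intro w
  obtain ⟨i, z, hz⟩ := hcov w
  exact ⟨Z i, ι i, z, Sieve.ofArrows_mk _ _ i, inferInstance, hz⟩

variable (F : X.Etaleᵒᵖ ⥤ Type w)

theorem zar_isSheafFor_ofArrows
    (hzar : Presieve.IsSheaf (X.smallGrothendieckTopology (P := @IsOpenImmersion)) F)
    {W : X.Etale} {I : Type*} (Z : I → X.Etale) (ι : ∀ i, Z i ⟶ W)
    [∀ i, IsOpenImmersion (ι i).left] (hcov : ∀ w : W.left, ∃ i z, (ι i).left z = w) :
    Presieve.IsSheafFor F (Presieve.ofArrows Z ι) := by
  rw [Presieve.isSheafFor_iff_generate]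
  exact hzar _ (ofArrows_mem_zar Z ι hcov)


section Main

variable (hzar : Presieve.IsSheaf (X.smallGrothendieckTopology (P := @IsOpenImmersion)) F)
  (hsing : ∀ (U V : X.Etale) [IsAffine U.left] [IsAffine V.left] (f : V ⟶ U) [Surjective f.left],
          Presieve.IsSheafFor F (Presieve.singleton f))

include hzar hsing in
/-- separatedness for the pullback of an affine surjective singleton. -/
theorem sep {U V : X.Etale} [IsAffine U.left] [IsAffine V.left] (f : V ⟶ U) [Surjective f.left]
    {Y : X.Etale} (g : Y ⟶ U) (t t' : F.obj (Opposite.op Y))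
    (h : ∀ (W : X.Etale) (p : W ⟶ Y) (k : W ⟶ V), p ≫ g = k ≫ f → F.map p.op t = F.map p.op t') :
    t = t' := by
  have hY := zar_isSheafFor_ofArrows F hzar (affObj Y) (affι Y) (affι_covers Y)
  have key : ∀ a, F.map (affι Y a).op t = F.map (affι Y a).op t' := by
    intro a
    have h1 := hsing (affObj Y a) (pullback (affι Y a ≫ g) f) (pullback.fst (affι Y a ≫ g) f)
    have h2 := Presieve.isSeparatedFor_singleton.mp h1.isSeparatedFor
    apply h2
    have h3 := h _ (pullback.fst (affι Y a ≫ g) f ≫ affι Y a) (pullback.snd (affι Y a ≫ g) f)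
      (by rw [Category.assoc, pullback.condition])
    simpa using h3
  refine hY.isSeparatedFor.ext ?_
  intro Z q hq
  cases hq
  exact key _

theorem exists_preimage_pb {Y V U : X.Etale} (g : Y ⟶ U) (f : V ⟶ U) (y : Y.left) (v : V.left)
    (h : g.left y = f.left v) :
    ∃ p : (pullback g f).left, (pullback.fst g f).left p = y ∧ (pullback.snd g f).left p = v := by
  obtain ⟨p, hp1, hp2⟩ := Scheme.Pullback.exists_preimage_pullback (f := g.left) (g := f.left) y v h
  have e : (pbIso g f).hom ((pbIso g f).inv p) = p := by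
    rw [← Scheme.Hom.comp_apply, Iso.inv_hom_id]; rfl
  refine ⟨(pbIso g f).inv p, ?_, ?_⟩
  · rw [← pbIso_hom_fst, ← hp1, Scheme.Hom.comp_apply, e]
  · rw [← pbIso_hom_snd, ← hp2, Scheme.Hom.comp_apply, e]

include hzar hsing in
/-- the sheaf condition for every pullback of the sieve generated by an affine surjective
singleton. -/
theorem isSheafFor_pullback_generate_singleton {U V : X.Etale} [IsAffine U.left] [IsAffine V.left]
    (f : V ⟶ U) [Surjective f.left] {Y : X.Etale} (g : Y ⟶ U) :
    Presieve.IsSheafFor F ((Sieve.generate (Presieve.singleton f)).pullback g : Presieve Y) := by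
  obtain ⟨S, hS⟩ : ∃ S, S = (Sieve.generate (Presieve.singleton f)).pullback g := ⟨_, rfl⟩
  rw [← hS]
  have memS : ∀ {W : X.Etale} (p : W ⟶ Y), S p ↔ ∃ k : W ⟶ V, k ≫ f = p ≫ g := by
    intro W p
    rw [hS, Sieve.pullback_apply, Sieve.generate_apply]
    constructor
    · rintro ⟨Z, k, m, hm, e⟩
      cases hm
      exact ⟨k, e⟩
    · rintro ⟨k, e⟩
      exact ⟨V, k, f, Presieve.singleton.mk, e⟩
  intro x hx
  have hx' := (Presieve.compatible_iff_sieveCompatible x).mp hx
  have xcongr : ∀ {W : X.Etale} (m m' : W ⟶ Y) (_ : m = m') (h1 : S m) (h2 : S m'),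
      x m h1 = x m' h2 := by
    intro W m m' e h1 h2
    subst e
    rfl
  have huniq : ∀ t t', x.IsAmalgamation t → x.IsAmalgamation t' → t = t' := by
    intro t t' ht ht'
    apply sep F hzar hsing f g
    intro W p k hpk
    have hp : S p := (memS p).mpr ⟨k, hpk.symm⟩
    rw [ht p hp, ht' p hp]
  have hq : ∀ a, S (pullback.fst (affι Y a ≫ g) f ≫ affι Y a) := fun a =>
    (memS _).mpr ⟨pullback.snd _ _, by rw [Category.assoc, pullback.condition]⟩
  have hta : ∀ a, ∃! ta : F.obj (Opposite.op (affObj Y a)),
      F.map (pullback.fst (affι Y a ≫ g) f).op ta = x _ (hq a) := by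
    intro a
    refine Presieve.isSheafFor_singleton.mp
      (hsing _ _ (pullback.fst (affι Y a ≫ g) f)) (x _ (hq a)) ?_
    intro Z p₁ p₂ hp
    rw [← hx' _ p₁ (hq a), ← hx' _ p₂ (hq a)]
    exact xcongr _ _ (by rw [← Category.assoc, hp, Category.assoc]) _ _
  choose ta hta1 hta2 using hta
  have hcompat : Presieve.Arrows.Compatible F (affι Y) ta := by
    intro a b Z ga gb hab
    apply sep F hzar hsing f (ga ≫ affι Y a ≫ g)
    intro W h k hk
    have e1 : (h ≫ ga) ≫ (affι Y a ≫ g) = k ≫ f := by
      rw [Category.assoc]; exact hk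
    have e2 : (h ≫ gb) ≫ (affι Y b ≫ g) = k ≫ f := by
      rw [← hk, Category.assoc, ← Category.assoc gb, ← hab, Category.assoc]
    have hm : S (h ≫ ga ≫ affι Y a) := (memS _).mpr ⟨k, by rw [← hk]; simp⟩
    have ea : F.map h.op (F.map ga.op (ta a)) = x _ hm := by
      have e3 : h ≫ ga = pullback.lift (h ≫ ga) k e1 ≫ pullback.fst (affι Y a ≫ g) f :=
        (pullback.lift_fst _ _ _).symm
      rw [← Functor.map_comp_apply, ← op_comp, e3, op_comp, Functor.map_comp_apply,
        hta1, ← hx']
      exact xcongr _ _ (by rw [← Category.assoc, pullback.lift_fst, Category.assoc]) _ _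
    have eb : F.map h.op (F.map gb.op (ta b)) = x _ hm := by
      have e3 : h ≫ gb = pullback.lift (h ≫ gb) k e2 ≫ pullback.fst (affι Y b ≫ g) f :=
        (pullback.lift_fst _ _ _).symm
      rw [← Functor.map_comp_apply, ← op_comp, e3, op_comp, Functor.map_comp_apply,
        hta1, ← hx']
      exact xcongr _ _ (by rw [← Category.assoc, pullback.lift_fst, Category.assoc, hab]) _ _
    rw [ea, eb]
  have hY := zar_isSheafFor_ofArrows F hzar (affObj Y) (affι Y) (affι_covers Y)
  obtain ⟨t, ht, -⟩ := (Presieve.isSheafFor_arrows_iff _ _).mp hY ta hcompat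
  have hamal : x.IsAmalgamation t := by
    intro W h hh
    obtain ⟨k, hk⟩ := (memS h).mp hh
    have hW := zar_isSheafFor_ofArrows F hzar (fun a => pullback h (affι Y a))
      (fun a => pullback.fst h (affι Y a)) (by
        intro w
        obtain ⟨a, z, hz⟩ := affι_covers Y (h.left w)
        obtain ⟨p, hp, -⟩ := exists_preimage_pb h (affι Y a) w z hz.symm
        exact ⟨a, p, hp⟩)
    have key : ∀ a, F.map (pullback.fst h (affι Y a)).op (F.map h.op t) =
        F.map (pullback.fst h (affι Y a)).op (x h hh) := by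
      intro a
      have e0 : pullback.snd h (affι Y a) ≫ affι Y a ≫ g =
          (pullback.fst h (affι Y a) ≫ k) ≫ f := by
        rw [← Category.assoc, ← pullback.condition, Category.assoc, Category.assoc, hk]
      have e1 : pullback.snd h (affι Y a) =
          pullback.lift (pullback.snd h (affι Y a)) (pullback.fst h (affι Y a) ≫ k) e0 ≫
            pullback.fst (affι Y a ≫ g) f := (pullback.lift_fst _ _ _).symm
      rw [← Functor.map_comp_apply, ← op_comp, pullback.condition, op_comp,
        Functor.map_comp_apply, ht a, e1, op_comp, Functor.map_comp_apply, hta1, ← hx', ← hx']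
      exact xcongr _ _ (by
        rw [← Category.assoc, pullback.lift_fst, pullback.condition]) _ _
    refine hW.isSeparatedFor.ext ?_
    intro Z r hr
    cases hr
    exact key _
  exact ⟨t, hamal, fun t' ht' => huniq _ _ ht' hamal⟩

include hzar in
theorem zar_le_finest :
    X.smallGrothendieckTopology (P := @IsOpenImmersion) (Q := @Etale) ≤ Sheaf.finestTopologySingle F := by
  intro W S hS Y f
  exact hzar _ (GrothendieckTopology.pullback_stable _ f hS)

include hzar hsing in
theorem generate_singleton_mem_finest {U V : X.Etale} [IsAffine U.left] [IsAffine V.left]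
    (f : V ⟶ U) [Surjective f.left] :
    Sieve.generate (Presieve.singleton f) ∈ Sheaf.finestTopologySingle F U := by
  intro Y g
  exact isSheafFor_pullback_generate_singleton F hzar hsing f g

include hzar hsing in
/-- the affine case -/
theorem mem_finest_of_mem_et_of_isAffine {W : X.Etale} [IsAffine W.left] (R : Sieve W)
    (hR : R ∈ X.smallEtaleTopology W) : R ∈ Sheaf.finestTopologySingle F W := by
  rw [mem_et_iff] at hR
  choose Y f y hf hy using hR
  have hcov := fun w => affι_covers (Y w) (y w)
  choose a z hz using hcov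
  -- the refined family
  let Y' : W.left → X.Etale := fun w => affObj (Y w) (a w)
  let f' : ∀ w, Y' w ⟶ W := fun w => affι (Y w) (a w) ≫ f w
  have hf' : ∀ w, R (f' w) := fun w => R.downward_closed (hf w) _
  have hw : ∀ w, w ∈ Set.range (f' w).left := fun w => ⟨z w, by
    change (f w).left ((affι (Y w) (a w)).left (z w)) = w
    rw [hz, hy]⟩
  have hopen : ∀ w, IsOpen (Set.range (f' w).left) := fun w => (f' w).left.isOpenMap.isOpen_range
  obtain ⟨T, hT⟩ := isCompact_univ.elim_finite_subcover (fun w => Set.range (f' w).left) hopen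
    (fun w _ => Set.mem_iUnion.mpr ⟨w, hw w⟩)
  -- the coproduct
  have hE : Etale (Sigma.desc (fun w : T => (Y' w.1).hom)) :=
    IsZariskiLocalAtSource.sigmaDesc (fun w => (Y' w.1).prop)
  let V : X.Etale := Scheme.Etale.mk (Sigma.desc (fun w : T => (Y' w.1).hom))
  have hVaff : IsAffine V.left :=
    inferInstanceAs (IsAffine (∐ fun w : T => (Y' w.1).left))
  have hπw : Sigma.desc (fun w : T => (f' w.1).left) ≫ W.hom =
      Sigma.desc (fun w : T => (Y' w.1).hom) := by
    apply Sigma.hom_ext
    intro w
    rw [Sigma.ι_desc_assoc, Sigma.ι_desc]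
    exact MorphismProperty.Over.w (f' w.1)
  let π : V ⟶ W := MorphismProperty.Over.homMk (P := @Etale) (Q := ⊤) (A := V) (B := W)
    (Sigma.desc (fun w : T => (f' w.1).left)) hπw trivial
  let c : ∀ w : T, Y' w.1 ⟶ V := fun w =>
    MorphismProperty.Over.homMk (P := @Etale) (Q := ⊤) (A := Y' w.1) (B := V)
      (Sigma.ι (fun w : T => (Y' w.1).left) w) (by
        change _ ≫ Sigma.desc _ = _
        rw [Sigma.ι_desc]) trivial
  have hcπ : ∀ w : T, c w ≫ π = f' w.1 := by
    intro w
    apply MorphismProperty.Over.Hom.ext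
    change Sigma.ι _ w ≫ Sigma.desc _ = _
    rw [Sigma.ι_desc]
  have hπsurj : Surjective π.left := by
    constructor
    intro x
    have hx : x ∈ ⋃ w ∈ T, Set.range (f' w).left := hT (Set.mem_univ x)
    simp only [Set.mem_iUnion] at hx
    obtain ⟨w, hwT, v, hv⟩ := hx
    refine ⟨(c ⟨w, hwT⟩).left v, ?_⟩
    have : π.left ((c ⟨w, hwT⟩).left v) = (c ⟨w, hwT⟩ ≫ π).left v := rfl
    rw [this, hcπ]
    exact hv
  have h1 : Sieve.generate (Presieve.singleton π) ∈ Sheaf.finestTopologySingle F W :=
    generate_singleton_mem_finest F hzar hsing π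
  have hcO : ∀ w : T, IsOpenImmersion (c w).left := fun w =>
    inferInstanceAs (IsOpenImmersion (Sigma.ι (fun w : T => (Y' w.1).left) w))
  have h2 : Sieve.ofArrows (fun w : T => Y' w.1) c ∈ Sheaf.finestTopologySingle F V := by
    apply zar_le_finest F hzar
    apply ofArrows_mem_zar
    intro v
    obtain ⟨v', hv'⟩ := (sigmaOpenCover (fun w : T => (Y' w.1).left)).covers v
    exact ⟨_, v', hv'⟩
  have h3 : R.pullback π ∈ Sheaf.finestTopologySingle F V := by
    refine GrothendieckTopology.superset_covering _ ?_ h2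
    rw [Sieve.ofArrows, Sieve.generate_le_iff]
    intro Z q hq
    cases hq with
    | mk w =>
      change R (c w ≫ π)
      rw [hcπ]
      exact hf' _
  refine GrothendieckTopology.transitive _ h1 R ?_
  intro Z h hh
  obtain ⟨Z', k, m, hm, rfl⟩ := hh
  cases hm
  rw [Sieve.pullback_comp]
  exact GrothendieckTopology.pullback_stable _ k h3

include hzar hsing in
theorem mem_finest_of_mem_et {W : X.Etale} (R : Sieve W)
    (hR : R ∈ X.smallEtaleTopology W) : R ∈ Sheaf.finestTopologySingle F W := by
  have h1 : Sieve.ofArrows (affObj W) (affι W) ∈ Sheaf.finestTopologySingle F W :=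
    zar_le_finest F hzar _ (ofArrows_mem_zar _ _ (affι_covers W))
  refine GrothendieckTopology.transitive _ h1 R ?_
  intro Z h hh
  obtain ⟨Z', k, m, hm, rfl⟩ := hh
  cases hm with
  | mk a =>
    rw [Sieve.pullback_comp]
    refine GrothendieckTopology.pullback_stable _ k ?_
    exact mem_finest_of_mem_et_of_isAffine F hzar hsing _
      (GrothendieckTopology.pullback_stable _ _ hR)

include hzar hsing in
theorem isSheaf_et : Presieve.IsSheaf X.smallEtaleTopology F := by
  intro W R hR
  have h := mem_finest_of_mem_et F hzar hsing R hR W (𝟙 W)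
  rwa [Sieve.pullback_id] at h

end Main

theorem zar_le_et :
    X.smallGrothendieckTopology (P := @IsOpenImmersion) (Q := @Etale) ≤ X.smallEtaleTopology := by
  intro W R hR
  have hR' := (mem_zar_iff W R).mp hR
  refine (mem_et_iff W R).mpr ?_
  intro x
  obtain ⟨Y, f, y, h1, -, h3⟩ := hR' x
  exact ⟨Y, f, y, h1, h3⟩

theorem main :
    Presieve.IsSheaf X.smallEtaleTopology F ↔
      Presieve.IsSheaf (X.smallGrothendieckTopology (P := @IsOpenImmersion)) F ∧
        ∀ (U V : X.Etale) [IsAffine U.left] [IsAffine V.left] (f : V ⟶ U) [Surjective f.left],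
          Presieve.IsSheafFor F (Presieve.singleton f) := by
  constructor
  · intro hF
    refine ⟨Presieve.isSheaf_of_le F zar_le_et hF, ?_⟩
    intro U V _ _ f hf
    rw [Presieve.isSheafFor_iff_generate]
    apply hF
    rw [mem_et_iff]
    intro x
    obtain ⟨v, hv⟩ := hf.surj x
    exact ⟨V, f, v, Sieve.le_generate _ _ _ Presieve.singleton.mk, hv⟩
  · rintro ⟨hzar, hsing⟩
    exact isSheaf_et F hzar hsing


end Groth.Agent.Lib27.EtSheaf
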