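import Mathlib
import Groth.Prelude.Def_FlatMod2
import Groth.Agent.Lib.Helper8.FlatAffine
import Groth.Agent.Lib.Helper29.QCohExact
import Groth.Agent.Lib.Helper29.QCohBasic

/-!
# Stalk tools: linear stalk maps, stalk of a cokernel, flatness over the base via sections
-/

set_option backward.isDefEq.respectTransparency.types false
set_option autoImplicit false
set_option linter.style.haveILetI false
set_option linter.unusedSectionVars false

universe u

open CategoryTheory CategoryTheory.Limits AlgebraicGeometry Opposite TopologicalSpace Function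

namespace Groth.Agent.Lib27.StalkTools

open Groth.Agent.Lib.Helper29.QCoh Groth.Agent.Lib.Helper8.FlatAffine

variable {X Y : Scheme.{u}}

/-- the stalk map of a morphism of modules as a linear map over the local ring. -/
noncomputable def stalkMapₗ {M N : X.Modules} (φ : M ⟶ N) (x : X) :
    M.presheaf.stalk x →ₗ[X.presheaf.stalk x] N.presheaf.stalk x where
  toFun := stalkMap φ x
  map_add' := map_add _
  map_smul' := stalkMap_smul φ x

@[simp] lemma stalkMapₗ_apply {M N : X.Modules} (φ : M ⟶ N) (x : X) (m : M.presheaf.stalk x) :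
    stalkMapₗ φ x m = stalkMap φ x m := rfl

/-- the stalk of a cokernel is the cokernel of the stalk map. -/
noncomputable def stalkCokernelEquiv {M N : X.Modules} (φ : M ⟶ N) (x : X) :
    (N.presheaf.stalk x ⧸ LinearMap.range (stalkMapₗ φ x)) ≃ₗ[X.presheaf.stalk x]
      (cokernel φ).presheaf.stalk x := by
  have hex : Function.Exact (stalkMap φ x) (stalkMap (cokernel.π φ) x) :=
    (exact_iff_stalk_function_exact (ShortComplex.mk φ (cokernel.π φ) (cokernel.condition φ))).mp
      (ShortComplex.exact_cokernel φ) x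
  have hsurj : Surjective (stalkMapₗ (cokernel.π φ) x) :=
    (epi_iff_stalkMap_surjective (cokernel.π φ)).mp inferInstance x
  have hker : LinearMap.range (stalkMapₗ φ x) = LinearMap.ker (stalkMapₗ (cokernel.π φ) x) := by
    ext n
    rw [LinearMap.mem_ker, LinearMap.mem_range]
    exact (hex n).symm
  exact (Submodule.quotEquivOfEq _ _ hker) ≪≫ₗ
    (stalkMapₗ (cokernel.π φ) x).quotKerEquivOfSurjective hsurj

variable (f : X ⟶ Y) (F : X.Modules)

/-- flatness of the stalk over the base local ring, in terms of the ring of sections of an affine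
open of the base. -/
theorem isFlatOverAt_iff_flat_stalk {U : X.Opens} {V : Y.Opens}
    (hV : IsAffineOpen V) (hUV : U ≤ f ⁻¹ᵁ V) (x : X) (hx : x ∈ U) :
    FlatMod.IsFlatOverAt f F x ↔
      (letI : Module Γ(Y, V) (F.presheaf.stalk x) :=
        Module.compHom _ ((X.presheaf.germ U x hx).hom.comp (f.appLE V U hUV).hom)
       Module.Flat Γ(Y, V) (F.presheaf.stalk x)) := by
  letI mAx : Module Γ(Y, V) (F.presheaf.stalk x) :=
    Module.compHom _ ((X.presheaf.germ U x hx).hom.comp (f.appLE V U hUV).hom)
  have hfx : f x ∈ V := hUV hx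
  letI algAy : Algebra Γ(Y, V) (Y.presheaf.stalk (f x)) :=
    TopCat.Presheaf.algebra_section_stalk Y.presheaf ⟨f x, hfx⟩
  haveI := hV.isLocalization_stalk ⟨f x, hfx⟩
  letI mAyx := FlatMod.moduleStalkOver f F x
  haveI : IsScalarTower Γ(Y, V) (Y.presheaf.stalk (f x)) (F.presheaf.stalk x) :=
    IsScalarTower.of_algebraMap_smul (fun r m => by
      change (f.stalkMap x).hom (Y.presheaf.germ V (f x) hfx r) • m =
        X.presheaf.germ U x hx ((f.appLE V U hUV).hom r) • m
      rw [germ_appLE])
  exact Module.flat_iff_of_isLocalization (Y.presheaf.stalk (f x))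
    (hV.primeIdealOf ⟨f x, hfx⟩).asIdeal.primeCompl _

/-- the ideal `m_y O_{X,x}` is the extension of the prime of the base. -/
theorem map_stalkMap_maximalIdeal {U : X.Opens} {V : Y.Opens}
    (hU : IsAffineOpen U) (hV : IsAffineOpen V) (hUV : U ≤ f ⁻¹ᵁ V) (x : X) (hx : x ∈ U) :
    Ideal.map (f.stalkMap x).hom (IsLocalRing.maximalIdeal (Y.presheaf.stalk (f x))) =
      ((hU.primeIdealOf ⟨x, hx⟩).asIdeal.comap (f.appLE V U hUV).hom).map
        ((X.presheaf.germ U x hx).hom.comp (f.appLE V U hUV).hom) := by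
  have hfx : f x ∈ V := hUV hx
  letI algAy : Algebra Γ(Y, V) (Y.presheaf.stalk (f x)) :=
    TopCat.Presheaf.algebra_section_stalk Y.presheaf ⟨f x, hfx⟩
  haveI := hV.isLocalization_stalk ⟨f x, hfx⟩
  have h1 := IsLocalization.AtPrime.map_eq_maximalIdeal (hV.primeIdealOf ⟨f x, hfx⟩).asIdeal
    (Y.presheaf.stalk (f x))
  have h2 : (hU.primeIdealOf ⟨x, hx⟩).asIdeal.comap (f.appLE V U hUV).hom =
      (hV.primeIdealOf ⟨f x, hfx⟩).asIdeal :=
    congr($(IsAffineOpen.comap_primeIdealOf_appLE V hV U hU hUV hx).1)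
  rw [h2, ← h1, Ideal.map_map]
  congr 1
  ext r
  exact (germ_appLE f hUV x hx r).symm

end Groth.Agent.Lib27.StalkTools
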