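import Mathlib
import Groth.Prelude.Def_FlatMod2
import Groth.Agent.Lib27.Sch.LocalCore
import Groth.Agent.Lib27.Sch.StalkTools
import Groth.Agent.Lib.Helper29.QCohLocFree

/-!
# The fibrewise injectivity criterion at a point of a scheme
-/

set_option backward.isDefEq.respectTransparency.types false
set_option autoImplicit false
set_option linter.style.haveILetI false
set_option linter.unusedSectionVars false

universe u

open CategoryTheory CategoryTheory.Limits AlgebraicGeometry Opposite TopologicalSpace Function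

namespace Groth.Agent.Lib27.FibInjSch

open Groth.Agent.Lib.Helper29.QCoh Groth.Agent.Lib.Helper8.FlatAffine
open Groth.Agent.Lib27.StalkTools Groth.Agent.Lib27.LocalCore

variable {X Y : Scheme.{u}} (f : X ⟶ Y)

theorem exists_affine_pair (x : X) :
    ∃ (U : X.Opens) (V : Y.Opens), IsAffineOpen U ∧ IsAffineOpen V ∧ U ≤ f ⁻¹ᵁ V ∧ x ∈ U := by
  obtain ⟨_, ⟨V, hV : IsAffineOpen V, rfl⟩, hxV, -⟩ :=
    Y.isBasis_affineOpens.exists_subset_of_mem_open (Set.mem_univ (f x)) isOpen_univ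
  obtain ⟨_, ⟨U, hU : IsAffineOpen U, rfl⟩, hxU, hUV⟩ :=
    X.isBasis_affineOpens.exists_subset_of_mem_open (show x ∈ (f ⁻¹ᵁ V : Set X) from hxV)
      (f ⁻¹ᵁ V).isOpen
  exact ⟨U, V, hU, hV, hUV, hxU⟩

theorem fibInj_stalk_iff [LocallyOfFinitePresentation f] (F F' : X.Modules)
    [F.IsQuasicoherent] [F'.IsQuasicoherent] [F.IsFinitePresentation] [F'.IsFinitePresentation]
    (u : F' ⟶ F) (x : X) (hflat : FlatMod.IsFlatOverAt f F x) :
    (Injective (stalkMapₗ u x) ∧ FlatMod.IsFlatOverAt f (cokernel u) x) ↔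
      ∀ m : F'.presheaf.stalk x,
        stalkMapₗ u x m ∈ (Ideal.map (f.stalkMap x).hom
            (IsLocalRing.maximalIdeal (Y.presheaf.stalk (f x)))) •
          (⊤ : Submodule (X.presheaf.stalk x) (F.presheaf.stalk x)) →
        m ∈ (Ideal.map (f.stalkMap x).hom
            (IsLocalRing.maximalIdeal (Y.presheaf.stalk (f x)))) •
          (⊤ : Submodule (X.presheaf.stalk x) (F'.presheaf.stalk x)) := by
  obtain ⟨U, V, hU, hV, hUV, hxU⟩ := exists_affine_pair f x
  have hfp : RingHom.FinitePresentation (f.appLE V U hUV).hom :=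
    HasRingHomProperty.appLE (P := @LocallyOfFinitePresentation) f inferInstance ⟨V, hV⟩ ⟨U, hU⟩
      hUV
  letI algAB : Algebra Γ(Y, V) Γ(X, U) := (f.appLE V U hUV).hom.toAlgebra
  haveI : Algebra.FinitePresentation Γ(Y, V) Γ(X, U) := hfp
  letI algBBq : Algebra Γ(X, U) (X.presheaf.stalk x) :=
    TopCat.Presheaf.algebra_section_stalk X.presheaf ⟨x, hxU⟩
  haveI hloc := hU.isLocalization_stalk ⟨x, hxU⟩
  letI algABq : Algebra Γ(Y, V) (X.presheaf.stalk x) :=
    ((X.presheaf.germ U x hxU).hom.comp (f.appLE V U hUV).hom).toAlgebra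
  haveI : IsScalarTower Γ(Y, V) Γ(X, U) (X.presheaf.stalk x) :=
    IsScalarTower.of_algebraMap_eq (fun _ => rfl)
  letI mF : Module Γ(Y, V) (F.presheaf.stalk x) :=
    Module.compHom _ ((X.presheaf.germ U x hxU).hom.comp (f.appLE V U hUV).hom)
  haveI : IsScalarTower Γ(Y, V) (X.presheaf.stalk x) (F.presheaf.stalk x) :=
    IsScalarTower.of_algebraMap_smul (fun _ _ => rfl)
  letI mF' : Module Γ(Y, V) (F'.presheaf.stalk x) :=
    Module.compHom _ ((X.presheaf.germ U x hxU).hom.comp (f.appLE V U hUV).hom)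
  haveI : IsScalarTower Γ(Y, V) (X.presheaf.stalk x) (F'.presheaf.stalk x) :=
    IsScalarTower.of_algebraMap_smul (fun _ _ => rfl)
  letI mC : Module Γ(Y, V) ((cokernel u).presheaf.stalk x) :=
    Module.compHom _ ((X.presheaf.germ U x hxU).hom.comp (f.appLE V U hUV).hom)
  haveI : IsScalarTower Γ(Y, V) (X.presheaf.stalk x) ((cokernel u).presheaf.stalk x) :=
    IsScalarTower.of_algebraMap_smul (fun _ _ => rfl)
  haveI := finitePresentation_stalk F x
  haveI := finitePresentation_stalk F' x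
  haveI : Module.Flat Γ(Y, V) (F.presheaf.stalk x) :=
    (isFlatOverAt_iff_flat_stalk f F hV hUV x hxU).mp hflat
  have hJ : Ideal.map (f.stalkMap x).hom (IsLocalRing.maximalIdeal (Y.presheaf.stalk (f x))) =
      fibIdeal (A := Γ(Y, V)) (hU.primeIdealOf ⟨x, hxU⟩).asIdeal (X.presheaf.stalk x) :=
    map_stalkMap_maximalIdeal f hU hV hUV x hxU
  have hC : FlatMod.IsFlatOverAt f (cokernel u) x ↔
      Module.Flat Γ(Y, V) (F.presheaf.stalk x ⧸ LinearMap.range (stalkMapₗ u x)) := by
    rw [isFlatOverAt_iff_flat_stalk f (cokernel u) hV hUV x hxU]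
    exact ⟨fun h => Module.Flat.of_linearEquiv ((stalkCokernelEquiv u x).restrictScalars Γ(Y, V)),
      fun h => Module.Flat.of_linearEquiv
        ((stalkCokernelEquiv u x).symm.restrictScalars Γ(Y, V))⟩
  rw [hJ, hC]
  constructor
  · rintro ⟨hinj, hfl⟩ m hm
    exact mem_of_injective_of_flat (A := Γ(Y, V)) (hU.primeIdealOf ⟨x, hxU⟩).asIdeal
      (X.presheaf.stalk x) (stalkMapₗ u x) hinj hfl m hm
  · intro h
    exact fibInj (A := Γ(Y, V)) (hU.primeIdealOf ⟨x, hxU⟩).asIdeal (X.presheaf.stalk x)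
      (stalkMapₗ u x) h

end Groth.Agent.Lib27.FibInjSch
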