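import Mathlib
import Groth.Prelude.Def_FlatMod2
import Groth.Agent.Lib27.Sch.FibInjSch

/-!
# Flat over the base + flat closed fibre at a point ⟹ free near the point
-/

set_option backward.isDefEq.respectTransparency.types false
set_option autoImplicit false
set_option linter.style.haveILetI false
set_option linter.unusedSectionVars false

universe u

open CategoryTheory CategoryTheory.Limits AlgebraicGeometry Opposite TopologicalSpace Function

namespace Groth.Agent.Lib27.FibFreeSch

open Groth.Agent.Lib.Helper29.QCoh Groth.Agent.Lib.Helper8.FlatAffine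
open Groth.Agent.Lib27.StalkTools Groth.Agent.Lib27.LocalCore Groth.Agent.Lib27.FibInjSch

variable {X Y : Scheme.{u}} (f : X ⟶ Y)

theorem free_stalk_of_flat_fibre [LocallyOfFinitePresentation f] (F : X.Modules)
    [F.IsQuasicoherent] [F.IsFinitePresentation] (x : X) (h1 : FlatMod.IsFlatOverAt f F x)
    (h2 : Module.Flat (X.presheaf.stalk x ⧸ Ideal.map (f.stalkMap x).hom
        (IsLocalRing.maximalIdeal (Y.presheaf.stalk (f x))))
      (F.presheaf.stalk x ⧸ (Ideal.map (f.stalkMap x).hom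
        (IsLocalRing.maximalIdeal (Y.presheaf.stalk (f x)))) •
          (⊤ : Submodule (X.presheaf.stalk x) (F.presheaf.stalk x)))) :
    Module.Free (X.presheaf.stalk x) (F.presheaf.stalk x) := by
  obtain ⟨U, V, hU, hV, hUV, hxU⟩ := FibInjSch.exists_affine_pair f x
  have hfp : RingHom.FinitePresentation (f.appLE V U hUV).hom :=
    HasRingHomProperty.appLE (P := @LocallyOfFinitePresentation) f inferInstance ⟨V, hV⟩ ⟨U, hU⟩
      hUV
  letI algAB : Algebra Γ(Y, V) Γ(X, U) := (f.appLE V U hUV).hom.toAlgebra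
  haveI : Algebra.FinitePresentation Γ(Y, V) Γ(X, U) := hfp
  letI algBBq : Algebra Γ(X, U) (X.presheaf.stalk x) :=
    TopCat.Presheaf.algebra_section_stalk X.presheaf ⟨x, hxU⟩
  haveI hloc := hU.isLocalization_stalk ⟨x, hxU⟩
  letI algABq : Algebra Γ(Y, V) (X.presheaf.stalk x) :=
    ((X.presheaf.germ U x hxU).hom.comp (f.appLE V U hUV).hom).toAlgebra
  haveI : IsScalarTower Γ(Y, V) Γ(X, U) (X.presheaf.stalk x) :=
    IsScalarTower.of_algebraMap_eq (fun _ => rfl)
  letI mF : Module Γ(Y, V) (F.presheaf.stalk x) :=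
    Module.compHom _ ((X.presheaf.germ U x hxU).hom.comp (f.appLE V U hUV).hom)
  haveI : IsScalarTower Γ(Y, V) (X.presheaf.stalk x) (F.presheaf.stalk x) :=
    IsScalarTower.of_algebraMap_smul (fun _ _ => rfl)
  haveI := finitePresentation_stalk F x
  haveI : Module.Flat Γ(Y, V) (F.presheaf.stalk x) :=
    (isFlatOverAt_iff_flat_stalk f F hV hUV x hxU).mp h1
  have hJ : Ideal.map (f.stalkMap x).hom (IsLocalRing.maximalIdeal (Y.presheaf.stalk (f x))) =
      fibIdeal (A := Γ(Y, V)) (hU.primeIdealOf ⟨x, hxU⟩).asIdeal (X.presheaf.stalk x) :=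
    map_stalkMap_maximalIdeal f hU hV hUV x hxU
  rw [hJ] at h2
  exact free_of_flat_of_fibre_flat (A := Γ(Y, V)) (hU.primeIdealOf ⟨x, hxU⟩).asIdeal
    (X.presheaf.stalk x) h2

theorem exists_free_nhd [LocallyOfFinitePresentation f] (F : X.Modules)
    [F.IsQuasicoherent] [F.IsFinitePresentation] (x : X) (h1 : FlatMod.IsFlatOverAt f F x)
    (h2 : Module.Flat (X.presheaf.stalk x ⧸ Ideal.map (f.stalkMap x).hom
        (IsLocalRing.maximalIdeal (Y.presheaf.stalk (f x))))
      (F.presheaf.stalk x ⧸ (Ideal.map (f.stalkMap x).hom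
        (IsLocalRing.maximalIdeal (Y.presheaf.stalk (f x)))) •
          (⊤ : Submodule (X.presheaf.stalk x) (F.presheaf.stalk x)))) :
    ∃ (U : X.Opens) (n : ℕ), x ∈ U ∧ Nonempty (F.restrict U.ι ≅ FlatMod.freeMod (↑U) n) := by
  haveI := free_stalk_of_flat_fibre f F x h1 h2
  obtain ⟨V, n, hV, hxV, he⟩ := exists_affine_linearEquiv_of_free_stalk F x
  have h3 := (isFreeAlong_fromSpec_iff F hV n).mpr he
  have h4 : IsFreeAlong F V.ι n := h3.of_range_subset V.ι (by
    rw [hV.range_fromSpec, Scheme.Opens.range_ι])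
  exact ⟨V, n, hxV, (isFreeAlong_iff_restrict F V.ι n).mp h4⟩

end Groth.Agent.Lib27.FibFreeSch
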