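import Mathlib
import Groth.Agent.Lib.Helper10.FibreProductStalk
import Groth.Agent.Lib.Helper13.SurjectiveDescent
import Groth.Agent.Lib27.Flat.FibreBC
import Groth.Agent.Lib27.Flat.FibCritLocal
import Groth.Agent.Lib27.Sch.FibInjSch

/-!
# The local ring of a fibre product is flat over the tensor product of the local rings
(general points and general comparison maps)
-/

set_option backward.isDefEq.respectTransparency.types false
set_option autoImplicit false
set_option linter.style.haveILetI false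
set_option linter.unusedSectionVars false

universe u

open CategoryTheory CategoryTheory.Limits AlgebraicGeometry Opposite TopologicalSpace
open scoped TensorProduct

namespace Groth.Agent.Lib27.FibreBCSch

open Groth.Agent.Lib.Helper10.FibreProductStalk

variable {X S X' S' : Scheme.{u}} {f : X ⟶ S} {f' : X' ⟶ S'} {g' : X' ⟶ X} {g : S' ⟶ S}

/-- Variant of `flat_of_comp_include` where the point of `X` and the comparison maps of local
rings are arbitrary, subject to compatibility with the canonical morphisms from the spectra of the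
local rings. -/
theorem comp_stalkMap_eq_of_fromSpecStalk (hc : IsPullback g' f' f g) (x' : X') (x : X)
    (c : X.presheaf.stalk x ⟶ X'.presheaf.stalk x')
    (a' : S.presheaf.stalk (f.base x) ⟶ S'.presheaf.stalk (f'.base x'))
    (h3 : Spec.map c ≫ X.fromSpecStalk x = X'.fromSpecStalk x' ≫ g')
    (h2 : Spec.map a' ≫ S.fromSpecStalk (f.base x) = S'.fromSpecStalk (f'.base x') ≫ g) :
    a' ≫ f'.stalkMap x' = f.stalkMap x ≫ c := by
  have h1 : Spec.map (f.stalkMap x) ≫ S.fromSpecStalk (f.base x) = X.fromSpecStalk x ≫ f :=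
    Scheme.SpecMap_stalkMap_fromSpecStalk f
  have h4 : Spec.map (f'.stalkMap x') ≫ S'.fromSpecStalk (f'.base x') =
      X'.fromSpecStalk x' ≫ f' := Scheme.SpecMap_stalkMap_fromSpecStalk f'
  apply Spec.map_injective
  rw [Spec.map_comp, Spec.map_comp,
    ← cancel_mono (S.fromSpecStalk (f.base x)), Category.assoc, Category.assoc, h2, h1,
    ← Category.assoc, ← Category.assoc, h4, h3, Category.assoc, Category.assoc, hc.w]

theorem flat_of_comp_include_gen (hc : IsPullback g' f' f g) (x' : X') (x : X)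
    (c : X.presheaf.stalk x ⟶ X'.presheaf.stalk x')
    (a' : S.presheaf.stalk (f.base x) ⟶ S'.presheaf.stalk (f'.base x'))
    (h3 : Spec.map c ≫ X.fromSpecStalk x = X'.fromSpecStalk x' ≫ g')
    (h2 : Spec.map a' ≫ S.fromSpecStalk (f.base x) = S'.fromSpecStalk (f'.base x') ≫ g) :
    letI : Algebra (S.presheaf.stalk (f.base x)) (X.presheaf.stalk x) :=
      (f.stalkMap x).hom.toAlgebra
    letI : Algebra (S.presheaf.stalk (f.base x)) (S'.presheaf.stalk (f'.base x')) :=
      a'.hom.toAlgebra
    ∀ (φ : (S'.presheaf.stalk (f'.base x')) ⊗[S.presheaf.stalk (f.base x)]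
        (X.presheaf.stalk x) →+* X'.presheaf.stalk x'),
      (∀ a, φ (a ⊗ₜ 1) = (f'.stalkMap x').hom a) →
      (∀ b, φ (1 ⊗ₜ b) = c.hom b) → φ.Flat := by
  let _ : Algebra (S.presheaf.stalk (f.base x)) (X.presheaf.stalk x) :=
    (f.stalkMap x).hom.toAlgebra
  let _ : Algebra (S.presheaf.stalk (f.base x)) (S'.presheaf.stalk (f'.base x')) :=
    a'.hom.toAlgebra
  intro φ hφ1' hφ2'
  have hφ1 : φ.comp Algebra.TensorProduct.includeLeftRingHom = (f'.stalkMap x').hom :=
    RingHom.ext hφ1'
  have hφ2 : φ.comp (RingHomClass.toRingHom Algebra.TensorProduct.includeRight) =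
      c.hom := RingHom.ext hφ2'
  have := flat_fromSpecStalk X' x'
  have h1 : Spec.map (f.stalkMap x) ≫ S.fromSpecStalk (f.base x) = X.fromSpecStalk x ≫ f :=
    Scheme.SpecMap_stalkMap_fromSpecStalk f
  have h4 : Spec.map (f'.stalkMap x') ≫ S'.fromSpecStalk (f'.base x') =
      X'.fromSpecStalk x' ≫ f' := Scheme.SpecMap_stalkMap_fromSpecStalk f'
  have hkc : Spec.map (f'.stalkMap x') ≫ Spec.map a' =
      Spec.map c ≫ Spec.map (f.stalkMap x) := by
    rw [← cancel_mono (S.fromSpecStalk (f.base x)), Category.assoc, Category.assoc, h2, h1,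
      ← Category.assoc, ← Category.assoc, h4, h3, Category.assoc, Category.assoc, hc.w]
  have hflat := flat_lift_of_mono hc a' (f.stalkMap x) c (f'.stalkMap x')
    (S.fromSpecStalk _) (S'.fromSpecStalk _) (X.fromSpecStalk _) (X'.fromSpecStalk x')
    h1 h2 h3 h4 hkc
  have hkφ : pullback.lift (Spec.map (f'.stalkMap x')) (Spec.map c) hkc =
      Spec.map (CommRingCat.ofHom φ) ≫ (pullbackSpecIso (S.presheaf.stalk (f.base x))
        (S'.presheaf.stalk (f'.base x')) (X.presheaf.stalk x)).inv := by
    apply pullback.hom_ext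
    · rw [pullback.lift_fst, Category.assoc]
      erw [pullbackSpecIso_inv_fst]
      rw [← Spec.map_comp, ← CommRingCat.ofHom_comp, hφ1]
      rfl
    · rw [pullback.lift_snd, Category.assoc]
      erw [pullbackSpecIso_inv_snd]
      rw [← Spec.map_comp, ← CommRingCat.ofHom_comp, hφ2]
      rfl
  have h2' : Flat (Spec.map (CommRingCat.ofHom φ)) := by
    have : Spec.map (CommRingCat.ofHom φ) = (Spec.map (CommRingCat.ofHom φ) ≫
        (pullbackSpecIso (S.presheaf.stalk (f.base x))
        (S'.presheaf.stalk (f'.base x')) (X.presheaf.stalk x)).inv) ≫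
        (pullbackSpecIso _ _ _).hom := by
      rw [Category.assoc, Iso.inv_hom_id, Category.comp_id]
    rw [this, ← hkφ]
    infer_instance
  exact Flat.SpecMap_iff.mp h2'

section LocPres

variable {X Y : Scheme.{u}}

/-- the local ring of the source of a morphism locally of finite presentation has a local
presentation over the local ring of the target. -/
theorem locPres_stalk (f : X ⟶ Y) [LocallyOfFinitePresentation f] (x : X) :
    letI : Algebra (Y.presheaf.stalk (f x)) (X.presheaf.stalk x) := (f.stalkMap x).hom.toAlgebra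
    Groth.Agent.Lib27.FibCritLocal.LocPres (Y.presheaf.stalk (f x)) (X.presheaf.stalk x) := by
  letI algBC : Algebra (Y.presheaf.stalk (f x)) (X.presheaf.stalk x) :=
    (f.stalkMap x).hom.toAlgebra
  obtain ⟨U, V, hU, hV, hUV, hxU⟩ := Groth.Agent.Lib27.FibInjSch.exists_affine_pair f x
  have hfx : f x ∈ V := hUV hxU
  have hfpUV : RingHom.FinitePresentation (f.appLE V U hUV).hom :=
    HasRingHomProperty.appLE (P := @LocallyOfFinitePresentation) f inferInstance ⟨V, hV⟩ ⟨U, hU⟩
      hUV
  letI algUV : Algebra Γ(Y, V) Γ(X, U) := (f.appLE V U hUV).hom.toAlgebra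
  haveI : Algebra.FinitePresentation Γ(Y, V) Γ(X, U) := hfpUV
  letI algUC : Algebra Γ(X, U) (X.presheaf.stalk x) :=
    TopCat.Presheaf.algebra_section_stalk X.presheaf ⟨x, hxU⟩
  haveI hlocC := hU.isLocalization_stalk ⟨x, hxU⟩
  letI algVB : Algebra Γ(Y, V) (Y.presheaf.stalk (f x)) :=
    TopCat.Presheaf.algebra_section_stalk Y.presheaf ⟨f x, hfx⟩
  have h2 : (hU.primeIdealOf ⟨x, hxU⟩).asIdeal.comap (algebraMap Γ(Y, V) Γ(X, U)) =
      (hV.primeIdealOf ⟨f x, hfx⟩).asIdeal :=
    congr($(IsAffineOpen.comap_primeIdealOf_appLE V hV U hU hUV hxU).1)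
  haveI hlocB : IsLocalization.AtPrime (Y.presheaf.stalk (f x))
      ((hU.primeIdealOf ⟨x, hxU⟩).asIdeal.comap (algebraMap Γ(Y, V) Γ(X, U))) := by
    have h3 := hV.isLocalization_stalk ⟨f x, hfx⟩
    have hpc : ((hU.primeIdealOf ⟨x, hxU⟩).asIdeal.comap
        (algebraMap Γ(Y, V) Γ(X, U))).primeCompl =
        (hV.primeIdealOf ⟨f x, hfx⟩).asIdeal.primeCompl := by
      ext r
      change r ∉ _ ↔ r ∉ _
      rw [h2]
    change IsLocalization _ _
    rw [hpc]
    exact h3
  letI algVC : Algebra Γ(Y, V) (X.presheaf.stalk x) :=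
    ((X.presheaf.germ U x hxU).hom.comp (f.appLE V U hUV).hom).toAlgebra
  haveI : IsScalarTower Γ(Y, V) Γ(X, U) (X.presheaf.stalk x) :=
    IsScalarTower.of_algebraMap_eq (fun _ => rfl)
  haveI : IsScalarTower Γ(Y, V) (Y.presheaf.stalk (f x)) (X.presheaf.stalk x) :=
    IsScalarTower.of_algebraMap_eq (fun r =>
      Groth.Agent.Lib.Helper8.FlatAffine.germ_appLE f hUV x hxU r)
  exact Groth.Agent.Lib27.FibCritLocal.locPres_of_finitePresentation
    (B₀ := Γ(Y, V)) (C₀ := Γ(X, U)) (hU.primeIdealOf ⟨x, hxU⟩).asIdeal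
    (Y.presheaf.stalk (f x)) (X.presheaf.stalk x)

end LocPres

section Main

open Groth.Agent.Lib.Helper10.PullbackStalk

variable {X Y S X' Y' S' : Scheme.{u}}

/-- **Descent of relative flatness along an arbitrary base change of the base `S`**, for a
module flat over `S`. -/
theorem isFlatOverAt_of_baseChange (f : X ⟶ Y) (g : Y ⟶ S)
    [LocallyOfFinitePresentation (f ≫ g)] [LocallyOfFiniteType g]
    (F : X.Modules) [F.IsQuasicoherent] [F.IsFinitePresentation]
    (h : S' ⟶ S) (gY : Y' ⟶ Y) (g' : Y' ⟶ S') (hY : IsPullback gY g' g h)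
    (gX : X' ⟶ X) (f' : X' ⟶ Y') (hX : IsPullback gX (f' ≫ g') (f ≫ g) h)
    (w : gX ≫ f = f' ≫ gY) (x' : X')
    (hfl : FlatMod.IsFlatOverAt (f ≫ g) F (gX x'))
    (h' : FlatMod.IsFlatOverAt f' ((Scheme.Modules.pullback gX).obj F) x') :
    FlatMod.IsFlatOverAt f F (gX x') := by
  classical
  haveI : LocallyOfFinitePresentation f :=
    Groth.Agent.Lib.Helper13.locallyOfFinitePresentation_of_comp f g
  have hc : IsPullback gX f' f gY := by
    have := IsPullback.of_right (h₁₁ := f') (h₁₂ := g') (h₂₁ := f) (h₂₂ := g)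
      (v₁₁ := gX) (v₁₂ := gY) (v₁₃ := h) hX.flip w.symm hY.flip
    exact this.flip
  -- the stalk is trivial or not
  by_cases hM : Subsingleton (F.presheaf.stalk (gX x'))
  · letI := FlatMod.moduleStalkOver f F (gX x')
    change Module.Flat (Y.presheaf.stalk (f (gX x'))) (F.presheaf.stalk (gX x'))
    infer_instance
  rw [not_subsingleton_iff_nontrivial] at hM
  -- algebra structures downstairs
  letI algAB : Algebra (S.presheaf.stalk (g (f (gX x')))) (Y.presheaf.stalk (f (gX x'))) :=
    (g.stalkMap (f (gX x'))).hom.toAlgebra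
  letI algBC : Algebra (Y.presheaf.stalk (f (gX x'))) (X.presheaf.stalk (gX x')) :=
    (f.stalkMap (gX x')).hom.toAlgebra
  letI algAC : Algebra (S.presheaf.stalk (g (f (gX x')))) (X.presheaf.stalk (gX x')) :=
    ((f ≫ g).stalkMap (gX x')).hom.toAlgebra
  haveI twABC : IsScalarTower (S.presheaf.stalk (g (f (gX x')))) (Y.presheaf.stalk (f (gX x')))
      (X.presheaf.stalk (gX x')) := by
    refine IsScalarTower.of_algebraMap_eq fun r => ?_
    change ((f ≫ g).stalkMap (gX x')).hom r =
      (f.stalkMap (gX x')).hom ((g.stalkMap (f (gX x'))).hom r)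
    rw [Scheme.Hom.stalkMap_comp]
    rfl
  -- algebra structures upstairs
  letI algA'B' : Algebra (S'.presheaf.stalk (g' (f' x'))) (Y'.presheaf.stalk (f' x')) :=
    (g'.stalkMap (f' x')).hom.toAlgebra
  letI algB'C' : Algebra (Y'.presheaf.stalk (f' x')) (X'.presheaf.stalk x') :=
    (f'.stalkMap x').hom.toAlgebra
  letI algA'C' : Algebra (S'.presheaf.stalk (g' (f' x'))) (X'.presheaf.stalk x') :=
    ((f' ≫ g').stalkMap x').hom.toAlgebra
  haveI twA'B'C' : IsScalarTower (S'.presheaf.stalk (g' (f' x'))) (Y'.presheaf.stalk (f' x'))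
      (X'.presheaf.stalk x') := by
    refine IsScalarTower.of_algebraMap_eq fun r => ?_
    change ((f' ≫ g').stalkMap x').hom r = (f'.stalkMap x').hom ((g'.stalkMap (f' x')).hom r)
    rw [Scheme.Hom.stalkMap_comp]
    rfl
  -- vertical maps
  letI algCC' : Algebra (X.presheaf.stalk (gX x')) (X'.presheaf.stalk x') :=
    (gX.stalkMap x').hom.toAlgebra
  letI algBB' : Algebra (Y.presheaf.stalk (f (gX x'))) (Y'.presheaf.stalk (f' x')) :=
    (baseStalkMap hc x').hom.toAlgebra
  letI algAA' : Algebra (S.presheaf.stalk (g (f (gX x')))) (S'.presheaf.stalk (g' (f' x'))) :=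
    (baseStalkMap hX x').hom.toAlgebra
  -- diagonal maps
  letI algAB' : Algebra (S.presheaf.stalk (g (f (gX x')))) (Y'.presheaf.stalk (f' x')) :=
    ((baseStalkMap hc x').hom.comp (g.stalkMap (f (gX x'))).hom).toAlgebra
  letI algAC' : Algebra (S.presheaf.stalk (g (f (gX x')))) (X'.presheaf.stalk x') :=
    ((gX.stalkMap x').hom.comp ((f ≫ g).stalkMap (gX x')).hom).toAlgebra
  letI algBC' : Algebra (Y.presheaf.stalk (f (gX x'))) (X'.presheaf.stalk x') :=
    ((gX.stalkMap x').hom.comp (f.stalkMap (gX x')).hom).toAlgebra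
  haveI twABB' : IsScalarTower (S.presheaf.stalk (g (f (gX x')))) (Y.presheaf.stalk (f (gX x')))
      (Y'.presheaf.stalk (f' x')) := IsScalarTower.of_algebraMap_eq fun _ => rfl
  haveI twACC' : IsScalarTower (S.presheaf.stalk (g (f (gX x')))) (X.presheaf.stalk (gX x'))
      (X'.presheaf.stalk x') := IsScalarTower.of_algebraMap_eq fun _ => rfl
  haveI twBCC' : IsScalarTower (Y.presheaf.stalk (f (gX x'))) (X.presheaf.stalk (gX x'))
      (X'.presheaf.stalk x') := IsScalarTower.of_algebraMap_eq fun _ => rfl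
  -- compatibilities
  have h3Y : Spec.map (baseStalkMap hc x') ≫ Y.fromSpecStalk (f (gX x')) =
      Y'.fromSpecStalk (f' x') ≫ gY := SpecMap_baseStalkMap_fromSpecStalk hc x'
  have h2Y : Spec.map (baseStalkMap hX x') ≫ S.fromSpecStalk (g (f (gX x'))) =
      S'.fromSpecStalk (g' (f' x')) ≫ h := SpecMap_baseStalkMap_fromSpecStalk hX x'
  have hsq : baseStalkMap hX x' ≫ g'.stalkMap (f' x') =
      g.stalkMap (f (gX x')) ≫ baseStalkMap hc x' :=
    comp_stalkMap_eq_of_fromSpecStalk hY (f' x') (f (gX x')) (baseStalkMap hc x')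
      (baseStalkMap hX x') h3Y h2Y
  haveI twAA'B' : IsScalarTower (S.presheaf.stalk (g (f (gX x'))))
      (S'.presheaf.stalk (g' (f' x'))) (Y'.presheaf.stalk (f' x')) := by
    refine IsScalarTower.of_algebraMap_eq fun r => ?_
    change (baseStalkMap hc x').hom ((g.stalkMap (f (gX x'))).hom r) =
      (g'.stalkMap (f' x')).hom ((baseStalkMap hX x').hom r)
    exact (congrArg (fun φ => φ.hom r) hsq).symm
  haveI twAA'C' : IsScalarTower (S.presheaf.stalk (g (f (gX x'))))
      (S'.presheaf.stalk (g' (f' x'))) (X'.presheaf.stalk x') := by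
    refine IsScalarTower.of_algebraMap_eq fun r => ?_
    change (gX.stalkMap x').hom (((f ≫ g).stalkMap (gX x')).hom r) =
      ((f' ≫ g').stalkMap x').hom ((baseStalkMap hX x').hom r)
    exact congrArg (fun φ => φ.hom r) (stalkMap_comp_eq hX x')
  haveI twBB'C' : IsScalarTower (Y.presheaf.stalk (f (gX x'))) (Y'.presheaf.stalk (f' x'))
      (X'.presheaf.stalk x') := by
    refine IsScalarTower.of_algebraMap_eq fun r => ?_
    change (gX.stalkMap x').hom ((f.stalkMap (gX x')).hom r) =
      (f'.stalkMap x').hom ((baseStalkMap hc x').hom r)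
    exact congrArg (fun φ => φ.hom r) (stalkMap_comp_eq hc x')
  haveI : IsLocalHom (algebraMap (X.presheaf.stalk (gX x')) (X'.presheaf.stalk x')) :=
    inferInstanceAs (IsLocalHom (gX.stalkMap x').hom)
  haveI : IsLocalHom (algebraMap (S.presheaf.stalk (g (f (gX x'))))
      (Y.presheaf.stalk (f (gX x')))) :=
    inferInstanceAs (IsLocalHom (g.stalkMap (f (gX x'))).hom)
  haveI : IsLocalHom (algebraMap (Y.presheaf.stalk (f (gX x'))) (X.presheaf.stalk (gX x'))) :=
    inferInstanceAs (IsLocalHom (f.stalkMap (gX x')).hom)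
  -- the two flatness statements
  have hYflat : (Algebra.TensorProduct.productMap
      (IsScalarTower.toAlgHom (S.presheaf.stalk (g (f (gX x'))))
        (S'.presheaf.stalk (g' (f' x'))) (Y'.presheaf.stalk (f' x')))
      (IsScalarTower.toAlgHom (S.presheaf.stalk (g (f (gX x'))))
        (Y.presheaf.stalk (f (gX x'))) (Y'.presheaf.stalk (f' x')))).toRingHom.Flat :=
    flat_of_comp_include_gen hY (f' x') (f (gX x')) (baseStalkMap hc x')
      (baseStalkMap hX x') h3Y h2Y _
      (fun a => by
        change (Algebra.TensorProduct.productMap _ _) (a ⊗ₜ 1) = _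
        rw [Algebra.TensorProduct.productMap_apply_tmul, map_one, mul_one]
        rfl)
      (fun b => by
        change (Algebra.TensorProduct.productMap _ _) (1 ⊗ₜ b) = _
        rw [Algebra.TensorProduct.productMap_apply_tmul, map_one, one_mul]
        rfl)
  have hX1 : ∀ a : S'.presheaf.stalk (g' (f' x')),
      (Algebra.TensorProduct.productMap
      (IsScalarTower.toAlgHom (S.presheaf.stalk (g (f (gX x'))))
        (S'.presheaf.stalk (g' (f' x'))) (X'.presheaf.stalk x'))
      (IsScalarTower.toAlgHom (S.presheaf.stalk (g (f (gX x'))))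
        (X.presheaf.stalk (gX x')) (X'.presheaf.stalk x'))).toRingHom (a ⊗ₜ 1) =
      ((f' ≫ g').stalkMap x').hom a := by
    intro a
    change (Algebra.TensorProduct.productMap _ _) (a ⊗ₜ 1) = _
    rw [Algebra.TensorProduct.productMap_apply_tmul, map_one, mul_one]
    rfl
  have hX2 : ∀ b : X.presheaf.stalk (gX x'),
      (Algebra.TensorProduct.productMap
      (IsScalarTower.toAlgHom (S.presheaf.stalk (g (f (gX x'))))
        (S'.presheaf.stalk (g' (f' x'))) (X'.presheaf.stalk x'))
      (IsScalarTower.toAlgHom (S.presheaf.stalk (g (f (gX x'))))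
        (X.presheaf.stalk (gX x')) (X'.presheaf.stalk x'))).toRingHom (1 ⊗ₜ b) =
      (gX.stalkMap x').hom b := by
    intro b
    change (Algebra.TensorProduct.productMap _ _) (1 ⊗ₜ b) = _
    rw [Algebra.TensorProduct.productMap_apply_tmul, map_one, one_mul]
    rfl
  have hXflat : (Algebra.TensorProduct.productMap
      (IsScalarTower.toAlgHom (S.presheaf.stalk (g (f (gX x'))))
        (S'.presheaf.stalk (g' (f' x'))) (X'.presheaf.stalk x'))
      (IsScalarTower.toAlgHom (S.presheaf.stalk (g (f (gX x'))))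
        (X.presheaf.stalk (gX x')) (X'.presheaf.stalk x'))).toRingHom.Flat :=
    flat_of_comp_include hX x' _ hX1 hX2
  -- module structures
  letI mB : Module (Y.presheaf.stalk (f (gX x'))) (F.presheaf.stalk (gX x')) :=
    FlatMod.moduleStalkOver f F (gX x')
  letI mA : Module (S.presheaf.stalk (g (f (gX x')))) (F.presheaf.stalk (gX x')) :=
    FlatMod.moduleStalkOver (f ≫ g) F (gX x')
  haveI : IsScalarTower (Y.presheaf.stalk (f (gX x'))) (X.presheaf.stalk (gX x'))
      (F.presheaf.stalk (gX x')) := IsScalarTower.of_algebraMap_smul (fun _ _ => rfl)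
  haveI : IsScalarTower (S.presheaf.stalk (g (f (gX x')))) (X.presheaf.stalk (gX x'))
      (F.presheaf.stalk (gX x')) := IsScalarTower.of_algebraMap_smul (fun _ _ => rfl)
  haveI : IsScalarTower (S.presheaf.stalk (g (f (gX x')))) (Y.presheaf.stalk (f (gX x')))
      (F.presheaf.stalk (gX x')) :=
    IsScalarTower.to₁₂₄ _ _ (X.presheaf.stalk (gX x')) _
  haveI := Groth.Agent.Lib.Helper29.QCoh.finitePresentation_stalk F (gX x')
  letI mB' : Module (Y'.presheaf.stalk (f' x'))
      (((Scheme.Modules.pullback gX).obj F).presheaf.stalk x') :=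
    FlatMod.moduleStalkOver f' ((Scheme.Modules.pullback gX).obj F) x'
  haveI : IsScalarTower (Y'.presheaf.stalk (f' x')) (X'.presheaf.stalk x')
      (((Scheme.Modules.pullback gX).obj F).presheaf.stalk x') :=
    IsScalarTower.of_algebraMap_smul (fun _ _ => rfl)
  obtain ⟨e⟩ := nonempty_stalk_pullback_equiv gX F x'
  haveI hfl' : Module.Flat (Y'.presheaf.stalk (f' x'))
      (((Scheme.Modules.pullback gX).obj F).presheaf.stalk x') := h'
  haveI : Module.Flat (Y'.presheaf.stalk (f' x'))
      ((X'.presheaf.stalk x') ⊗[X.presheaf.stalk (gX x')] (F.presheaf.stalk (gX x'))) :=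
    Module.Flat.of_linearEquiv (e.restrictScalars (Y'.presheaf.stalk (f' x'))).symm
  have hfibT := Groth.Agent.Lib27.FibreBC.flat_quot_tensor_of_flat_baseChange
    (M := F.presheaf.stalk (gX x')) hYflat hXflat
  haveI := hfibT
  have hfib : Module.Flat
      (Y.presheaf.stalk (f (gX x')) ⧸ (IsLocalRing.maximalIdeal
        (S.presheaf.stalk (g (f (gX x'))))).map (algebraMap (S.presheaf.stalk (g (f (gX x'))))
          (Y.presheaf.stalk (f (gX x')))))
      (F.presheaf.stalk (gX x') ⧸ ((IsLocalRing.maximalIdeal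
        (S.presheaf.stalk (g (f (gX x'))))).map (algebraMap (S.presheaf.stalk (g (f (gX x'))))
          (Y.presheaf.stalk (f (gX x')))) •
          (⊤ : Submodule (Y.presheaf.stalk (f (gX x'))) (F.presheaf.stalk (gX x'))))) :=
    Module.Flat.of_linearEquiv
      ((TensorProduct.quotTensorEquivQuotSMul (F.presheaf.stalk (gX x'))
        ((IsLocalRing.maximalIdeal (S.presheaf.stalk (g (f (gX x'))))).map
          (algebraMap (S.presheaf.stalk (g (f (gX x'))))
            (Y.presheaf.stalk (f (gX x')))))).extendScalarsOfSurjective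
        Ideal.Quotient.mk_surjective).symm
  haveI hflA : Module.Flat (S.presheaf.stalk (g (f (gX x')))) (F.presheaf.stalk (gX x')) := hfl
  have hLP := locPres_stalk f (gX x')
  exact (Groth.Agent.Lib27.FibCritLocal.flat_of_fibre_flat hLP hfib).2

end Main

end Groth.Agent.Lib27.FibreBCSch
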