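import Mathlib
import Groth.Agent.S9501
import Groth.Agent.Lib.Helper14.FibCrit
import Groth.Agent.Lib.Helper14.EffCart1
import Groth.Agent.Lib27.Flat.SliceNZD
import Groth.Agent.Lib27.Flat.PrincipalLift
import Groth.Agent.Lib27.Flat.LocCritGen
import Groth.Agent.Lib.Helper18.FlG
import Groth.Agent.Lib27.Sch.StalkTools
import Groth.Agent.Lib27.Sch.FibInjSch

/-!
# Relative effective Cartier divisors via fibres (helper27)
-/

set_option autoImplicit false

universe u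

namespace Groth.Agent.Lib27.RelCartier

open AlgebraicGeometry CategoryTheory Limits Function

section cover

variable {X S : Scheme.{u}}

/-- a source-local property of `Z ⟶ S`, for `Z` the closed subscheme of an ideal sheaf, can be
checked on the standard affine charts `Spec (Γ(X,U)/I(U))` for affine opens `U` covering the
support. -/
theorem of_forall_support {P : MorphismProperty Scheme.{u}} [IsZariskiLocalAtSource P]
    (φ : X ⟶ S) (𝓘 : X.IdealSheafData)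
    (H : ∀ x ∈ 𝓘.support, ∃ U : X.affineOpens, x ∈ U.1 ∧
      P (Spec.map (CommRingCat.ofHom (Ideal.Quotient.mk (𝓘.ideal U))) ≫ U.2.fromSpec ≫ φ)) :
    P (𝓘.subschemeι ≫ φ) := by
  have hsupp : ∀ z : 𝓘.subscheme, 𝓘.subschemeι z ∈ 𝓘.support := by
    intro z
    have h1 : 𝓘.subschemeι z ∈ Set.range 𝓘.subschemeι := ⟨z, rfl⟩
    rw [𝓘.range_subschemeι] at h1
    exact h1
  choose U hxU hP using fun z : 𝓘.subscheme => H (𝓘.subschemeι z) (hsupp z)
  let 𝒰 : 𝓘.subscheme.OpenCover := Scheme.Cover.mkOfCovers 𝓘.subscheme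
    (fun z => Spec (𝓘.subschemeCover.X (U z)))
    (fun z => 𝓘.subschemeCover.f (U z)) (by
      intro z
      have hz : z ∈ (𝓘.subschemeCover.f (U z)).opensRange := by
        rw [𝓘.opensRange_subschemeCover_map]
        exact hxU z
      obtain ⟨y, hy⟩ := hz
      exact ⟨z, y, hy⟩)
  refine IsZariskiLocalAtSource.of_openCover (P := P) 𝒰 (fun z => ?_)
  have e1 : 𝓘.subschemeCover.f (U z) ≫ 𝓘.subschemeι = 𝓘.glueDataObjι (U z) ≫ (U z).1.ι :=
    𝓘.subschemeCover_map_subschemeι (U z)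
  have e2 := 𝓘.glueDataObjι_ι (U z)
  have heq : 𝒰.f z ≫ 𝓘.subschemeι ≫ φ =
      Spec.map (CommRingCat.ofHom (Ideal.Quotient.mk (𝓘.ideal (U z)))) ≫ (U z).2.fromSpec ≫ φ := by
    rw [← Category.assoc]
    refine (congrArg (· ≫ φ) (e1.trans e2)).trans ?_
    exact Category.assoc _ _ _
  rw [heq]
  exact hP z

end cover

section fibre

variable {X S : Scheme.{u}}

/-- if two elements generate the same principal ideal and one is a nonzerodivisor, so is the
other. -/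
theorem mem_nonZeroDivisors_of_span_eq {R : Type*} [CommRing R] {a b : R}
    (hb : b ∈ nonZeroDivisors R) (h : Ideal.span {a} = Ideal.span {b}) :
    a ∈ nonZeroDivisors R := by
  have h1 : b ∈ Ideal.span {a} := h ▸ Ideal.mem_span_singleton_self b
  obtain ⟨d, hd⟩ := Ideal.mem_span_singleton'.1 h1
  rw [mem_nonZeroDivisors_iff_right]
  intro t ht
  apply (mem_nonZeroDivisors_iff_right.1 hb) t
  rw [← hd, mul_comm d a, ← mul_assoc, ht, zero_mul]

/-- **Fibrewise regularity.**  If the inverse image of `𝓘` on the fibre through `y` is effective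
Cartier, then a local generator `h` of `𝓘` near `ι y` is a nonzerodivisor modulo
`m_s 𝒪_{X, ι y}`. -/
theorem fibre_regular (φ : X ⟶ S) (𝓘 : X.IdealSheafData) (s : S) (y : φ.fiber s)
    (hfib : BlowUp.IsEffCartierIdeal (𝓘.comap (φ.fiberι s)))
    (U : X.affineOpens) (hyU : (φ.fiberι s) y ∈ U.1) (h : Γ(X, U.1))
    (hI : 𝓘.ideal U = Ideal.span {h})
    (z : X.presheaf.stalk ((φ.fiberι s) y))
    (hz : X.presheaf.germ U.1 ((φ.fiberι s) y) hyU h * z ∈
      Ideal.map (φ.stalkMap ((φ.fiberι s) y)).hom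
        (IsLocalRing.maximalIdeal (S.presheaf.stalk (φ ((φ.fiberι s) y))))) :
    z ∈ Ideal.map (φ.stalkMap ((φ.fiberι s) y)).hom
        (IsLocalRing.maximalIdeal (S.presheaf.stalk (φ ((φ.fiberι s) y)))) := by
  obtain ⟨hs, hk⟩ := Groth.Agent.S9501.result φ s y
  obtain ⟨W, hyW, g, hg, hWg⟩ := hfib y
  obtain ⟨W₁, hyW₁, hW₁U, hW₁W⟩ :=
    Groth.Agent.Lib.Helper25.BlowUpUP.exists_affineOpens_le_preimage (φ.fiberι s) y U.1 hyU W.1 hyW
  obtain ⟨hg₁, hJ₁⟩ := Groth.Agent.Lib.Helper25.BlowUpUP.principal_of_le (𝓘.comap (φ.fiberι s))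
    (show W₁ ≤ W from hW₁W) g hg hWg
  rw [Groth.Agent.Lib.Helper1.ideal_comap 𝓘 (φ.fiberι s) W₁ U hW₁U, hI, Ideal.map_span,
    Set.image_singleton] at hJ₁
  have hnzd := mem_nonZeroDivisors_of_span_eq hg₁ hJ₁
  have hgerm := Groth.Agent.Lib.Helper25.BlowUpUP.germ_mem_nonZeroDivisors_of_isAffineOpen W₁.2 _
    hnzd y hyW₁
  rw [Groth.Agent.Lib.Helper8.FlatAffine.germ_appLE (φ.fiberι s) hW₁U y hyW₁ h] at hgerm
  rw [← hk, RingHom.mem_ker] at hz ⊢
  rw [map_mul] at hz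
  exact (mem_nonZeroDivisors_iff_right.1 hgerm) _ (by rw [mul_comm]; exact hz)

/-- `fibre_regular` at an arbitrary point `x` of `X`. -/
theorem fibre_regular' (φ : X ⟶ S) (𝓘 : X.IdealSheafData) (x : X)
    (hfib : BlowUp.IsEffCartierIdeal (𝓘.comap (φ.fiberι (φ x))))
    (U : X.affineOpens) (hxU : x ∈ U.1) (h : Γ(X, U.1))
    (hI : 𝓘.ideal U = Ideal.span {h})
    (z : X.presheaf.stalk x)
    (hz : X.presheaf.germ U.1 x hxU h * z ∈
      Ideal.map (φ.stalkMap x).hom (IsLocalRing.maximalIdeal (S.presheaf.stalk (φ x)))) :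
    z ∈ Ideal.map (φ.stalkMap x).hom (IsLocalRing.maximalIdeal (S.presheaf.stalk (φ x))) := by
  let Q : X → Prop := fun x' => ∀ (hxU : x' ∈ U.1) (z : X.presheaf.stalk x'),
    X.presheaf.germ U.1 x' hxU h * z ∈
      Ideal.map (φ.stalkMap x').hom (IsLocalRing.maximalIdeal (S.presheaf.stalk (φ x'))) →
    z ∈ Ideal.map (φ.stalkMap x').hom (IsLocalRing.maximalIdeal (S.presheaf.stalk (φ x')))
  have e : (φ.fiberι (φ x)) (φ.asFiber x) = x := Scheme.Hom.fiberι_asFiber φ x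
  have hQ : Q ((φ.fiberι (φ x)) (φ.asFiber x)) := fun hyU z hz =>
    fibre_regular φ 𝓘 (φ x) (φ.asFiber x) hfib U hyU h hI z hz
  exact (congrArg Q e).mp hQ hxU z hz

/-- **Fibrewise generator.**  If the inverse image of `𝓘` on the fibre through `y` is effective
Cartier, there is a section `g₀` of `𝓘` near `ι y` generating `𝓘` modulo `m_s 𝒪_{X, ι y}`. -/
theorem fibre_generator (φ : X ⟶ S) (𝓘 : X.IdealSheafData) (s : S) (y : φ.fiber s)
    (hfib : BlowUp.IsEffCartierIdeal (𝓘.comap (φ.fiberι s)))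
    (U : X.affineOpens) (hyU : (φ.fiberι s) y ∈ U.1) :
    ∃ g₀ ∈ 𝓘.ideal U, ∀ i ∈ 𝓘.ideal U, X.presheaf.germ U.1 ((φ.fiberι s) y) hyU i ∈
      Ideal.span {(X.presheaf.germ U.1 ((φ.fiberι s) y) hyU g₀ : X.presheaf.stalk _)} ⊔
      Ideal.map (φ.stalkMap ((φ.fiberι s) y)).hom
        (IsLocalRing.maximalIdeal (S.presheaf.stalk (φ ((φ.fiberι s) y)))) := by
  obtain ⟨hs, hk⟩ := Groth.Agent.S9501.result φ s y
  obtain ⟨W, hyW, g, hg, hWg⟩ := hfib y
  obtain ⟨W₁, hyW₁, hW₁U, hW₁W⟩ :=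
    Groth.Agent.Lib.Helper25.BlowUpUP.exists_affineOpens_le_preimage (φ.fiberι s) y U.1 hyU W.1 hyW
  obtain ⟨hg₁, hJ₁⟩ := Groth.Agent.Lib.Helper25.BlowUpUP.principal_of_le (𝓘.comap (φ.fiberι s))
    (show W₁ ≤ W from hW₁W) g hg hWg
  rw [Groth.Agent.Lib.Helper1.ideal_comap 𝓘 (φ.fiberι s) W₁ U hW₁U] at hJ₁
  set g₁ := ((φ.fiber s).presheaf.map (homOfLE (X := (φ.fiber s).Opens) hW₁W).op).hom g
    with hg₁def
  replace hg₁ : g₁ ∈ nonZeroDivisors Γ(φ.fiber s, W₁.1) := hg₁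
  replace hJ₁ : Ideal.map ((φ.fiberι s).appLE U.1 W₁.1 hW₁U).hom (𝓘.ideal U) = Ideal.span {g₁} :=
    hJ₁
  obtain ⟨g₀, hg₀I, c, hcu, hg₀c⟩ := Groth.Agent.Lib.Helper14.AS.exists_local_generator
    ((φ.fiberι s).appLE U.1 W₁.1 hW₁U).hom ((φ.fiber s).presheaf.germ W₁.1 y hyW₁).hom
    (𝓘.ideal U) g₁ hg₁ hJ₁
  refine ⟨g₀, hg₀I, fun i hi => ?_⟩
  have h1 : ((φ.fiberι s).appLE U.1 W₁.1 hW₁U).hom i ∈ Ideal.span {g₁} := by
    rw [← hJ₁]
    exact Ideal.mem_map_of_mem _ hi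
  obtain ⟨d, hd⟩ := Ideal.mem_span_singleton'.1 h1
  obtain ⟨cu, hcu'⟩ := hcu
  have hgi := Groth.Agent.Lib.Helper8.FlatAffine.germ_appLE (φ.fiberι s) hW₁U y hyW₁ i
  have hgg := Groth.Agent.Lib.Helper8.FlatAffine.germ_appLE (φ.fiberι s) hW₁U y hyW₁ g₀
  set σ := ((φ.fiberι s).stalkMap y).hom with hσ
  set gx := X.presheaf.germ U.1 ((φ.fiberι s) y) hyU with hgx
  set gy := (φ.fiber s).presheaf.germ W₁.1 y hyW₁ with hgy
  -- `σ (germ i) = e * σ (germ g₀)`
  have h2 : σ (gx i) = (gy d * ↑cu⁻¹) * σ (gx g₀) := by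
    rw [← hgi, ← hgg, ← hd, hg₀c, map_mul, map_mul]
    change gy d * gy g₁ = gy d * ↑cu⁻¹ * (gy g₁ * gy.hom c)
    rw [← hcu']
    calc gy d * gy g₁ = gy d * gy g₁ * (↑cu⁻¹ * ↑cu) := by rw [Units.inv_mul, mul_one]
      _ = gy d * ↑cu⁻¹ * (gy g₁ * ↑cu) := by ring
  obtain ⟨e', he'⟩ := hs (gy d * ↑cu⁻¹)
  have h3 : gx i - e' * gx g₀ ∈ RingHom.ker σ := by
    rw [RingHom.mem_ker, map_sub, map_mul, he', h2, sub_self]
  rw [hk] at h3
  have h4 : gx i = e' * gx g₀ + (gx i - e' * gx g₀) := by ring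
  rw [h4]
  exact Submodule.add_mem_sup (Ideal.mul_mem_left _ _ (Ideal.mem_span_singleton_self _)) h3

/-- `fibre_generator` at an arbitrary point `x` of `X`. -/
theorem fibre_generator' (φ : X ⟶ S) (𝓘 : X.IdealSheafData) (x : X)
    (hfib : BlowUp.IsEffCartierIdeal (𝓘.comap (φ.fiberι (φ x))))
    (U : X.affineOpens) (hxU : x ∈ U.1) :
    ∃ g₀ ∈ 𝓘.ideal U, ∀ i ∈ 𝓘.ideal U, X.presheaf.germ U.1 x hxU i ∈
      Ideal.span {(X.presheaf.germ U.1 x hxU g₀ : X.presheaf.stalk _)} ⊔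
      Ideal.map (φ.stalkMap x).hom (IsLocalRing.maximalIdeal (S.presheaf.stalk (φ x))) := by
  let Q : X → Prop := fun x' => ∀ (hxU : x' ∈ U.1),
    ∃ g₀ ∈ 𝓘.ideal U, ∀ i ∈ 𝓘.ideal U, X.presheaf.germ U.1 x' hxU i ∈
      Ideal.span {(X.presheaf.germ U.1 x' hxU g₀ : X.presheaf.stalk _)} ⊔
      Ideal.map (φ.stalkMap x').hom (IsLocalRing.maximalIdeal (S.presheaf.stalk (φ x')))
  have e : (φ.fiberι (φ x)) (φ.asFiber x) = x := Scheme.Hom.fiberι_asFiber φ x
  have hQ : Q ((φ.fiberι (φ x)) (φ.asFiber x)) := fun hyU =>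
    fibre_generator φ 𝓘 (φ x) (φ.asFiber x) hfib U hyU
  exact (congrArg Q e).mp hQ hxU

end fibre

section slice

variable {X S : Scheme.{u}}

/-- **Slicing.**  `φ` locally of finite presentation and flat at `x`; the ideal sheaf `𝓘` is
generated near `x` by `h`, which is a nonzerodivisor modulo `m_s 𝒪_{X,x}`.  Then on a smaller affine
neighbourhood `𝓘` is generated by a nonzerodivisor and `V(𝓘) → S` is flat there. -/
theorem exists_slice_affine (φ : X ⟶ S) [LocallyOfFinitePresentation φ] (𝓘 : X.IdealSheafData)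
    (x : X) (hflat : (φ.stalkMap x).hom.Flat)
    (U₀ : X.affineOpens) (hxU₀ : x ∈ U₀.1) (h : Γ(X, U₀.1)) (hI : 𝓘.ideal U₀ = Ideal.span {h})
    (hreg : ∀ z : X.presheaf.stalk x, X.presheaf.germ U₀.1 x hxU₀ h * z ∈
        Ideal.map (φ.stalkMap x).hom (IsLocalRing.maximalIdeal (S.presheaf.stalk (φ x))) →
      z ∈ Ideal.map (φ.stalkMap x).hom (IsLocalRing.maximalIdeal (S.presheaf.stalk (φ x)))) :
    ∃ U' : X.affineOpens, x ∈ U'.1 ∧ U'.1 ≤ U₀.1 ∧
      (∃ b' : Γ(X, U'.1), b' ∈ nonZeroDivisors Γ(X, U'.1) ∧ 𝓘.ideal U' = Ideal.span {b'}) ∧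
      Flat (Spec.map (CommRingCat.ofHom (Ideal.Quotient.mk (𝓘.ideal U'))) ≫ U'.2.fromSpec ≫ φ) := by
  classical
  obtain ⟨_, ⟨V, hV : IsAffineOpen V, rfl⟩, hxV, -⟩ :=
    S.isBasis_affineOpens.exists_subset_of_mem_open (Set.mem_univ (φ x)) isOpen_univ
  obtain ⟨⟨U, hU⟩, hxU, hUV, hUU₀⟩ :=
    Groth.Agent.Lib.Helper25.BlowUpUP.exists_affineOpens_le_preimage φ x V hxV U₀.1 hxU₀
  change x ∈ U at hxU
  change U ≤ φ ⁻¹ᵁ V at hUV
  change U ≤ U₀.1 at hUU₀
  set b : Γ(X, U) := (X.presheaf.map (homOfLE hUU₀).op).hom h with hb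
  have hIU : 𝓘.ideal ⟨U, hU⟩ = Ideal.span {b} := by
    rw [← 𝓘.map_ideal (U := ⟨U, hU⟩) (V := U₀) hUU₀, hI, Ideal.map_span, Set.image_singleton]
    rfl
  have hgermb : X.presheaf.germ U x hxU b = X.presheaf.germ U₀.1 x hxU₀ h :=
    TopCat.Presheaf.germ_res_apply X.presheaf (homOfLE hUU₀) x hxU h
  have hfp : RingHom.FinitePresentation (φ.appLE V U hUV).hom :=
    HasRingHomProperty.appLE (P := @LocallyOfFinitePresentation) φ inferInstance ⟨V, hV⟩ ⟨U, hU⟩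
      hUV
  letI algAB : Algebra Γ(S, V) Γ(X, U) := (φ.appLE V U hUV).hom.toAlgebra
  haveI : Algebra.FinitePresentation Γ(S, V) Γ(X, U) := hfp
  letI algBBq : Algebra Γ(X, U) (X.presheaf.stalk x) :=
    TopCat.Presheaf.algebra_section_stalk X.presheaf ⟨x, hxU⟩
  haveI hloc := hU.isLocalization_stalk ⟨x, hxU⟩
  letI algABq : Algebra Γ(S, V) (X.presheaf.stalk x) :=
    ((X.presheaf.germ U x hxU).hom.comp (φ.appLE V U hUV).hom).toAlgebra
  haveI : IsScalarTower Γ(S, V) Γ(X, U) (X.presheaf.stalk x) :=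
    IsScalarTower.of_algebraMap_eq (fun _ => rfl)
  set q := (hU.primeIdealOf ⟨x, hxU⟩).asIdeal with hq
  have hfx : φ x ∈ V := hUV hxU
  haveI hflA : Module.Flat Γ(S, V) (X.presheaf.stalk x) := by
    letI algAy : Algebra Γ(S, V) (S.presheaf.stalk (φ x)) :=
      TopCat.Presheaf.algebra_section_stalk S.presheaf ⟨φ x, hfx⟩
    haveI := hV.isLocalization_stalk ⟨φ x, hfx⟩
    have h1 : (S.presheaf.germ V (φ x) hfx).hom.Flat := by
      have : Module.Flat Γ(S, V) (S.presheaf.stalk (φ x)) :=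
        IsLocalization.flat _ (hV.primeIdealOf ⟨φ x, hfx⟩).asIdeal.primeCompl
      exact RingHom.flat_algebraMap_iff.mpr this
    have h2 : ((φ.stalkMap x).hom.comp (S.presheaf.germ V (φ x) hfx).hom).Flat :=
      RingHom.Flat.comp h1 hflat
    have h3 : (φ.stalkMap x).hom.comp (S.presheaf.germ V (φ x) hfx).hom =
        (X.presheaf.germ U x hxU).hom.comp (φ.appLE V U hUV).hom :=
      RingHom.ext fun r => (Groth.Agent.Lib.Helper8.FlatAffine.germ_appLE φ hUV x hxU r).symm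
    rw [h3] at h2
    exact h2
  have hJ : Ideal.map (φ.stalkMap x).hom (IsLocalRing.maximalIdeal (S.presheaf.stalk (φ x))) =
      Groth.Agent.Lib27.LocalCore.fibIdeal (A := Γ(S, V)) q (X.presheaf.stalk x) :=
    Groth.Agent.Lib27.StalkTools.map_stalkMap_maximalIdeal φ hU hV hUV x hxU
  rw [hJ] at hreg
  have hreg' : ∀ z : X.presheaf.stalk x,
      algebraMap Γ(X, U) (X.presheaf.stalk x) b * z ∈
        Groth.Agent.Lib27.LocalCore.fibIdeal (A := Γ(S, V)) q (X.presheaf.stalk x) →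
      z ∈ Groth.Agent.Lib27.LocalCore.fibIdeal (A := Γ(S, V)) q (X.presheaf.stalk x) := by
    intro z hz
    apply hreg z
    rw [← hgermb]
    exact hz
  obtain ⟨a, haq, hslice⟩ := Groth.Agent.Lib27.SliceNZD.exists_slice (A := Γ(S, V)) q
    (X.presheaf.stalk x) b hreg'
  have hU' : IsAffineOpen (X.basicOpen a) := hU.basicOpen a
  have hxU' : x ∈ X.basicOpen a := by
    rw [Scheme.mem_basicOpen X a x hxU]
    exact (IsLocalization.AtPrime.isUnit_to_map_iff (X.presheaf.stalk x) q a).mpr haq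
  have hU'V : X.basicOpen a ≤ φ ⁻¹ᵁ V := le_trans (X.basicOpen_le a) hUV
  haveI := hU.isLocalization_basicOpen a
  letI algABa : Algebra Γ(S, V) Γ(X, X.basicOpen a) := (φ.appLE V (X.basicOpen a) hU'V).hom.toAlgebra
  haveI : IsScalarTower Γ(S, V) Γ(X, U) Γ(X, X.basicOpen a) :=
    IsScalarTower.of_algebraMap_eq (fun t =>
      (congr($(Scheme.Hom.appLE_map φ hUV (homOfLE (X.basicOpen_le a)).op).hom t)).symm)
  obtain ⟨hnzd, hflat'⟩ := hslice Γ(X, X.basicOpen a)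
  have hIU' : 𝓘.ideal ⟨X.basicOpen a, hU'⟩ =
      Ideal.span {algebraMap Γ(X, U) Γ(X, X.basicOpen a) b} := by
    rw [← 𝓘.map_ideal (U := ⟨X.basicOpen a, hU'⟩) (V := ⟨U, hU⟩) (X.basicOpen_le a), hIU,
      Ideal.map_span, Set.image_singleton]
    rfl
  refine ⟨⟨X.basicOpen a, hU'⟩, hxU', le_trans (X.basicOpen_le a) hUU₀,
    ⟨algebraMap Γ(X, U) Γ(X, X.basicOpen a) b, hnzd, hIU'⟩, ?_⟩
  have key : ∀ J : Ideal Γ(X, X.basicOpen a),
      J = Ideal.span {algebraMap Γ(X, U) Γ(X, X.basicOpen a) b} →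
      Flat (Spec.map (CommRingCat.ofHom (Ideal.Quotient.mk J)) ≫ hU'.fromSpec ≫ φ) := by
    rintro _ rfl
    rw [← IsAffineOpen.SpecMap_appLE_fromSpec φ hV hU' hU'V, ← Spec.map_comp_assoc]
    haveI : Flat (Spec.map (φ.appLE V (X.basicOpen a) hU'V ≫ CommRingCat.ofHom (Ideal.Quotient.mk
        (Ideal.span {algebraMap Γ(X, U) Γ(X, X.basicOpen a) b})))) := by
      rw [Flat.SpecMap_iff]
      exact RingHom.flat_algebraMap_iff.mpr hflat'
    infer_instance
  exact key _ hIU'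

end slice

section principal

variable {X S : Scheme.{u}}

/-- the standard chart of `V(𝓘) ⟶ S` over an affine pair. -/
theorem chart_eq (φ : X ⟶ S) (𝓘 : X.IdealSheafData) (U : X.affineOpens) :
    𝓘.subschemeCover.f U ≫ 𝓘.subschemeι ≫ φ =
      Spec.map (CommRingCat.ofHom (Ideal.Quotient.mk (𝓘.ideal U))) ≫ U.2.fromSpec ≫ φ := by
  have e1 : 𝓘.subschemeCover.f U ≫ 𝓘.subschemeι = 𝓘.glueDataObjι U ≫ U.1.ι :=
    𝓘.subschemeCover_map_subschemeι U
  have e2 := 𝓘.glueDataObjι_ι U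
  rw [← Category.assoc]
  refine (congrArg (· ≫ φ) (e1.trans e2)).trans ?_
  exact Category.assoc _ _ _

/-- if `V(𝓘) ⟶ S` has the (source-local, stable under base change) property `P`, so does the ring
map `Γ(S,V) ⟶ Γ(X,U)/𝓘(U)` on spectra, for every affine pair. -/
theorem chart_prop {P : MorphismProperty Scheme.{u}} [IsZariskiLocalAtSource P]
    [P.IsStableUnderBaseChange] (φ : X ⟶ S) (𝓘 : X.IdealSheafData) (hP : P (𝓘.subschemeι ≫ φ))
    {U : X.Opens} {V : S.Opens} (hU : IsAffineOpen U) (hV : IsAffineOpen V) (hUV : U ≤ φ ⁻¹ᵁ V) :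
    P (Spec.map (φ.appLE V U hUV ≫
      CommRingCat.ofHom (Ideal.Quotient.mk (𝓘.ideal ⟨U, hU⟩)))) := by
  have h1 : P (𝓘.subschemeCover.f ⟨U, hU⟩ ≫ 𝓘.subschemeι ≫ φ) :=
    IsZariskiLocalAtSource.comp hP _
  rw [chart_eq, ← IsAffineOpen.SpecMap_appLE_fromSpec φ hV hU hUV, ← Spec.map_comp_assoc] at h1
  exact MorphismProperty.of_postcomp (W := P) (W' := @IsOpenImmersion) _ hV.fromSpec
    inferInstance h1

/-- **Local principality.**  If `V(𝓘)` is flat and locally of finite presentation over `S`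
(and `X` is locally of finite presentation over `S`) and `𝓘` restricts to effective Cartier ideals
on the fibres, then `𝓘` is locally principal. -/
theorem exists_principal (φ : X ⟶ S) [LocallyOfFinitePresentation φ]
    (𝓘 : X.IdealSheafData) [Flat (𝓘.subschemeι ≫ φ)]
    [LocallyOfFinitePresentation (𝓘.subschemeι ≫ φ)]
    (x : X) (hfib : BlowUp.IsEffCartierIdeal (𝓘.comap (φ.fiberι (φ x)))) :
    ∃ U : X.affineOpens, x ∈ U.1 ∧ ∃ f : Γ(X, U.1), 𝓘.ideal U = Ideal.span {f} := by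
  classical
  obtain ⟨U, V, hU, hV, hUV, hxU⟩ := Groth.Agent.Lib27.FibInjSch.exists_affine_pair φ x
  have hfp : RingHom.FinitePresentation (φ.appLE V U hUV).hom :=
    HasRingHomProperty.appLE (P := @LocallyOfFinitePresentation) φ inferInstance ⟨V, hV⟩ ⟨U, hU⟩
      hUV
  letI algAB : Algebra Γ(S, V) Γ(X, U) := (φ.appLE V U hUV).hom.toAlgebra
  haveI : Algebra.FinitePresentation Γ(S, V) Γ(X, U) := hfp
  letI algBBq : Algebra Γ(X, U) (X.presheaf.stalk x) :=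
    TopCat.Presheaf.algebra_section_stalk X.presheaf ⟨x, hxU⟩
  haveI hloc := hU.isLocalization_stalk ⟨x, hxU⟩
  letI algABq : Algebra Γ(S, V) (X.presheaf.stalk x) :=
    ((X.presheaf.germ U x hxU).hom.comp (φ.appLE V U hUV).hom).toAlgebra
  haveI : IsScalarTower Γ(S, V) Γ(X, U) (X.presheaf.stalk x) :=
    IsScalarTower.of_algebraMap_eq (fun _ => rfl)
  set q := (hU.primeIdealOf ⟨x, hxU⟩).asIdeal with hq
  set I := 𝓘.ideal ⟨U, hU⟩ with hI
  -- flatness and finite presentation of `B ⧸ I`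
  have hc1 : Flat (Spec.map (φ.appLE V U hUV ≫ CommRingCat.ofHom (Ideal.Quotient.mk I))) :=
    chart_prop (P := @Flat) φ 𝓘 inferInstance hU hV hUV
  have hc2 : LocallyOfFinitePresentation
      (Spec.map (φ.appLE V U hUV ≫ CommRingCat.ofHom (Ideal.Quotient.mk I))) :=
    chart_prop (P := @LocallyOfFinitePresentation) φ 𝓘 inferInstance hU hV hUV
  rw [Flat.SpecMap_iff] at hc1
  rw [HasRingHomProperty.Spec_iff (P := @LocallyOfFinitePresentation)] at hc2
  have halg : (φ.appLE V U hUV ≫ CommRingCat.ofHom (Ideal.Quotient.mk I)).hom =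
      algebraMap Γ(S, V) (Γ(X, U) ⧸ I) := rfl
  rw [halg] at hc1 hc2
  haveI hflq : Module.Flat Γ(S, V) (Γ(X, U) ⧸ I) := RingHom.flat_algebraMap_iff.mp hc1
  haveI hfpq : Algebra.FinitePresentation Γ(S, V) (Γ(X, U) ⧸ I) :=
    RingHom.finitePresentation_algebraMap.mp hc2
  have hIfg : I.FG := by
    have := Algebra.FinitePresentation.ker_fG_of_surjective (Ideal.Quotient.mkₐ Γ(S, V) I)
      (Ideal.Quotient.mkₐ_surjective _ _)
    rwa [AlgHom.toRingHom_eq_coe, Ideal.Quotient.mkₐ_ker] at this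
  haveI : Module.Flat Γ(S, V)
      (X.presheaf.stalk x ⧸ I.map (algebraMap Γ(X, U) (X.presheaf.stalk x))) :=
    Groth.Agent.Lib27.PrincipalLift.flat_quot_map q.primeCompl (X.presheaf.stalk x) I
  have hJ : Ideal.map (φ.stalkMap x).hom (IsLocalRing.maximalIdeal (S.presheaf.stalk (φ x))) =
      Groth.Agent.Lib27.LocalCore.fibIdeal (A := Γ(S, V)) q (X.presheaf.stalk x) :=
    Groth.Agent.Lib27.StalkTools.map_stalkMap_maximalIdeal φ hU hV hUV x hxU
  obtain ⟨g₀, hg₀I, hgen⟩ := fibre_generator' φ 𝓘 x hfib ⟨U, hU⟩ hxU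
  rw [hJ] at hgen
  have hmap := Groth.Agent.Lib27.PrincipalLift.map_eq_span_of_flat_quot (A := Γ(S, V)) q
    (X.presheaf.stalk x) I hIfg g₀ hg₀I hgen
  obtain ⟨a, haq, haway⟩ := Groth.Agent.Lib27.PrincipalLift.exists_away_map_eq_span q
    (X.presheaf.stalk x) I hIfg g₀ hg₀I hmap
  have hU' : IsAffineOpen (X.basicOpen a) := hU.basicOpen a
  have hxU' : x ∈ X.basicOpen a := by
    rw [Scheme.mem_basicOpen X a x hxU]
    exact (IsLocalization.AtPrime.isUnit_to_map_iff (X.presheaf.stalk x) q a).mpr haq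
  haveI := hU.isLocalization_basicOpen a
  refine ⟨⟨X.basicOpen a, hU'⟩, hxU', algebraMap Γ(X, U) Γ(X, X.basicOpen a) g₀, ?_⟩
  rw [← haway Γ(X, X.basicOpen a),
    ← 𝓘.map_ideal (U := ⟨X.basicOpen a, hU'⟩) (V := ⟨U, hU⟩) (X.basicOpen_le a)]
  rfl

end principal

section flatNear

variable {X S : Scheme.{u}}

/-- flatness of the stalk over the sections of an affine open of the base gives flatness of the
stalk map. -/
theorem flat_stalkMap_of_flat_sections (f : X ⟶ S) {U : X.Opens} {V : S.Opens}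
    (hV : IsAffineOpen V) (hUV : U ≤ f ⁻¹ᵁ V) (x : X) (hxU : x ∈ U)
    (h : letI : Algebra Γ(S, V) (X.presheaf.stalk x) :=
        ((X.presheaf.germ U x hxU).hom.comp (f.appLE V U hUV).hom).toAlgebra
      Module.Flat Γ(S, V) (X.presheaf.stalk x)) :
    (f.stalkMap x).hom.Flat := by
  letI algABq : Algebra Γ(S, V) (X.presheaf.stalk x) :=
    ((X.presheaf.germ U x hxU).hom.comp (f.appLE V U hUV).hom).toAlgebra
  have hfx : f x ∈ V := hUV hxU
  letI algAy : Algebra Γ(S, V) (S.presheaf.stalk (f x)) :=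
    TopCat.Presheaf.algebra_section_stalk S.presheaf ⟨f x, hfx⟩
  haveI := hV.isLocalization_stalk ⟨f x, hfx⟩
  letI algyx : Algebra (S.presheaf.stalk (f x)) (X.presheaf.stalk x) :=
    (f.stalkMap x).hom.toAlgebra
  haveI : IsScalarTower Γ(S, V) (S.presheaf.stalk (f x)) (X.presheaf.stalk x) :=
    IsScalarTower.of_algebraMap_eq (fun r =>
      Groth.Agent.Lib.Helper8.FlatAffine.germ_appLE f hUV x hxU r)
  exact (Module.flat_iff_of_isLocalization (S.presheaf.stalk (f x))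
    (hV.primeIdealOf ⟨f x, hfx⟩).asIdeal.primeCompl (X.presheaf.stalk x)).mpr h

/-- **Flatness near a relative effective Cartier divisor.**  If `𝓘` is effective Cartier and
`V(𝓘)` is flat over `S`, then `X ⟶ S` (locally of finite presentation) is flat at every point of
`V(𝓘)`. -/
theorem flat_stalkMap_of_mem_support (f : X ⟶ S) [LocallyOfFinitePresentation f]
    (𝓘 : X.IdealSheafData) (hC : BlowUp.IsEffCartierIdeal 𝓘) (hfl : Flat (𝓘.subschemeι ≫ f))
    (x : X) (hx : x ∈ 𝓘.support) : (f.stalkMap x).hom.Flat := by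
  classical
  obtain ⟨U₀, hxU₀, h, hh, hI⟩ := hC x
  obtain ⟨_, ⟨V, hV : IsAffineOpen V, rfl⟩, hxV, -⟩ :=
    S.isBasis_affineOpens.exists_subset_of_mem_open (Set.mem_univ (f x)) isOpen_univ
  obtain ⟨⟨U, hU⟩, hxU, hUV, hUU₀⟩ :=
    Groth.Agent.Lib.Helper25.BlowUpUP.exists_affineOpens_le_preimage f x V hxV U₀.1 hxU₀
  change x ∈ U at hxU
  change U ≤ f ⁻¹ᵁ V at hUV
  change U ≤ U₀.1 at hUU₀
  obtain ⟨hb, hIU⟩ := Groth.Agent.Lib.Helper25.BlowUpUP.principal_of_le 𝓘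
    (U := U₀) (V := ⟨U, hU⟩) hUU₀ h hh hI
  set b : Γ(X, U) := (X.presheaf.map (homOfLE (X := X.Opens) hUU₀).op).hom h with hbdef
  replace hb : b ∈ nonZeroDivisors Γ(X, U) := hb
  replace hIU : 𝓘.ideal ⟨U, hU⟩ = Ideal.span {b} := hIU
  have hfp : RingHom.FinitePresentation (f.appLE V U hUV).hom :=
    HasRingHomProperty.appLE (P := @LocallyOfFinitePresentation) f inferInstance ⟨V, hV⟩ ⟨U, hU⟩
      hUV
  letI algAB : Algebra Γ(S, V) Γ(X, U) := (f.appLE V U hUV).hom.toAlgebra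
  haveI : Algebra.FinitePresentation Γ(S, V) Γ(X, U) := hfp
  letI algBBq : Algebra Γ(X, U) (X.presheaf.stalk x) :=
    TopCat.Presheaf.algebra_section_stalk X.presheaf ⟨x, hxU⟩
  haveI hloc := hU.isLocalization_stalk ⟨x, hxU⟩
  letI algABq : Algebra Γ(S, V) (X.presheaf.stalk x) :=
    ((X.presheaf.germ U x hxU).hom.comp (f.appLE V U hUV).hom).toAlgebra
  haveI : IsScalarTower Γ(S, V) Γ(X, U) (X.presheaf.stalk x) :=
    IsScalarTower.of_algebraMap_eq (fun _ => rfl)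
  set q := (hU.primeIdealOf ⟨x, hxU⟩).asIdeal with hq
  -- flatness of `B ⧸ (b)`
  have hc1 : Flat (Spec.map (f.appLE V U hUV ≫
      CommRingCat.ofHom (Ideal.Quotient.mk (𝓘.ideal ⟨U, hU⟩)))) :=
    chart_prop (P := @Flat) f 𝓘 hfl hU hV hUV
  rw [Flat.SpecMap_iff] at hc1
  have key : ∀ J : Ideal Γ(X, U), J = 𝓘.ideal ⟨U, hU⟩ → Module.Flat Γ(S, V) (Γ(X, U) ⧸ J) := by
    rintro _ rfl
    have halg : (f.appLE V U hUV ≫ CommRingCat.ofHom
        (Ideal.Quotient.mk (𝓘.ideal ⟨U, hU⟩))).hom =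
        algebraMap Γ(S, V) (Γ(X, U) ⧸ 𝓘.ideal ⟨U, hU⟩) := rfl
    rw [halg] at hc1
    exact RingHom.flat_algebraMap_iff.mp hc1
  haveI hflq : Module.Flat Γ(S, V) (Γ(X, U) ⧸ (Ideal.span {b} : Ideal Γ(X, U))) :=
    key _ hIU.symm
  have key2 : ∀ J : Ideal (X.presheaf.stalk x),
      J = (Ideal.span {b} : Ideal Γ(X, U)).map (algebraMap Γ(X, U) (X.presheaf.stalk x)) →
      Module.Flat Γ(S, V) (X.presheaf.stalk x ⧸ J) := by
    rintro _ rfl
    exact Groth.Agent.Lib27.PrincipalLift.flat_quot_map q.primeCompl (X.presheaf.stalk x)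
      (Ideal.span {b})
  haveI hflq' : Module.Flat Γ(S, V) (X.presheaf.stalk x ⧸
      (Ideal.span {algebraMap Γ(X, U) (X.presheaf.stalk x) b} : Ideal (X.presheaf.stalk x))) :=
    key2 _ (by rw [Ideal.map_span, Set.image_singleton])
  -- `b` is a non-unit at `x`
  have hnu : ¬ IsUnit (algebraMap Γ(X, U) (X.presheaf.stalk x) b) := by
    rw [Scheme.IdealSheafData.mem_support_iff_of_mem (U := ⟨U, hU⟩) hxU,
      Scheme.mem_zeroLocus_iff] at hx
    have h1 := hx b (by rw [hIU]; exact Ideal.mem_span_singleton_self b)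
    rw [Scheme.mem_basicOpen X b x hxU] at h1
    exact h1
  have hreg : ∀ z : X.presheaf.stalk x,
      algebraMap Γ(X, U) (X.presheaf.stalk x) b * z = 0 → z = 0 := by
    intro z hz
    have h1 := Groth.Agent.Lib.Helper25.BlowUpUP.germ_mem_nonZeroDivisors_of_isAffineOpen hU b hb
      x hxU
    exact (mem_nonZeroDivisors_iff_right.1 h1) z (by rw [mul_comm]; exact hz)
  have hflat : Module.Flat Γ(S, V) (X.presheaf.stalk x) :=
    Groth.Agent.Lib27.LocCritGen.flat_of_nzd_of_flat_quot (A := Γ(S, V)) q (X.presheaf.stalk x)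
      (algebraMap Γ(X, U) (X.presheaf.stalk x) b) hnu hreg
  exact flat_stalkMap_of_flat_sections f hV hUV x hxU hflat

/-- the open flat locus contains the relative effective Cartier divisor. -/
theorem exists_open_flat (f : X ⟶ S) [LocallyOfFinitePresentation f]
    (𝓘 : X.IdealSheafData) (hC : BlowUp.IsEffCartierIdeal 𝓘) (hfl : Flat (𝓘.subschemeι ≫ f)) :
    ∃ U : X.Opens, (𝓘.support : Set X) ⊆ U ∧ Flat (U.ι ≫ f) := by
  refine ⟨⟨{x : X | (f.stalkMap x).hom.Flat},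
    Groth.Agent.Lib.Helper18.Fl.isOpen_flatLocus_scheme f⟩, fun x hx =>
      flat_stalkMap_of_mem_support f 𝓘 hC hfl x hx, ?_⟩
  refine Flat.of_stalkMap _ (fun u => ?_)
  have h2 : (CommRingCat.Hom.hom (f.stalkMap ((Scheme.Opens.ι _) u) ≫
      (Scheme.Opens.ι _).stalkMap u)).Flat := by
    rw [CommRingCat.hom_comp]
    refine RingHom.Flat.comp (u.2 : (f.stalkMap u.1).hom.Flat) ?_
    exact RingHom.Flat.of_bijective (ConcreteCategory.bijective_of_isIso
      ((Scheme.Opens.ι _).stalkMap u))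
  rw [Scheme.Hom.stalkMap_comp]
  exact h2

end flatNear

end Groth.Agent.Lib27.RelCartier
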