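import Mathlib
import Groth.Agent.Lib27.Sch.RelCartier
import Groth.Agent.Lib27.Flat.ReducedFibre

/-!
# Containment of closed subschemes checked on fibres, over a reduced locally Noetherian base
(helper27)
-/

set_option autoImplicit false

universe u

namespace Groth.Agent.Lib27.FibreLE

open AlgebraicGeometry CategoryTheory Limits Function

variable {X S : Scheme.{u}}

/-- containment of inverse image ideals on the fibre through `y`, read on the local ring of `X`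
at `ι y`. -/
theorem stalk_mem_of_fibre_le (φ : X ⟶ S) (D D' : X.IdealSheafData) (s : S) (y : φ.fiber s)
    (hle : D.comap (φ.fiberι s) ≤ D'.comap (φ.fiberι s))
    (U : X.affineOpens) (hyU : (φ.fiberι s) y ∈ U.1) (g : Γ(X, U.1)) (hg : g ∈ D.ideal U) :
    X.presheaf.germ U.1 ((φ.fiberι s) y) hyU g ∈
      (D'.ideal U).map (X.presheaf.germ U.1 ((φ.fiberι s) y) hyU).hom ⊔
      Ideal.map (φ.stalkMap ((φ.fiberι s) y)).hom
        (IsLocalRing.maximalIdeal (S.presheaf.stalk (φ ((φ.fiberι s) y)))) := by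
  obtain ⟨hs, hk⟩ := Groth.Agent.S9501.result φ s y
  obtain ⟨W, hyW, hWU, -⟩ :=
    Groth.Agent.Lib.Helper25.BlowUpUP.exists_affineOpens_le_preimage (φ.fiberι s) y U.1 hyU ⊤
      trivial
  have h1 := hle W
  rw [Groth.Agent.Lib.Helper1.ideal_comap D (φ.fiberι s) W U hWU,
    Groth.Agent.Lib.Helper1.ideal_comap D' (φ.fiberι s) W U hWU] at h1
  have h2 : ((φ.fiberι s).appLE U.1 W.1 hWU).hom g ∈
      (D'.ideal U).map ((φ.fiberι s).appLE U.1 W.1 hWU).hom := h1 (Ideal.mem_map_of_mem _ hg)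
  set σ := ((φ.fiberι s).stalkMap y).hom with hσ
  set gx := (X.presheaf.germ U.1 ((φ.fiberι s) y) hyU).hom with hgx
  set gy := ((φ.fiber s).presheaf.germ W.1 y hyW).hom with hgy
  have hcomp : gy.comp ((φ.fiberι s).appLE U.1 W.1 hWU).hom = σ.comp gx :=
    RingHom.ext fun r => Groth.Agent.Lib.Helper8.FlatAffine.germ_appLE (φ.fiberι s) hWU y hyW r
  have h3 : σ (gx g) ∈ ((D'.ideal U).map gx).map σ := by
    rw [Ideal.map_map, ← hcomp, ← Ideal.map_map]
    have : σ (gx g) = gy (((φ.fiberι s).appLE U.1 W.1 hWU).hom g) :=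
      (RingHom.congr_fun hcomp g).symm
    rw [this]
    exact Ideal.mem_map_of_mem _ h2
  obtain ⟨w, hw, hwσ⟩ := (Ideal.mem_map_iff_of_surjective σ hs).mp h3
  have h4 : gx g - w ∈ RingHom.ker σ := by
    rw [RingHom.mem_ker, map_sub, hwσ, sub_self]
  rw [hk] at h4
  have h5 : gx g = w + (gx g - w) := by ring
  change gx g ∈ _
  rw [h5]
  exact Submodule.add_mem_sup hw h4

/-- `stalk_mem_of_fibre_le` at an arbitrary point `x` of `X`. -/
theorem stalk_mem_of_fibre_le' (φ : X ⟶ S) (D D' : X.IdealSheafData) (x : X)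
    (hle : D.comap (φ.fiberι (φ x)) ≤ D'.comap (φ.fiberι (φ x)))
    (U : X.affineOpens) (hxU : x ∈ U.1) (g : Γ(X, U.1)) (hg : g ∈ D.ideal U) :
    X.presheaf.germ U.1 x hxU g ∈
      (D'.ideal U).map (X.presheaf.germ U.1 x hxU).hom ⊔
      Ideal.map (φ.stalkMap x).hom (IsLocalRing.maximalIdeal (S.presheaf.stalk (φ x))) := by
  let Q : X → Prop := fun x' => ∀ (hxU : x' ∈ U.1),
    X.presheaf.germ U.1 x' hxU g ∈
      (D'.ideal U).map (X.presheaf.germ U.1 x' hxU).hom ⊔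
      Ideal.map (φ.stalkMap x').hom (IsLocalRing.maximalIdeal (S.presheaf.stalk (φ x')))
  have e : (φ.fiberι (φ x)) (φ.asFiber x) = x := Scheme.Hom.fiberι_asFiber φ x
  have hQ : Q ((φ.fiberι (φ x)) (φ.asFiber x)) := fun hyU =>
    stalk_mem_of_fibre_le φ D D' (φ x) (φ.asFiber x) hle U hyU g hg
  exact (congrArg Q e).mp hQ hxU

/-- **Containment of closed subschemes on fibres.**  Over a reduced locally Noetherian base, if
`V(D')` is flat and `D ≤ D'` holds after restriction to every fibre, then `D ≤ D'`. -/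
theorem le_of_forall_fibre_le (π : X ⟶ S) [IsLocallyNoetherian S] [IsReduced S]
    (D D' : X.IdealSheafData) (hfl : Flat (D'.subschemeι ≫ π))
    (hfib : ∀ t : S, D.comap (π.fiberι t) ≤ D'.comap (π.fiberι t)) : D ≤ D' := by
  classical
  refine Scheme.IdealSheafData.le_of_iSup_eq_top
    (fun i : {p : X.affineOpens × S.affineOpens // p.1.1 ≤ π ⁻¹ᵁ p.2.1} => i.1.1)
    (Groth.Agent.Lib.Helper1.iSup_affineOpens_le_preimage π) ?_
  rintro ⟨⟨⟨U, hU⟩, ⟨V, hV⟩⟩, hUV⟩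
  change U ≤ π ⁻¹ᵁ V at hUV
  change D.ideal ⟨U, hU⟩ ≤ D'.ideal ⟨U, hU⟩
  letI algAB : Algebra Γ(S, V) Γ(X, U) := (π.appLE V U hUV).hom.toAlgebra
  haveI : IsNoetherianRing Γ(S, V) := IsLocallyNoetherian.component_noetherian ⟨V, hV⟩
  haveI : _root_.IsReduced Γ(S, V) := inferInstance
  have hc1 : Flat (Spec.map (π.appLE V U hUV ≫
      CommRingCat.ofHom (Ideal.Quotient.mk (D'.ideal ⟨U, hU⟩)))) :=
    Groth.Agent.Lib27.RelCartier.chart_prop (P := @Flat) π D' hfl hU hV hUV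
  rw [Flat.SpecMap_iff] at hc1
  have halg : (π.appLE V U hUV ≫ CommRingCat.ofHom
      (Ideal.Quotient.mk (D'.ideal ⟨U, hU⟩))).hom =
      algebraMap Γ(S, V) (Γ(X, U) ⧸ D'.ideal ⟨U, hU⟩) := rfl
  rw [halg] at hc1
  haveI hflq : Module.Flat Γ(S, V) (Γ(X, U) ⧸ D'.ideal ⟨U, hU⟩) :=
    RingHom.flat_algebraMap_iff.mp hc1
  refine Groth.Agent.Lib27.ReducedFibre.le_of_forall_prime (A := Γ(S, V)) _ _ ?_
  intro Q hQ g hg
  obtain ⟨⟨x, hxU⟩, hu⟩ : ∃ u : U, hU.primeIdealOf u = ⟨Q, hQ⟩ :=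
    (Scheme.homeoOfIso hU.isoSpec).surjective ⟨Q, hQ⟩
  have hq : (hU.primeIdealOf ⟨x, hxU⟩).asIdeal = Q := congrArg PrimeSpectrum.asIdeal hu
  subst hq
  letI algBBq : Algebra Γ(X, U) (X.presheaf.stalk x) :=
    TopCat.Presheaf.algebra_section_stalk X.presheaf ⟨x, hxU⟩
  haveI hloc := hU.isLocalization_stalk ⟨x, hxU⟩
  have hst := stalk_mem_of_fibre_le' π D D' x (hfib (π x)) ⟨U, hU⟩ hxU g hg
  rw [Groth.Agent.Lib27.StalkTools.map_stalkMap_maximalIdeal π hU hV hUV x hxU] at hst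
  have hgerm : (X.presheaf.germ U x hxU).hom = algebraMap Γ(X, U) (X.presheaf.stalk x) := rfl
  have happ : (π.appLE V U hUV).hom = algebraMap Γ(S, V) Γ(X, U) := rfl
  rw [hgerm, happ, ← Ideal.map_map, ← Ideal.map_sup] at hst
  obtain ⟨⟨⟨a₀, ha₀⟩, ⟨s₀, hs₀⟩⟩, hmul⟩ :=
    (IsLocalization.mem_map_algebraMap_iff (hU.primeIdealOf ⟨x, hxU⟩).asIdeal.primeCompl
      (X.presheaf.stalk x)).mp hst
  change algebraMap Γ(X, U) (X.presheaf.stalk x) g * algebraMap Γ(X, U) (X.presheaf.stalk x) s₀ =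
    algebraMap Γ(X, U) (X.presheaf.stalk x) a₀ at hmul
  rw [← map_mul] at hmul
  obtain ⟨c, hc⟩ := (IsLocalization.eq_iff_exists (hU.primeIdealOf ⟨x, hxU⟩).asIdeal.primeCompl
    (X.presheaf.stalk x)).mp hmul
  refine ⟨c * s₀, ?_, ?_⟩
  · exact fun h => (Ideal.IsPrime.mem_or_mem hQ h).elim c.2 hs₀
  · rw [mul_assoc, mul_comm s₀ g, hc]
    exact Ideal.mul_mem_left _ _ ha₀

end Groth.Agent.Lib27.FibreLE
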