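import Mathlib
import Groth.Prelude.Def_FlatMod2
import Groth.Agent.Lib27.Flat.InjFlatOpen
import Groth.Agent.Lib27.Sch.StalkTools
import Groth.Agent.Lib.Helper18.FlH
import Groth.Agent.Lib.Helper29.QCohGen
import Groth.Agent.Lib.Helper29.QCohCrit
import Groth.Agent.Lib.Helper29.QCohAffine
import Groth.Agent.Lib.Helper29.QCohPullback

/-!
# Openness of the locus where a map of f.p. quasi-coherent modules is injective with flat cokernel
-/

set_option backward.isDefEq.respectTransparency.types false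
set_option autoImplicit false
set_option linter.style.haveILetI false
set_option linter.unusedSectionVars false

universe u

open CategoryTheory CategoryTheory.Limits AlgebraicGeometry Opposite TopologicalSpace Function

namespace Groth.Agent.Lib27.InjFlatOpenSch

open Groth.Agent.Lib.Helper29.QCoh Groth.Agent.Lib.Helper8.FlatAffine
open Groth.Agent.Lib27.StalkTools Groth.Agent.Lib.Helper18.Fl

variable {X Y : Scheme.{u}}

/-- sections of a cokernel over an affine open: the cokernel of the map on sections. -/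
noncomputable def cokernelSectionsEquiv {F' F : X.Modules} [F'.IsQuasicoherent]
    [F.IsQuasicoherent] (u : F' ⟶ F) {U : X.Opens} (hU : IsAffineOpen U) :
    (Γ(F, U) ⧸ LinearMap.range (appₗ u U)) ≃ₗ[Γ(X, U)] Γ(cokernel u, U) := by
  have hex : Function.Exact (u.app U) ((cokernel.π u).app U) :=
    app_exact_of_exact (ShortComplex.mk u (cokernel.π u) (cokernel.condition u))
      (ShortComplex.exact_cokernel u) hU
  have hsurj : Surjective (appₗ (cokernel.π u) U) := app_surjective_of_epi (cokernel.π u) hU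
  have hker : LinearMap.range (appₗ u U) = LinearMap.ker (appₗ (cokernel.π u) U) := by
    ext n
    rw [LinearMap.mem_ker, LinearMap.mem_range]
    exact (hex n).symm
  exact (Submodule.quotEquivOfEq _ _ hker) ≪≫ₗ
    (appₗ (cokernel.π u) U).quotKerEquivOfSurjective hsurj

/-- injectivity of the stalk map in terms of the support of the kernel of the map on sections. -/
theorem stalkMap_injective_iff {F' F : X.Modules} [F'.IsQuasicoherent] [F.IsQuasicoherent]
    (u : F' ⟶ F) {U : X.Opens} (hU : IsAffineOpen U) (y : X) (hy : y ∈ U) :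
    Injective (stalkMap u y) ↔
      hU.primeIdealOf ⟨y, hy⟩ ∉ Module.support Γ(X, U) (LinearMap.ker (appₗ u U)) := by
  rw [Module.notMem_support_iff']
  constructor
  · rintro hinj ⟨m', hm'⟩
    have h1 : stalkMap u y (F'.presheaf.germ U y hy m') = 0 := by
      rw [stalkMap_germ]
      have : u.app U m' = 0 := hm'
      rw [this, map_zero]
    have h2 : F'.presheaf.germ U y hy m' = 0 := hinj (by rw [h1, map_zero])
    obtain ⟨r, hr, hr0⟩ := exists_smul_eq_zero_of_germ_eq_zero F' hU y hy m' h2
    exact ⟨r, (mem_basicOpen_iff_notMem_primeIdealOf hU y hy r).mp hr, Subtype.ext hr0⟩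
  · intro h
    rw [injective_iff_map_eq_zero]
    intro t ht
    obtain ⟨r, m, hr, hrm⟩ := exists_smul_germ_eq F' hU y hy t
    have hunit : IsUnit (X.presheaf.germ U y hy r) := (Scheme.mem_basicOpen _ _ _ hy).mp hr
    have h1 : F.presheaf.germ U y hy (u.app U m) = 0 := by
      rw [← stalkMap_germ, ← hrm, stalkMap_smul, ht, smul_zero]
    obtain ⟨r', hr', hr'0⟩ := exists_smul_eq_zero_of_germ_eq_zero F hU y hy _ h1
    have hmem : r' • m ∈ LinearMap.ker (appₗ u U) := by
      change appₗ u U (r' • m) = 0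
      rw [map_smul]
      exact hr'0
    obtain ⟨r'', hr'', hr''0⟩ := h ⟨r' • m, hmem⟩
    have h2 : (r'' * r') • m = 0 := by
      rw [mul_smul]
      exact congrArg Subtype.val hr''0
    have hunit2 : IsUnit (X.presheaf.germ U y hy (r'' * r')) := by
      rw [← Scheme.mem_basicOpen _ _ _ hy, mem_basicOpen_iff_notMem_primeIdealOf hU y hy]
      intro hmem
      rcases (hU.primeIdealOf ⟨y, hy⟩).2.mem_or_mem hmem with h' | h'
      · exact hr'' h'
      · exact (mem_basicOpen_iff_notMem_primeIdealOf hU y hy r').mp hr' h'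
    have h3 : F'.presheaf.germ U y hy m = 0 := by
      have := congrArg (F'.presheaf.germ U y hy) h2
      rw [germ_smul, map_zero] at this
      obtain ⟨w, hw⟩ := hunit2
      rw [← hw] at this
      have h4 := congrArg (fun z => (↑w⁻¹ : X.presheaf.stalk y) • z) this
      simpa only [smul_smul, Units.inv_mul, one_smul, smul_zero] using h4
    rw [h3] at hrm
    obtain ⟨w, hw⟩ := hunit
    rw [← hw] at hrm
    have h4 := congrArg (fun z => (↑w⁻¹ : X.presheaf.stalk y) • z) hrm
    simpa only [smul_smul, Units.inv_mul, one_smul, smul_zero] using h4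

variable (f : X ⟶ Y)

/-- flatness of the stalk of the cokernel over the base in terms of sections. -/
theorem isFlatOverAt_cokernel_iff {F' F : X.Modules} [F'.IsQuasicoherent] [F.IsQuasicoherent]
    (u : F' ⟶ F) {U : X.Opens} {V : Y.Opens} (hU : IsAffineOpen U) (hV : IsAffineOpen V)
    (hUV : U ≤ f ⁻¹ᵁ V) (y : X) (hy : y ∈ U) :
    FlatMod.IsFlatOverAt f (cokernel u) y ↔
      (letI : Algebra Γ(Y, V) Γ(X, U) := (f.appLE V U hUV).hom.toAlgebra
       letI : Module Γ(Y, V) Γ(F, U) := Module.compHom _ (f.appLE V U hUV).hom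
       haveI : IsScalarTower Γ(Y, V) Γ(X, U) Γ(F, U) :=
         IsScalarTower.of_algebraMap_smul (fun r m => rfl)
       Module.Flat Γ(Y, V)
        (LocalizedModule (hU.primeIdealOf ⟨y, hy⟩).asIdeal.primeCompl
          (Γ(F, U) ⧸ LinearMap.range (appₗ u U)))) := by
  letI algAB : Algebra Γ(Y, V) Γ(X, U) := (f.appLE V U hUV).hom.toAlgebra
  letI mAM : Module Γ(Y, V) Γ(F, U) := Module.compHom _ (f.appLE V U hUV).hom
  haveI : IsScalarTower Γ(Y, V) Γ(X, U) Γ(F, U) :=
    IsScalarTower.of_algebraMap_smul (fun r m => rfl)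
  letI mAC : Module Γ(Y, V) Γ(cokernel u, U) := Module.compHom _ (f.appLE V U hUV).hom
  haveI : IsScalarTower Γ(Y, V) Γ(X, U) Γ(cokernel u, U) :=
    IsScalarTower.of_algebraMap_smul (fun r m => rfl)
  rw [isFlatOverAt_iff_flat_localizedModule f (cokernel u) hU hV hUV y hy]
  set S := (hU.primeIdealOf ⟨y, hy⟩).asIdeal.primeCompl with hS
  let e := cokernelSectionsEquiv u hU
  haveI : IsLocalizedModule S
      ((LocalizedModule.mkLinearMap S Γ(cokernel u, U)) ∘ₗ e.toLinearMap) :=
    IsLocalizedModule.of_linearEquiv_right S _ e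
  let E := IsLocalizedModule.iso S
    ((LocalizedModule.mkLinearMap S Γ(cokernel u, U)) ∘ₗ e.toLinearMap)
  exact ⟨fun h => Module.Flat.of_linearEquiv (E.restrictScalars Γ(Y, V)),
    fun h => Module.Flat.of_linearEquiv (E.symm.restrictScalars Γ(Y, V))⟩

theorem isOpen_injFlatLocus [LocallyOfFinitePresentation f] (F F' : X.Modules)
    [F.IsQuasicoherent] [F'.IsQuasicoherent] [F.IsFinitePresentation] [F'.IsFinitePresentation]
    (u : F' ⟶ F) :
    IsOpen {x : X | Injective (stalkMap u x) ∧ FlatMod.IsFlatOverAt f (cokernel u) x} := by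
  rw [isOpen_iff_forall_mem_open]
  intro x hx
  obtain ⟨U, V, hU, hV, hxU, hUV⟩ := Groth.Agent.Lib.Helper29.QCoh.exists_affine_pair f x
  have hfp : RingHom.FinitePresentation (f.appLE V U hUV).hom :=
    HasRingHomProperty.appLE (P := @LocallyOfFinitePresentation) f inferInstance ⟨V, hV⟩ ⟨U, hU⟩
      hUV
  letI algAB : Algebra Γ(Y, V) Γ(X, U) := (f.appLE V U hUV).hom.toAlgebra
  letI mAM : Module Γ(Y, V) Γ(F, U) := Module.compHom _ (f.appLE V U hUV).hom
  haveI : IsScalarTower Γ(Y, V) Γ(X, U) Γ(F, U) :=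
    IsScalarTower.of_algebraMap_smul (fun r m => rfl)
  haveI : Algebra.FinitePresentation Γ(Y, V) Γ(X, U) := hfp
  haveI : Module.FinitePresentation Γ(X, U) Γ(F, U) :=
    module_finitePresentation_of_isFinitePresentation F hU
  haveI : Module.FinitePresentation Γ(X, U) Γ(F', U) :=
    module_finitePresentation_of_isFinitePresentation F' hU
  have hO := Groth.Agent.Lib27.InjFlatOpen.isOpen_injFlatLocus (A := Γ(Y, V)) (B := Γ(X, U))
    (appₗ u U)
  have key : ∀ (y : X) (hy : y ∈ U),
      (Injective (stalkMap u y) ∧ FlatMod.IsFlatOverAt f (cokernel u) y) ↔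
      hU.primeIdealOf ⟨y, hy⟩ ∈ {Q : PrimeSpectrum Γ(X, U) |
        Q ∉ Module.support Γ(X, U) (LinearMap.ker (appₗ u U)) ∧
        Module.Flat Γ(Y, V) (LocalizedModule Q.asIdeal.primeCompl
          (Γ(F, U) ⧸ LinearMap.range (appₗ u U)))} := fun y hy =>
    and_congr (stalkMap_injective_iff u hU y hy) (isFlatOverAt_cokernel_iff f u hU hV hUV y hy)
  refine ⟨Subtype.val '' ((fun y : U => hU.primeIdealOf y) ⁻¹'
    {Q : PrimeSpectrum Γ(X, U) |
        Q ∉ Module.support Γ(X, U) (LinearMap.ker (appₗ u U)) ∧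
        Module.Flat Γ(Y, V) (LocalizedModule Q.asIdeal.primeCompl
          (Γ(F, U) ⧸ LinearMap.range (appₗ u U)))}), ?_, ?_, ?_⟩
  · rintro _ ⟨⟨y, hy⟩, hyO, rfl⟩
    exact (key y hy).mpr hyO
  · refine U.isOpen.isOpenMap_subtype_val _ (hO.preimage ?_)
    exact hU.isoSpec.hom.continuous
  · exact ⟨⟨x, hxU⟩, (key x hxU).mp hx, rfl⟩

end Groth.Agent.Lib27.InjFlatOpenSch
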