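import Mathlib
import Groth.Prelude.Def_Formal
import Groth.Agent.Lib27.Sch.FibInjSch
import Groth.Agent.Lib27.Sch.InjFlatOpenSch
import Groth.Agent.Lib.Helper29.QCohCrit
import Groth.Agent.Lib.Helper29.RegDim1
import Groth.Agent.Lib.Helper6.UO4

/-!
# Openness of the locus where sections form a fibrewise weakly regular sequence (helper27)
-/

set_option autoImplicit false
set_option linter.style.haveILetI false

universe u

open CategoryTheory CategoryTheory.Limits AlgebraicGeometry Opposite TopologicalSpace Function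

namespace Groth.Agent.Lib27.FibreRegSeq

open Groth.Agent.Lib.Helper29.QCoh Groth.Agent.Lib27.StalkTools

section alg

variable {R : Type u} [CommRing R] (J : Ideal R) (r : R)
  (M M₁ : Type u) [AddCommGroup M] [Module R M] [AddCommGroup M₁] [Module R M₁]

/-- `(M/JM)/r ≅ M₁/JM₁` when `M₁ ≅ M/rM`. -/
noncomputable def quotEquiv (e₁ : M₁ ≃ₗ[R] QuotSMulTop r M) :
    QuotSMulTop r (M ⧸ J • (⊤ : Submodule R M)) ≃ₗ[R] M₁ ⧸ J • (⊤ : Submodule R M₁) :=
  (QuotSMulTop.congr r (TensorProduct.quotTensorEquivQuotSMul M J).symm) ≪≫ₗ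
    (QuotSMulTop.tensorQuotSMulTopEquivQuotSMulTop r (R ⧸ J) M).symm ≪≫ₗ
    (e₁.symm.lTensor (R ⧸ J)) ≪≫ₗ TensorProduct.quotTensorEquivQuotSMul M₁ J

end alg

variable {X Y : Scheme.{u}}

/-- the stalk of multiplication by a global function is multiplication by its germ. -/
theorem stalkMap_smulModΓ (F : X.Modules) (r : Γ(X, ⊤)) (x : X) (m : F.presheaf.stalk x) :
    stalkMap (Formal.smulModΓ F r) x m = X.presheaf.germ ⊤ x trivial r • m := by
  obtain ⟨U, hxU, s, rfl⟩ := F.presheaf.exists_germ_eq m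
  rw [stalkMap_germ]
  have h1 : (Formal.smulModΓ F r).app U s =
      (X.presheaf.map (homOfLE (le_top : U ≤ ⊤)).op).hom r • s := rfl
  rw [h1, germ_smul]
  congr 1
  exact TopCat.Presheaf.germ_res_apply X.presheaf (homOfLE (le_top : U ≤ ⊤)) x hxU r

section main

open scoped Pointwise

variable (f : X ⟶ Y) [LocallyOfFinitePresentation f] [IsLocallyNoetherian X]

/-- one step: `r, rs` is fibrewise weakly regular on `F` at `x` iff `r` is injective on `F_x` with
`f`-flat cokernel and `rs` is fibrewise weakly regular on `F/rF` at `x`. -/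
theorem step (F : X.Modules) (hF : Coh.IsCoh F) (r : Γ(X, ⊤)) (x : X)
    (hflat : FlatMod.IsFlatOverAt f F x) (rs : List (X.presheaf.stalk x)) :
    RingTheory.Sequence.IsWeaklyRegular
        (↑(F.presheaf.stalk x) ⧸ (Ideal.map (f.stalkMap x).hom
          (IsLocalRing.maximalIdeal ↑(Y.presheaf.stalk (f x))) •
          (⊤ : Submodule ↑(X.presheaf.stalk x) ↑(F.presheaf.stalk x))))
        ((X.presheaf.germ ⊤ x trivial r) :: rs) ↔
      (Injective (stalkMap (Formal.smulModΓ F r) x) ∧
        FlatMod.IsFlatOverAt f (cokernel (Formal.smulModΓ F r)) x) ∧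
      RingTheory.Sequence.IsWeaklyRegular
        (↑((cokernel (Formal.smulModΓ F r)).presheaf.stalk x) ⧸ (Ideal.map (f.stalkMap x).hom
          (IsLocalRing.maximalIdeal ↑(Y.presheaf.stalk (f x))) •
          (⊤ : Submodule ↑(X.presheaf.stalk x)
            ↑((cokernel (Formal.smulModΓ F r)).presheaf.stalk x)))) rs := by
  haveI := hF.1
  haveI := hF.2
  haveI : F.IsFinitePresentation := isFinitePresentation_of_isCoh F hF
  set μ := Formal.smulModΓ F r with hμ
  set J := Ideal.map (f.stalkMap x).hom (IsLocalRing.maximalIdeal ↑(Y.presheaf.stalk (f x)))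
    with hJ
  set rx := X.presheaf.germ ⊤ x trivial r with hrx
  have hμx : ∀ m, stalkMapₗ μ x m = rx • m := fun m => stalkMap_smulModΓ F r x m
  rw [RingTheory.Sequence.isWeaklyRegular_cons_iff]
  refine and_congr ?_ ?_
  · rw [isSMulRegular_quotient_iff_mem_of_smul_mem]
    have h1 := Groth.Agent.Lib27.FibInjSch.fibInj_stalk_iff f F F μ x hflat
    rw [show (Injective (stalkMap μ x) ∧ FlatMod.IsFlatOverAt f (cokernel μ) x) ↔
      (Injective (stalkMapₗ μ x) ∧ FlatMod.IsFlatOverAt f (cokernel μ) x) from Iff.rfl, h1]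
    refine forall_congr' fun m => ?_
    rw [hμx]
  · have hrange : LinearMap.range (stalkMapₗ μ x) =
        rx • (⊤ : Submodule (X.presheaf.stalk x) (F.presheaf.stalk x)) := by
      ext m
      rw [LinearMap.mem_range, Submodule.mem_smul_pointwise_iff_exists]
      constructor
      · rintro ⟨y, rfl⟩
        exact ⟨y, trivial, (hμx y).symm⟩
      · rintro ⟨y, -, rfl⟩
        exact ⟨y, hμx y⟩
    let e₁ : (cokernel μ).presheaf.stalk x ≃ₗ[X.presheaf.stalk x]
        QuotSMulTop rx (F.presheaf.stalk x) :=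
      (stalkCokernelEquiv μ x).symm ≪≫ₗ Submodule.quotEquivOfEq _ _ hrange
    exact LinearEquiv.isWeaklyRegular_congr
      (quotEquiv J rx (F.presheaf.stalk x) ((cokernel μ).presheaf.stalk x) e₁) rs

/-- the inductive statement: openness inside an open set on which `F` is `f`-flat. -/
theorem isOpen_aux : ∀ (n : ℕ) (F : X.Modules) (_ : Coh.IsCoh F) (W : Set X) (_ : IsOpen W)
    (_ : ∀ x ∈ W, FlatMod.IsFlatOverAt f F x) (g : Fin n → Γ(X, ⊤)),
    IsOpen {x : X | x ∈ W ∧
      RingTheory.Sequence.IsWeaklyRegular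
        (↑(F.presheaf.stalk x) ⧸ (Ideal.map (f.stalkMap x).hom
          (IsLocalRing.maximalIdeal ↑(Y.presheaf.stalk (f x))) •
          (⊤ : Submodule ↑(X.presheaf.stalk x) ↑(F.presheaf.stalk x))))
        (List.ofFn fun i => (X.presheaf.germ ⊤ x trivial) (g i))}
  | 0, F, hF, W, hW, hflat, g => by
    have : {x : X | x ∈ W ∧
        RingTheory.Sequence.IsWeaklyRegular
          (↑(F.presheaf.stalk x) ⧸ (Ideal.map (f.stalkMap x).hom
            (IsLocalRing.maximalIdeal ↑(Y.presheaf.stalk (f x))) •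
            (⊤ : Submodule ↑(X.presheaf.stalk x) ↑(F.presheaf.stalk x))))
          (List.ofFn fun i => (X.presheaf.germ ⊤ x trivial) (g i))} = W := by
      ext x
      simp only [Set.mem_setOf_eq, List.ofFn_zero, RingTheory.Sequence.IsWeaklyRegular.nil,
        and_true]
    rw [this]
    exact hW
  | n + 1, F, hF, W, hW, hflat, g => by
    haveI := hF.1
    haveI := hF.2
    haveI : F.IsFinitePresentation := isFinitePresentation_of_isCoh F hF
    set μ := Formal.smulModΓ F (g 0) with hμ
    have hF₁ : Coh.IsCoh (cokernel μ) := ⟨inferInstance, isFiniteType_cokernel μ⟩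
    set W₁ : Set X := W ∩ {x : X | Injective (stalkMap μ x) ∧
      FlatMod.IsFlatOverAt f (cokernel μ) x} with hW₁def
    have hW₁ : IsOpen W₁ :=
      hW.inter (Groth.Agent.Lib27.InjFlatOpenSch.isOpen_injFlatLocus f F F μ)
    have hIH := isOpen_aux n (cokernel μ) hF₁ W₁ hW₁ (fun x hx => hx.2.2) (fun i => g i.succ)
    convert hIH using 1
    ext x
    simp only [Set.mem_setOf_eq]
    rw [List.ofFn_succ]
    constructor
    · rintro ⟨hxW, hwr⟩
      have h1 := (step f F hF (g 0) x (hflat x hxW) _).mp hwr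
      exact ⟨⟨hxW, h1.1⟩, h1.2⟩
    · rintro ⟨⟨hxW, h1⟩, h2⟩
      exact ⟨hxW, (step f F hF (g 0) x (hflat x hxW) _).mpr ⟨h1, h2⟩⟩

end main

/-- **Openness of the fibrewise weakly regular locus.** -/
theorem isOpen_fibre_weaklyRegular [IsLocallyNoetherian Y] (f : X ⟶ Y) [LocallyOfFiniteType f]
    (F : X.Modules) (hF : Coh.IsCoh F) (hflat : FlatMod.IsFlatOver f F)
    (n : ℕ) (g : Fin n → Γ(X, ⊤)) :
    IsOpen {x : X |
      RingTheory.Sequence.IsWeaklyRegular
        (↑(F.presheaf.stalk x) ⧸ (Ideal.map (f.stalkMap x).hom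
          (IsLocalRing.maximalIdeal ↑(Y.presheaf.stalk (f x))) •
          (⊤ : Submodule ↑(X.presheaf.stalk x) ↑(F.presheaf.stalk x))))
        (List.ofFn fun i => (X.presheaf.germ ⊤ x trivial) (g i))} := by
  haveI : LocallyOfFinitePresentation f :=
    Groth.Agent.Lib.Helper6.UO.lfp_of_lft_of_isLocallyNoetherian f
  haveI : IsLocallyNoetherian X := LocallyOfFiniteType.isLocallyNoetherian f
  have h := isOpen_aux f n F hF Set.univ isOpen_univ (fun x _ => hflat x) g
  simpa only [Set.mem_univ, true_and] using h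

end Groth.Agent.Lib27.FibreRegSeq
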