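import Mathlib.AlgebraicGeometry.Morphisms.Affine
import Mathlib.AlgebraicGeometry.Limits
import Groth.Agent.S16030

/-!
# Finite sets of points in affine opens; affine opens of wide fibre powers
-/

set_option autoImplicit false
universe u
open CategoryTheory CategoryTheory.Limits AlgebraicGeometry TopologicalSpace Opposite

namespace Groth.Agent.Lib27.FinBasic

/-- A finite set of points of an affine open `U` contained in an open `W` lies in a basic open of `U`
contained in `W`. -/
theorem exists_basicOpen_of_finite {X : Scheme.{u}} {U : X.Opens} (hU : IsAffineOpen U)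
    (T : Set X) (hT : T.Finite) (hTU : T ⊆ (U : Set X)) (W : X.Opens) (hTW : T ⊆ (W : Set X)) :
    ∃ g : Γ(X, U), T ⊆ (X.basicOpen g : Set X) ∧ X.basicOpen g ≤ W := by
  classical
  set φ := hU.fromSpec with hφ
  have hinj : Function.Injective φ := φ.isOpenEmbedding.injective
  have hF : (φ ⁻¹' T).Finite := hT.preimage hinj.injOn
  obtain ⟨a, hFa, haW⟩ := Groth.Agent.S16030.result Γ(X, U) (φ ⁻¹' T) hF (φ ⁻¹ᵁ W)
    (fun p hp => hTW hp)
  refine ⟨a, ?_, ?_⟩
  · intro t ht
    have htU : t ∈ Set.range φ := by rw [hφ, hU.range_fromSpec]; exact hTU ht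
    obtain ⟨p, rfl⟩ := htU
    rw [← hU.fromSpec_image_basicOpen]
    exact ⟨p, hFa ht, rfl⟩
  · rw [← hU.fromSpec_image_basicOpen]
    rintro _ ⟨p, hp, rfl⟩
    exact haW hp

end Groth.Agent.Lib27.FinBasic

namespace Groth.Agent.Lib27.FinBasic

/-- The wide pullback of affine schemes over an affine scheme is affine. -/
instance isAffine_widePullback {ι : Type*} (B : Scheme.{u}) (Y : ι → Scheme.{u})
    (g : ∀ i, Y i ⟶ B) [HasWidePullback B Y g] [IsAffine B] [∀ i, IsAffine (Y i)] :
    IsAffine (widePullback B Y g) := by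
  have : ∀ j : WidePullbackShape ι, IsAffine ((WidePullbackShape.wideCospan B Y g).obj j) := by
    rintro (_ | j)
    · exact ‹IsAffine B›
    · exact ‹∀ i, IsAffine (Y i)› j
  exact Scheme.isAffine_of_isLimit _ (limit.isLimit (WidePullbackShape.wideCospan B Y g))

/-- In a finite fibre power of `f : X ⟶ S`, the open of points over an affine open `V` of `S` all of
whose coordinates lie in an affine open `U ⊆ f⁻¹ V` of `X` is affine. -/
theorem isAffineOpen_fibPow {X S : Scheme.{u}} (f : X ⟶ S) (d : ℕ)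
    (V : S.Opens) (hV : IsAffineOpen V) (U : X.Opens) (hU : IsAffineOpen U) (hUV : U ≤ f ⁻¹ᵁ V) :
    IsAffineOpen ((WidePullback.base (fun _ : Fin d => f)) ⁻¹ᵁ V ⊓
      ⨅ i : Fin d, (WidePullback.π (fun _ : Fin d => f) i) ⁻¹ᵁ U) := by
  set P := widePullback S (fun _ : Fin d => X) (fun _ => f) with hP
  set O : P.Opens := (WidePullback.base (fun _ : Fin d => f)) ⁻¹ᵁ V ⊓
      ⨅ i : Fin d, (WidePullback.π (fun _ : Fin d => f) i) ⁻¹ᵁ U with hO
  have : IsAffine (V : Scheme.{u}) := hV
  have : IsAffine (U : Scheme.{u}) := hU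
  set fUV : (U : Scheme.{u}) ⟶ V := f.resLE V U hUV with hfUV
  have hfUVι : fUV ≫ V.ι = U.ι ≫ f := Scheme.Hom.resLE_comp_ι _ _
  set P' := widePullback (V : Scheme.{u}) (fun _ : Fin d => (U : Scheme.{u})) (fun _ => fUV) with hP'
  -- the map P' ⟶ P
  let b : P' ⟶ P := WidePullback.lift (WidePullback.base (fun _ : Fin d => fUV) ≫ V.ι)
    (fun i => WidePullback.π (fun _ : Fin d => fUV) i ≫ U.ι) (by
      intro i
      rw [Category.assoc, ← hfUVι, WidePullback.π_arrow_assoc])
  have hb_base : b ≫ WidePullback.base (fun _ : Fin d => f) =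
      WidePullback.base (fun _ : Fin d => fUV) ≫ V.ι := WidePullback.lift_base _ _ _ _
  have hb_π : ∀ i, b ≫ WidePullback.π (fun _ : Fin d => f) i =
      WidePullback.π (fun _ : Fin d => fUV) i ≫ U.ι := fun i => WidePullback.lift_π _ _ _ _ i
  have hbO : Set.range b ⊆ Set.range O.ι := by
    rw [Scheme.Opens.range_ι]
    rintro _ ⟨p, rfl⟩
    refine ⟨?_, ?_⟩
    · show (WidePullback.base (fun _ : Fin d => f)) (b p) ∈ V
      rw [← Scheme.Hom.comp_apply, hb_base, Scheme.Hom.comp_apply]
      exact (WidePullback.base (fun _ : Fin d => fUV) p).2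
    · simp only [TopologicalSpace.Opens.coe_iInf, Set.mem_iInter]
      intro i
      show (WidePullback.π (fun _ : Fin d => f) i) (b p) ∈ U
      rw [← Scheme.Hom.comp_apply, hb_π, Scheme.Hom.comp_apply]
      exact (WidePullback.π (fun _ : Fin d => fUV) i p).2
  let b' : P' ⟶ O := IsOpenImmersion.lift O.ι b hbO
  have hb' : b' ≫ O.ι = b := IsOpenImmersion.lift_fac _ _ _
  -- the map O ⟶ P'
  have hOV : Set.range (O.ι ≫ WidePullback.base (fun _ : Fin d => f)) ⊆ Set.range V.ι := by
    rw [Scheme.Opens.range_ι]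
    rintro _ ⟨p, rfl⟩
    exact p.2.1
  have hOU : ∀ i, Set.range (O.ι ≫ WidePullback.π (fun _ : Fin d => f) i) ⊆ Set.range U.ι := by
    intro i
    rw [Scheme.Opens.range_ι]
    rintro _ ⟨p, rfl⟩
    have := p.2.2
    simp only [TopologicalSpace.Opens.coe_iInf, Set.mem_iInter] at this
    exact this i
  let aV : (O : Scheme.{u}) ⟶ V := IsOpenImmersion.lift V.ι _ hOV
  let aU : ∀ i, (O : Scheme.{u}) ⟶ U := fun i => IsOpenImmersion.lift U.ι _ (hOU i)
  have haV : aV ≫ V.ι = O.ι ≫ WidePullback.base (fun _ : Fin d => f) :=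
    IsOpenImmersion.lift_fac _ _ _
  have haU : ∀ i, aU i ≫ U.ι = O.ι ≫ WidePullback.π (fun _ : Fin d => f) i :=
    fun i => IsOpenImmersion.lift_fac _ _ _
  let a : (O : Scheme.{u}) ⟶ P' := WidePullback.lift aV aU (by
    intro i
    rw [← cancel_mono V.ι, Category.assoc, hfUVι, reassoc_of% (haU i), haV,
      WidePullback.π_arrow])
  have ha_base : a ≫ WidePullback.base (fun _ : Fin d => fUV) = aV := WidePullback.lift_base _ _ _ _
  have ha_π : ∀ i, a ≫ WidePullback.π (fun _ : Fin d => fUV) i = aU i :=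
    fun i => WidePullback.lift_π _ _ _ _ i
  have h1 : a ≫ b' = 𝟙 _ := by
    rw [← cancel_mono O.ι, Category.assoc, hb', Category.id_comp]
    apply WidePullback.hom_ext
    · intro i
      rw [Category.assoc, hb_π, reassoc_of% (ha_π i), haU]
    · rw [Category.assoc, hb_base, reassoc_of% ha_base, haV]
  have h2 : b' ≫ a = 𝟙 _ := by
    apply WidePullback.hom_ext
    · intro i
      rw [Category.assoc, ha_π, Category.id_comp, ← cancel_mono U.ι, Category.assoc, haU,
        reassoc_of% hb', hb_π]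
    · rw [Category.assoc, ha_base, Category.id_comp, ← cancel_mono V.ι, Category.assoc, haV,
        reassoc_of% hb', hb_base]
  have hiso : IsIso a := ⟨b', h1, h2⟩
  show IsAffine (O : Scheme.{u})
  exact IsAffine.of_isIso a

end Groth.Agent.Lib27.FinBasic
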