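import Groth.Agent.Lib27.Alg.PureIdeal

/-!
# Flat closed subschemes ↔ closed subsets stable under generalization (for S9351)
-/

set_option autoImplicit false
universe u
open AlgebraicGeometry CategoryTheory PrimeSpectrum Opposite

namespace Groth.Agent.Lib27.FlatClosed

open Groth.Agent.Lib27.PureIdeal


lemma flat_iff_app {X Y : Scheme.{u}} (f : X ⟶ Y) [IsAffineHom f] :
    Flat f ↔ ∀ U : Y.Opens, IsAffineOpen U → (f.app U).hom.Flat := by
  have h0 : @Flat = affineLocally RingHom.Flat := HasRingHomProperty.eq_affineLocally (P := @Flat)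
  have h1 := targetAffineLocally_affineAnd_iff_affineLocally RingHom.Flat.propertyIsLocal f
  have h2 := targetAffineLocally_affineAnd_iff' RingHom.Flat.propertyIsLocal.respectsIso f
  rw [h0]
  constructor
  · intro h
    exact (h2.1 (h1.2 ⟨inferInstance, h⟩)).2
  · intro h
    exact (h1.1 (h2.2 ⟨inferInstance, h⟩)).2

variable {X : Scheme.{u}}

lemma flat_subschemeι_iff (I : X.IdealSheafData) :
    Flat I.subschemeι ↔ ∀ U : X.affineOpens, Module.Flat Γ(X, U) (Γ(X, U) ⧸ I.ideal U) := by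
  rw [flat_iff_app]
  constructor
  · intro h U
    have := h U.1 U.2
    rw [I.subschemeι_app U, CommRingCat.hom_comp,
      RingHom.Flat.propertyIsLocal.respectsIso.cancel_right_isIso] at this
    exact (RingHom.flat_algebraMap_iff (R := Γ(X, U)) (S := Γ(X, U) ⧸ I.ideal U)).1 this
  · intro h U hU
    have := h ⟨U, hU⟩
    rw [I.subschemeι_app ⟨U, hU⟩, CommRingCat.hom_comp,
      RingHom.Flat.propertyIsLocal.respectsIso.cancel_right_isIso]
    exact (RingHom.flat_algebraMap_iff (R := Γ(X, U)) (S := Γ(X, U) ⧸ I.ideal ⟨U, hU⟩)).2 this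



variable {X : Scheme.{u}} (Z : Set X)

/-- the affineness of an element of `X.affineOpens`, with the right type. -/
lemma aff (U : X.affineOpens) : IsAffineOpen U.1 := U.2

/-- preimage of `Z` in `Spec Γ(X, U)`. -/
def ZU (U : X.affineOpens) : Set (PrimeSpectrum Γ(X, U)) := (fun p => (aff U).fromSpec p) ⁻¹' Z

lemma mem_ZU (U : X.affineOpens) (p : PrimeSpectrum Γ(X, U)) : p ∈ ZU Z U ↔ (aff U).fromSpec p ∈ Z :=
  Iff.rfl

lemma isClosed_ZU (hZ : IsClosed Z) (U : X.affineOpens) : IsClosed (ZU Z U) :=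
  hZ.preimage (aff U).fromSpec.continuous

lemma stable_ZU (hZ : StableUnderGeneralization Z) (U : X.affineOpens) :
    StableUnderGeneralization (ZU Z U) := by
  intro p q hqp hp
  exact hZ (hqp.map (aff U).fromSpec.continuous) hp

lemma ZU_eq_zeroLocus (hZ : IsClosed Z) (U : X.affineOpens) :
    ZU Z U = zeroLocus (vanishingIdeal (ZU Z U) : Set Γ(X, U)) := by
  rw [zeroLocus_vanishingIdeal_eq_closure, (isClosed_ZU Z hZ U).closure_eq]

lemma ZU_basicOpen (U : X.affineOpens) (f : Γ(X, U)) :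
    ZU Z (X.affineBasicOpen f) =
      comap (X.presheaf.map (homOfLE (X.basicOpen_le f)).op).hom ⁻¹' ZU Z U := by
  ext p
  show (aff (X.affineBasicOpen f)).fromSpec p ∈ Z ↔
    (aff U).fromSpec (comap (X.presheaf.map (homOfLE (X.basicOpen_le f)).op).hom p) ∈ Z
  have h := (aff U).map_fromSpec (aff (X.affineBasicOpen f)) (homOfLE (X.basicOpen_le f)).op
  have h2 : (aff (X.affineBasicOpen f)).fromSpec p =
      (aff U).fromSpec ((Spec.map (X.presheaf.map (homOfLE (X.basicOpen_le f)).op)) p) := by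
    rw [← h]; rfl
  rw [h2]
  rfl

lemma exists_ideal (hZc : IsClosed Z) (hZg : StableUnderGeneralization Z) (U : X.affineOpens) :
    ∃ J : Ideal Γ(X, U), ZU Z U = zeroLocus (J : Set Γ(X, U)) ∧
      StableUnderGeneralization (zeroLocus (J : Set Γ(X, U))) := by
  refine ⟨vanishingIdeal (ZU Z U), ZU_eq_zeroLocus Z hZc U, ?_⟩
  rw [← ZU_eq_zeroLocus Z hZc U]
  exact stable_ZU Z hZg U

lemma map_pureI_basicOpen (hZc : IsClosed Z) (hZg : StableUnderGeneralization Z)
    (U : X.affineOpens) (f : Γ(X, U)) :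
    (pureI (ZU Z U)).map (X.presheaf.map (homOfLE (X.basicOpen_le f)).op).hom =
      pureI (ZU Z (X.affineBasicOpen f)) := by
  obtain ⟨J, hJ, hJs⟩ := exists_ideal Z hZc hZg U
  rw [ZU_basicOpen, hJ]
  haveI : IsLocalization.Away f Γ(X, X.basicOpen f) := (aff U).isLocalization_basicOpen f
  exact map_pureI_away (B := Γ(X, X.basicOpen f)) f J hJs

lemma mem_iff_mem_zeroLocus (hZc : IsClosed Z) (hZg : StableUnderGeneralization Z)
    (U : X.affineOpens) (x : X) (hx : x ∈ U.1) :
    x ∈ Z ↔ x ∈ X.zeroLocus (U := U.1) (pureI (ZU Z U) : Set Γ(X, U)) := by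
  have hr : x ∈ Set.range (aff U).fromSpec := by rw [(aff U).range_fromSpec]; exact hx
  obtain ⟨p, rfl⟩ := hr
  have h1 : (aff U).fromSpec p ∈ X.zeroLocus (U := U.1) (pureI (ZU Z U) : Set Γ(X, U)) ↔
      p ∈ (aff U).fromSpec ⁻¹' X.zeroLocus (U := U.1) (pureI (ZU Z U) : Set Γ(X, U)) := Iff.rfl
  rw [h1, (aff U).fromSpec_preimage_zeroLocus]
  obtain ⟨J, hJ, hJs⟩ := exists_ideal Z hZc hZg U
  have h2 : zeroLocus (pureI (ZU Z U) : Set Γ(X, U)) = ZU Z U := by
    rw [hJ, zeroLocus_pureI J hJs]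
  rw [h2]
  rfl

/-- the pure ideal sheaf of a closed subset stable under generalization. -/
noncomputable def idealSheaf (hZc : IsClosed Z) (hZg : StableUnderGeneralization Z) :
    X.IdealSheafData :=
  Scheme.IdealSheafData.mkOfMemSupportIff (fun U => pureI (ZU Z U))
    (fun U f => map_pureI_basicOpen Z hZc hZg U f) Z
    (fun U x hx => mem_iff_mem_zeroLocus Z hZc hZg U x hx)

lemma idealSheaf_ideal (hZc : IsClosed Z) (hZg : StableUnderGeneralization Z) (U : X.affineOpens) :
    (idealSheaf Z hZc hZg).ideal U = pureI (ZU Z U) := rfl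

lemma idealSheaf_support (hZc : IsClosed Z) (hZg : StableUnderGeneralization Z) :
    ((idealSheaf Z hZc hZg).support : Set X) = Z := rfl


section Main

variable {X : Scheme.{u}}

lemma flat_idealSheaf (Z : Set X) (hZc : IsClosed Z) (hZg : StableUnderGeneralization Z) :
    Flat (idealSheaf Z hZc hZg).subschemeι := by
  rw [flat_subschemeι_iff]
  intro U
  rw [idealSheaf_ideal]
  obtain ⟨J, hJ, hJs⟩ := exists_ideal Z hZc hZg U
  rw [hJ]
  exact flat_quotient_of_pure _ (pure_of_stable J hJs)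

/-- `V(I(U))` is the preimage of the support. -/
lemma zeroLocus_ideal_eq (I : X.IdealSheafData) (U : X.affineOpens) :
    zeroLocus (I.ideal U : Set Γ(X, U)) = ZU (I.support : Set X) U := by
  rw [← (aff U).fromSpec_preimage_zeroLocus]
  ext p
  have hp : (aff U).fromSpec p ∈ U.1 := by
    have : (aff U).fromSpec p ∈ Set.range (aff U).fromSpec := ⟨p, rfl⟩
    rw [(aff U).range_fromSpec] at this
    exact this
  show (aff U).fromSpec p ∈ X.zeroLocus (U := U.1) (I.ideal U : Set Γ(X, U)) ↔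
    (aff U).fromSpec p ∈ (I.support : Set X)
  exact (Scheme.IdealSheafData.mem_support_iff_of_mem hp).symm

lemma ideal_eq_of_flat (I : X.IdealSheafData) (hI : Flat I.subschemeι) (U : X.affineOpens) :
    I.ideal U = pureI (ZU (I.support : Set X) U) := by
  have := (flat_subschemeι_iff I).1 hI U
  rw [← zeroLocus_ideal_eq]
  exact eq_pureI_of_flat _

lemma eq_of_flat_of_support_eq (I I' : X.IdealSheafData) (hI : Flat I.subschemeι)
    (hI' : Flat I'.subschemeι) (h : I.support = I'.support) : I = I' := by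
  apply Scheme.IdealSheafData.ext
  funext U
  rw [ideal_eq_of_flat I hI U, ideal_eq_of_flat I' hI' U, h]

lemma stable_support_of_flat (I : X.IdealSheafData) (hI : Flat I.subschemeι) :
    StableUnderGeneralization (I.support : Set X) := by
  intro y x hxy hy
  obtain ⟨_, ⟨U, hU, rfl⟩, hyU, -⟩ :=
    X.isBasis_affineOpens.exists_subset_of_mem_open (Set.mem_univ y) isOpen_univ
  have hxU : x ∈ U := hxy.mem_open U.2 hyU
  let U' : X.affineOpens := ⟨U, hU⟩
  have hrx : x ∈ Set.range (aff U').fromSpec := by rw [(aff U').range_fromSpec]; exact hxU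
  have hry : y ∈ Set.range (aff U').fromSpec := by rw [(aff U').range_fromSpec]; exact hyU
  obtain ⟨p, rfl⟩ := hrx
  obtain ⟨q, rfl⟩ := hry
  have hpq : p ⤳ q :=
    ((aff U').fromSpec.isOpenEmbedding.isInducing.specializes_iff).1 hxy
  have := (flat_subschemeι_iff I).1 hI U'
  have hst := stableUnderGeneralization_zeroLocus_of_pure (I.ideal U')
    (fun a ha => exists_mul_eq_self_of_flat _ ha)
  rw [zeroLocus_ideal_eq] at hst
  exact hst hpq hy

lemma ideal_le_ker_of_range_subset (I : X.IdealSheafData) (hI : Flat I.subschemeι)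
    {Y : Scheme.{u}} (g : Y ⟶ X) (hg : Set.range g.base ⊆ (I.support : Set X))
    (U : X.affineOpens) : I.ideal U ≤ RingHom.ker (g.app U).hom := by
  have := (flat_subschemeι_iff I).1 hI U
  intro a ha
  obtain ⟨b, hb, hab⟩ := exists_mul_eq_self_of_flat (I.ideal U) ha
  rw [RingHom.mem_ker]
  have hunit : IsUnit (1 - (g.app U).hom b) := by
    apply RingedSpace.isUnit_of_isUnit_germ Y.toRingedSpace
    intro y hy
    have h1 : y ∉ Y.basicOpen ((g.app U).hom b) := by
      rw [← Scheme.preimage_basicOpen]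
      intro h2
      have h3 : g.base y ∈ (I.support : Set X) := hg ⟨y, rfl⟩
      have h4 : g.base y ∈ X.zeroLocus (U := U.1) (I.ideal U : Set Γ(X, U)) :=
        (Scheme.IdealSheafData.mem_support_iff_of_mem (show g.base y ∈ U.1 from hy)).1 h3
      exact (X.mem_zeroLocus_iff _ _).1 h4 b hb h2
    rw [Y.mem_basicOpen _ y hy] at h1
    have h5 : Y.presheaf.germ (g ⁻¹ᵁ U.1) y hy (1 - (g.app U).hom b) =
        1 - Y.presheaf.germ (g ⁻¹ᵁ U.1) y hy ((g.app U).hom b) := by
      rw [map_sub, map_one]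
    show IsUnit (Y.presheaf.germ (g ⁻¹ᵁ U.1) y hy (1 - (g.app U).hom b))
    rw [h5]
    exact IsLocalRing.isUnit_one_sub_self_of_mem_nonunits _ h1
  have h0 : (g.app U).hom a * (1 - (g.app U).hom b) = 0 := by
    rw [mul_sub, mul_one, ← map_mul, hab, sub_self]
  exact (hunit.mul_left_eq_zero).1 h0

lemma exists_lift (I : X.IdealSheafData) (hI : Flat I.subschemeι)
    {Y : Scheme.{u}} (g : Y ⟶ X) (hg : Set.range g.base ⊆ (I.support : Set X)) :
    ∃ g' : Y ⟶ I.subscheme, g' ≫ I.subschemeι = g := by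
  have H : I.subschemeι.ker ≤ g.ker := by
    rw [Scheme.IdealSheafData.ker_subschemeι]
    exact Scheme.IdealSheafData.le_ofIdeals_iff.2
      (fun U => ideal_le_ker_of_range_subset I hI g hg U)
  exact ⟨IsClosedImmersion.lift I.subschemeι g H, IsClosedImmersion.lift_fac _ _ _⟩

theorem main (X : Scheme.{u}) :
    Set.BijOn (fun I : X.IdealSheafData => I.support) {I : X.IdealSheafData | Flat I.subschemeι}
        {Z : TopologicalSpace.Closeds ↑X | StableUnderGeneralization (Z : Set ↑X)} ∧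
      ∀ I : X.IdealSheafData, Flat I.subschemeι → ∀ (Y : Scheme.{u}) (g : Y ⟶ X),
        Set.range g.base ⊆ (I.support : Set ↑X) → ∃ g' : Y ⟶ I.subscheme, g' ≫ I.subschemeι = g := by
  refine ⟨⟨?_, ?_, ?_⟩, fun I hI Y g hg => exists_lift I hI g hg⟩
  · intro I hI
    exact stable_support_of_flat I hI
  · intro I hI I' hI' h
    exact eq_of_flat_of_support_eq I I' hI hI' h
  · intro Z hZ
    refine ⟨idealSheaf (Z : Set X) Z.isClosed hZ, flat_idealSheaf _ _ _, ?_⟩
    exact TopologicalSpace.Closeds.ext (idealSheaf_support (Z : Set X) Z.isClosed hZ)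

end Main

end Groth.Agent.Lib27.FlatClosed
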