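import Mathlib
import Groth.Agent.Lib.Helper29.QCohIdealMod
import Groth.Agent.Lib27.Sch.FlatClosed

/-!
# Finite type flat quasi-coherent modules are finite locally free iff closed subsets stable under
generalization are open (for S9352)
-/

set_option autoImplicit false
set_option maxHeartbeats 4000000
set_option synthInstance.maxHeartbeats 400000
universe u
open AlgebraicGeometry CategoryTheory Opposite TopologicalSpace

namespace Groth.Agent.Lib27.FlatFinLocFree

open Module LocalizedModule

section Alg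

variable {R : Type u} [CommRing R] (M : Type u) [AddCommGroup M] [Module R M]

/-- The rank at a prime may be computed with any model of the localization. -/
theorem finrank_eq_rankAtStalk (p : Ideal R) [hp : p.IsPrime]
    (Rp : Type u) [CommRing Rp] [Algebra R Rp] [IsLocalization.AtPrime Rp p]
    (Mp : Type u) [AddCommGroup Mp] [Module R Mp] [Module Rp Mp] [IsScalarTower R Rp Mp]
    (g : M →ₗ[R] Mp) [IsLocalizedModule p.primeCompl g] :
    Module.finrank Rp Mp = rankAtStalk M ⟨p, hp⟩ := by
  let i : Localization.AtPrime p ≃ₐ[R] Rp :=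
    IsLocalization.algEquiv p.primeCompl (Localization.AtPrime p) Rp
  let e : LocalizedModule p.primeCompl M ≃ₗ[R] Mp := IsLocalizedModule.iso p.primeCompl g
  have hc : ∀ (r : Localization.AtPrime p) (m : LocalizedModule p.primeCompl M),
      e (r • m) = i r • e m := by
    intro r m
    obtain ⟨a, s, rfl⟩ := IsLocalization.exists_mk'_eq p.primeCompl r
    have hu : IsUnit (algebraMap R Rp s) := IsLocalization.map_units Rp s
    apply (hu.smul_left_cancel).mp
    have h1 : algebraMap R Rp (s : R) • e (IsLocalization.mk' (Localization.AtPrime p) a s • m) =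
        a • e m := by
      rw [algebraMap_smul, ← map_smul, ← algebraMap_smul (Localization.AtPrime p) (s : R),
        smul_smul, IsLocalization.mk'_spec', algebraMap_smul, map_smul]
    have h2 : algebraMap R Rp (s : R) • (i (IsLocalization.mk' (Localization.AtPrime p) a s) • e m)
        = a • e m := by
      rw [smul_smul, ← i.commutes, ← map_mul, IsLocalization.mk'_spec', i.commutes,
        algebraMap_smul]
    rw [h1, h2]
  have := rank_eq_of_equiv_equiv (i : Localization.AtPrime p → Rp) e.toAddEquiv i.bijective hc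
  exact (congrArg Cardinal.toNat this).symm

variable [Module.Finite R M] [Module.Flat R M]

attribute [local instance] Module.free_of_flat_of_isLocalRing

/-- Upper semicontinuity of the rank of a finite flat module. -/
theorem exists_rankAtStalk_le (p : Ideal R) [hp : p.IsPrime] :
    ∃ a ∉ p, ∀ q : PrimeSpectrum R, a ∉ q.asIdeal →
      rankAtStalk M q ≤ rankAtStalk M ⟨p, hp⟩ := by
  let Rₚ := Localization.AtPrime p
  let n := rankAtStalk M ⟨p, hp⟩
  let f : (Fin n →₀ R) →ₗ[R] Fin n →₀ Rₚ := Finsupp.mapRange.linearMap (Algebra.linearMap R Rₚ)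
  let g : M →ₗ[R] LocalizedModule.AtPrime p M := LocalizedModule.mkLinearMap p.primeCompl M
  obtain ⟨φ, -, -, hφps⟩ := exists_localizedMap_surjective_of_surjective p.primeCompl f g
    ((finBasis Rₚ (LocalizedModule.AtPrime p M)).repr.restrictScalars R).symm.surjective
  obtain ⟨a, hap, hφas⟩ := by
    refine exists_localizedMap_away_surjective_of_localizedMap_atPrime_surjective p φ ?_
    simpa [LocalizedModule.coe_map_eq f g]
  refine ⟨a, hap, fun q hq => ?_⟩
  have hsurj : Function.Surjective (LocalizedModule.map q.asIdeal.primeCompl φ) := by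
    rw [LinearMap.localizedMap_surjective_iff_subsingleton_localized_coker] at hφas ⊢
    rw [LocalizedModule.subsingleton_iff] at hφas ⊢
    intro m
    obtain ⟨r, ⟨k, rfl⟩, hr⟩ := hφas m
    exact ⟨a ^ k, q.asIdeal.primeCompl.pow_mem hq k, hr⟩
  have h1 := LinearMap.finrank_le_finrank_of_surjective hsurj
  have h2 : rankAtStalk (Fin n →₀ R) q = n := by
    have : Nontrivial R := nontrivial_of_ne (0 : R) 1 (fun h => hp.one_notMem (h ▸ p.zero_mem))
    rw [rankAtStalk_eq_finrank_of_free]
    simp
  have h3 : rankAtStalk M q ≤ rankAtStalk (Fin n →₀ R) q := h1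
  exact h3.trans h2.le

end Alg

open Groth.Agent.Lib.Helper29.QCoh

section Geom

variable {X : Scheme.{u}} (F : X.Modules)

/-- Sections of a flat quasi-coherent module over an affine open form a flat module. -/
theorem flat_sections [F.IsQuasicoherent] (hF : FlatMod.IsFlat F) {W : X.Opens}
    (hW : IsAffineOpen W) : Module.Flat Γ(X, W) Γ(F, W) := by
  apply Module.flat_of_localized_maximal
  intro P hP
  obtain ⟨x, hxW, hxp⟩ := exists_point_of_prime' hW ⟨P, hP.isPrime⟩
  have hP' : (hW.primeIdealOf ⟨x, hxW⟩).asIdeal = P := congrArg PrimeSpectrum.asIdeal hxp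
  subst hP'
  let _ : Algebra Γ(X, W) (X.presheaf.stalk x) :=
    TopCat.Presheaf.algebra_section_stalk X.presheaf ⟨x, hxW⟩
  have hloc : IsLocalization.AtPrime (X.presheaf.stalk x) (hW.primeIdealOf ⟨x, hxW⟩).asIdeal :=
    hW.isLocalization_stalk ⟨x, hxW⟩
  let _ := stalkModule F W x hxW
  have : IsScalarTower Γ(X, W) (X.presheaf.stalk x) (F.presheaf.stalk x) :=
    IsScalarTower.of_algebraMap_smul fun a t => rfl
  have hlm := isLocalizedModule_germ F hW x hxW
  have h1 : Module.Flat Γ(X, W) (X.presheaf.stalk x) :=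
    IsLocalization.flat _ (hW.primeIdealOf ⟨x, hxW⟩).asIdeal.primeCompl
  have h2 : Module.Flat (X.presheaf.stalk x) (F.presheaf.stalk x) := hF x
  have h3 : Module.Flat Γ(X, W) (F.presheaf.stalk x) :=
    Module.Flat.trans Γ(X, W) (X.presheaf.stalk x) (F.presheaf.stalk x)
  exact Module.Flat.of_linearEquiv
    (IsLocalizedModule.linearEquiv (hW.primeIdealOf ⟨x, hxW⟩).asIdeal.primeCompl
      (LocalizedModule.mkLinearMap _ _) (germₗ F W x hxW))

/-- Flatness of the sections over an affine open gives flatness of the stalks. -/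
theorem flat_stalk_of_flat_sections [F.IsQuasicoherent] {U : X.Opens} (hU : IsAffineOpen U)
    (x : X) (hx : x ∈ U) (h : Module.Flat Γ(X, U) Γ(F, U)) :
    Module.Flat (X.presheaf.stalk x) (F.presheaf.stalk x) := by
  let _ : Algebra Γ(X, U) (X.presheaf.stalk x) :=
    TopCat.Presheaf.algebra_section_stalk X.presheaf ⟨x, hx⟩
  have hloc : IsLocalization.AtPrime (X.presheaf.stalk x) (hU.primeIdealOf ⟨x, hx⟩).asIdeal :=
    hU.isLocalization_stalk ⟨x, hx⟩
  let _ := stalkModule F U x hx
  have : IsScalarTower Γ(X, U) (X.presheaf.stalk x) (F.presheaf.stalk x) :=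
    IsScalarTower.of_algebraMap_smul fun a t => rfl
  have hlm := isLocalizedModule_germ F hU x hx
  exact Module.Flat.of_isLocalizedModule (X.presheaf.stalk x)
    (hU.primeIdealOf ⟨x, hx⟩).asIdeal.primeCompl (germₗ F U x hx)

/-- The rank of the stalk. -/
noncomputable def rho (y : X) : ℕ := Module.finrank (X.presheaf.stalk y) (F.presheaf.stalk y)

theorem rho_eq [F.IsQuasicoherent] {U : X.Opens} (hU : IsAffineOpen U) (y : X) (hy : y ∈ U) :
    rho F y = rankAtStalk (R := Γ(X, U)) Γ(F, U) (hU.primeIdealOf ⟨y, hy⟩) := by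
  let _ : Algebra Γ(X, U) (X.presheaf.stalk y) :=
    TopCat.Presheaf.algebra_section_stalk X.presheaf ⟨y, hy⟩
  have hloc : IsLocalization.AtPrime (X.presheaf.stalk y) (hU.primeIdealOf ⟨y, hy⟩).asIdeal :=
    hU.isLocalization_stalk ⟨y, hy⟩
  let _ := stalkModule F U y hy
  have : IsScalarTower Γ(X, U) (X.presheaf.stalk y) (F.presheaf.stalk y) :=
    IsScalarTower.of_algebraMap_smul fun a t => rfl
  have hlm := isLocalizedModule_germ F hU y hy
  exact finrank_eq_rankAtStalk Γ(F, U) (hU.primeIdealOf ⟨y, hy⟩).asIdeal (X.presheaf.stalk y)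
    (F.presheaf.stalk y) (germₗ F U y hy)

variable [F.IsQuasicoherent] [F.IsFiniteType] (hF : FlatMod.IsFlat F)
include hF

theorem rho_eq_of_specializes {y z : X} (h : y ⤳ z) : rho F y = rho F z := by
  obtain ⟨U, hU, hzU, -⟩ := exists_isAffineOpen_mem_and_subset (x := z) (U := ⊤) trivial
  have hyU : y ∈ U := h.mem_open U.isOpen hzU
  rw [rho_eq F hU y hyU, rho_eq F hU z hzU]
  have := module_finite_of_isFiniteType F hU
  have := flat_sections F hF hU
  apply rankAtStalk_eq_of_le_of_finite_of_flat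
  intro r hr
  by_contra hrz
  have hz : z ∈ X.basicOpen r := (mem_basicOpen_iff_notMem_primeIdealOf hU z hzU r).mpr hrz
  have hy : y ∈ X.basicOpen r := h.mem_open (X.basicOpen r).isOpen hz
  exact (mem_basicOpen_iff_notMem_primeIdealOf hU y hyU r).mp hy hr

theorem exists_open_rho_le (y : X) :
    ∃ W : X.Opens, y ∈ W ∧ ∀ w ∈ W, rho F w ≤ rho F y := by
  obtain ⟨U, hU, hyU, -⟩ := exists_isAffineOpen_mem_and_subset (x := y) (U := ⊤) trivial
  have := module_finite_of_isFiniteType F hU
  have := flat_sections F hF hU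
  obtain ⟨a, hap, ha⟩ := exists_rankAtStalk_le Γ(F, U) (hU.primeIdealOf ⟨y, hyU⟩).asIdeal
  refine ⟨X.basicOpen a, (mem_basicOpen_iff_notMem_primeIdealOf hU y hyU a).mpr hap,
    fun w hw => ?_⟩
  have hwU : w ∈ U := X.basicOpen_le a hw
  rw [rho_eq F hU w hwU, rho_eq F hU y hyU]
  exact ha _ ((mem_basicOpen_iff_notMem_primeIdealOf hU w hwU a).mp hw)

theorem isClosed_setOf_le_rho (j : ℕ) : IsClosed {y : X | j ≤ rho F y} := by
  rw [← isOpen_compl_iff, isOpen_iff_forall_mem_open]
  intro y hy
  obtain ⟨W, hyW, hW⟩ := exists_open_rho_le F hF y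
  refine ⟨W, fun w hw => ?_, W.isOpen, hyW⟩
  simp only [Set.mem_compl_iff, Set.mem_setOf_eq, not_le] at hy ⊢
  exact (hW w hw).trans_lt hy

theorem stable_setOf_le_rho (j : ℕ) : StableUnderGeneralization {y : X | j ≤ rho F y} := by
  intro z y hyz hz
  rw [Set.mem_setOf_eq, rho_eq_of_specializes F hF hyz]
  exact hz

end Geom

section PartA

variable {X : Scheme.{u}}

theorem isFinLocFree_of_hyp
    (hX : ∀ Z : Set ↑X, IsClosed Z → StableUnderGeneralization Z → IsOpen Z)
    (F : X.Modules) [F.IsQuasicoherent] [F.IsFiniteType] (hF : FlatMod.IsFlat F) :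
    FlatMod.IsFinLocFree F := by
  rw [isFinLocFree_iff_exists_affine]
  intro x
  have hO1 : IsOpen {y : X | rho F x ≤ rho F y} :=
    hX _ (isClosed_setOf_le_rho F hF (rho F x)) (stable_setOf_le_rho F hF (rho F x))
  have hO2 : IsOpen {y : X | rho F x + 1 ≤ rho F y}ᶜ :=
    (isClosed_setOf_le_rho F hF (rho F x + 1)).isOpen_compl
  let W : X.Opens := ⟨_, hO1.inter hO2⟩
  have hxW : x ∈ W := ⟨le_refl (rho F x), fun h : rho F x + 1 ≤ rho F x => by omega⟩
  obtain ⟨V, hV, hxV, hVW⟩ := exists_isAffineOpen_mem_and_subset (x := x) (U := W) hxW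
  have hconst : ∀ w ∈ V, rho F w = rho F x := fun w hw => by
    obtain ⟨h1, h2⟩ := hVW hw
    simp only [Set.mem_setOf_eq, Set.mem_compl_iff, not_le] at h1 h2
    omega
  have := module_finite_of_isFiniteType F hV
  have := flat_sections F hF hV
  obtain ⟨a, hap, hfree⟩ := Module.Free.away_of_finite_of_flat_of_rankAtStalk_constant
    (R := Γ(X, V)) Γ(F, V) (hV.primeIdealOf ⟨x, hxV⟩).asIdeal (fun m hm => by
      obtain ⟨w, hwV, hw⟩ := exists_point_of_prime' hV ⟨m, hm.isPrime⟩
      have e1 := rho_eq F hV w hwV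
      have e2 := rho_eq F hV x hxV
      rw [hw] at e1
      rw [← e1]
      exact (hconst w hwV).trans e2)
  have hxa : x ∈ X.basicOpen a := (mem_basicOpen_iff_notMem_primeIdealOf hV x hxV a).mpr hap
  have hDa : IsAffineOpen (X.basicOpen a) := hV.basicOpen a
  have : IsLocalization.Away a Γ(X, X.basicOpen a) := hV.isLocalization_basicOpen a
  let _ := sectionsModule F (X.basicOpen_le a)
  have : IsScalarTower Γ(X, V) Γ(X, X.basicOpen a) Γ(F, X.basicOpen a) :=
    IsScalarTower.of_algebraMap_smul fun r m => rfl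
  have hlm := isLocalizedModule_res_basicOpen F hV a
  have hfree' : Module.Free Γ(X, X.basicOpen a) Γ(F, X.basicOpen a) :=
    free_of_free_localizedModule (.powers a) (resₗ F (X.basicOpen_le a))
  have := module_finite_of_isFiniteType F hDa
  have := nontrivial_sections_of_mem hxa
  obtain ⟨n, ⟨e⟩⟩ := exists_linearEquiv_finsupp_of_free_of_finite
    Γ(X, X.basicOpen a) Γ(F, X.basicOpen a)
  exact ⟨X.basicOpen a, n, hDa, hxa, ⟨e⟩⟩

end PartA

section PartB

variable {X : Scheme.{u}} (I : X.IdealSheafData)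

theorem quotMod_smul (V : X.Opens) (r : Γ(X, V)) (m : Γ(ClSub.quotMod I, V)) :
    r • m = toUnit ((I.subschemeι.app V).hom r * fromUnit m) := rfl

theorem quotMod_isFiniteType : (ClSub.quotMod I).IsFiniteType := by
  rw [isFiniteType_iff_forall_module_finite]
  intro V hV
  let one : Γ(ClSub.quotMod I, V) := toUnit (1 : Γ(I.subscheme, I.subschemeι ⁻¹ᵁ V))
  refine Module.Finite.of_surjective (LinearMap.toSpanSingleton Γ(X, V) _ one) ?_
  intro m
  obtain ⟨r, hr⟩ := I.subschemeι_app_surjective ⟨V, hV⟩ (fromUnit m)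
  refine ⟨r, ?_⟩
  rw [LinearMap.toSpanSingleton_apply, quotMod_smul]
  have : (I.subschemeι.app V).hom r = fromUnit m := hr
  rw [this]
  change toUnit (fromUnit m * 1) = m
  rw [mul_one]
  rfl

theorem quotMod_isFlat (h : Flat I.subschemeι) : FlatMod.IsFlat (ClSub.quotMod I) := by
  intro x
  obtain ⟨V, hV, hxV, -⟩ := exists_isAffineOpen_mem_and_subset (x := x) (U := ⊤) trivial
  have hf : (I.subschemeι.app V).hom.Flat :=
    (FlatClosed.flat_iff_app I.subschemeι).mp h V hV
  have hflatsec : Module.Flat Γ(X, V) Γ(ClSub.quotMod I, V) := by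
    letI := (I.subschemeι.app V).hom.toAlgebra
    have h1 : Module.Flat Γ(X, V) Γ(I.subscheme, I.subschemeι ⁻¹ᵁ V) := hf
    let e : Γ(I.subscheme, I.subschemeι ⁻¹ᵁ V) ≃ₗ[Γ(X, V)] Γ(ClSub.quotMod I, V) :=
      { toFun := fun m => toUnit m
        invFun := fun m => fromUnit m
        map_add' := fun _ _ => rfl
        map_smul' := fun _ _ => rfl
        left_inv := fun _ => rfl
        right_inv := fun _ => rfl }
    exact Module.Flat.of_linearEquiv e.symm
  exact flat_stalk_of_flat_sections (ClSub.quotMod I) hV x hxV hflatsec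

end PartB

theorem isOpen_of_hyp {X : Scheme.{u}}
    (h1 : ∀ F : X.Modules, Coh.IsQCoh F → CohB1.IsFT F → FlatMod.IsFlat F →
      FlatMod.IsFinLocFree F)
    (Z : Set ↑X) (hZc : IsClosed Z) (hZg : StableUnderGeneralization Z) : IsOpen Z := by
  let I := FlatClosed.idealSheaf Z hZc hZg
  have hflatι : Flat I.subschemeι := FlatClosed.flat_idealSheaf Z hZc hZg
  have hqc : (ClSub.quotMod I).IsQuasicoherent := inferInstance
  have hft : (ClSub.quotMod I).IsFiniteType := quotMod_isFiniteType I
  have hfl : FlatMod.IsFlat (ClSub.quotMod I) := quotMod_isFlat I hflatι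
  have hlf := h1 _ hqc hft hfl
  rw [isOpen_iff_forall_mem_open]
  intro x hxZ
  obtain ⟨V, n, hV, hxV, ⟨e⟩⟩ := exists_affine_linearEquiv_of_isFinLocFree hlf x
  have hxs : x ∈ I.support := hxZ
  have hker := I.ker_subschemeι_app ⟨V, hV⟩
  have hact : ∀ r ∈ I.ideal ⟨V, hV⟩, ∀ m : Γ(ClSub.quotMod I, V), r • m = 0 := by
    intro r hr m
    rw [← hker, RingHom.mem_ker] at hr
    rw [quotMod_smul, hr, zero_mul]
    rfl
  have hn : n ≠ 0 := by
    rintro rfl
    have hsub : Subsingleton Γ(ClSub.quotMod I, V) := e.toEquiv.subsingleton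
    have h10 : (I.subschemeι.app V).hom 1 = 0 := by
      have := @Subsingleton.elim Γ(ClSub.quotMod I, V) hsub
        (toUnit ((I.subschemeι.app V).hom 1)) 0
      exact this
    have h1I : (1 : Γ(X, V)) ∈ I.ideal ⟨V, hV⟩ := by
      rw [← hker, RingHom.mem_ker]; exact h10
    have hz := (Scheme.IdealSheafData.mem_support_iff_of_mem (I := I) (U := ⟨V, hV⟩) hxV).mp hxs
    rw [Scheme.mem_zeroLocus_iff] at hz
    apply hz 1 h1I
    rw [Scheme.basicOpen_of_isUnit _ isUnit_one]
    exact hxV
  have hbot : I.ideal ⟨V, hV⟩ = ⊥ := by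
    rw [eq_bot_iff]
    intro r hr
    have hk : Nonempty (Fin n) := ⟨⟨0, Nat.pos_of_ne_zero hn⟩⟩
    obtain ⟨k⟩ := hk
    have h2 := hact r hr (e.symm (Finsupp.single k 1))
    rw [← map_smul, Finsupp.smul_single, smul_eq_mul, mul_one] at h2
    have h3 : Finsupp.single k r = 0 := e.symm.injective (by rw [h2, map_zero])
    rw [Finsupp.single_eq_zero] at h3
    exact h3
  refine ⟨V, fun w hwV => ?_, V.isOpen, hxV⟩
  have hs : w ∈ I.support := by
    rw [Scheme.IdealSheafData.mem_support_iff_of_mem (I := I) (U := ⟨V, hV⟩) hwV, hbot,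
      Scheme.mem_zeroLocus_iff]
    intro f hf
    have hf0 : f = 0 := hf
    rw [hf0, Scheme.basicOpen_zero]
    exact fun h => h
  exact hs

theorem main (X : Scheme.{u}) :
    (∀ F : X.Modules, Coh.IsQCoh F → CohB1.IsFT F → FlatMod.IsFlat F →
      FlatMod.IsFinLocFree F) ↔
      ∀ Z : Set ↑X, IsClosed Z → StableUnderGeneralization Z → IsOpen Z := by
  constructor
  · intro h Z hZc hZg
    exact isOpen_of_hyp h Z hZc hZg
  · intro h F hq hft hfl
    have : F.IsQuasicoherent := hq
    have : F.IsFiniteType := hft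
    exact isFinLocFree_of_hyp h F hfl

end Groth.Agent.Lib27.FlatFinLocFree
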