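import Groth.Agent.Lib27.FrobPeriodic
import Groth.Agent.Lib27.PushoutGen
import Mathlib.AlgebraicGeometry.Morphisms.Immersion
import Mathlib.AlgebraicGeometry.Morphisms.Flat
import Mathlib.AlgebraicGeometry.Properties

/-!
# The fixed-point scheme of Frobenius is reduced (and finite)
-/

set_option autoImplicit false
universe u

open CategoryTheory AlgebraicGeometry Limits

namespace Groth.Agent.Lib27.FrobFix

open Groth.Agent.Lib27.FrobPeriodic

/-- If `g : W ⟶ Y` is surjective on stalks, maps into an affine open `V`, and all pulled back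
sections of `V` are periodic, then all elements of all stalks of `W` are periodic. -/
theorem stalk_isPer_of_surjectiveOnStalks {W Y : Scheme.{u}} (g : W ⟶ Y) [SurjectiveOnStalks g]
    (V : Y.Opens) (hV : IsAffineOpen V) (hgV : ⊤ ≤ g ⁻¹ᵁ V) (p : ℕ) [Fact p.Prime]
    (hper : ∀ t : Γ(Y, V), IsPer p ((g.appLE V ⊤ hgV).hom t))
    (z : W) (s : W.presheaf.stalk z) : IsPer p s := by
  have hy : g z ∈ V := hgV (show z ∈ (⊤ : W.Opens) from trivial)
  obtain ⟨s', rfl⟩ := g.stalkMap_surjective z s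
  let _ := Y.presheaf.algebra_section_stalk ⟨g z, hy⟩
  have hloc := hV.isLocalization_stalk ⟨g z, hy⟩
  obtain ⟨c, d, rfl⟩ := IsLocalization.exists_mk'_eq
    (hV.primeIdealOf ⟨g z, hy⟩).asIdeal.primeCompl s'
  have h1 := IsLocalization.mk'_spec (Y.presheaf.stalk (g z)) c d
  have hunit : IsUnit (algebraMap Γ(Y, V) (Y.presheaf.stalk (g z)) d) :=
    IsLocalization.map_units _ d
  have key : ∀ t : Γ(Y, V), IsPer p ((g.stalkMap z).hom
      (algebraMap Γ(Y, V) (Y.presheaf.stalk (g z)) t)) := by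
    intro t
    have h3 : (g.stalkMap z).hom (algebraMap Γ(Y, V) (Y.presheaf.stalk (g z)) t) =
        (W.presheaf.germ ⊤ z trivial).hom ((g.appLE V ⊤ hgV).hom t) := by
      change (g.stalkMap z).hom ((Y.presheaf.germ V (g z) hy).hom t) = _
      rw [Scheme.Hom.germ_stalkMap_apply, Scheme.Hom.appLE]
      simp only [CommRingCat.hom_comp, RingHom.comp_apply]
      exact (TopCat.Presheaf.germ_res_apply _ _ _ _ _).symm
    rw [h3]
    exact (hper t).map _
  have h2 := congrArg (g.stalkMap z).hom h1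
  rw [map_mul] at h2
  exact IsPer.of_mul_eq (hunit.map _) (key _) (key _) h2

/-- Sections pulled back along a morphism fixed by the Frobenius are fixed by the `q`-th power. -/
theorem appLE_pow_eq_of_comp_eq {W X : Scheme.{u}} (FX : X ⟶ X) (q : ℕ)
    (hle : ∀ U : X.Opens, U ≤ FX ⁻¹ᵁ U)
    (hFapp : ∀ (U : X.Opens) (s : Γ(X, U)), (FX.appLE U U (hle U)).hom s = s ^ q)
    (w : W ⟶ X) (hw : w ≫ FX = w) (U : X.Opens) (V : W.Opens) (e : V ≤ w ⁻¹ᵁ U) (a : Γ(X, U)) :
    ((w.appLE U V e).hom a) ^ q = (w.appLE U V e).hom a := by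
  have h2 : ∀ (w' : W ⟶ X) (_ : w' = w) (e' : V ≤ w' ⁻¹ᵁ U),
      w'.appLE U V e' = w.appLE U V e := by
    intro w' hw' e'
    subst hw'
    rfl
  have h1 := Scheme.Hom.appLE_comp_appLE w FX U U V (hle U) e
  rw [h2 _ hw] at h1
  have h3 := congrArg (fun φ => φ.hom a) h1
  simp only [CommRingCat.hom_comp, RingHom.comp_apply] at h3
  rw [hFapp, map_pow] at h3
  exact h3

section Main

variable {k : Type u} [Field k] (K : Type u) [Field K] [Algebra k K]
  {X : Scheme.{u}} (f : X ⟶ Spec (CommRingCat.of k))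

variable (k) in
/-- `Spec K ⟶ Spec k`. -/
noncomputable abbrev sι : Spec (CommRingCat.of K) ⟶ Spec (CommRingCat.of k) :=
  Spec.map (CommRingCat.ofHom (algebraMap k K))

/-- The base change. -/
noncomputable abbrev Xb : Scheme.{u} := pullback f (sι k K)

/-- The projection to `X`. -/
noncomputable abbrev pr : Xb K f ⟶ X := pullback.fst f (sι k K)

/-- The structure morphism. -/
noncomputable abbrev str : Xb K f ⟶ Spec (CommRingCat.of K) := pullback.snd f (sι k K)

variable {K f} (F : Xb K f ⟶ Xb K f) (hF2 : F ≫ str K f = str K f)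

/-- The fixed-point scheme (same expression as the prelude's `FinFr.fixScheme`). -/
noncomputable abbrev Fix : Scheme.{u} :=
  pullback (pullback.lift (𝟙 _) F (by rw [hF2, Category.id_comp]) :
      Xb K f ⟶ pullback (str K f) (str K f))
    (pullback.lift (𝟙 _) (𝟙 _) rfl)

/-- The inclusion of the fixed-point scheme. -/
noncomputable abbrev jj : Fix F hF2 ⟶ Xb K f :=
  pullback.fst _ _

lemma jj_comp_F : jj F hF2 ≫ F = jj F hF2 := by
  have cond := pullback.condition (f := (pullback.lift (𝟙 _) F (by rw [hF2, Category.id_comp]) :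
      Xb K f ⟶ pullback (str K f) (str K f)))
    (g := (pullback.lift (𝟙 _) (𝟙 _) rfl))
  have c1 := congrArg (· ≫ pullback.fst _ _) cond
  have c2 := congrArg (· ≫ pullback.snd _ _) cond
  simp only [Category.assoc, pullback.lift_fst, pullback.lift_snd, Category.comp_id] at c1 c2
  rw [c2, ← c1]

instance : IsImmersion (jj F hF2) := by
  haveI : IsImmersion (pullback.lift (𝟙 _) (𝟙 _) rfl :
      Xb K f ⟶ pullback (str K f) (str K f)) :=
    inferInstanceAs (IsImmersion (pullback.diagonal (str K f)))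
  infer_instance

variable (U : X.Opens)

/-- The chart of the base change over `U`. -/
noncomputable abbrev VV : (Xb K f).Opens := pr K f ⁻¹ᵁ U

/-- The chart of the fixed-point scheme over `U`. -/
noncomputable abbrev WW : (Fix F hF2).Opens := jj F hF2 ⁻¹ᵁ VV (K := K) (f := f) U

/-- The immersion of the chart. -/
noncomputable abbrev gg : (WW F hF2 U : Scheme.{u}) ⟶ Xb K f := (WW F hF2 U).ι ≫ jj F hF2

lemma top_le_gg_preimage : ⊤ ≤ gg F hF2 U ⁻¹ᵁ VV (K := K) (f := f) U := by
  intro y _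
  exact y.2

variable [Finite k] [Algebra.IsAlgebraic k K] (FX : X ⟶ X)
  (hle : ∀ U : X.Opens, U ≤ FX ⁻¹ᵁ U)
  (hFapp : ∀ (U : X.Opens) (s : Γ(X, U)), (FX.appLE U U (hle U)).hom s = s ^ Nat.card k)
  (hF1 : F ≫ pr K f = pr K f ≫ FX)

include hFapp hF1 in
theorem chart_isPer (p : ℕ) [Fact p.Prime] [CharP k p] (hU : IsAffineOpen U)
    (t : Γ(Xb K f, VV (K := K) (f := f) U)) :
    IsPer p (((gg F hF2 U).appLE (VV U) ⊤ (top_le_gg_preimage F hF2 U)).hom t) := by
  have : CharP K p := charP_of_injective_algebraMap (algebraMap k K).injective p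
  -- the ring hom `K → Γ(W, ⊤)`
  let φK : K →+* Γ(WW F hF2 U, ⊤) :=
    ((Scheme.ΓSpecIso (CommRingCat.of K)).inv ≫ (gg F hF2 U ≫ str K f).appTop).hom
  have hpW : (p : Γ(WW F hF2 U, ⊤)) = 0 := by
    have h1 : φK (p : K) = (p : Γ(WW F hF2 U, ⊤)) := map_natCast φK p
    rw [← h1, CharP.cast_eq_zero, map_zero]
  -- the fixed morphism
  have hw : (gg F hF2 U ≫ pr K f) ≫ FX = gg F hF2 U ≫ pr K f := by
    have h1 : jj F hF2 ≫ pr K f ≫ FX = jj F hF2 ≫ pr K f := by
      rw [← hF1, ← Category.assoc, jj_comp_F]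
    simp only [Category.assoc, h1]
  -- the pushout square
  have H : IsPullback (pr K f) (str K f) f (sι k K) := IsPullback.of_hasPullback f (sι k K)
  have hUST : (⊤ : (Spec (CommRingCat.of K)).Opens) ≤ sι k K ⁻¹ᵁ ⊤ := le_rfl
  have hUSX : U ≤ f ⁻¹ᵁ ⊤ := fun _ _ => trivial
  have hUY : VV (K := K) (f := f) U = pr K f ⁻¹ᵁ U ⊓ str K f ⁻¹ᵁ ⊤ := by
    ext y
    simp
  have hle1 : VV (K := K) (f := f) U ≤ pr K f ⁻¹ᵁ U := le_rfl
  have hle2 : VV (K := K) (f := f) U ≤ str K f ⁻¹ᵁ ⊤ := fun _ _ => trivial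
  have hiso := AlgebraicGeometry.isIso_pushoutSection_of_isAffineOpen H hUST hUSX hUY
    (isAffineOpen_top (Spec (CommRingCat.of k))) (isAffineOpen_top (Spec (CommRingCat.of K))) hU
  have hpo := (AlgebraicGeometry.isIso_pushoutSection_iff H hUST hUSX hUY).mp hiso
  -- the subring of sections with periodic pullback
  have htop := Groth.Agent.Lib27.PushoutGen.eq_top_of_isPushout hpo
    ((perSub Γ(WW F hF2 U, ⊤) p hpW).comap
      ((gg F hF2 U).appLE (VV U) ⊤ (top_le_gg_preimage F hF2 U)).hom) ?_ ?_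
  · have : t ∈ (perSub Γ(WW F hF2 U, ⊤) p hpW).comap
        ((gg F hF2 U).appLE (VV U) ⊤ (top_le_gg_preimage F hF2 U)).hom := by
      rw [htop]; trivial
    exact this
  · -- sections from `X`
    intro a
    change IsPer p (((gg F hF2 U).appLE (VV U) ⊤ (top_le_gg_preimage F hF2 U)).hom
      (((pr K f).appLE U (VV U) _).hom a))
    have h1 := Scheme.Hom.appLE_comp_appLE (gg F hF2 U) (pr K f) U (VV U) ⊤
      hle1 (top_le_gg_preimage F hF2 U)
    have h2 := congrArg (fun φ => φ.hom a) h1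
    simp only [CommRingCat.hom_comp, RingHom.comp_apply] at h2
    rw [h2]
    have h3 := appLE_pow_eq_of_comp_eq FX (Nat.card k) hle hFapp (gg F hF2 U ≫ pr K f) hw U ⊤
      ((top_le_gg_preimage F hF2 U).trans
        ((TopologicalSpace.Opens.map (gg F hF2 U).base).map (homOfLE hle1)).le) a
    classical
    have := Fintype.ofFinite k
    obtain ⟨n, -, hn⟩ := FiniteField.card k p
    rw [Nat.card_eq_fintype_card, hn] at h3
    exact ⟨n, n.pos, h3⟩
  · -- sections from `Spec K`
    intro c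
    change IsPer p (((gg F hF2 U).appLE (VV U) ⊤ (top_le_gg_preimage F hF2 U)).hom
      (((str K f).appLE ⊤ (VV U) _).hom c))
    have h1 := Scheme.Hom.appLE_comp_appLE (gg F hF2 U) (str K f) ⊤ (VV U) ⊤
      hle2 (top_le_gg_preimage F hF2 U)
    have h2 := congrArg (fun φ => φ.hom c) h1
    simp only [CommRingCat.hom_comp, RingHom.comp_apply] at h2
    rw [h2]
    apply IsPer.map
    obtain ⟨c₀, rfl⟩ := (ConcreteCategory.bijective_of_isIso
      (Scheme.ΓSpecIso (CommRingCat.of K)).inv).2 c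
    apply IsPer.map
    exact isPer_of_isIntegral (k := k) (K := K) c₀ (Algebra.IsIntegral.isIntegral (R := k) c₀)

include hFapp hF1 in
theorem stalk_isPer (p : ℕ) [Fact p.Prime] [CharP k p] (z : Fix F hF2)
    (s : (Fix F hF2).presheaf.stalk z) : IsPer p s := by
  obtain ⟨_, ⟨U, hU, rfl⟩, hxU, -⟩ := X.isBasis_affineOpens.exists_subset_of_mem_open
    (Set.mem_univ ((pr K f) (jj F hF2 z))) isOpen_univ
  have hU' : IsAffineOpen U := hU
  have hV : IsAffineOpen (VV (K := K) (f := f) U) := by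
    haveI : IsAffineHom (pr K f) := MorphismProperty.pullback_fst _ _ inferInstance
    exact hU'.preimage (pr K f)
  let z' : WW F hF2 U := ⟨z, hxU⟩
  have key := stalk_isPer_of_surjectiveOnStalks (gg F hF2 U) (VV U) hV
    (top_le_gg_preimage F hF2 U) p (chart_isPer F hF2 U FX hle hFapp hF1 p hU') z'
  have hbij := ConcreteCategory.bijective_of_isIso ((WW F hF2 U).ι.stalkMap z')
  exact IsPer.of_map_injective ((WW F hF2 U).ι.stalkMap z').hom hbij.1 (key _)

include hFapp hF1 in
theorem isReduced_Fix : IsReduced (Fix F hF2) := by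
  obtain ⟨p, hp⟩ := CharP.exists k
  haveI : Fact p.Prime := ⟨CharP.char_is_prime k p⟩
  haveI : ∀ z : Fix F hF2, _root_.IsReduced ((Fix F hF2).presheaf.stalk z) := fun z =>
    isReduced_of_forall_isPer (p := p) (stalk_isPer F hF2 FX hle hFapp hF1 p z)
  exact isReduced_of_isReduced_stalk _

end Main

end Groth.Agent.Lib27.FrobFix
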