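import Groth.Agent.Lib27.Sch.FrobFix
import Groth.Agent.Lib27.FrobFinite
import Mathlib.AlgebraicGeometry.Morphisms.FiniteType
import Mathlib.AlgebraicGeometry.Morphisms.QuasiCompact

/-!
# The fixed-point scheme of Frobenius is finite
-/

set_option autoImplicit false
universe u

open CategoryTheory AlgebraicGeometry Limits

namespace Groth.Agent.Lib27.FrobFix

open Groth.Agent.Lib27.FrobPeriodic

/-- The stalk map applied to the germ of a section. -/
theorem stalkMap_germ_eq {W Y : Scheme.{u}} (g : W ⟶ Y) (V : Y.Opens) (hgV : ⊤ ≤ g ⁻¹ᵁ V)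
    (z : W) (t : Γ(Y, V)) :
    (g.stalkMap z).hom ((Y.presheaf.germ V (g z) (hgV (show z ∈ (⊤ : W.Opens) from trivial))).hom t) =
      (W.presheaf.germ ⊤ z trivial).hom ((g.appLE V ⊤ hgV).hom t) := by
  rw [Scheme.Hom.germ_stalkMap_apply, Scheme.Hom.appLE]
  simp only [CommRingCat.hom_comp, RingHom.comp_apply]
  exact (TopCat.Presheaf.germ_res_apply _ _ _ _ _).symm

/-- Sections killed by `g` lie in the primes of the points in the image of `g`. -/
theorem mem_primeIdealOf_of_appLE_eq_zero {W Y : Scheme.{u}} (g : W ⟶ Y) (V : Y.Opens)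
    (hV : IsAffineOpen V) (hgV : ⊤ ≤ g ⁻¹ᵁ V) (z : W) (t : Γ(Y, V))
    (ht : (g.appLE V ⊤ hgV).hom t = 0) :
    t ∈ (hV.primeIdealOf ⟨g z, hgV (show z ∈ (⊤ : W.Opens) from trivial)⟩).asIdeal := by
  by_contra hnot
  have hy : g z ∈ V := hgV (show z ∈ (⊤ : W.Opens) from trivial)
  let _ := Y.presheaf.algebra_section_stalk ⟨g z, hy⟩
  have hloc := hV.isLocalization_stalk ⟨g z, hy⟩
  have hunit : IsUnit (algebraMap Γ(Y, V) (Y.presheaf.stalk (g z)) t) :=
    IsLocalization.map_units (M := (hV.primeIdealOf ⟨g z, hy⟩).asIdeal.primeCompl) _ ⟨t, hnot⟩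
  have h1 := hunit.map (g.stalkMap z).hom
  have h2 : (g.stalkMap z).hom (algebraMap Γ(Y, V) (Y.presheaf.stalk (g z)) t) = 0 := by
    change (g.stalkMap z).hom ((Y.presheaf.germ V (g z) hy).hom t) = 0
    rw [stalkMap_germ_eq g V hgV z t, ht, map_zero]
  rw [h2] at h1
  exact not_isUnit_zero h1

section Main

variable {k : Type u} [Field k] {K : Type u} [Field K] [Algebra k K]
  {X : Scheme.{u}} {f : X ⟶ Spec (CommRingCat.of k)}
  (F : Xb K f ⟶ Xb K f) (hF2 : F ≫ str K f = str K f) (U : X.Opens)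

lemma chart_isPushout (hU : IsAffineOpen U) :
    IsPushout (f.appLE ⊤ U (fun _ _ => trivial)) ((sι k K).appLE ⊤ ⊤ le_rfl)
      ((pr K f).appLE U (VV (K := K) (f := f) U) le_rfl)
      ((str K f).appLE ⊤ (VV (K := K) (f := f) U) (fun _ _ => trivial)) := by
  have H : IsPullback (pr K f) (str K f) f (sι k K) := IsPullback.of_hasPullback f (sι k K)
  have hUST : (⊤ : (Spec (CommRingCat.of K)).Opens) ≤ sι k K ⁻¹ᵁ ⊤ := le_rfl
  have hUSX : U ≤ f ⁻¹ᵁ ⊤ := fun _ _ => trivial
  have hUY : VV (K := K) (f := f) U = pr K f ⁻¹ᵁ U ⊓ str K f ⁻¹ᵁ ⊤ := by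
    ext y
    simp
  have hiso := AlgebraicGeometry.isIso_pushoutSection_of_isAffineOpen H hUST hUSX hUY
    (isAffineOpen_top (Spec (CommRingCat.of k))) (isAffineOpen_top (Spec (CommRingCat.of K))) hU
  exact (AlgebraicGeometry.isIso_pushoutSection_iff H hUST hUSX hUY).mp hiso

variable [Finite k] (FX : X ⟶ X)
  (hle : ∀ U : X.Opens, U ≤ FX ⁻¹ᵁ U)
  (hFapp : ∀ (U : X.Opens) (s : Γ(X, U)), (FX.appLE U U (hle U)).hom s = s ^ Nat.card k)
  (hF1 : F ≫ pr K f = pr K f ≫ FX)

include hFapp hF1 in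
lemma chart_pow_eq (a : Γ(X, U)) :
    (((gg F hF2 U).appLE (VV U) ⊤ (top_le_gg_preimage F hF2 U)).hom
      (((pr K f).appLE U (VV (K := K) (f := f) U) le_rfl).hom a)) ^ Nat.card k =
    ((gg F hF2 U).appLE (VV U) ⊤ (top_le_gg_preimage F hF2 U)).hom
      (((pr K f).appLE U (VV (K := K) (f := f) U) le_rfl).hom a) := by
  have hw : (gg F hF2 U ≫ pr K f) ≫ FX = gg F hF2 U ≫ pr K f := by
    have h1 : jj F hF2 ≫ pr K f ≫ FX = jj F hF2 ≫ pr K f := by
      rw [← hF1, ← Category.assoc, jj_comp_F]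
    simp only [Category.assoc, h1]
  have hle1 : VV (K := K) (f := f) U ≤ pr K f ⁻¹ᵁ U := le_rfl
  have h1 := Scheme.Hom.appLE_comp_appLE (gg F hF2 U) (pr K f) U (VV U) ⊤
    hle1 (top_le_gg_preimage F hF2 U)
  have h2 := congrArg (fun φ => φ.hom a) h1
  simp only [CommRingCat.hom_comp, RingHom.comp_apply] at h2
  rw [h2]
  exact appLE_pow_eq_of_comp_eq FX (Nat.card k) hle hFapp (gg F hF2 U ≫ pr K f) hw U ⊤
    ((top_le_gg_preimage F hF2 U).trans
      ((TopologicalSpace.Opens.map (gg F hF2 U).base).map (homOfLE hle1)).le) a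

include hFapp hF1 in
theorem chart_finite [LocallyOfFiniteType f] (hU : IsAffineOpen U) :
    Finite (WW F hF2 U) := by
  have hV : IsAffineOpen (VV (K := K) (f := f) U) := by
    haveI : IsAffineHom (pr K f) := MorphismProperty.pullback_fst _ _ inferInstance
    exact hU.preimage (pr K f)
  have hgV := top_le_gg_preimage F hF2 U
  let ρ := ((gg F hF2 U).appLE (VV U) ⊤ hgV).hom
  let pt : WW F hF2 U → PrimeSpectrum Γ(Xb K f, VV (K := K) (f := f) U) := fun z =>
    hV.primeIdealOf ⟨gg F hF2 U z, hgV (show z ∈ (⊤ : (WW F hF2 U : Scheme.{u}).Opens) from trivial)⟩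
  have hinj : Function.Injective pt := by
    intro z z' hzz
    have h1 := congrArg (fun y => hV.fromSpec y) hzz
    simp only [pt] at h1
    rw [hV.fromSpec_primeIdealOf, hV.fromSpec_primeIdealOf] at h1
    exact (gg F hF2 U).isEmbedding.injective h1
  have hmem : ∀ z, pt z ∈ PrimeSpectrum.zeroLocus ((RingHom.ker ρ : Ideal _) : Set _) := by
    intro z t ht
    exact mem_primeIdealOf_of_appLE_eq_zero (gg F hF2 U) (VV U) hV hgV z t ht
  -- finiteness of the zero locus
  have hpo := chart_isPushout (K := K) (f := f) U hU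
  obtain ⟨s, hs⟩ := Groth.Agent.Lib27.FrobFinite.exists_finset_generators
    (f.appLE ⊤ U (fun _ _ => trivial)).hom
    (HasRingHomProperty.appLE (P := @LocallyOfFiniteType) f inferInstance
      ⟨⊤, isAffineOpen_top _⟩ ⟨U, hU⟩ (fun _ _ => trivial))
  let β : K →+* Γ(Xb K f, VV (K := K) (f := f) U) :=
    ((Scheme.ΓSpecIso (CommRingCat.of K)).inv ≫
      (str K f).appLE ⊤ (VV (K := K) (f := f) U) (fun _ _ => trivial)).hom
  have hq : 1 < Nat.card k := Finite.one_lt_card
  have hfin := Groth.Agent.Lib27.FrobFinite.finite_zeroLocus_of_periodic_generators β (Nat.card k)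
    hq (RingHom.ker ρ) (fun a : s => ((pr K f).appLE U (VV (K := K) (f := f) U) le_rfl).hom a.1)
    (fun a => by
      rw [RingHom.mem_ker, map_sub, map_pow, sub_eq_zero]
      exact chart_pow_eq F hF2 U FX hle hFapp hF1 a.1)
    (fun S hβ hx => by
      apply Groth.Agent.Lib27.PushoutGen.eq_top_of_isPushout hpo S
      · intro a
        have h1 : S.comap ((pr K f).appLE U (VV (K := K) (f := f) U) le_rfl).hom = ⊤ := by
          apply hs
          · intro r
            change ((pr K f).appLE U (VV (K := K) (f := f) U) le_rfl).hom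
              ((f.appLE ⊤ U (fun _ _ => trivial)).hom r) ∈ S
            have h2 := congrArg (fun φ => φ.hom r) hpo.w
            simp only [CommRingCat.hom_comp, RingHom.comp_apply] at h2
            rw [h2]
            obtain ⟨c₀, hc₀⟩ := (ConcreteCategory.bijective_of_isIso
              (Scheme.ΓSpecIso (CommRingCat.of K)).inv).2 (((sι k K).appLE ⊤ ⊤ le_rfl).hom r)
            rw [← hc₀]
            exact hβ c₀
          · intro a ha
            exact hx ⟨a, ha⟩
        have : a ∈ S.comap ((pr K f).appLE U (VV (K := K) (f := f) U) le_rfl).hom := by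
          rw [h1]; trivial
        exact this
      · intro c
        obtain ⟨c₀, rfl⟩ := (ConcreteCategory.bijective_of_isIso
          (Scheme.ΓSpecIso (CommRingCat.of K)).inv).2 c
        exact hβ c₀)
  have := hfin.to_subtype
  exact Finite.of_injective (fun z => (⟨pt z, hmem z⟩ :
    ↥(PrimeSpectrum.zeroLocus ((RingHom.ker ρ : Ideal _) : Set _))))
    (fun z z' h => hinj (congrArg Subtype.val h))

include hFapp hF1 in
theorem finite_Fix [LocallyOfFiniteType f] [QuasiCompact f] : Finite (Fix F hF2) := by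
  haveI : CompactSpace X := QuasiCompact.compactSpace_of_compactSpace f
  have hcov : ∀ x : X, ∃ U : X.Opens, IsAffineOpen U ∧ x ∈ U := by
    intro x
    obtain ⟨_, ⟨U, hU, rfl⟩, hxU, -⟩ := X.isBasis_affineOpens.exists_subset_of_mem_open
      (Set.mem_univ x) isOpen_univ
    exact ⟨U, hU, hxU⟩
  choose U hU hxU using hcov
  obtain ⟨t, ht⟩ := isCompact_univ.elim_finite_subcover (fun x => (U x : Set X))
    (fun x => (U x).2) (fun x _ => Set.mem_iUnion.mpr ⟨x, hxU x⟩)
  have hsub : (Set.univ : Set (Fix F hF2)) ⊆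
      ⋃ x ∈ t, ((WW F hF2 (U x) : (Fix F hF2).Opens) : Set (Fix F hF2)) := by
    intro z _
    have hz := ht (Set.mem_univ ((pr K f) (jj F hF2 z)))
    simp only [Set.mem_iUnion] at hz ⊢
    obtain ⟨x, hxt, hzx⟩ := hz
    exact ⟨x, hxt, hzx⟩
  have hfin : (⋃ x ∈ t, ((WW F hF2 (U x) : (Fix F hF2).Opens) : Set (Fix F hF2))).Finite := by
    apply Set.Finite.biUnion t.finite_toSet
    intro x _
    have h1 := chart_finite F hF2 (U x) FX hle hFapp hF1 (hU x)
    exact Set.finite_coe_iff.mp h1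
  exact Set.finite_univ_iff.mp (hfin.subset hsub)

end Main

end Groth.Agent.Lib27.FrobFix
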