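import Groth.Agent.Lib27.Sch.SpreadIso
import Groth.Prelude.Def_CurvBase

/-!
# Varieties with isomorphic function fields have isomorphic nonempty opens
-/

set_option autoImplicit false
universe u
open CategoryTheory CategoryTheory.Limits AlgebraicGeometry

namespace Groth.Agent.Lib27.FunFieldIso

/-- Two maps out of a stalk of an affine scheme agreeing on global sections agree. -/
lemma stalk_hom_ext_of_isAffine (Z : Scheme.{u}) [IsAffine Z] (s : Z) {T : CommRingCat.{u}}
    (a b : Z.presheaf.stalk s ⟶ T)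
    (h : Z.presheaf.germ ⊤ s trivial ≫ a = Z.presheaf.germ ⊤ s trivial ≫ b) : a = b := by
  have hs : s ∈ (⊤ : Z.Opens) := trivial
  letI : Algebra Γ(Z, ⊤) (Z.presheaf.stalk s) :=
    TopCat.Presheaf.algebra_section_stalk Z.presheaf ⟨s, hs⟩
  haveI := (isAffineOpen_top Z).isLocalization_stalk ⟨s, hs⟩
  ext1
  apply IsLocalization.ringHom_ext ((isAffineOpen_top Z).primeIdealOf ⟨s, hs⟩).asIdeal.primeCompl
  exact congrArg CommRingCat.Hom.hom h

theorem main (k : Type u) [Field k] (X : Scheme.{u}) [X.Over (Spec (CommRingCat.of k))]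
    [IsIntegral X] [LocallyOfFiniteType (X ↘ (Spec (CommRingCat.of k)))]
    (Y : Scheme.{u}) [Y.Over (Spec (CommRingCat.of k))] [IsIntegral Y]
    [LocallyOfFiniteType (Y ↘ (Spec (CommRingCat.of k)))]
    (e : X.functionField ≅ Y.functionField)
    (he : e.hom.hom.comp (Curv2.stalkMap k X (genericPoint X)) =
      Curv2.stalkMap k Y (genericPoint Y)) :
    ∃ (U : X.Opens) (V : Y.Opens), (U : Set ↥X).Nonempty ∧
      ∃ φ : (U : Scheme.{u}) ≅ (V : Scheme.{u}),
        φ.hom ≫ V.ι ≫ (Y ↘ (Spec (CommRingCat.of k))) =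
          U.ι ≫ (X ↘ (Spec (CommRingCat.of k))) := by
  set sX := X ↘ (Spec (CommRingCat.of k)) with hsX
  set sY := Y ↘ (Spec (CommRingCat.of k)) with hsY
  haveI : LocallyOfFinitePresentation sX :=
    LocallyOfFinitePresentation.iff_locallyOfFiniteType.mpr inferInstance
  haveI : LocallyOfFinitePresentation sY :=
    LocallyOfFinitePresentation.iff_locallyOfFiniteType.mpr inferInstance
  have e0 : sX (genericPoint X) = sY (genericPoint Y) :=
    Subsingleton.elim (α := PrimeSpectrum k) _ _
  let φ : Y.presheaf.stalk (genericPoint Y) ⟶ X.presheaf.stalk (genericPoint X) := e.inv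
  haveI : IsIso φ := inferInstanceAs (IsIso e.inv)
  have h : sY.stalkMap (genericPoint Y) ≫ φ =
      (Spec (CommRingCat.of k)).presheaf.stalkSpecializes (Inseparable.of_eq e0).specializes ≫
        sX.stalkMap (genericPoint X) := by
    apply stalk_hom_ext_of_isAffine
    rw [← Category.assoc, Scheme.Hom.germ_stalkMap, ← Category.assoc,
      TopCat.Presheaf.germ_stalkSpecializes, Scheme.Hom.germ_stalkMap]
    -- both sides are determined by `k → Γ(Spec k, ⊤)`
    rw [← cancel_epi (Scheme.ΓSpecIso (CommRingCat.of k)).inv]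
    ext1
    have he' : e.inv.hom.comp (Curv2.stalkMap k Y (genericPoint Y)) =
        Curv2.stalkMap k X (genericPoint X) := by
      rw [← he, ← RingHom.comp_assoc, ← CommRingCat.hom_comp, e.hom_inv_id]
      rfl
    exact he'
  obtain ⟨U, hxU, V, f, hf, -, hfS⟩ := Groth.Agent.Lib27.SpreadIso.main sX sY e0 φ h
  exact ⟨U, V, ⟨genericPoint X, hxU⟩, asIso f, hfS⟩

end Groth.Agent.Lib27.FunFieldIso
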