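import Mathlib
import Groth.Agent.Lib27.Sch.AdmBlowup

/-!
# A smooth morphism which is unramified over a dense open is unramified
-/

set_option autoImplicit false
universe u

open AlgebraicGeometry CategoryTheory Limits TopologicalSpace

namespace Groth.Agent.Lib27.GenUnram

theorem formallyUnramified_of_smooth_of_dense_ring {A B : Type u} [CommRing A] [CommRing B]
    [Algebra A B] [Algebra.Smooth A B] (T : Set (PrimeSpectrum B)) (hT : Dense T)
    (h : T ⊆ Algebra.unramifiedLocus A B) : Algebra.FormallyUnramified A B := by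
  rw [← Algebra.unramifiedLocus_eq_univ_iff]
  have hfin : Module.Finite B Ω[B⁄A] := inferInstance
  have hproj : Module.Projective B Ω[B⁄A] := inferInstance
  have hfp : Module.FinitePresentation B Ω[B⁄A] := inferInstance
  have hflat : Module.Flat B Ω[B⁄A] := inferInstance
  have hlc := Module.isLocallyConstant_rankAtStalk (R := B) (M := Ω[B⁄A])
  have hset : Algebra.unramifiedLocus A B = (Module.rankAtStalk (R := B) Ω[B⁄A]) ⁻¹' {0} := by
    rw [Algebra.unramifiedLocus_eq_compl_support]
    ext p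
    simp only [Set.mem_compl_iff, Set.mem_preimage, Set.mem_singleton_iff]
    exact (Module.rankAtStalk_eq_zero_iff_notMem_support p).symm
  have hclosed : IsClosed (Algebra.unramifiedLocus A B) := by
    rw [hset]; exact (hlc.isClopen_fiber 0).1
  rw [← Set.univ_subset_iff, ← hT.closure_eq]
  exact hclosed.closure_subset_iff.mpr h

theorem subset_unramifiedLocus_of_basicOpen {A B : Type u} [CommRing A] [CommRing B]
    [Algebra A B] (T : Set (PrimeSpectrum B)) (hTo : IsOpen T)
    (h : ∀ g : B, (PrimeSpectrum.basicOpen g : Set (PrimeSpectrum B)) ⊆ T →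
      Algebra.FormallyUnramified A (Localization.Away g)) :
    T ⊆ Algebra.unramifiedLocus A B := by
  intro p hp
  obtain ⟨_, ⟨_, ⟨g, rfl⟩, rfl⟩, hpg, hgT⟩ :=
    PrimeSpectrum.isBasis_basic_opens.exists_subset_of_mem_open hp hTo
  exact Algebra.basicOpen_subset_unramifiedLocus_iff.mpr (h g hgT) hpg

/-- A smooth morphism which is unramified over a dense open of the source is unramified. -/
theorem formallyUnramified_of_smooth_of_dense {N S : Scheme.{u}} (f : N ⟶ S) [Smooth f]
    (N₀ : N.Opens) (hd : Dense (N₀ : Set N)) (h₀ : FormallyUnramified (N₀.ι ≫ f)) :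
    FormallyUnramified f := by
  have hex : ∀ x : N, ∃ (V : S.Opens) (U : N.Opens), IsAffineOpen V ∧ IsAffineOpen U ∧ x ∈ U ∧
      U ≤ f ⁻¹ᵁ V := by
    intro x
    obtain ⟨V, hV, hfxV, -⟩ := AlgebraicGeometry.exists_isAffineOpen_mem_and_subset (x := f x)
      (U := ⊤) (Set.mem_univ _)
    obtain ⟨U, hU, hxU, e⟩ := AlgebraicGeometry.exists_isAffineOpen_mem_and_subset (x := x)
      (U := f ⁻¹ᵁ V) hfxV
    exact ⟨V, U, hV, hU, hxU, e⟩
  choose V U hV hU hxU e using hex
  have hcov : ⨆ x, U x = ⊤ := by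
    rw [eq_top_iff]
    intro x _
    exact TopologicalSpace.Opens.mem_iSup.mpr ⟨x, hxU x⟩
  refine IsZariskiLocalAtSource.of_iSup_eq_top (P := @FormallyUnramified) U hcov (fun x => ?_)
  rw [← (hU x).isoSpec_hom_fromSpec, Category.assoc,
    MorphismProperty.cancel_left_of_respectsIso (P := @FormallyUnramified),
    ← IsAffineOpen.SpecMap_appLE_fromSpec f (hV x) (hU x) (e x)]
  suffices hs : FormallyUnramified (Spec.map (f.appLE (V x) (U x) (e x))) by
    exact MorphismProperty.comp_mem _ _ _ hs
      (IsZariskiLocalAtSource.of_isOpenImmersion (P := @FormallyUnramified) _)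
  rw [HasRingHomProperty.Spec_iff (P := @FormallyUnramified)]
  -- ring level
  let ψ := f.appLE (V x) (U x) (e x)
  let _ := ψ.hom.toAlgebra
  have hsm : Algebra.Smooth Γ(S, V x) Γ(N, U x) :=
    RingHom.smooth_algebraMap.mp (f.smooth_appLE (hV x) (hU x) (e x))
  change (algebraMap Γ(S, V x) Γ(N, U x)).FormallyUnramified
  rw [RingHom.formallyUnramified_algebraMap]
  let T : Set (PrimeSpectrum Γ(N, U x)) := (hU x).fromSpec ⁻¹' (N₀ : Set N)
  have hTo : IsOpen T := N₀.isOpen.preimage (hU x).fromSpec.continuous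
  have hTd : Dense T := hd.preimage (hU x).fromSpec.isOpenEmbedding.isOpenMap
  refine formallyUnramified_of_smooth_of_dense_ring T hTd
    (subset_unramifiedLocus_of_basicOpen T hTo (fun g hg => ?_))
  -- the localization at `g`
  let loc : Γ(N, U x) ⟶ CommRingCat.of (Localization.Away g) :=
    CommRingCat.ofHom (algebraMap Γ(N, U x) (Localization.Away g))
  have hopen : IsOpenImmersion (Spec.map loc) :=
    IsOpenImmersion.of_isLocalization (S := Localization.Away g) g
  let m : Spec (CommRingCat.of (Localization.Away g)) ⟶ N := Spec.map loc ≫ (hU x).fromSpec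
  have hrange : Set.range m ⊆ Set.range N₀.ι := by
    rintro _ ⟨y, rfl⟩
    rw [Scheme.Opens.range_ι]
    change (hU x).fromSpec ((Spec.map loc) y) ∈ N₀
    have hy : (Spec.map loc) y ∈ (PrimeSpectrum.basicOpen g : Set (PrimeSpectrum Γ(N, U x))) := by
      have := PrimeSpectrum.localization_away_comap_range (Localization.Away g) g
      rw [← this]
      exact ⟨y, rfl⟩
    exact hg hy
  let l := IsOpenImmersion.lift N₀.ι m hrange
  have hl : l ≫ N₀.ι = m := IsOpenImmersion.lift_fac _ _ _
  have hlopen : IsOpenImmersion l := by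
    have : IsOpenImmersion (l ≫ N₀.ι) := by rw [hl]; infer_instance
    exact IsOpenImmersion.of_comp l N₀.ι
  have h1 : FormallyUnramified (m ≫ f) := by
    rw [← hl, Category.assoc]
    exact IsZariskiLocalAtSource.comp (P := @FormallyUnramified) h₀ l
  have h2 : m ≫ f = Spec.map (ψ ≫ loc) ≫ (hV x).fromSpec := by
    simp only [m, Category.assoc]
    rw [← IsAffineOpen.SpecMap_appLE_fromSpec f (hV x) (hU x) (e x), Spec.map_comp,
      Category.assoc]
  rw [h2] at h1
  have h3 : FormallyUnramified (Spec.map (ψ ≫ loc)) := FormallyUnramified.of_comp _ (hV x).fromSpec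
  rw [HasRingHomProperty.Spec_iff (P := @FormallyUnramified)] at h3
  have h4 : (ψ ≫ loc).hom = algebraMap Γ(S, V x) (Localization.Away g) := by
    rw [IsScalarTower.algebraMap_eq Γ(S, V x) Γ(N, U x) (Localization.Away g)]
    rfl
  rw [h4, RingHom.formallyUnramified_algebraMap] at h3
  exact h3

/-- A morphism from an étale separated `S`-scheme to a smooth `S`-scheme which is étale over a
scheme-theoretically dense open `S₀`, and which is an isomorphism over `S₀`, is an open
immersion. -/
theorem isOpenImmersion_of_etale_of_iso_over_dense {S : Scheme.{u}} [IsLocallyNoetherian S]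
    (S₀ : S.Opens) (hS₀ : S₀.ι.ker = ⊥) (N : Over S) [Smooth N.hom]
    (hN₀ : Etale (pullback.snd N.hom S₀.ι)) (M : Over S) [Etale M.hom] [IsSeparated M.hom]
    (φ : M ⟶ N) [IsIso ((Over.pullback S₀.ι).map φ)] : IsOpenImmersion φ.left := by
  have hdom : IsSchemeTheoreticallyDominant S₀.ι := ⟨hS₀⟩
  have hqc : QuasiCompact S₀.ι := inferInstance
  have hD : IsDominant S₀.ι := inferInstance
  have hdense : Dense (S₀ : Set S) := by
    have := S₀.ι.denseRange
    rwa [DenseRange, Scheme.Opens.range_ι] at this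
  -- `N` is unramified over `S`
  let N₀ : N.left.Opens := N.hom ⁻¹ᵁ S₀
  have hN₀d : Dense (N₀ : Set N.left) := hdense.preimage N.hom.isOpenMap
  have hres : Etale (N.hom ∣_ S₀) := by
    rw [morphismRestrict]
    exact (MorphismProperty.cancel_left_of_respectsIso (P := @Etale) _ _).mpr hN₀
  have hunr₀ : FormallyUnramified (N₀.ι ≫ N.hom) := by
    have : N₀.ι ≫ N.hom = (N.hom ∣_ S₀) ≫ S₀.ι := (morphismRestrict_ι N.hom S₀).symm
    rw [this]
    exact MorphismProperty.comp_mem _ _ _ (inferInstance : FormallyUnramified (N.hom ∣_ S₀))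
      (IsZariskiLocalAtSource.of_isOpenImmersion (P := @FormallyUnramified) _)
  have hunr : FormallyUnramified N.hom := formallyUnramified_of_smooth_of_dense N.hom N₀ hN₀d hunr₀
  -- `φ` is étale
  have hw : φ.left ≫ N.hom = M.hom := Over.w φ
  have het : Etale φ.left := by
    have : Etale (φ.left ≫ N.hom) := by rw [hw]; infer_instance
    exact Etale.of_comp φ.left N.hom
  -- `φ` is a monomorphism
  let pr₁ := pullback.fst φ.left φ.left
  let pr₂ := pullback.snd φ.left φ.left
  have hcond : pr₁ ≫ φ.left = pr₂ ≫ φ.left := pullback.condition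
  have hprM : pr₁ ≫ M.hom = pr₂ ≫ M.hom := by
    rw [← hw, ← Category.assoc, hcond, Category.assoc]
  have hflat : Flat (pr₁ ≫ M.hom) := inferInstance
  let ι := pullback.fst (pr₁ ≫ M.hom) S₀.ι
  have hιdom : IsSchemeTheoreticallyDominant ι := inferInstance
  have hc₁ : (ι ≫ pr₁) ≫ M.hom = pullback.snd (pr₁ ≫ M.hom) S₀.ι ≫ S₀.ι := by
    rw [Category.assoc]; exact pullback.condition
  have hc₂ : (ι ≫ pr₂) ≫ M.hom = pullback.snd (pr₁ ≫ M.hom) S₀.ι ≫ S₀.ι := by
    rw [Category.assoc, ← hprM]; exact pullback.condition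
  let r₁ : pullback (pr₁ ≫ M.hom) S₀.ι ⟶ pullback M.hom S₀.ι :=
    pullback.lift (ι ≫ pr₁) (pullback.snd (pr₁ ≫ M.hom) S₀.ι) hc₁
  let r₂ : pullback (pr₁ ≫ M.hom) S₀.ι ⟶ pullback M.hom S₀.ι :=
    pullback.lift (ι ≫ pr₂) (pullback.snd (pr₁ ≫ M.hom) S₀.ι) hc₂
  let Φ := ((Over.pullback S₀.ι).map φ).left
  have hΦiso : IsIso Φ := inferInstanceAs (IsIso ((Over.forget _).map ((Over.pullback S₀.ι).map φ)))
  have hr : r₁ ≫ Φ = r₂ ≫ Φ := by
    simp only [Φ, Over.pullback_map_left]
    apply pullback.hom_ext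
    · simp only [Category.assoc, pullback.lift_fst]
      rw [← Category.assoc, ← Category.assoc]
      simp only [r₁, r₂, pullback.lift_fst]
      rw [Category.assoc, Category.assoc, hcond]
    · simp only [Category.assoc, pullback.lift_snd]
      simp only [r₁, r₂, pullback.lift_snd]
  have hr' : r₁ = r₂ := (cancel_mono Φ).mp hr
  have hιpr : ι ≫ pr₁ = ι ≫ pr₂ := by
    have h1 : r₁ ≫ pullback.fst M.hom S₀.ι = ι ≫ pr₁ := pullback.lift_fst _ _ _
    have h2 : r₂ ≫ pullback.fst M.hom S₀.ι = ι ≫ pr₂ := pullback.lift_fst _ _ _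
    rw [← h1, ← h2, hr']
  have hpr : pr₁ = pr₂ :=
    Groth.Agent.Lib27.AdmBlowup.ext_of_ker_eq_bot_of_isSeparated M.hom hprM ι hιdom.ker_eq_bot hιpr
  have hmono : Mono φ.left := by
    constructor
    intro T a b hab
    have h1 : pullback.lift a b hab ≫ pr₁ = a := pullback.lift_fst _ _ _
    have h2 : pullback.lift a b hab ≫ pr₂ = b := pullback.lift_snd _ _ _
    calc a = pullback.lift a b hab ≫ pr₁ := h1.symm
      _ = pullback.lift a b hab ≫ pr₂ := by rw [hpr]
      _ = b := h2
  exact IsOpenImmersion.of_flat_of_mono φ.left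

end Groth.Agent.Lib27.GenUnram
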