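import Groth.Agent.Lib27.Sch.FunFieldIso
import Groth.Agent.Lib27.HypersurfaceField
import Mathlib.AlgebraicGeometry.Morphisms.FiniteType

/-!
# A variety with separably generated function field is birational to a hypersurface
-/

set_option autoImplicit false
universe u
open CategoryTheory CategoryTheory.Limits AlgebraicGeometry
attribute [local instance] Curv2.stalkAlgebra

namespace Groth.Agent.Lib27.HypersurfaceBirat

variable (k : Type u) [Field k] (X : Scheme.{u}) [X.Over (Spec (CommRingCat.of k))]

/-- The function field of an integral scheme locally of finite type over `k` is a finitely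
generated field extension of `k`. -/
theorem exists_finset_adjoin_eq_top [IsIntegral X]
    [LocallyOfFiniteType (X ↘ Spec (CommRingCat.of k))] :
    ∃ T : Finset (X.presheaf.stalk (genericPoint X)),
      IntermediateField.adjoin k (T : Set (X.presheaf.stalk (genericPoint X))) = ⊤ := by
  obtain ⟨_, ⟨U, hU, rfl⟩, hxU, -⟩ := X.isBasis_affineOpens.exists_subset_of_mem_open
    (Set.mem_univ (genericPoint X)) isOpen_univ
  haveI : Nonempty U := ⟨⟨genericPoint X, hxU⟩⟩
  set sX := X ↘ Spec (CommRingCat.of k) with hsX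
  have hle : U ≤ sX ⁻¹ᵁ ⊤ := le_top
  have hft : (sX.appLE ⊤ U hle).hom.FiniteType :=
    HasRingHomProperty.appLE @LocallyOfFiniteType sX inferInstance ⟨⊤, isAffineOpen_top _⟩
      ⟨U, hU⟩ hle
  have hiso : ((Scheme.ΓSpecIso (CommRingCat.of k)).inv.hom).FiniteType :=
    RingHom.FiniteType.of_surjective _
      (ConcreteCategory.bijective_of_isIso (Scheme.ΓSpecIso (CommRingCat.of k)).inv).2
  have hft' := hft.comp hiso
  letI algB : Algebra k Γ(X, U) :=
    ((sX.appLE ⊤ U hle).hom.comp (Scheme.ΓSpecIso (CommRingCat.of k)).inv.hom).toAlgebra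
  haveI : Algebra.FiniteType k Γ(X, U) := hft'
  haveI := functionField_isFractionRing_of_isAffineOpen X U hU
  haveI : IsScalarTower k Γ(X, U) (X.presheaf.stalk (genericPoint X)) := by
    apply IsScalarTower.of_algebraMap_eq'
    ext c
    change (X.presheaf.germ ⊤ (genericPoint X) trivial).hom
        (sX.appTop.hom ((Scheme.ΓSpecIso (CommRingCat.of k)).inv.hom c)) =
      (X.presheaf.germ U (genericPoint X) hxU).hom
        ((sX.appLE ⊤ U hle).hom ((Scheme.ΓSpecIso (CommRingCat.of k)).inv.hom c))
    have h1 : sX.appLE ⊤ U hle = sX.appTop ≫ X.presheaf.map (homOfLE hle).op := rfl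
    rw [h1, CommRingCat.hom_comp, RingHom.comp_apply]
    exact (TopCat.Presheaf.germ_res_apply X.presheaf (homOfLE hle) (genericPoint X) hxU _).symm
  exact Groth.Agent.Lib27.HypersurfaceField.exists_finset_adjoin_eq_top k Γ(X, U)
    (X.presheaf.stalk (genericPoint X))

theorem main [IsIntegral X] [LocallyOfFiniteType (X ↘ Spec (CommRingCat.of k))]
    (d : ℕ) (s : Fin d → X.presheaf.stalk (genericPoint X)) (hs : IsTranscendenceBasis k s)
    (hsep : Algebra.IsSeparable ↥(IntermediateField.adjoin k (Set.range s))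
      (X.presheaf.stalk (genericPoint X))) :
    ∃ (g : Polynomial (MvPolynomial (Fin d) k)), g.Monic ∧
      Irreducible (g.map (algebraMap (MvPolynomial (Fin d) k)
        (FractionRing (MvPolynomial (Fin d) k)))) ∧
      (g.map (algebraMap (MvPolynomial (Fin d) k)
        (FractionRing (MvPolynomial (Fin d) k)))).Separable ∧
      ∃ (U : X.Opens) (V : (Spec (CommRingCat.of (AdjoinRoot g))).Opens)
        (e : (U : Scheme.{u}) ≅ (V : Scheme.{u})),
        (U : Set X).Nonempty ∧ (V : Set (Spec (CommRingCat.of (AdjoinRoot g)))).Nonempty ∧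
        e.hom ≫ V.ι ≫ Spec.map (CommRingCat.ofHom (algebraMap k (AdjoinRoot g))) =
          U.ι ≫ (X ↘ Spec (CommRingCat.of k)) := by
  obtain ⟨g, ψ, hmonic, hirr, hsepg, hinj, hfrac⟩ :=
    Groth.Agent.Lib27.HypersurfaceField.main s hs hsep (exists_finset_adjoin_eq_top k X)
  refine ⟨g, hmonic, hirr, hsepg, ?_⟩
  set K := X.presheaf.stalk (genericPoint X) with hK
  set R := AdjoinRoot g with hR
  haveI : IsDomain R := Function.Injective.isDomain ψ.toRingHom hinj
  set Y := Spec (CommRingCat.of R) with hY
  letI : Y.Over (Spec (CommRingCat.of k)) :=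
    ⟨Spec.map (CommRingCat.ofHom (algebraMap k R))⟩
  -- finite type
  haveI : Algebra.FiniteType k R := by
    haveI : Algebra.FiniteType k (Polynomial (MvPolynomial (Fin d) k)) :=
      Algebra.FiniteType.trans (inferInstance : Algebra.FiniteType k (MvPolynomial (Fin d) k))
        inferInstance
    exact Algebra.FiniteType.of_surjective ((AdjoinRoot.mkₐ g).restrictScalars k)
      (fun x => AdjoinRoot.mk_surjective x)
  haveI : LocallyOfFiniteType (Y ↘ Spec (CommRingCat.of k)) := by
    change LocallyOfFiniteType (Spec.map (CommRingCat.ofHom (algebraMap k R)))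
    rw [HasRingHomProperty.Spec_iff (P := @LocallyOfFiniteType)]
    exact RingHom.finiteType_algebraMap.mpr inferInstance
  -- the function field of `Y`
  haveI : Nonempty (⊤ : Y.Opens) := ⟨⟨genericPoint Y, trivial⟩⟩
  haveI hfrY := functionField_isFractionRing_of_isAffineOpen Y (⊤ : Y.Opens) (isAffineOpen_top Y)
  set KY := Y.presheaf.stalk (genericPoint Y) with hKY
  letI algRKY : Algebra R KY :=
    ((Y.germToFunctionField ⊤).hom.comp (Scheme.ΓSpecIso (CommRingCat.of R)).inv.hom).toAlgebra
  haveI : IsFractionRing R KY :=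
    IsFractionRing.of_ringEquiv_left
      (Scheme.ΓSpecIso (CommRingCat.of R)).symm.commRingCatIsoToRingEquiv (fun _ => rfl)
  letI algRK : Algebra R K := ψ.toRingHom.toAlgebra
  haveI : FaithfulSMul R K := (faithfulSMul_iff_algebraMap_injective R K).mpr hinj
  haveI : IsFractionRing R K := by
    apply IsFractionRing.of_field R K
    intro z
    obtain ⟨x, y, _, hz⟩ := hfrac z
    exact ⟨x, y, hz⟩
  let e₀ : K ≃ₐ[R] KY := IsLocalization.algEquiv (nonZeroDivisors R) K KY
  let e : X.functionField ≅ Y.functionField := e₀.toRingEquiv.toCommRingCatIso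
  have he : e.hom.hom.comp (Curv2.stalkMap k X (genericPoint X)) =
      Curv2.stalkMap k Y (genericPoint Y) := by
    ext c
    change e₀ (algebraMap k K c) = _
    have h1 : algebraMap k K c = algebraMap R K (algebraMap k R c) := (ψ.commutes c).symm
    rw [h1, e₀.commutes]
    change (Y.presheaf.germ ⊤ (genericPoint Y) _).hom
        ((Scheme.ΓSpecIso (CommRingCat.of R)).inv.hom (algebraMap k R c)) =
      (Y.presheaf.germ ⊤ (genericPoint Y) trivial).hom
        ((Spec.map (CommRingCat.ofHom (algebraMap k R))).appTop.hom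
          ((Scheme.ΓSpecIso (CommRingCat.of k)).inv.hom c))
    have h2 := Scheme.ΓSpecIso_inv_naturality (CommRingCat.ofHom (algebraMap k R))
    have h3 := congrArg (fun f => f.hom c) h2
    simp only [CommRingCat.hom_comp, RingHom.comp_apply, CommRingCat.hom_ofHom] at h3
    rw [h3]
  obtain ⟨U, V, hU, φ, hφ⟩ := Groth.Agent.Lib27.FunFieldIso.main k X Y e he
  obtain ⟨x, hx⟩ := hU
  exact ⟨U, V, φ, ⟨x, hx⟩, ⟨(φ.hom.base ⟨x, hx⟩).1, (φ.hom.base ⟨x, hx⟩).2⟩, hφ⟩

end Groth.Agent.Lib27.HypersurfaceBirat
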