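import Mathlib.AlgebraicGeometry.IdealSheaf.Subscheme
import Mathlib.AlgebraicGeometry.Noetherian
import Mathlib.AlgebraicGeometry.Stalk
import Mathlib.RingTheory.Filtration

/-!
# Infinitesimal neighbourhoods of a fibre and closed subschemes

If all infinitesimal neighbourhoods of a fibre `p⁻¹(t)` factor through a closed subscheme `Z`
of a locally noetherian scheme `X`, then an open neighbourhood of the fibre factors through `Z`.
-/

set_option autoImplicit false
universe u
open CategoryTheory CategoryTheory.Limits AlgebraicGeometry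

namespace Groth.Agent.Lib27.InfNbhd

variable {X S : Scheme.{u}}

/-- The section `j` of `I` has germ at `x` in the extension of `J`, when the base change of
`X` to `Spec (𝒪_{S,p x} / J)` factors through `V(I)`. -/
lemma germ_mem_map_of_factor (p : X ⟶ S) (x : X) (I : X.IdealSheafData)
    (J : Ideal (S.presheaf.stalk (p.base x)))
    (g : pullback p (Spec.map (CommRingCat.ofHom (Ideal.Quotient.mk J)) ≫
      S.fromSpecStalk (p.base x)) ⟶ I.subscheme)
    (hg : g ≫ I.subschemeι = pullback.fst p _) (V : X.affineOpens) (hxV : x ∈ V.1)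
    (j : Γ(X, V.1)) (hj : j ∈ I.ideal V) :
    X.presheaf.germ V.1 x hxV j ∈ Ideal.map (p.stalkMap x).hom J := by
  set K : Ideal (X.presheaf.stalk x) := Ideal.map (p.stalkMap x).hom J with hK
  let φ : X.presheaf.stalk x ⟶ CommRingCat.of (X.presheaf.stalk x ⧸ K) :=
    CommRingCat.ofHom (Ideal.Quotient.mk K)
  let ψ : CommRingCat.of (S.presheaf.stalk (p.base x) ⧸ J) ⟶
      CommRingCat.of (X.presheaf.stalk x ⧸ K) :=
    CommRingCat.ofHom (Ideal.quotientMap K (p.stalkMap x).hom Ideal.le_comap_map)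
  let a : Spec (CommRingCat.of (X.presheaf.stalk x ⧸ K)) ⟶ X := Spec.map φ ≫ X.fromSpecStalk x
  have hcomm : p.stalkMap x ≫ φ = CommRingCat.ofHom (Ideal.Quotient.mk J) ≫ ψ := by
    ext r
    simp only [φ, ψ, CommRingCat.hom_comp, CommRingCat.hom_ofHom, RingHom.comp_apply,
      Ideal.quotientMap_mk]
    rfl
  have hcompat : a ≫ p = Spec.map ψ ≫ (Spec.map (CommRingCat.ofHom (Ideal.Quotient.mk J)) ≫
      S.fromSpecStalk (p.base x)) := by
    simp only [a, Category.assoc]
    rw [← Scheme.SpecMap_stalkMap_fromSpecStalk, ← Spec.map_comp_assoc, hcomm,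
      Spec.map_comp_assoc]
  have ha : a = pullback.lift a (Spec.map ψ) hcompat ≫ g ≫ I.subschemeι := by
    rw [hg, pullback.lift_fst]
  have hker : I ≤ a.ker := by
    conv_lhs => rw [← I.ker_subschemeι]
    rw [ha, ← Category.assoc]
    exact Scheme.Hom.le_ker_comp _ _
  have h0 : (a.app V.1).hom j = 0 := by
    have := Scheme.Hom.ideal_ker_le a V (hker V hj)
    simpa [RingHom.mem_ker] using this
  have htop : (⊤ : (Spec (CommRingCat.of (X.presheaf.stalk x ⧸ K))).Opens) ≤ a ⁻¹ᵁ V.1 := by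
    intro y _
    have : a.base y ∈ Set.range (X.fromSpecStalk x).base := by
      simp only [a, Scheme.Hom.comp_base, TopCat.hom_comp, ContinuousMap.comp_apply]
      exact ⟨_, rfl⟩
    rw [Scheme.range_fromSpecStalk] at this
    exact this.mem_open V.1.2 hxV
  have htop' : (⊤ : (Spec (X.presheaf.stalk x)).Opens) ≤ X.fromSpecStalk x ⁻¹ᵁ V.1 := by
    intro y _
    have : (X.fromSpecStalk x).base y ∈ Set.range (X.fromSpecStalk x).base := ⟨_, rfl⟩
    rw [Scheme.range_fromSpecStalk] at this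
    exact this.mem_open V.1.2 hxV
  have h1 : (a.appLE V.1 ⊤ htop).hom j = 0 := by
    simp only [Scheme.Hom.appLE, CommRingCat.hom_comp, RingHom.comp_apply, h0, map_zero]
  have h2 : a.appLE V.1 ⊤ htop = X.presheaf.germ V.1 x hxV ≫ φ ≫ (Scheme.ΓSpecIso _).inv := by
    have e1 : a.appLE V.1 ⊤ htop =
        (X.fromSpecStalk x).appLE V.1 ⊤ htop' ≫ (Spec.map φ).appLE ⊤ ⊤ le_top := by
      rw [Scheme.Hom.appLE_comp_appLE]
    rw [e1]
    have e2 : (X.fromSpecStalk x).appLE V.1 ⊤ htop' =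
        X.presheaf.germ V.1 x hxV ≫ (Scheme.ΓSpecIso (X.presheaf.stalk x)).inv := by
      rw [Scheme.Hom.appLE, Scheme.fromSpecStalk_app hxV, Category.assoc, Category.assoc,
        ← Functor.map_comp]
      have : (homOfLE le_top : X.fromSpecStalk x ⁻¹ᵁ V.1 ⟶ ⊤).op ≫ (homOfLE htop').op = 𝟙 _ :=
        Subsingleton.elim _ _
      rw [this, CategoryTheory.Functor.map_id, Category.comp_id]
    have e3 : (Spec.map φ).appLE ⊤ ⊤ le_top = (Spec.map φ).appTop := by
      simp [Scheme.Hom.appLE, Scheme.Hom.appTop]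
    rw [e2, e3, Category.assoc, ← Scheme.ΓSpecIso_inv_naturality]
  rw [h2] at h1
  simp only [CommRingCat.hom_comp, RingHom.comp_apply] at h1
  have hinj : Function.Injective (Scheme.ΓSpecIso (CommRingCat.of (X.presheaf.stalk x ⧸ K))).inv.hom :=
    (ConcreteCategory.bijective_of_isIso (Scheme.ΓSpecIso _).inv).1
  have h3 : (φ.hom ((X.presheaf.germ V.1 x hxV).hom j)) = 0 := by
    apply hinj
    rw [map_zero]
    exact h1
  exact Ideal.Quotient.eq_zero_iff_mem.mp h3

/-- Krull: the germ at a point of the fibre of a section of `I` vanishes. -/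
lemma germ_eq_zero [IsLocallyNoetherian X] (p : X ⟶ S) (x : X) (I : X.IdealSheafData)
    (h : ∀ n : ℕ, ∃ g : pullback p (Spec.map (CommRingCat.ofHom (Ideal.Quotient.mk
        (IsLocalRing.maximalIdeal ↑(S.presheaf.stalk (p.base x)) ^ (n + 1)))) ≫
          S.fromSpecStalk (p.base x)) ⟶ I.subscheme,
        g ≫ I.subschemeι = pullback.fst p _) (V : X.affineOpens) (hxV : x ∈ V.1)
    (j : Γ(X, V.1)) (hj : j ∈ I.ideal V) :
    X.presheaf.germ V.1 x hxV j = 0 := by
  have hmem : ∀ n : ℕ, (X.presheaf.germ V.1 x hxV j : X.presheaf.stalk x) ∈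
      IsLocalRing.maximalIdeal (X.presheaf.stalk x) ^ n := by
    intro n
    obtain ⟨g, hg⟩ := h n
    have h1 := germ_mem_map_of_factor p x I _ g hg V hxV j hj
    rw [Ideal.map_pow] at h1
    have h2 : Ideal.map (p.stalkMap x).hom (IsLocalRing.maximalIdeal (S.presheaf.stalk (p.base x)))
        ≤ IsLocalRing.maximalIdeal (X.presheaf.stalk x) :=
      IsLocalRing.map_maximalIdeal_le _
    exact Ideal.pow_le_pow_right (Nat.le_succ n) (Ideal.pow_right_mono h2 _ h1)
  have hK := Ideal.iInf_pow_eq_bot_of_isLocalRing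
    (IsLocalRing.maximalIdeal (X.presheaf.stalk x)) Ideal.IsPrime.ne_top'
  have : (X.presheaf.germ V.1 x hxV j : X.presheaf.stalk x) ∈
      (⨅ i : ℕ, IsLocalRing.maximalIdeal (X.presheaf.stalk x) ^ i) := by
    rw [Ideal.mem_iInf]
    exact hmem
  rw [hK] at this
  exact this

/-- If the germs of all sections of `I` over `V` at `x` vanish, then `I` vanishes on an affine
neighbourhood of `x`. -/
lemma exists_affine_ideal_eq_bot [IsLocallyNoetherian X] (I : X.IdealSheafData) (x : X)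
    (V : X.affineOpens) (hxV : x ∈ V.1)
    (h0 : ∀ j ∈ I.ideal V, X.presheaf.germ V.1 x hxV j = 0) :
    ∃ U : X.affineOpens, x ∈ U.1 ∧ I.ideal U = ⊥ := by
  have hN : IsNoetherianRing Γ(X, V.1) := IsLocallyNoetherian.component_noetherian V
  have hfg : (I.ideal V).FG := IsNoetherian.noetherian _
  have key : ∀ (N : Ideal Γ(X, V.1)) (hN : N.FG),
      (∀ j ∈ N, X.presheaf.germ V.1 x hxV j = 0) →
      ∃ (W : X.Opens) (hWV : W ≤ V.1), x ∈ W ∧
        N ≤ RingHom.ker (X.presheaf.map (homOfLE hWV).op).hom := by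
    intro N hN
    refine Submodule.fg_induction (motive := fun N _ =>
      (∀ j ∈ N, X.presheaf.germ V.1 x hxV j = 0) →
      ∃ (W : X.Opens) (hWV : W ≤ V.1), x ∈ W ∧
        N ≤ RingHom.ker (X.presheaf.map (homOfLE hWV).op).hom) ?_ ?_ N hN
    · intro j h
      have hj := h j (Submodule.mem_span_singleton_self j)
      obtain ⟨W, hxW, iU, iV, e⟩ := X.presheaf.germ_eq x hxV hxV j 0 (by rw [hj, map_zero])
      refine ⟨W, iU.le, hxW, ?_⟩
      rw [Submodule.span_singleton_le_iff_mem]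
      rw [map_zero] at e
      exact e
    · intro N₁ N₂ _ _ ih₁ ih₂ h
      obtain ⟨W₁, hW₁, hx₁, hk₁⟩ := ih₁ (fun j hj => h j (Submodule.mem_sup_left hj))
      obtain ⟨W₂, hW₂, hx₂, hk₂⟩ := ih₂ (fun j hj => h j (Submodule.mem_sup_right hj))
      refine ⟨W₁ ⊓ W₂, inf_le_left.trans hW₁, ⟨hx₁, hx₂⟩, sup_le ?_ ?_⟩
      · intro j hj
        have := hk₁ hj
        rw [RingHom.mem_ker] at this ⊢
        have e : X.presheaf.map (homOfLE (inf_le_left.trans hW₁ : W₁ ⊓ W₂ ≤ V.1)).op =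
            X.presheaf.map (homOfLE hW₁).op ≫
              X.presheaf.map (homOfLE (inf_le_left : W₁ ⊓ W₂ ≤ W₁)).op := by
          rw [← Functor.map_comp]; rfl
        rw [e, CommRingCat.hom_comp, RingHom.comp_apply, this, map_zero]
      · intro j hj
        have := hk₂ hj
        rw [RingHom.mem_ker] at this ⊢
        have e : X.presheaf.map (homOfLE (inf_le_left.trans hW₁ : W₁ ⊓ W₂ ≤ V.1)).op =
            X.presheaf.map (homOfLE hW₂).op ≫
              X.presheaf.map (homOfLE (inf_le_right : W₁ ⊓ W₂ ≤ W₂)).op := by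
          rw [← Functor.map_comp]; rfl
        rw [e, CommRingCat.hom_comp, RingHom.comp_apply, this, map_zero]
  obtain ⟨W, hWV, hxW, hk⟩ := key _ hfg h0
  obtain ⟨_, ⟨U, hU, rfl⟩, hxU, hUW⟩ := X.isBasis_affineOpens.exists_subset_of_mem_open hxW W.2
  have hUW' : U ≤ W := hUW
  refine ⟨⟨U, hU⟩, hxU, ?_⟩
  have hUV : (⟨U, hU⟩ : X.affineOpens) ≤ V := hUW'.trans hWV
  rw [← I.map_ideal hUV, eq_bot_iff, Ideal.map_le_iff_le_comap]
  intro j hj
  have := hk hj
  rw [RingHom.mem_ker] at this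
  rw [Ideal.mem_comap, Ideal.mem_bot]
  have e : X.presheaf.map (homOfLE hUV).op =
      X.presheaf.map (homOfLE hWV).op ≫ X.presheaf.map (homOfLE hUW').op := by
    rw [← Functor.map_comp]; rfl
  rw [e, CommRingCat.hom_comp, RingHom.comp_apply, this, map_zero]

/-- If `I` vanishes on an affine neighbourhood of `y`, then all germs at `y` of sections of `I`
vanish. -/
lemma germ_eq_zero_of_ideal_eq_bot (I : X.IdealSheafData) (y : X)
    (W : X.affineOpens) (hyW : y ∈ W.1) (hW : I.ideal W = ⊥)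
    (V : X.affineOpens) (hyV : y ∈ V.1) (j : Γ(X, V.1)) (hj : j ∈ I.ideal V) :
    X.presheaf.germ V.1 y hyV j = 0 := by
  obtain ⟨_, ⟨U, hU, rfl⟩, hyU, hUWV⟩ := X.isBasis_affineOpens.exists_subset_of_mem_open
    (show y ∈ (W.1 ⊓ V.1 : X.Opens) from ⟨hyW, hyV⟩) (W.1 ⊓ V.1).2
  have hUW : (⟨U, hU⟩ : X.affineOpens) ≤ W := fun a ha => (hUWV ha).1
  have hUV : (⟨U, hU⟩ : X.affineOpens) ≤ V := fun a ha => (hUWV ha).2
  have h1 : I.ideal ⟨U, hU⟩ = ⊥ := by
    rw [← I.map_ideal hUW, hW, Ideal.map_bot]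
  have h2 : (X.presheaf.map (homOfLE hUV).op).hom j ∈ I.ideal ⟨U, hU⟩ := by
    rw [← I.map_ideal hUV]
    exact Ideal.mem_map_of_mem _ hj
  rw [h1, Ideal.mem_bot] at h2
  have h3 := TopCat.Presheaf.germ_res_apply X.presheaf (homOfLE hUV) y hyU j
  rw [← h3]
  erw [h2]
  rw [map_zero]

/-- A section whose germs on `O` vanish restricts to zero on `O`. -/
lemma res_eq_zero_of_germ (O V : X.Opens) (hO : O ≤ V) (j : Γ(X, V))
    (h : ∀ (y : X) (hy : y ∈ O), X.presheaf.germ V y (hO hy) j = 0) :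
    (X.presheaf.map (homOfLE hO).op).hom j = 0 := by
  apply TopCat.Presheaf.section_ext X.sheaf O
  intro y hy
  have h3 := TopCat.Presheaf.germ_res_apply X.presheaf (homOfLE hO) y hy j
  have h4 : X.presheaf.germ O y hy (0 : Γ(X, O)) = 0 := map_zero _
  exact (h3.trans (h y hy)).trans h4.symm

/-- An open subset on which `I` locally vanishes factors through `V(I)`. -/
lemma exists_lift_of_locally_bot (I : X.IdealSheafData) (U : X.Opens)
    (hU : ∀ y ∈ U, ∃ W : X.affineOpens, y ∈ W.1 ∧ I.ideal W = ⊥) :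
    ∃ g : (U : Scheme.{u}) ⟶ I.subscheme, g ≫ I.subschemeι = U.ι := by
  have H : I.subschemeι.ker ≤ U.ι.ker := by
    rw [I.ker_subschemeι, Scheme.Hom.ker, Scheme.IdealSheafData.le_ofIdeals_iff]
    intro V j hj
    rw [RingHom.mem_ker]
    have hO : U.ι ''ᵁ U.ι ⁻¹ᵁ V.1 ≤ V.1 := Set.image_preimage_subset _ _
    change (X.presheaf.map (homOfLE hO).op).hom j = 0
    apply res_eq_zero_of_germ
    intro y hy
    have hyU : y ∈ U := by
      obtain ⟨z, _, rfl⟩ := hy
      exact z.2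
    obtain ⟨W, hyW, hW⟩ := hU y hyU
    exact germ_eq_zero_of_ideal_eq_bot I y W hyW hW V (hO hy) j hj
  exact ⟨IsClosedImmersion.lift I.subschemeι U.ι H, IsClosedImmersion.lift_fac _ _ _⟩

/-- Main theorem. -/
theorem main [IsLocallyNoetherian X] (p : X ⟶ S) (t : S) (I : X.IdealSheafData)
    (h : ∀ n : ℕ, ∃ g : pullback p (Spec.map (CommRingCat.ofHom (Ideal.Quotient.mk
        (IsLocalRing.maximalIdeal ↑(S.presheaf.stalk t) ^ (n + 1)))) ≫ S.fromSpecStalk t) ⟶
          I.subscheme,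
        g ≫ I.subschemeι = pullback.fst p _) :
    ∃ U : X.Opens, (∀ x : X, p.base x = t → x ∈ U) ∧
      ∃ g : (U : Scheme.{u}) ⟶ I.subscheme, g ≫ I.subschemeι = U.ι := by
  let U : X.Opens := ⨆ W : {W : X.affineOpens // I.ideal W = ⊥}, W.1.1
  refine ⟨U, ?_, ?_⟩
  · intro x hx
    subst hx
    obtain ⟨_, ⟨V, hV, rfl⟩, hxV, -⟩ := X.isBasis_affineOpens.exists_subset_of_mem_open
      (Set.mem_univ x) isOpen_univ
    obtain ⟨W, hxW, hW⟩ := exists_affine_ideal_eq_bot I x ⟨V, hV⟩ hxV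
      (fun j hj => germ_eq_zero p x I h ⟨V, hV⟩ hxV j hj)
    exact TopologicalSpace.Opens.mem_iSup.mpr ⟨⟨W, hW⟩, hxW⟩
  · apply exists_lift_of_locally_bot
    intro y hy
    obtain ⟨⟨W, hW⟩, hyW⟩ := TopologicalSpace.Opens.mem_iSup.mp hy
    exact ⟨W, hyW, hW⟩

end Groth.Agent.Lib27.InfNbhd
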