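import Groth.Agent.Lib27.Sch.KPoints
import Groth.Agent.Lib27.AlgHomCount

/-!
# Bounding the number of `K`-points of a finite type `k`-scheme
-/

set_option autoImplicit false

universe u

open CategoryTheory AlgebraicGeometry

namespace Groth.Agent.Lib27.KPoints

variable {k : Type u} [Field k]

lemma finite_pts_affine {Y : Scheme.{u}} [IsAffine Y] (h : Y ⟶ Spec (CommRingCat.of k))
    [LocallyOfFiniteType h] (K : Type u) [Field K] [Algebra k K] [Finite K] : Finite (Pts h K) := by
  letI := (structHom h).toAlgebra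
  haveI : Algebra.FiniteType k Γ(Y, ⊤) := finiteType_structHom h
  haveI := AlgHomCount.finite_algHom k Γ(Y, ⊤) K
  exact Finite.of_injective _ (toAlgHom_injective h)

theorem exists_card_pts_le_affine {Y : Scheme.{u}} [IsAffine Y] (h : Y ⟶ Spec (CommRingCat.of k))
    [LocallyOfFiniteType h] (r : ℕ) (hr : ringKrullDim Γ(Y, ⊤) ≤ r) :
    ∃ c : ℕ, ∀ (K : Type u) [Field K] [Algebra k K] [Finite K],
      Nat.card (Pts h K) ≤ c * Nat.card K ^ r := by
  letI := (structHom h).toAlgebra
  haveI : Algebra.FiniteType k Γ(Y, ⊤) := finiteType_structHom h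
  obtain ⟨c, hc⟩ := AlgHomCount.exists_card_algHom_le k Γ(Y, ⊤) r hr
  refine ⟨c, fun K _ _ _ => ?_⟩
  haveI := AlgHomCount.finite_algHom k Γ(Y, ⊤) K
  exact (Nat.card_le_card_of_injective _ (toAlgHom_injective h)).trans (hc K)

/-- Finiteness of the set of `K`-points of a finite type `k`-scheme, `K` a finite field. -/
theorem finite_pts {X : Scheme.{u}} (f : X ⟶ Spec (CommRingCat.of k)) [LocallyOfFiniteType f]
    [QuasiCompact f] (K : Type u) [Field K] [Algebra k K] [Finite K] : Finite (Pts f K) := by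
  haveI : CompactSpace X := QuasiCompact.compactSpace_of_compactSpace f
  let 𝒰 := X.affineCover.finiteSubcover
  haveI : ∀ i, IsAffine (𝒰.X i) := fun i => by
    change IsAffine (X.affineCover.X _); infer_instance
  haveI : ∀ i, Finite (Pts (𝒰.f i ≫ f) K) := fun i => finite_pts_affine _ K
  exact Finite.of_surjective _ (sigma_surjective f 𝒰 K)

/-- The number of `K`-points of a finite type `k`-scheme of dimension `≤ r` is `O((#K)^r)`. -/
theorem exists_card_pts_le {X : Scheme.{u}} (f : X ⟶ Spec (CommRingCat.of k))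
    [LocallyOfFiniteType f] [QuasiCompact f] (r : ℕ) (hr : topologicalKrullDim X ≤ r) :
    ∃ c : ℕ, ∀ (K : Type u) [Field K] [Algebra k K] [Finite K],
      Nat.card (Pts f K) ≤ c * Nat.card K ^ r := by
  classical
  haveI : CompactSpace X := QuasiCompact.compactSpace_of_compactSpace f
  let 𝒰 := X.affineCover.finiteSubcover
  haveI : ∀ i, IsAffine (𝒰.X i) := fun i => by
    change IsAffine (X.affineCover.X _); infer_instance
  have h1 : ∀ i, ∃ c : ℕ, ∀ (K : Type u) [Field K] [Algebra k K] [Finite K],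
      Nat.card (Pts (𝒰.f i ≫ f) K) ≤ c * Nat.card K ^ r := fun i =>
    exists_card_pts_le_affine (𝒰.f i ≫ f) r
      ((ringKrullDim_le_of_isOpenImmersion (𝒰.f i)).trans hr)
  choose c hc using h1
  refine ⟨∑ i, c i, fun K _ _ _ => ?_⟩
  haveI : ∀ i, Finite (Pts (𝒰.f i ≫ f) K) := fun i => finite_pts_affine _ K
  calc Nat.card (Pts f K) ≤ Nat.card (Σ i : 𝒰.I₀, Pts (𝒰.f i ≫ f) K) :=
        Nat.card_le_card_of_surjective _ (sigma_surjective f 𝒰 K)
    _ = ∑ i, Nat.card (Pts (𝒰.f i ≫ f) K) := Nat.card_sigma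
    _ ≤ ∑ i, c i * Nat.card K ^ r := Finset.sum_le_sum fun i _ => hc i K
    _ = (∑ i, c i) * Nat.card K ^ r := by rw [Finset.sum_mul]

end Groth.Agent.Lib27.KPoints
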