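import Mathlib
import Groth.Prelude.Def_FlatMod2
import Groth.Agent.Lib27.Flat.KerFP
import Groth.Agent.Lib.Helper8.FlatAffine
import Groth.Agent.Lib.Helper29.QCohFP2
import Groth.Agent.Lib.Helper29.QCohGen
import Groth.Agent.Lib.Helper29.QCohCrit
import Groth.Agent.Lib.Helper29.QCohAffine

/-!
# The kernel of an epimorphism of f.p. quasi-coherent modules onto a flat one is f.p.
-/

set_option backward.isDefEq.respectTransparency.types false
set_option autoImplicit false
set_option linter.style.haveILetI false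
set_option linter.unusedSectionVars false

universe u

open CategoryTheory CategoryTheory.Limits AlgebraicGeometry Opposite TopologicalSpace Function

namespace Groth.Agent.Lib27.KerFPSch

open Groth.Agent.Lib.Helper29.QCoh Groth.Agent.Lib.Helper8.FlatAffine

variable {X Y : Scheme.{u}} (f : X ⟶ Y)

/-- sections of a kernel over any open: the kernel of the map on sections. -/
noncomputable def kernelSectionsEquiv {G H : X.Modules} (p : G ⟶ H) (U : X.Opens) :
    Γ(kernel p, U) ≃ₗ[Γ(X, U)] LinearMap.ker (appₗ p U) := by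
  have hex : Function.Exact ((kernel.ι p).app U) (p.app U) :=
    app_exact_of_exact_of_mono (ShortComplex.mk (kernel.ι p) p (kernel.condition p))
      (ShortComplex.exact_kernel p) U
  have hmono : Injective ((kernel.ι p).app U) :=
    (mono_iff_app_injective (kernel.ι p)).mp inferInstance U
  refine LinearEquiv.ofBijective
    (LinearMap.codRestrict (R := Γ(X, U)) (M := Γ(kernel p, U)) (M₂ := Γ(G, U))
      (LinearMap.ker (appₗ p U)) (appₗ (kernel.ι p) U) (fun m => ?_)) ⟨?_, ?_⟩
  · change appₗ p U (appₗ (kernel.ι p) U m) = 0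
    exact (hex _).mpr ⟨m, rfl⟩
  · intro a b hab
    exact hmono (congrArg Subtype.val hab)
  · rintro ⟨n, hn⟩
    have hn' : p.app U n = 0 := hn
    obtain ⟨m, hm⟩ := (hex n).mp hn'
    exact ⟨m, Subtype.ext hm⟩

theorem isFinitePresentation_kernel [LocallyOfFinitePresentation f]
    (G H : X.Modules) [G.IsQuasicoherent] [H.IsQuasicoherent] [G.IsFinitePresentation]
    [H.IsFinitePresentation] (hflat : FlatMod.IsFlatOver f H) (p : G ⟶ H) [Epi p] :
    (kernel p).IsFinitePresentation := by
  haveI : (kernel p).IsQuasicoherent := isQuasicoherent_kernel p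
  let ι := {P : X.Opens × Y.Opens // IsAffineOpen P.1 ∧ IsAffineOpen P.2 ∧ P.1 ≤ f ⁻¹ᵁ P.2}
  refine isFinitePresentation_of_module_finitePresentation (kernel p) (fun i : ι => i.1.1) ?_
    (fun i => i.2.1) ?_
  · rw [IsOpenCover, eq_top_iff]
    rintro x -
    obtain ⟨_, ⟨V, hV : IsAffineOpen V, rfl⟩, hxV, -⟩ :=
      Y.isBasis_affineOpens.exists_subset_of_mem_open (Set.mem_univ (f x)) isOpen_univ
    obtain ⟨_, ⟨U, hU : IsAffineOpen U, rfl⟩, hxU, hUV⟩ :=
      X.isBasis_affineOpens.exists_subset_of_mem_open (show x ∈ (f ⁻¹ᵁ V : Set X) from hxV)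
        (f ⁻¹ᵁ V).isOpen
    exact Opens.mem_iSup.mpr ⟨⟨(U, V), hU, hV, hUV⟩, hxU⟩
  · rintro ⟨⟨U, V⟩, hU, hV, hUV⟩
    change Module.FinitePresentation Γ(X, U) Γ(kernel p, U)
    have hfp : RingHom.FinitePresentation (f.appLE V U hUV).hom :=
      HasRingHomProperty.appLE (P := @LocallyOfFinitePresentation) f inferInstance ⟨V, hV⟩
        ⟨U, hU⟩ hUV
    letI algAB : Algebra Γ(Y, V) Γ(X, U) := (f.appLE V U hUV).hom.toAlgebra
    letI mAM : Module Γ(Y, V) Γ(H, U) := Module.compHom _ (f.appLE V U hUV).hom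
    haveI : IsScalarTower Γ(Y, V) Γ(X, U) Γ(H, U) :=
      IsScalarTower.of_algebraMap_smul (fun r m => rfl)
    haveI : Algebra.FinitePresentation Γ(Y, V) Γ(X, U) := hfp
    haveI : Module.FinitePresentation Γ(X, U) Γ(G, U) :=
      module_finitePresentation_of_isFinitePresentation G hU
    haveI : Module.FinitePresentation Γ(X, U) Γ(H, U) :=
      module_finitePresentation_of_isFinitePresentation H hU
    haveI : Module.Flat Γ(Y, V) Γ(H, U) :=
      flat_sections_of_isFlatOverAt f H hU hV hUV (fun x _ => hflat x)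
    have hsurj : Surjective (appₗ p U) := app_surjective_of_epi p hU
    haveI := Groth.Agent.Lib27.KerFP.finitePresentation_ker_of_flat (A := Γ(Y, V))
      (D := Γ(X, U)) (appₗ p U) hsurj
    exact Module.FinitePresentation.of_equiv (kernelSectionsEquiv p U).symm

end Groth.Agent.Lib27.KerFPSch
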