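import Mathlib
import Groth.Prelude.Def_SGA1t
import Groth.Agent.Lib27.Alg.KummerLocal2

/-!
# Kummer theory over a local ring: the scheme-theoretic glue (helper27)
-/

universe u

open CategoryTheory CategoryTheory.Limits AlgebraicGeometry

namespace Groth.Agent.Lib27.KummerCover

open Groth.Agent.Lib27.KummerLocal

theorem main_scheme (A : Type u) [CommRing A] [IsLocalRing A] (n : ℕ) (hn1 : 1 ≤ n)
    (hn : IsUnit ((n : ℕ) : A)) (ζ₀ : A) (hζ₀ : IsPrimitiveRoot ζ₀ n)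
    {X : Scheme.{u}} (f : X ⟶ Spec (CommRingCat.of A)) [IsFinite f] [Etale f]
    (hsurj : Function.Surjective f.base)
    (τ : ↥(rootsOfUnity n A) → (X ⟶ X)) (hτf : ∀ g, τ g ≫ f = f) (hτ1 : τ 1 = 𝟙 X)
    (hτmul : ∀ g h, τ (g * h) = τ h ≫ τ g)
    (hP : ∀ (Ω : Type u) [Field Ω] [IsAlgClosed Ω] (ξ : Spec (CommRingCat.of Ω) ⟶ Spec (CommRingCat.of A))
      (s t : Spec (CommRingCat.of Ω) ⟶ X), s ≫ f = ξ → t ≫ f = ξ → ∃! g, s ≫ τ g = t) :
    ∃ (a : Aˣ) (e : X ≅ Spec (CommRingCat.of (SGA1t.kummer A (fun _ : Unit => (a : A)) (fun _ => n)))),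
      e.hom ≫ Spec.map (CommRingCat.ofHom (algebraMap A (SGA1t.kummer A (fun _ : Unit => (a : A)) (fun _ => n)))) = f ∧
      ∀ ζ : ↥(rootsOfUnity n A), τ ζ ≫ e.hom =
        e.hom ≫ Spec.map (CommRingCat.ofHom (SGA1t.kummerTwist A (fun _ : Unit => (a : A)) (fun _ => n) (fun _ => ζ))) := by
  classical
  haveI : IsAffine X := isAffine_of_isAffineHom f
  -- the ring map
  let φc : CommRingCat.of A ⟶ Γ(X, ⊤) := (Scheme.ΓSpecIso (CommRingCat.of A)).inv ≫ f.appTop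
  have hf : X.isoSpec.hom ≫ Spec.map φc = f := by
    have h1 := Scheme.isoSpec_hom_naturality f
    rw [Scheme.isoSpec_Spec_hom] at h1
    change X.isoSpec.hom ≫ Spec.map ((Scheme.ΓSpecIso (CommRingCat.of A)).inv ≫ f.appTop) = _
    rw [Spec.map_comp, reassoc_of% h1, ← Spec.map_comp, Iso.inv_hom_id, Spec.map_id,
      Category.comp_id]
  have hf' : Spec.map φc = X.isoSpec.inv ≫ f := by
    rw [← hf, Iso.inv_hom_id_assoc]
  letI : Algebra A Γ(X, ⊤) := φc.hom.toAlgebra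
  have hfinS : IsFinite (Spec.map φc) := by rw [hf']; infer_instance
  have hetS : Etale (Spec.map φc) := by rw [hf']; infer_instance
  haveI : Module.Finite A Γ(X, ⊤) := by
    have := (IsFinite.SpecMap_iff φc).mp hfinS
    exact this
  haveI : Algebra.Etale A Γ(X, ⊤) := by
    have := (HasRingHomProperty.Spec_iff (P := @Etale)).mp hetS
    exact this
  haveI : Nontrivial Γ(X, ⊤) := by
    obtain ⟨x, -⟩ := hsurj (IsLocalRing.closedPoint A)
    by_contra hnt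
    rw [not_nontrivial_iff_subsingleton] at hnt
    have hE : IsEmpty (PrimeSpectrum Γ(X, ⊤)) := inferInstance
    exact hE.false (X.isoSpec.hom.base x)
  -- the action on the ring
  have hτapp : ∀ g, f.appTop ≫ (τ g).appTop = f.appTop := by
    intro g
    rw [← Scheme.Hom.comp_appTop, hτf]
  let σ : ↥(rootsOfUnity n A) → (Γ(X, ⊤) →ₐ[A] Γ(X, ⊤)) := fun g =>
    { toRingHom := (τ g).appTop.hom
      commutes' := by
        intro a
        have h2 := congrArg (fun m => m.hom (((Scheme.ΓSpecIso (CommRingCat.of A)).inv).hom a))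
          (hτapp g)
        exact h2 }
  have hσapp : ∀ g x, σ g x = (τ g).appTop.hom x := fun _ _ => rfl
  have hσ1 : σ 1 = AlgHom.id A Γ(X, ⊤) := by
    apply AlgHom.ext
    intro x
    rw [hσapp, hτ1]
    rfl
  have hσmul : ∀ g h, σ (g * h) = (σ g).comp (σ h) := by
    intro g h
    apply AlgHom.ext
    intro x
    rw [AlgHom.comp_apply, hσapp, hσapp, hσapp, mul_comm, hτmul, Scheme.Hom.comp_appTop]
    rfl
  -- the geometric point
  let Ω : Type u := AlgebraicClosure (IsLocalRing.ResidueField A)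
  have hker : ∀ a ∈ IsLocalRing.maximalIdeal A, algebraMap A Ω a = 0 := by
    intro a ha
    rw [IsScalarTower.algebraMap_apply A (IsLocalRing.ResidueField A) Ω]
    have : algebraMap A (IsLocalRing.ResidueField A) a = 0 :=
      (IsLocalRing.residue_eq_zero_iff a).mpr ha
    rw [this, map_zero]
  let ξ : Spec (CommRingCat.of Ω) ⟶ Spec (CommRingCat.of A) :=
    Spec.map (CommRingCat.ofHom (algebraMap A Ω))
  let pt : (Γ(X, ⊤) →ₐ[A] Ω) → (Spec (CommRingCat.of Ω) ⟶ X) := fun χ =>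
    Spec.map (CommRingCat.ofHom (χ : Γ(X, ⊤) →+* Ω)) ≫ X.isoSpec.inv
  have hpt : ∀ χ, pt χ ≫ f = ξ := by
    intro χ
    change (Spec.map (CommRingCat.ofHom (χ : Γ(X, ⊤) →+* Ω)) ≫ X.isoSpec.inv) ≫ f = _
    rw [Category.assoc, ← hf', ← Spec.map_comp]
    congr 1
    ext a
    exact χ.commutes a
  have hptτ : ∀ χ g, pt χ ≫ τ g = pt (χ.comp (σ g)) := by
    intro χ g
    change (Spec.map (CommRingCat.ofHom (χ : Γ(X, ⊤) →+* Ω)) ≫ X.isoSpec.inv) ≫ τ g =
      Spec.map (CommRingCat.ofHom ((χ.comp (σ g) : Γ(X, ⊤) →ₐ[A] Ω) : Γ(X, ⊤) →+* Ω)) ≫ X.isoSpec.inv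
    rw [Category.assoc, ← Scheme.isoSpec_inv_naturality (τ g), ← Category.assoc, ← Spec.map_comp]
    rfl
  have hptinj : Function.Injective pt := by
    intro χ χ' h
    have h1 : Spec.map (CommRingCat.ofHom (χ : Γ(X, ⊤) →+* Ω)) =
        Spec.map (CommRingCat.ofHom (χ' : Γ(X, ⊤) →+* Ω)) := by
      rwa [cancel_mono] at h
    have h2 := Spec.map_injective h1
    apply AlgHom.ext
    intro x
    exact congrArg (fun m => m.hom x) h2
  have hT : ∀ χ χ' : Γ(X, ⊤) →ₐ[A] Ω, ∃! g : ↥(rootsOfUnity n A), χ.comp (σ g) = χ' := by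
    intro χ χ'
    obtain ⟨g, hg, huniq⟩ := hP Ω ξ (pt χ) (pt χ') (hpt χ) (hpt χ')
    refine ⟨g, ?_, ?_⟩
    · apply hptinj
      rw [← hptτ, hg]
    · intro g' hg'
      apply huniq
      rw [hptτ, hg']
  obtain ⟨a, Ψ, hΨbij, hΨeq⟩ := main_kummer A n hn1 hn ζ₀ hζ₀ Γ(X, ⊤) σ hσ1 hσmul Ω hker hT
  refine ⟨a, ?_⟩
  let Ke : SGA1t.kummer A (fun _ : Unit => (a : A)) (fun _ : Unit => n) ≃+* Γ(X, ⊤) :=
    RingEquiv.ofBijective (Ψ : _ →+* Γ(X, ⊤)) hΨbij
  let Ki : CommRingCat.of (SGA1t.kummer A (fun _ : Unit => (a : A)) (fun _ : Unit => n)) ≅ Γ(X, ⊤) :=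
    Ke.toCommRingCatIso
  have hKi : Ki.hom = CommRingCat.ofHom (Ψ : _ →+* Γ(X, ⊤)) := rfl
  let e : X ≅ Spec (CommRingCat.of (SGA1t.kummer A (fun _ : Unit => (a : A)) (fun _ : Unit => n))) :=
    X.isoSpec ≪≫ Scheme.Spec.mapIso Ki.op
  have he : e.hom = X.isoSpec.hom ≫ Spec.map (CommRingCat.ofHom (Ψ : _ →+* Γ(X, ⊤))) := rfl
  refine ⟨e, ?_, ?_⟩
  · rw [he, Category.assoc, ← Spec.map_comp]
    rw [← hf]
    congr 2
    ext x
    exact Ψ.commutes x
  · intro ζ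
    rw [he, Category.assoc, ← Spec.map_comp, ← Category.assoc,
      ← Scheme.isoSpec_hom_naturality (τ ζ), Category.assoc, ← Spec.map_comp]
    congr 2
    refine CommRingCat.hom_ext (RingHom.ext fun x => ?_)
    exact hΨeq ζ x

theorem main (A : Type u) [CommRing A] [IsLocalRing A] (n : ℕ) (hn1 : 1 ≤ n)
    (hn : IsUnit ((n : ℕ) : A)) (ζ₀ : A) (hζ₀ : IsPrimitiveRoot ζ₀ n)
    (P : FEt.Cat (Spec (CommRingCat.of A))) (ρ : ↥(rootsOfUnity n A) →* Aut P)
    (hP : SGA1t.IsPrincipal ↥(rootsOfUnity n A) P ρ) :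
    ∃ (a : Aˣ) (e : P.left ≅ Spec (CommRingCat.of (SGA1t.kummer A (fun _ : Unit => (a : A)) (fun _ => n)))),
      e.hom ≫ Spec.map (CommRingCat.ofHom (algebraMap A (SGA1t.kummer A (fun _ : Unit => (a : A)) (fun _ => n)))) = P.hom ∧
      ∀ ζ : ↥(rootsOfUnity n A), (ρ ζ).hom.left ≫ e.hom =
        e.hom ≫ Spec.map (CommRingCat.ofHom (SGA1t.kummerTwist A (fun _ : Unit => (a : A)) (fun _ => n) (fun _ => ζ))) := by
  let f : P.left ⟶ Spec (CommRingCat.of A) := P.hom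
  haveI : IsFinite f := P.prop.1
  haveI : Etale f := P.prop.2
  refine main_scheme A n hn1 hn ζ₀ hζ₀ f hP.1 (fun g => (ρ g).hom.left) ?_ ?_ ?_ ?_
  · intro g
    exact Over.w (ρ g).hom.hom
  · rw [map_one]
    rfl
  · intro g h
    rw [map_mul]
    rfl
  · intro Ω _ _ ξ s t hs ht
    obtain ⟨g, hg, huniq⟩ := hP.2 Ω ξ ⟨s, hs⟩ ⟨t, ht⟩
    refine ⟨g, ?_, ?_⟩
    · exact congrArg Subtype.val hg
    · intro g' hg'
      apply huniq
      exact Subtype.ext hg'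

end Groth.Agent.Lib27.KummerCover
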