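import Mathlib
import Groth.Agent.Lib27.Sch.AmbProd
import Groth.Agent.Lib.Helper25.BlowUpGlue

/-!
# Effective Cartier divisors on a limit of schemes with affine minimal transitions (helper27)
-/

set_option autoImplicit false

universe u

open CategoryTheory CategoryTheory.Limits AlgebraicGeometry TopologicalSpace

namespace Groth.Agent.Lib27.LimCartier

open Groth.Agent.Lib.Helper25.BlowUpUP

section affine

variable {I : Type u} [Category.{u} I] [IsCofiltered I] (D : I ⥤ Scheme.{u}) (c : Cone D)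
  (hc : IsLimit c)

include hc in
/-- in a cofiltered limit of affine schemes, a global section which is a nonzerodivisor at all
later stages is a nonzerodivisor on the limit. -/
theorem appTop_mem_nonZeroDivisors_of_isLimit [∀ i, IsAffine (D.obj i)] (i : I)
    (f : Γ(D.obj i, ⊤))
    (hf : ∀ (j : I) (t : j ⟶ i), (D.map t).appTop f ∈ nonZeroDivisors Γ(D.obj j, ⊤)) :
    (c.π.app i).appTop f ∈ nonZeroDivisors Γ(c.pt, ⊤) := by
  refine (mem_nonZeroDivisors_iff_right (M₀ := Γ(c.pt, ⊤))).mpr ?_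
  intro a ha
  obtain ⟨j, b, rfl⟩ := exists_appTop_π_eq_of_isAffine_of_isLimit D c hc a
  let k := IsCofiltered.min i j
  let p : k ⟶ i := IsCofiltered.minToLeft i j
  let q : k ⟶ j := IsCofiltered.minToRight i j
  have h1 : (c.π.app k).appTop ((D.map q).appTop b * (D.map p).appTop f) = 0 := by
    rw [map_mul, ← CommRingCat.comp_apply, ← CommRingCat.comp_apply, ← Scheme.Hom.comp_appTop,
      ← Scheme.Hom.comp_appTop, c.w, c.w]
    exact ha
  obtain ⟨l, r, hr⟩ := exists_appTop_map_eq_zero_of_isAffine_of_isLimit D c hc k _ h1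
  rw [map_mul, ← CommRingCat.comp_apply, ← CommRingCat.comp_apply, ← Scheme.Hom.comp_appTop,
    ← Scheme.Hom.comp_appTop, ← D.map_comp, ← D.map_comp] at hr
  have h2 : (D.map (r ≫ q)).appTop b = 0 :=
    (mem_nonZeroDivisors_iff_right.mp (hf l (r ≫ p))) _ hr
  have h3 : (c.π.app j).appTop b = (c.π.app l).appTop ((D.map (r ≫ q)).appTop b) := by
    rw [← CommRingCat.comp_apply, ← Scheme.Hom.comp_appTop, c.w]
  rw [h3, h2, map_zero]

end affine

section general

variable {I : Type u} [Category.{u} I] [IsCofiltered I] (D : I ⥤ Scheme.{u}) (c : Cone D)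
  (hc : IsLimit c) [∀ {i j} (f : i ⟶ j), IsAffineHom (D.map f)]

lemma appLE_congr_hom {X Y : Scheme.{u}} {f g : X ⟶ Y} (h : f = g) (U : Y.Opens) (V : X.Opens)
    (e : V ≤ f ⁻¹ᵁ U) : f.appLE U V e = g.appLE U V (h ▸ e) := by
  subst h; rfl

lemma resLE_appTop {X Y : Scheme.{u}} (f : X ⟶ Y) (U : Y.Opens) (V : X.Opens)
    (e : V ≤ f ⁻¹ᵁ U) :
    U.topIso.inv ≫ (f.resLE U V e).appTop = f.appLE U V e ≫ V.topIso.inv := by
  have h := Scheme.Hom.resLE_app_top f e
  rw [Iso.inv_comp_eq]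
  exact h

include hc in
/-- sections version of `appTop_mem_nonZeroDivisors_of_isLimit` on an affine open of a stage. -/
theorem app_mem_nonZeroDivisors_of_isLimit (i : I) (U : (D.obj i).Opens) (hU : IsAffineOpen U)
    (f : Γ(D.obj i, U))
    (hf : ∀ (j : I) (t : j ⟶ i),
      (D.map t).app U f ∈ nonZeroDivisors Γ(D.obj j, D.map t ⁻¹ᵁ U)) :
    (c.π.app i).app U f ∈ nonZeroDivisors Γ(c.pt, c.π.app i ⁻¹ᵁ U) := by
  haveI : ∀ j, IsAffine ((opensDiagram D i U).obj j) := fun j => hU.preimage (D.map _)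
  let i₀ : Over i := Over.mk (𝟙 i)
  -- the transported section at stage `j`
  let φ : ∀ j : Over i, Γ(D.obj i, U) ⟶ Γ((opensDiagram D i U).obj j, ⊤) := fun j =>
    (D.map j.hom).appLE U (D.map j.hom ⁻¹ᵁ U) le_rfl ≫ (D.map j.hom ⁻¹ᵁ U).topIso.inv
  have hφ : ∀ (j' j : Over i) (t' : j' ⟶ j),
      φ j ≫ ((opensDiagram D i U).map t').appTop = φ j' := by
    intro j' j t'
    have hw : D.map t'.left ≫ D.map j.hom = D.map j'.hom := by
      rw [← D.map_comp, Over.w]
    change ((D.map j.hom).appLE U (D.map j.hom ⁻¹ᵁ U) le_rfl ≫ (D.map j.hom ⁻¹ᵁ U).topIso.inv) ≫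
      ((D.map t'.left).resLE (D.map j.hom ⁻¹ᵁ U) (D.map j'.hom ⁻¹ᵁ U) _).appTop = _
    rw [Category.assoc, resLE_appTop, ← Category.assoc, Scheme.Hom.appLE_comp_appLE]
    change _ = (D.map j'.hom).appLE U (D.map j'.hom ⁻¹ᵁ U) le_rfl ≫ _
    congr 1
    exact appLE_congr_hom hw _ _ _
  have hπ : φ i₀ ≫ ((opensCone D c i U).π.app i₀).appTop =
      (c.π.app i).app U ≫ (c.π.app i ⁻¹ᵁ U).topIso.inv := by
    have hw : c.π.app i ≫ D.map (𝟙 i) = c.π.app i := by rw [D.map_id, Category.comp_id]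
    change ((D.map (𝟙 i)).appLE U (D.map (𝟙 i) ⁻¹ᵁ U) le_rfl ≫
      (D.map (𝟙 i) ⁻¹ᵁ U).topIso.inv) ≫
      ((c.π.app i).resLE (D.map (𝟙 i) ⁻¹ᵁ U) (c.π.app i ⁻¹ᵁ U) _).appTop = _
    rw [Category.assoc, resLE_appTop, ← Category.assoc, Scheme.Hom.appLE_comp_appLE,
      Scheme.Hom.app_eq_appLE]
    congr 1
    exact appLE_congr_hom hw _ _ _
  have key := appTop_mem_nonZeroDivisors_of_isLimit (opensDiagram D i U) (opensCone D c i U)
    (isLimitOpensCone D c hc i U) i₀ ((φ i₀).hom f) (fun j' t' => by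
      have e1 : ((opensDiagram D i U).map t').appTop.hom ((φ i₀).hom f) = (φ j').hom f := by
        rw [← hφ j' i₀ t']; rfl
      rw [e1]
      change ((D.map j'.hom ⁻¹ᵁ U).topIso.inv).hom
        (((D.map j'.hom).appLE U (D.map j'.hom ⁻¹ᵁ U) le_rfl).hom f) ∈ _
      rw [Scheme.Hom.appLE_eq_app]
      exact map_mem_nonZeroDivisors_of_isIso _ (hf j'.left j'.hom))
  have e2 : ((opensCone D c i U).π.app i₀).appTop.hom ((φ i₀).hom f) =
      ((c.π.app i ⁻¹ᵁ U).topIso.inv).hom (((c.π.app i).app U).hom f) := by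
    change (φ i₀ ≫ ((opensCone D c i U).π.app i₀).appTop).hom f = _
    rw [hπ]; rfl
  rw [e2] at key
  have := map_mem_nonZeroDivisors_of_isIso (c.π.app i ⁻¹ᵁ U).topIso.hom key
  rwa [← CommRingCat.comp_apply, Iso.inv_hom_id] at this

include hc in
/-- **the pulled-back modulus on a limit with affine minimal transitions is effective
Cartier**. -/
theorem isEffCartierIdeal_comap_π (J : ∀ i, (D.obj i).IdealSheafData)
    (hJ : ∀ i, BlowUp.IsEffCartierIdeal (J i))
    (hmin : ∀ (i j : I) (t : i ⟶ j), J i = (J j).comap (D.map t)) (i : I) :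
    BlowUp.IsEffCartierIdeal ((J i).comap (c.π.app i)) := by
  intro x
  obtain ⟨U, hxU, f, hf, hfU⟩ := hJ i (c.π.app i x)
  haveI := isAffineHom_π_app D c hc i
  have hW : IsAffineOpen (c.π.app i ⁻¹ᵁ U.1) := U.2.preimage (c.π.app i)
  refine ⟨⟨c.π.app i ⁻¹ᵁ U.1, hW⟩, hxU, (c.π.app i).app U.1 f, ?_, ?_⟩
  · refine app_mem_nonZeroDivisors_of_isLimit D c hc i U.1 U.2 f (fun j t => ?_)
    have hV : IsAffineOpen (D.map t ⁻¹ᵁ U.1) := U.2.preimage (D.map t)
    have hid : (J j).ideal ⟨D.map t ⁻¹ᵁ U.1, hV⟩ = Ideal.span {(D.map t).app U.1 f} := by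
      rw [hmin j i t, Groth.Agent.Lib.Helper1.ideal_comap (J i) (D.map t) ⟨_, hV⟩ U le_rfl, hfU,
        Ideal.map_span, Set.image_singleton, Scheme.Hom.appLE_eq_app]
    exact Groth.Agent.Lib27.AmbProd.mem_nonZeroDivisors_of_isEffCartierIdeal (J j) (hJ j)
      ⟨_, hV⟩ _ hid
  · rw [Groth.Agent.Lib.Helper1.ideal_comap (J i) (c.π.app i) ⟨_, hW⟩ U le_rfl, hfU,
      Ideal.map_span, Set.image_singleton, Scheme.Hom.appLE_eq_app]

end general

end Groth.Agent.Lib27.LimCartier
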