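import Mathlib.AlgebraicGeometry.Restrict
import Mathlib.AlgebraicGeometry.OpenImmersion

/-!
# Mutually inverse partially defined morphisms induce an isomorphism of open subschemes
-/

set_option autoImplicit false
universe u

open CategoryTheory AlgebraicGeometry

namespace Groth.Agent.Lib27.MutualInverse

variable {X Y : Scheme.{u}}

lemma homOfLE_eq_mk {U V : X.Opens} (e : U ≤ V) (a : U.toScheme) :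
    X.homOfLE e a = ⟨a.1, e a.2⟩ := Subtype.ext (Scheme.homOfLE_apply e a)

/-- Restricting a morphism defined on an open so that it lands in an open. -/
lemma exists_lift (U₁ : X.Opens) (f₁ : U₁.toScheme ⟶ Y) (V : Y.Opens) (U : X.Opens) (hU : U ≤ U₁)
    (hmap : ∀ a : U.toScheme, f₁ (X.homOfLE hU a) ∈ V) :
    ∃ l : U.toScheme ⟶ V.toScheme, l ≫ V.ι = X.homOfLE hU ≫ f₁ :=
  ⟨IsOpenImmersion.lift V.ι (X.homOfLE hU ≫ f₁) (by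
    rintro _ ⟨a, rfl⟩
    rw [Scheme.Opens.range_ι]
    exact hmap a), IsOpenImmersion.lift_fac _ _ _⟩

theorem exists_iso (U₁ : X.Opens) (f₁ : U₁.toScheme ⟶ Y) (V₁ : Y.Opens) (g₁ : V₁.toScheme ⟶ X)
    (U₃ : X.Opens) (hU₃ : U₃ ≤ U₁) (lA : U₃.toScheme ⟶ V₁.toScheme)
    (hlA : lA ≫ V₁.ι = X.homOfLE hU₃ ≫ f₁) (hA : lA ≫ g₁ = U₃.ι)
    (V₃ : Y.Opens) (hV₃ : V₃ ≤ V₁) (lB : V₃.toScheme ⟶ U₁.toScheme)
    (hlB : lB ≫ U₁.ι = Y.homOfLE hV₃ ≫ g₁) (hB : lB ≫ f₁ = V₃.ι) :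
    ∃ (hU : U₃ ⊓ U₁.ι ''ᵁ (f₁ ⁻¹ᵁ V₃) ≤ U₁)
      (fU : (U₃ ⊓ U₁.ι ''ᵁ (f₁ ⁻¹ᵁ V₃)).toScheme ⟶ (V₃ ⊓ V₁.ι ''ᵁ (g₁ ⁻¹ᵁ U₃)).toScheme),
      IsIso fU ∧ fU ≫ (V₃ ⊓ V₁.ι ''ᵁ (g₁ ⁻¹ᵁ U₃)).ι = X.homOfLE hU ≫ f₁ := by
  have hlA_val : ∀ q : U₃.toScheme, (lA q).1 = f₁ (X.homOfLE hU₃ q) := by
    intro q
    have := congrArg (fun k => k.base q) hlA
    exact this
  have hlB_val : ∀ q : V₃.toScheme, (lB q).1 = g₁ (Y.homOfLE hV₃ q) := by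
    intro q
    have := congrArg (fun k => k.base q) hlB
    exact this
  have F1 : ∀ (u : X) (hu : u ∈ U₃), ∃ hv : f₁ ⟨u, hU₃ hu⟩ ∈ V₁,
      g₁ ⟨f₁ ⟨u, hU₃ hu⟩, hv⟩ = u := by
    intro u hu
    have h1 := congrArg (fun k => k.base ⟨u, hu⟩) hA
    simp only [Scheme.Hom.comp_base, TopCat.comp_app] at h1
    have h3 : X.homOfLE hU₃ ⟨u, hu⟩ = ⟨u, hU₃ hu⟩ := homOfLE_eq_mk _ _
    have h4 := hlA_val ⟨u, hu⟩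
    rw [h3] at h4
    have h5 : f₁ ⟨u, hU₃ hu⟩ ∈ V₁ := by rw [← h4]; exact (lA ⟨u, hu⟩).2
    refine ⟨h5, ?_⟩
    have h6 : lA ⟨u, hu⟩ = ⟨f₁ ⟨u, hU₃ hu⟩, h5⟩ := Subtype.ext h4
    erw [h6] at h1
    exact h1
  have F2 : ∀ (v : Y) (hv : v ∈ V₃), ∃ hu : g₁ ⟨v, hV₃ hv⟩ ∈ U₁,
      f₁ ⟨g₁ ⟨v, hV₃ hv⟩, hu⟩ = v := by
    intro v hv
    have h1 := congrArg (fun k => k.base ⟨v, hv⟩) hB
    simp only [Scheme.Hom.comp_base, TopCat.comp_app] at h1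
    have h3 : Y.homOfLE hV₃ ⟨v, hv⟩ = ⟨v, hV₃ hv⟩ := homOfLE_eq_mk _ _
    have h4 := hlB_val ⟨v, hv⟩
    rw [h3] at h4
    have h5 : g₁ ⟨v, hV₃ hv⟩ ∈ U₁ := by rw [← h4]; exact (lB ⟨v, hv⟩).2
    refine ⟨h5, ?_⟩
    have h6 : lB ⟨v, hv⟩ = ⟨g₁ ⟨v, hV₃ hv⟩, h5⟩ := Subtype.ext h4
    erw [h6] at h1
    exact h1
  -- the final neighbourhoods
  let U : X.Opens := U₃ ⊓ U₁.ι ''ᵁ (f₁ ⁻¹ᵁ V₃)
  let V : Y.Opens := V₃ ⊓ V₁.ι ''ᵁ (g₁ ⁻¹ᵁ U₃)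
  have hUU₃ : U ≤ U₃ := inf_le_left
  have hVV₃ : V ≤ V₃ := inf_le_left
  have hUU₁ : U ≤ U₁ := hUU₃.trans hU₃
  have hVV₁ : V ≤ V₁ := hVV₃.trans hV₃
  have hmapU : ∀ a : U.toScheme, f₁ (X.homOfLE hUU₁ a) ∈ V := by
    intro a
    obtain ⟨ha₃, b, hb, hab⟩ := a.2
    have hb' : X.homOfLE hUU₁ a = b := by
      rw [homOfLE_eq_mk]; exact Subtype.ext hab.symm
    have hb'' : b = ⟨a.1, hU₃ ha₃⟩ := Subtype.ext hab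
    rw [hb']
    refine ⟨hb, ?_⟩
    obtain ⟨hv, hgv⟩ := F1 a.1 ha₃
    refine ⟨⟨f₁ b, by rw [hb'']; exact hv⟩, ?_, rfl⟩
    change g₁ _ ∈ U₃
    have : (⟨f₁ b, by rw [hb'']; exact hv⟩ : V₁.toScheme) = ⟨f₁ ⟨a.1, hU₃ ha₃⟩, hv⟩ := by
      apply Subtype.ext
      change f₁ b = _
      rw [hb'']
    rw [this, hgv]
    exact ha₃
  have hmapV : ∀ a : V.toScheme, g₁ (Y.homOfLE hVV₁ a) ∈ U := by
    intro a
    obtain ⟨ha₃, b, hb, hab⟩ := a.2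
    have hb' : Y.homOfLE hVV₁ a = b := by
      rw [homOfLE_eq_mk]; exact Subtype.ext hab.symm
    have hb'' : b = ⟨a.1, hV₃ ha₃⟩ := Subtype.ext hab
    rw [hb']
    refine ⟨hb, ?_⟩
    obtain ⟨hu, hfu⟩ := F2 a.1 ha₃
    refine ⟨⟨g₁ b, by rw [hb'']; exact hu⟩, ?_, rfl⟩
    change f₁ _ ∈ V₃
    have : (⟨g₁ b, by rw [hb'']; exact hu⟩ : U₁.toScheme) = ⟨g₁ ⟨a.1, hV₃ ha₃⟩, hu⟩ := by
      apply Subtype.ext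
      change g₁ b = _
      rw [hb'']
    rw [this, hfu]
    exact ha₃
  obtain ⟨fU, hfU⟩ := exists_lift U₁ f₁ V U hUU₁ hmapU
  obtain ⟨gV, hgV⟩ := exists_lift V₁ g₁ U V hVV₁ hmapV
  have e1 : fU ≫ Y.homOfLE hVV₁ = X.homOfLE hUU₃ ≫ lA := by
    rw [← cancel_mono V₁.ι, Category.assoc, Scheme.homOfLE_ι, hfU, Category.assoc, hlA,
      ← Category.assoc, Scheme.homOfLE_homOfLE]
  have e2 : gV ≫ X.homOfLE hUU₁ = Y.homOfLE hVV₃ ≫ lB := by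
    rw [← cancel_mono U₁.ι, Category.assoc, Scheme.homOfLE_ι, hgV, Category.assoc, hlB,
      ← Category.assoc, Scheme.homOfLE_homOfLE]
  have h12 : fU ≫ gV = 𝟙 _ := by
    rw [← cancel_mono U.ι, Category.assoc, hgV, ← Category.assoc, e1, Category.assoc, hA,
      Scheme.homOfLE_ι, Category.id_comp]
  have h21 : gV ≫ fU = 𝟙 _ := by
    rw [← cancel_mono V.ι, Category.assoc, hfU, ← Category.assoc, e2, Category.assoc, hB,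
      Scheme.homOfLE_ι, Category.id_comp]
  exact ⟨hUU₁, fU, ⟨gV, h12, h21⟩, hfU⟩

end Groth.Agent.Lib27.MutualInverse
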