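import Mathlib

/-!
# Base change of mapping properties along a cartesian square
-/

set_option autoImplicit false
universe u

open AlgebraicGeometry CategoryTheory Limits

namespace Groth.Agent.Lib27.NeronBC

/-- Let `η' ≫ φ = ψ ≫ η` be a cartesian square.  If restriction along `η` is bijective on
`Hom_S(Y' → S' → S, N)`, then restriction along `η'` is bijective on `Hom_{S'}(Y', N ×_S S')`. -/
theorem bijective_pullback_map {S S' T T' : Scheme.{u}} {φ : S' ⟶ S} {η : T ⟶ S} {η' : T' ⟶ S'}
    {ψ : T' ⟶ T} (sq : IsPullback η' ψ φ η) (N : Over S) (Y' : Over S')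
    (h : Function.Bijective
      (fun g : Over.mk (Y'.hom ≫ φ) ⟶ N => (Over.pullback η).map g)) :
    Function.Bijective
      (fun g : Y' ⟶ (Over.pullback φ).obj N => (Over.pullback η').map g) := by
  have big : IsPullback (pullback.fst Y'.hom η') (pullback.snd Y'.hom η' ≫ ψ) (Y'.hom ≫ φ) η :=
    (IsPullback.of_hasPullback Y'.hom η').paste_vert sq
  let α : pullback Y'.hom η' ≅ pullback (Y'.hom ≫ φ) η := big.isoPullback
  have hα1 : α.hom ≫ pullback.fst (Y'.hom ≫ φ) η = pullback.fst Y'.hom η' :=
    big.isoPullback_hom_fst
  have hα2 : α.hom ≫ pullback.snd (Y'.hom ≫ φ) η = pullback.snd Y'.hom η' ≫ ψ :=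
    big.isoPullback_hom_snd
  have hα1' : pullback.fst (Y'.hom ≫ φ) η = α.inv ≫ pullback.fst Y'.hom η' := by
    rw [← hα1, Iso.inv_hom_id_assoc]
  have hα2' : pullback.snd (Y'.hom ≫ φ) η = α.inv ≫ pullback.snd Y'.hom η' ≫ ψ := by
    rw [← hα2, Iso.inv_hom_id_assoc]
  constructor
  · intro g₁ g₂ hg
    have hg' : (Over.pullback η').map g₁ = (Over.pullback η').map g₂ := hg
    have hcond : ∀ g : Y' ⟶ (Over.pullback φ).obj N,
        (g.left ≫ pullback.fst N.hom φ) ≫ N.hom = (Over.mk (Y'.hom ≫ φ)).hom := by
      intro g
      have := Over.w g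
      simp only [Over.pullback_obj_hom] at this
      rw [Category.assoc, pullback.condition, ← Category.assoc, this]
      rfl
    let u : (Y' ⟶ (Over.pullback φ).obj N) → (Over.mk (Y'.hom ≫ φ) ⟶ N) := fun g =>
      Over.homMk (g.left ≫ pullback.fst N.hom φ) (hcond g)
    have hfst : ∀ g : Y' ⟶ (Over.pullback φ).obj N,
        pullback.fst Y'.hom η' ≫ g.left =
          ((Over.pullback η').map g).left ≫ pullback.fst (pullback.snd N.hom φ) η' := by
      intro g
      simp only [Over.pullback_map_left]
      exact (pullback.lift_fst _ _ _).symm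
    have hu : (Over.pullback η).map (u g₁) = (Over.pullback η).map (u g₂) := by
      ext1
      simp only [Over.pullback_map_left]
      apply pullback.hom_ext
      · simp only [pullback.lift_fst]
        change pullback.fst (Y'.hom ≫ φ) η ≫ (g₁.left ≫ pullback.fst N.hom φ) =
          pullback.fst (Y'.hom ≫ φ) η ≫ (g₂.left ≫ pullback.fst N.hom φ)
        rw [hα1']
        simp only [Category.assoc]
        rw [← Category.assoc (pullback.fst Y'.hom η'), ← Category.assoc (pullback.fst Y'.hom η'),
          hfst g₁, hfst g₂, hg']
      · simp only [pullback.lift_snd]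
    have hu' : u g₁ = u g₂ := h.1 hu
    ext1
    apply pullback.hom_ext
    · exact congrArg (fun t => t.left) hu'
    · have h1 := Over.w g₁
      have h2 := Over.w g₂
      simp only [Over.pullback_obj_hom] at h1 h2
      rw [h1, h2]
  · intro v
    have hv : v.left ≫ pullback.snd (pullback.snd N.hom φ) η' = pullback.snd Y'.hom η' := by
      have := Over.w v
      simpa using this
    let β : pullback (pullback.snd N.hom φ) η' ⟶ pullback N.hom η :=
      pullback.lift (pullback.fst _ _ ≫ pullback.fst _ _) (pullback.snd _ _ ≫ ψ) (by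
        rw [Category.assoc, pullback.condition, ← Category.assoc, pullback.condition,
          Category.assoc, sq.w, Category.assoc])
    have hβ1 : β ≫ pullback.fst N.hom η = pullback.fst _ _ ≫ pullback.fst _ _ :=
      pullback.lift_fst _ _ _
    have hβ2 : β ≫ pullback.snd N.hom η = pullback.snd _ _ ≫ ψ := pullback.lift_snd _ _ _
    let v₁ : (Over.pullback η).obj (Over.mk (Y'.hom ≫ φ)) ⟶ (Over.pullback η).obj N :=
      Over.homMk (α.inv ≫ v.left ≫ β) (by
        simp only [Over.pullback_obj_hom, Category.assoc, Over.mk_hom]
        rw [hβ2, ← Category.assoc v.left, hv, hα2'])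
    obtain ⟨u, hu⟩ := h.2 v₁
    have hu' : (Over.pullback η).map u = v₁ := hu
    have huw : u.left ≫ N.hom = Y'.hom ≫ φ := Over.w u
    let g : Y' ⟶ (Over.pullback φ).obj N :=
      Over.homMk (pullback.lift u.left Y'.hom huw) (by
        simp only [Over.pullback_obj_hom]
        exact pullback.lift_snd _ _ _)
    have hg1 : g.left ≫ pullback.fst N.hom φ = u.left := pullback.lift_fst _ _ _
    have hg2 : g.left ≫ pullback.snd N.hom φ = Y'.hom := pullback.lift_snd _ _ _
    refine ⟨g, ?_⟩
    change (Over.pullback η').map g = v
    ext1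
    simp only [Over.pullback_map_left]
    apply pullback.hom_ext
    · simp only [pullback.lift_fst]
      apply pullback.hom_ext
      · rw [Category.assoc, hg1]
        have e1 := congrArg (fun t => t.left ≫ pullback.fst N.hom η) hu'
        simp only [Over.pullback_map_left, pullback.lift_fst] at e1
        have e2 : pullback.fst (Y'.hom ≫ φ) η ≫ u.left =
            (α.inv ≫ v.left ≫ β) ≫ pullback.fst N.hom η := e1
        rw [hα1'] at e2
        have e3 := congrArg (fun t => α.hom ≫ t) e2
        simp only [Category.assoc, Iso.hom_inv_id_assoc] at e3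
        rw [e3, hβ1]
        simp only [Category.assoc]
        rfl
      · rw [Category.assoc, hg2, Category.assoc]
        have hc : pullback.fst (pullback.snd N.hom φ) η' ≫ pullback.snd N.hom φ =
            pullback.snd (pullback.snd N.hom φ) η' ≫ η' := pullback.condition
        calc pullback.fst Y'.hom η' ≫ Y'.hom = pullback.snd Y'.hom η' ≫ η' := pullback.condition
          _ = (v.left ≫ pullback.snd (pullback.snd N.hom φ) η') ≫ η' := by rw [hv]
          _ = v.left ≫ pullback.fst (pullback.snd N.hom φ) η' ≫ pullback.snd N.hom φ := by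
              rw [Category.assoc, hc]
    · simp only [pullback.lift_snd]
      exact hv.symm

theorem exists_fractionRing_pullback (R R' : Type u) [CommRing R] [IsDomain R] [CommRing R']
    [IsDomain R'] [Algebra R R'] [FaithfulSMul R R'] [Algebra.IsAlgebraic R R'] :
    ∃ ψ : Spec (CommRingCat.of (FractionRing R')) ⟶ Spec (CommRingCat.of (FractionRing R)),
      IsPullback (Spec.map (CommRingCat.ofHom (algebraMap R' (FractionRing R')))) ψ
        (Spec.map (CommRingCat.ofHom (algebraMap R R')))
        (Spec.map (CommRingCat.ofHom (algebraMap R (FractionRing R)))) := by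
  have hloc : IsLocalization ((nonZeroDivisors R).map (algebraMap R R')) (FractionRing R') :=
    (inferInstance : IsLocalization (Algebra.algebraMapSubmonoid R' (nonZeroDivisors R))
      (FractionRing R'))
  have hinj : Function.Injective ((algebraMap R' (FractionRing R')).comp (algebraMap R R')) :=
    (IsFractionRing.injective R' (FractionRing R')).comp
      (FaithfulSMul.algebraMap_injective R R')
  obtain ⟨fm, hfm⟩ : ∃ fm : FractionRing R →+* FractionRing R',
      fm.comp (algebraMap R (FractionRing R)) =
        (algebraMap R' (FractionRing R')).comp (algebraMap R R') := by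
    refine ⟨IsFractionRing.lift hinj, ?_⟩
    ext x
    simp
  have hpo := CommRingCat.isPushout_of_isLocalization (algebraMap R R') fm hfm (nonZeroDivisors R)
  exact ⟨Spec.map (CommRingCat.ofHom fm),
    AlgebraicGeometry.isPullback_SpecMap_of_isPushout _ _ _ _ hpo⟩

end Groth.Agent.Lib27.NeronBC
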