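import Groth.Prelude.Def_CohB1
import Mathlib.AlgebraicGeometry.ProjectiveSpectrum.Basic
import Mathlib.AlgebraicGeometry.Pullbacks
import Mathlib.RingTheory.GradedAlgebra.HomogeneousLocalization
import Mathlib.RingTheory.MvPolynomial.Homogeneous

/-!
# An affine chart of the projective line `P^1_K = P^1_ℤ ×_ℤ Spec K`
-/

set_option autoImplicit false
universe u
open CategoryTheory CategoryTheory.Limits AlgebraicGeometry HomogeneousLocalization TensorProduct

namespace Groth.Agent.Lib27.P1Chart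

attribute [local instance] ULift.algebra'

/-- the base ring -/
abbrev Z := ULift.{u} ℤ

noncomputable abbrev x0 : MvPolynomial (Fin 2) Z.{u} := MvPolynomial.X 0
noncomputable abbrev x1 : MvPolynomial (Fin 2) Z.{u} := MvPolynomial.X 1

lemma x0_mem : x0.{u} ∈ CohB1.polyGrading 1 Z.{u} 1 := MvPolynomial.isHomogeneous_X _ _

lemma x1_mem : x1.{u} ∈ CohB1.polyGrading 1 Z.{u} (1 • 1) := MvPolynomial.isHomogeneous_X _ _

/-- the coordinate ring of the chart `x₀ ≠ 0` -/
abbrev Aw := Away (CohB1.polyGrading 1 Z.{u}) x0.{u}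

/-- the coordinate `x₁ / x₀` -/
noncomputable def tau : Aw.{u} := Away.mk (CohB1.polyGrading 1 Z.{u}) x0_mem 1 x1 x1_mem

variable (K : Type u) [CommRing K]

/-- evaluation of polynomials at `(1, c)` -/
noncomputable def evPoly (c : K) : MvPolynomial (Fin 2) Z.{u} →+* K :=
  MvPolynomial.eval₂Hom (algebraMap Z.{u} K) ![1, c]

lemma evPoly_x0 (c : K) : evPoly K c x0 = 1 := by
  simp [evPoly]

lemma evPoly_x1 (c : K) : evPoly K c x1 = c := by
  simp [evPoly]

lemma isUnit_evPoly_x0 (c : K) : IsUnit (evPoly K c x0) := by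
  rw [evPoly_x0]; exact isUnit_one

/-- evaluation on the localization -/
noncomputable def evLoc (c : K) : Localization.Away x0.{u} →+* K :=
  IsLocalization.Away.lift (S := Localization.Away x0.{u}) x0.{u} (g := evPoly K c)
    (isUnit_evPoly_x0 K c)

lemma evLoc_algebraMap (c : K) (a : MvPolynomial (Fin 2) Z.{u}) :
    evLoc K c (algebraMap _ _ a) = evPoly K c a :=
  IsLocalization.Away.lift_eq _ _ a

/-- evaluation of the chart at the point `x₁/x₀ = c` -/
noncomputable def ev (c : K) : Aw.{u} →+* K :=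
  (evLoc K c).comp (algebraMap Aw.{u} (Localization.Away x0.{u}))

lemma ev_tau (c : K) : ev K c tau = c := by
  unfold ev tau
  rw [RingHom.comp_apply, HomogeneousLocalization.algebraMap_apply, Away.val_mk]
  have h1 : (Localization.mk x1.{u} ⟨x0.{u} ^ 1, by use 1⟩ : Localization.Away x0.{u}) *
      algebraMap _ _ x0.{u} = algebraMap _ _ x1.{u} := by
    rw [← Localization.mk_one_eq_algebraMap, ← Localization.mk_one_eq_algebraMap,
      Localization.mk_mul, Localization.mk_eq_mk_iff, Localization.r_iff_exists]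
    exact ⟨1, by simp [mul_comm]⟩
  have h2 := congrArg (evLoc K c) h1
  rw [map_mul, evLoc_algebraMap, evLoc_algebraMap, evPoly_x0, evPoly_x1, mul_one] at h2
  exact h2

section Chart

variable (K : Type u) [CommRing K]

lemma ulift_int_hom_ext {R : Type*} [Semiring R] (f g : Z.{u} →+* R) : f = g := by
  have h : f.comp (ULift.ringEquiv.symm : ℤ ≃+* Z.{u}).toRingHom =
      g.comp (ULift.ringEquiv.symm : ℤ ≃+* Z.{u}).toRingHom := RingHom.ext_int _ _
  ext z
  obtain ⟨n⟩ := z
  exact congrArg (fun φ => φ n) h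

/-- coordinate ring of the chart over `K` -/
abbrev T := Aw.{u} ⊗[Z.{u}] K

/-- the standard chart of `P^1_ℤ` -/
noncomputable def awayι' : Spec (CommRingCat.of Aw.{u}) ⟶ CohB1.ProjSpace 1 Z.{u} :=
  Proj.awayι (CohB1.polyGrading 1 Z.{u}) x0 x0_mem one_pos

instance : IsOpenImmersion awayι'.{u} := by
  unfold awayι'
  exact inferInstanceAs (IsOpenImmersion (Proj.awayι (CohB1.polyGrading 1 Z.{u}) x0 x0_mem one_pos))

/-- the chart `Spec (Aw ⊗ K) ⟶ P^1_K`, with unfolded target -/
noncomputable def chart₀ : Spec (CommRingCat.of (T K)) ⟶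
    pullback (CohB1.ProjSpace.toSpec 1 Z.{u})
      (specULiftZIsTerminal.from (Spec (CommRingCat.of K))) :=
  (pullbackSpecIso Z.{u} Aw.{u} K).inv ≫
    pullback.map (Spec.map (CommRingCat.ofHom (algebraMap Z.{u} Aw.{u})))
      (Spec.map (CommRingCat.ofHom (algebraMap Z.{u} K)))
      (CohB1.ProjSpace.toSpec 1 Z.{u}) (specULiftZIsTerminal.from (Spec (CommRingCat.of K)))
      awayι' (𝟙 _) (𝟙 _)
      (specULiftZIsTerminal.hom_ext _ _) (specULiftZIsTerminal.hom_ext _ _)

instance : IsOpenImmersion (chart₀ K) := by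
  unfold chart₀
  infer_instance

lemma chart₀_snd : chart₀ K ≫ pullback.snd _ _ =
    Spec.map (CommRingCat.ofHom
      (Algebra.TensorProduct.includeRight : K →ₐ[Z.{u}] T K).toRingHom) := by
  unfold chart₀
  rw [Category.assoc, pullback.lift_snd, Category.comp_id, pullbackSpecIso_inv_snd]
  rfl

/-- the chart `Spec (Aw ⊗ K) ⟶ P^1_K` -/
noncomputable def chart : Spec (CommRingCat.of (T K)) ⟶
    CohB1.ProjSpaceOver 1 (Spec (CommRingCat.of K)) := chart₀ K

instance : IsOpenImmersion (chart K) := inferInstanceAs (IsOpenImmersion (chart₀ K))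

@[reassoc]
lemma chart_toBase : chart K ≫ CohB1.ProjSpaceOver.toBase 1 (Spec (CommRingCat.of K)) =
    Spec.map (CommRingCat.ofHom
      (Algebra.TensorProduct.includeRight : K →ₐ[Z.{u}] T K).toRingHom) :=
  chart₀_snd K

/-- `ev c` as an algebra hom -/
noncomputable def evAlg (c : K) : Aw.{u} →ₐ[Z.{u}] K :=
  { ev K c with
    commutes' := fun r => by
      have := ulift_int_hom_ext ((ev K c).comp (algebraMap Z.{u} Aw.{u})) (algebraMap Z.{u} K)
      exact congrArg (fun φ => φ r) this }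

/-- the `K`-point `x₁/x₀ = c` of the chart, as a ring hom -/
noncomputable def ptHom (c : K) : T K →+* K :=
  (Algebra.TensorProduct.lift (evAlg K c) (AlgHom.id Z.{u} K) (fun _ _ => Commute.all _ _)).toRingHom

lemma ptHom_tmul (c : K) (a : Aw.{u}) (b : K) : ptHom K c (a ⊗ₜ b) = ev K c a * b := by
  unfold ptHom
  simp [evAlg]

/-- the coordinate on the chart -/
noncomputable def tauT : T K := tau ⊗ₜ 1

lemma ptHom_tauT (c : K) : ptHom K c (tauT K) = c := by
  unfold tauT
  rw [ptHom_tmul, ev_tau, mul_one]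

lemma ptHom_one_tmul (c : K) (b : K) : ptHom K c ((1 : Aw.{u}) ⊗ₜ b) = b := by
  rw [ptHom_tmul, map_one, one_mul]

/-- the `K`-point of the chart -/
noncomputable def pt (c : K) : Spec (CommRingCat.of K) ⟶ Spec (CommRingCat.of (T K)) :=
  Spec.map (CommRingCat.ofHom (ptHom K c))

lemma pt_chart_toBase (c : K) :
    pt K c ≫ chart K ≫ CohB1.ProjSpaceOver.toBase 1 (Spec (CommRingCat.of K)) = 𝟙 _ := by
  rw [chart_toBase, pt, ← Spec.map_comp, ← CommRingCat.ofHom_comp]
  have : (ptHom K c).comp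
      (Algebra.TensorProduct.includeRight : K →ₐ[Z.{u}] T K).toRingHom = RingHom.id K := by
    ext b
    exact ptHom_one_tmul K c b
  rw [this]
  exact Spec.map_id _

end Chart

section Line

variable (k : Type u) [Field k] (K : Type u) [Field K] [Algebra k K] (n : ℕ)

/-- the line through `a` and `b` -/
noncomputable def lineHom (a b : Fin n → K) : MvPolynomial (Fin n) k →+* T K :=
  MvPolynomial.eval₂Hom
    ((Algebra.TensorProduct.includeRight : K →ₐ[Z.{u}] T K).toRingHom.comp (algebraMap k K))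
    (fun i => (1 : Aw.{u}) ⊗ₜ a i + tauT K * ((1 : Aw.{u}) ⊗ₜ (b i - a i)))

lemma lineHom_comp_C (a b : Fin n → K) :
    (lineHom k K n a b).comp (MvPolynomial.C) =
      (Algebra.TensorProduct.includeRight : K →ₐ[Z.{u}] T K).toRingHom.comp (algebraMap k K) := by
  ext r
  simp [lineHom]

lemma ptHom_comp_lineHom (a b : Fin n → K) (c : K) :
    (ptHom K c).comp (lineHom k K n a b) =
      MvPolynomial.eval₂Hom (algebraMap k K) (fun i => a i + c * (b i - a i)) := by
  apply MvPolynomial.ringHom_ext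
  · intro r
    simp [lineHom, ptHom_one_tmul]
  · intro i
    simp [lineHom, ptHom_tauT, ptHom_one_tmul]

lemma point_eq (α : Spec (CommRingCat.of K) ⟶ Spec (CommRingCat.of (MvPolynomial (Fin n) k)))
    (hα : α ≫ Spec.map (CommRingCat.ofHom (algebraMap k (MvPolynomial (Fin n) k))) =
      Spec.map (CommRingCat.ofHom (algebraMap k K))) :
    ∃ a : Fin n → K,
      α = Spec.map (CommRingCat.ofHom (MvPolynomial.eval₂Hom (algebraMap k K) a)) := by
  obtain ⟨φ, rfl⟩ := Spec.map_surjective α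
  refine ⟨fun i => φ.hom (MvPolynomial.X i), ?_⟩
  congr 1
  rw [← Spec.map_comp] at hα
  have h1 := Spec.map_injective hα
  ext : 1
  apply MvPolynomial.ringHom_ext
  · intro r
    have := congrArg (fun ψ => ψ.hom r) h1
    simpa using this
  · intro i
    simp

theorem exists_link (V : (Spec (CommRingCat.of (MvPolynomial (Fin n) k))).Opens)
    (a b : Fin n → K)
    (haV : Set.range (Spec.map (CommRingCat.ofHom
      (MvPolynomial.eval₂Hom (algebraMap k K) a))) ⊆ (V : Set _))
    (hbV : Set.range (Spec.map (CommRingCat.ofHom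
      (MvPolynomial.eval₂Hom (algebraMap k K) b))) ⊆ (V : Set _)) :
    ∃ (U' : (CohB1.ProjSpaceOver 1 (Spec (CommRingCat.of K))).Opens)
      (h : (U' : Scheme.{u}) ⟶ (V : Scheme.{u}))
      (a' b' : Spec (CommRingCat.of K) ⟶ (U' : Scheme.{u})),
      h ≫ V.ι ≫ Spec.map (CommRingCat.ofHom (algebraMap k (MvPolynomial (Fin n) k))) =
        U'.ι ≫ CohB1.ProjSpaceOver.toBase 1 (Spec (CommRingCat.of K)) ≫
          Spec.map (CommRingCat.ofHom (algebraMap k K)) ∧
      a' ≫ U'.ι ≫ CohB1.ProjSpaceOver.toBase 1 (Spec (CommRingCat.of K)) = 𝟙 _ ∧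
      b' ≫ U'.ι ≫ CohB1.ProjSpaceOver.toBase 1 (Spec (CommRingCat.of K)) = 𝟙 _ ∧
      a' ≫ h ≫ V.ι = Spec.map (CommRingCat.ofHom
        (MvPolynomial.eval₂Hom (algebraMap k K) a)) ∧
      b' ≫ h ≫ V.ι = Spec.map (CommRingCat.ofHom
        (MvPolynomial.eval₂Hom (algebraMap k K) b)) := by
  set L : Spec (CommRingCat.of (T K)) ⟶ Spec (CommRingCat.of (MvPolynomial (Fin n) k)) :=
    Spec.map (CommRingCat.ofHom (lineHom k K n a b)) with hL
  have hpL : ∀ c : K, pt K c ≫ L = Spec.map (CommRingCat.ofHom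
      (MvPolynomial.eval₂Hom (algebraMap k K) (fun i => a i + c * (b i - a i)))) := by
    intro c
    rw [hL, pt, ← Spec.map_comp, ← CommRingCat.ofHom_comp, ptHom_comp_lineHom]
  have hp0 : pt K 0 ≫ L = Spec.map (CommRingCat.ofHom
      (MvPolynomial.eval₂Hom (algebraMap k K) a)) := by
    rw [hpL]
    congr 3
    funext i
    ring
  have hp1 : pt K 1 ≫ L = Spec.map (CommRingCat.ofHom
      (MvPolynomial.eval₂Hom (algebraMap k K) b)) := by
    rw [hpL]
    congr 3
    funext i
    ring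
  have hr : ∀ (c : K), Set.range (pt K c ≫ L) ⊆ (V : Set _) →
      Set.range (pt K c) ⊆ Set.range (L ⁻¹ᵁ V).ι := by
    intro c hc
    rintro _ ⟨x, rfl⟩
    rw [Scheme.Opens.range_ι]
    exact hc ⟨x, rfl⟩
  have hr0 := hr 0 (by rw [hp0]; exact haV)
  have hr1 := hr 1 (by rw [hp1]; exact hbV)
  refine ⟨chart K ''ᵁ (L ⁻¹ᵁ V), ((chart K).isoImage (L ⁻¹ᵁ V)).inv ≫ (L ∣_ V),
    IsOpenImmersion.lift (L ⁻¹ᵁ V).ι (pt K 0) hr0 ≫ ((chart K).isoImage (L ⁻¹ᵁ V)).hom,
    IsOpenImmersion.lift (L ⁻¹ᵁ V).ι (pt K 1) hr1 ≫ ((chart K).isoImage (L ⁻¹ᵁ V)).hom,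
    ?_, ?_, ?_, ?_, ?_⟩
  · rw [Category.assoc, morphismRestrict_ι_assoc, ← Scheme.Hom.isoImage_inv_ι (chart K) (L ⁻¹ᵁ V)]
    simp only [Category.assoc]
    congr 2
    rw [hL, ← Spec.map_comp, ← CommRingCat.ofHom_comp, chart_toBase_assoc, ← Spec.map_comp,
      ← CommRingCat.ofHom_comp]
    congr 2
    exact lineHom_comp_C k K n a b
  · rw [Category.assoc, Scheme.Hom.isoImage_hom_ι_assoc, IsOpenImmersion.lift_fac_assoc]
    exact pt_chart_toBase K 0
  · rw [Category.assoc, Scheme.Hom.isoImage_hom_ι_assoc, IsOpenImmersion.lift_fac_assoc]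
    exact pt_chart_toBase K 1
  · rw [Category.assoc, Category.assoc, Iso.hom_inv_id_assoc, morphismRestrict_ι,
      IsOpenImmersion.lift_fac_assoc, hp0]
  · rw [Category.assoc, Category.assoc, Iso.hom_inv_id_assoc, morphismRestrict_ι,
      IsOpenImmersion.lift_fac_assoc, hp1]

end Line

end Groth.Agent.Lib27.P1Chart
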