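import Groth.Agent.Lib.Helper29.PA1
import Groth.Agent.Lib.Helper29.Pic1

/-!
# Projective space over a field (as a base change from `ℤ`) is irreducible
-/

set_option autoImplicit false
universe u
open CategoryTheory CategoryTheory.Limits AlgebraicGeometry

namespace Groth.Agent.Lib27.P1Irred

theorem irreducibleSpace_projSpaceOver (n : ℕ) (K : Type u) [Field K] :
    IrreducibleSpace ↥(CohB1.ProjSpaceOver n (Spec (CommRingCat.of K))) := by
  obtain ⟨α, β, -, hαβ⟩ := Groth.Agent.Lib.Helper29.QCoh.exists_splitMono_projSpaceOver_spec n K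
  have : IsIntegral (Proj (CohB1.polyGrading n K)) :=
    Groth.Agent.Lib.Helper29.Pic.isIntegral_projSpace n K
  have hsurj : Function.Surjective β := fun x => ⟨α x, by
    rw [← Scheme.Hom.comp_apply, hαβ]; rfl⟩
  have h1 : IsIrreducible (Set.univ : Set ↥(Proj (CohB1.polyGrading n K))) :=
    IrreducibleSpace.isIrreducible_univ _
  have h2 := h1.image β β.continuous.continuousOn
  rw [Set.image_univ, hsurj.range_eq] at h2
  exact (irreducibleSpace_def _).mpr h2

end Groth.Agent.Lib27.P1Irred
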