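import Mathlib
import Groth.Prelude.Def_W4c6modpairsegaMP
import Groth.Agent.Lib27.Sch.IdealGlue
import Groth.Agent.Lib.Helper25.BlowUpGlue
import Groth.Agent.Lib27.Sch.RestrictLocal

/-!
# Coproducts of modulus pairs (helper27)
-/

set_option autoImplicit false

universe v u

open CategoryTheory CategoryTheory.Limits AlgebraicGeometry TopologicalSpace

namespace Groth.Agent.Lib27.PairCoprod

open Groth.Agent.Lib.Helper25.BlowUpUP Groth.Agent.Lib27.IdealGlue

variable {σ : Type v} [Small.{u} σ] (f : σ → ModPair.Pair.{u})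

/-- the total space of the coproduct. -/
noncomputable abbrev tot : Scheme.{u} := ∐ fun i => (f i).total

/-- the inclusions. -/
noncomputable abbrev inc (i : σ) : (f i).total ⟶ tot f := Sigma.ι (fun i => (f i).total) i

lemma cov (y : ↥(tot f)) : ∃ i, y ∈ Set.range (inc f i) := by
  obtain ⟨i, x, hx⟩ := (sigmaOpenCover (fun i => (f i).total)).exists_eq y
  exact ⟨i, x, hx⟩

lemma disj (i j : σ) (h : i ≠ j) : Disjoint (Set.range (inc f i)) (Set.range (inc f j)) := by
  have := disjoint_opensRange_sigmaι (fun i => (f i).total) i j h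
  rw [Set.disjoint_left]
  intro y hy hy'
  have h2 : y ∈ ((Sigma.ι (fun i => (f i).total) i).opensRange ⊓
      (Sigma.ι (fun i => (f i).total) j).opensRange : (tot f).Opens) := ⟨hy, hy'⟩
  rw [disjoint_iff.mp this] at h2
  exact h2

lemma exists_mod : ∃ M : (tot f).IdealSheafData, ∀ i, M.comap (inc f i) = (f i).mod :=
  exists_ideal_of_disjoint_cover (inc f) (cov f) (disj f) _

/-- the modulus of the coproduct. -/
noncomputable def modulus : (tot f).IdealSheafData := (exists_mod f).choose

lemma comap_modulus (i : σ) : (modulus f).comap (inc f i) = (f i).mod :=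
  (exists_mod f).choose_spec i

lemma isEffCartier_modulus : BlowUp.IsEffCartierIdeal (modulus f) := by
  refine isEffCartierIdeal_of_forall_openImmersion _ (fun y => ?_)
  obtain ⟨i, hi⟩ := cov f y
  exact ⟨_, inc f i, inferInstance, hi, by rw [comap_modulus]; exact (f i).isEffCartier⟩

/-- the coproduct of a family of modulus pairs. -/
noncomputable def coprodPair : ModPair.Pair.{u} := ⟨tot f, modulus f, isEffCartier_modulus f⟩

/-- the inclusions as ambient morphisms. -/
noncomputable def incPair (i : σ) : f i ⟶ coprodPair f := ⟨inc f i, (comap_modulus f i).ge⟩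

/-- the coproduct cofan. -/
noncomputable def cofan : Cofan f := Cofan.mk (coprodPair f) (incPair f)

lemma desc_cond (t : Cofan f) :
    ModPair.IsAmbient (modulus f) t.pt.mod (Sigma.desc (fun i => (t.inj i).hom)) := by
  change modulus f ≤ t.pt.mod.comap _
  refine le_of_forall_comap_le (inc f) (cov f) _ _ (fun i => ?_)
  rw [comap_modulus, ← Scheme.IdealSheafData.comap_comp, Sigma.ι_desc]
  exact (t.inj i).cond

/-- the coproduct cofan is a colimit. -/
noncomputable def isColimit : IsColimit (cofan f) :=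
  Cofan.IsColimit.mk _ (fun t => (⟨Sigma.desc (fun i => (t.inj i).hom), desc_cond f t⟩ :
      coprodPair f ⟶ t.pt))
    (fun t i => by
      apply ModPair.Pair.Hom.ext
      change inc f i ≫ Sigma.desc (fun i => (t.inj i).hom) = (t.inj i).hom
      exact Sigma.ι_desc _ _)
    (fun t m hm => by
      apply ModPair.Pair.Hom.ext
      change m.hom = Sigma.desc (fun i => (t.inj i).hom)
      refine Sigma.hom_ext _ _ (fun i => ?_)
      rw [Sigma.ι_desc]
      exact congrArg ModPair.Pair.Hom.hom (hm i))

/-- the total space functor maps the coproduct cofan to a colimit. -/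
noncomputable def isColimitMap : IsColimit (ModPair.Pair.forget.mapCocone (cofan f)) :=
  (isColimitMapCoconeCofanMkEquiv ModPair.Pair.forget f (incPair f)).symm
    (coproductIsCoproduct (fun i => (f i).total))

theorem hasColimitsOfShape : HasColimitsOfShape (Discrete σ) ModPair.Pair.{u} := by
  refine ⟨fun F => ?_⟩
  haveI : HasColimit (Discrete.functor (F.obj ∘ Discrete.mk)) :=
    ⟨⟨⟨cofan _, isColimit _⟩⟩⟩
  exact hasColimit_of_iso Discrete.natIsoFunctor

theorem preservesColimitsOfShape :
    PreservesColimitsOfShape (Discrete σ) ModPair.Pair.forget.{u} := by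
  refine ⟨fun {F} => ?_⟩
  haveI : PreservesColimit (Discrete.functor (F.obj ∘ Discrete.mk)) ModPair.Pair.forget.{u} :=
    preservesColimit_of_preserves_colimit_cocone (isColimit _) (isColimitMap _)
  exact preservesColimit_of_iso_diagram _ Discrete.natIsoFunctor.symm

section Map

variable (f₁ f₂ : σ → ModPair.Pair.{u}) (φ : ∀ j, f₁ j ⟶ f₂ j)

/-- the morphism of schemes induced on coproducts. -/
noncomputable def mapHom : tot f₁ ⟶ tot f₂ := Sigma.desc (fun j => (φ j).hom ≫ inc f₂ j)

/-- the morphism induced on coproducts. -/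
noncomputable def mapPair : coprodPair f₁ ⟶ coprodPair f₂ :=
  ⟨mapHom f₁ f₂ φ, desc_cond f₁ (Cofan.mk (coprodPair f₂) (fun j => φ j ≫ incPair f₂ j))⟩

lemma inc_mapHom (j : σ) : inc f₁ j ≫ mapHom f₁ f₂ φ = (φ j).hom ≫ inc f₂ j :=
  Sigma.ι_desc _ _

lemma incPair_mapPair (j : σ) : incPair f₁ j ≫ mapPair f₁ f₂ φ = φ j ≫ incPair f₂ j := by
  apply ModPair.Pair.Hom.ext
  exact inc_mapHom f₁ f₂ φ j

lemma mapHom_inc_apply (j : σ) (x : (f₁ j).total) :
    mapHom f₁ f₂ φ (inc f₁ j x) = inc f₂ j ((φ j).hom x) := by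
  rw [← Scheme.Hom.comp_apply, inc_mapHom, Scheme.Hom.comp_apply]

lemma isPullback_inc_mapHom (j : σ) :
    IsPullback (φ j).hom (inc f₁ j) (inc f₂ j) (mapHom f₁ f₂ φ) := by
  refine IsOpenImmersion.isPullback _ _ _ _ (inc_mapHom f₁ f₂ φ j) ?_
  apply Opens.ext
  ext x
  constructor
  · intro hx
    obtain ⟨i, x', rfl⟩ := cov f₁ x
    have hx' : mapHom f₁ f₂ φ (inc f₁ i x') ∈ Set.range (inc f₂ j) := hx
    rw [mapHom_inc_apply] at hx'
    by_cases hij : i = j
    · subst hij
      exact ⟨x', rfl⟩
    · exact (Set.disjoint_left.mp (disj f₂ i j hij) ⟨_, rfl⟩ hx').elim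
  · rintro ⟨x', rfl⟩
    change mapHom f₁ f₂ φ (inc f₁ j x') ∈ Set.range (inc f₂ j)
    rw [mapHom_inc_apply]
    exact ⟨_, rfl⟩

lemma mem_support_modulus_iff (j : σ) (v : (f j).total) :
    inc f j v ∈ (modulus f).support ↔ v ∈ (f j).mod.support := by
  rw [← comap_modulus f j, Scheme.IdealSheafData.support_comap]
  rfl

theorem isAdmBlowup_mapHom (h : ∀ j, ModPair.Pair.admBlowup (φ j)) :
    ModPair.IsAdmBlowup (modulus f₁) (modulus f₂) (mapHom f₁ f₂ φ) := by
  refine ⟨?_, ?_, ?_⟩
  · -- minimal
    change modulus f₁ = (modulus f₂).comap (mapHom f₁ f₂ φ)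
    refine eq_of_forall_comap_eq (inc f₁) (cov f₁) _ _ (fun j => ?_)
    rw [comap_modulus, ← Scheme.IdealSheafData.comap_comp, inc_mapHom,
      Scheme.IdealSheafData.comap_comp, comap_modulus]
    exact (h j).1
  · -- proper
    refine IsZariskiLocalAtTarget.of_openCover (P := @IsProper)
      (sigmaOpenCover (fun i => (f₂ i).total)) ?_
    intro (j : σ)
    change IsProper (pullback.snd (mapHom f₁ f₂ φ) (inc f₂ j))
    have sq := (isPullback_inc_mapHom f₁ f₂ φ j).flip
    rw [← sq.isoPullback_inv_snd]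
    haveI : IsProper (φ j).hom := (h j).2.1
    infer_instance
  · -- iso over the interior
    refine Groth.Agent.Lib27.RestrictLocal.prop_restrict_of_cover
      (MorphismProperty.isomorphisms Scheme.{u}) _ _
      (fun j => ((ModPair.interior (f₂ j).mod : (f₂ j).total.Opens) : Scheme.{u}))
      (fun j => (ModPair.interior (f₂ j).mod).ι ≫ inc f₂ j) ?_ ?_ (fun j => ?_)
    · rintro j _ ⟨v, rfl⟩
      rw [Scheme.Hom.comp_apply]
      intro hmem
      exact v.2 ((mem_support_modulus_iff f₂ j _).mp hmem)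
    · intro y hy
      obtain ⟨j, v, rfl⟩ := cov f₂ y
      have hv : v ∈ ModPair.interior (f₂ j).mod := fun hmem =>
        hy ((mem_support_modulus_iff f₂ j v).mpr hmem)
      exact ⟨j, ⟨v, hv⟩, by rw [Scheme.Hom.comp_apply]; rfl⟩
    · have sqB := (isPullback_morphismRestrict (φ j).hom (ModPair.interior (f₂ j).mod)).flip
      have sqA := (isPullback_inc_mapHom f₁ f₂ φ j).flip
      have big := sqB.paste_horiz sqA
      change IsIso _
      rw [← big.isoPullback_inv_snd]
      haveI : IsIso ((φ j).hom ∣_ ModPair.interior (f₂ j).mod) := (h j).2.2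
      infer_instance

/-- the coproduct of abstract admissible blow-ups is an abstract admissible blow-up. -/
theorem admBlowup_mapPair (h : ∀ j, ModPair.Pair.admBlowup (φ j)) :
    ModPair.Pair.admBlowup (mapPair f₁ f₂ φ) :=
  isAdmBlowup_mapHom f₁ f₂ φ h

end Map

end Groth.Agent.Lib27.PairCoprod
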