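import Groth.Agent.Lib27.Sch.P1Chart
import Mathlib.AlgebraicGeometry.PullbackCarrier

/-!
# Degree-one affine charts of `P^n_k` and lines through two points
-/

set_option autoImplicit false
universe u
open CategoryTheory CategoryTheory.Limits AlgebraicGeometry HomogeneousLocalization TensorProduct

namespace Groth.Agent.Lib27.PnChart

open Groth.Agent.Lib27.P1Chart

attribute [local instance] ULift.algebra'

section Scale

lemma eval₂_scale {σ R S : Type*} [CommSemiring R] [CommSemiring S] (f : R →+* S) (c : S)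
    (y : σ → S) {g : MvPolynomial σ R} {d : ℕ} (hg : g.IsHomogeneous d) :
    MvPolynomial.eval₂ f (fun i => c * y i) g = c ^ d * MvPolynomial.eval₂ f y g := by
  rw [MvPolynomial.eval₂_eq, MvPolynomial.eval₂_eq, Finset.mul_sum]
  apply Finset.sum_congr rfl
  intro m hm
  have hdeg : ∑ i ∈ m.support, m i = d := (hg.degree_eq_sum_deg_support hm).symm
  simp_rw [mul_pow]
  rw [Finset.prod_mul_distrib, Finset.prod_pow_eq_pow_sum, hdeg]
  ring

end Scale

variable (n : ℕ)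

/-- the homogeneous coordinate ring of `P^n_ℤ` -/
abbrev P := MvPolynomial (Fin (n + 1)) Z.{u}

lemma poly_hom_ext {R : Type*} [Semiring R] (φ ψ : P.{u} n →+* R)
    (h : ∀ i, φ (MvPolynomial.X i) = ψ (MvPolynomial.X i)) : φ = ψ := by
  apply MvPolynomial.ringHom_ext
  · intro r
    exact congrArg (fun χ => χ r)
      (ulift_int_hom_ext (φ.comp MvPolynomial.C) (ψ.comp MvPolynomial.C))
  · exact h

variable (ℓ : P.{u} n) (hℓ : ℓ ∈ CohB1.polyGrading n Z.{u} 1)

/-- the coordinate ring of the chart `ℓ ≠ 0` -/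
abbrev AwG := Away (CohB1.polyGrading n Z.{u}) ℓ

lemma X_mem (i : Fin (n + 1)) :
    (MvPolynomial.X i : P.{u} n) ∈ CohB1.polyGrading n Z.{u} (1 • 1) :=
  MvPolynomial.isHomogeneous_X _ _

/-- the coordinate `x_i / ℓ` -/
noncomputable def xi (i : Fin (n + 1)) : AwG.{u} n ℓ :=
  Away.mk (CohB1.polyGrading n Z.{u}) hℓ 1 (MvPolynomial.X i) (X_mem n i)

/-- dehomogenization `x_i ↦ x_i / ℓ` -/
noncomputable def dehom : P.{u} n →+* AwG.{u} n ℓ :=
  MvPolynomial.eval₂Hom (algebraMap Z.{u} (AwG.{u} n ℓ)) (xi n ℓ hℓ)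

lemma dehom_X (i : Fin (n + 1)) : dehom n ℓ hℓ (MvPolynomial.X i) = xi n ℓ hℓ i := by
  simp [dehom]

lemma dehom_eq_mk (d : ℕ) (g : P.{u} n) (hg : g ∈ CohB1.polyGrading n Z.{u} (d • 1)) :
    dehom n ℓ hℓ g = Away.mk (CohB1.polyGrading n Z.{u}) hℓ d g hg := by
  apply HomogeneousLocalization.val_injective
  rw [Away.val_mk]
  set c : Localization.Away ℓ := Localization.mk 1 ⟨ℓ, Submonoid.mem_powers ℓ⟩ with hc
  have h1 : ((algebraMap (AwG.{u} n ℓ) (Localization.Away ℓ)).comp (dehom n ℓ hℓ)) =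
      MvPolynomial.eval₂Hom (algebraMap Z.{u} (Localization.Away ℓ))
        (fun i => c * algebraMap (P.{u} n) (Localization.Away ℓ) (MvPolynomial.X i)) := by
    apply poly_hom_ext
    · intro i
      rw [RingHom.comp_apply, dehom_X, MvPolynomial.coe_eval₂Hom, MvPolynomial.eval₂_X,
        HomogeneousLocalization.algebraMap_apply, xi, Away.val_mk, hc,
        ← Localization.mk_one_eq_algebraMap, Localization.mk_mul]
      simp
  have h2 : (algebraMap (P.{u} n) (Localization.Away ℓ)) =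
      MvPolynomial.eval₂Hom (algebraMap Z.{u} (Localization.Away ℓ))
        (fun i => algebraMap (P.{u} n) (Localization.Away ℓ) (MvPolynomial.X i)) := by
    apply poly_hom_ext
    · intro i
      simp
  have hgd : g.IsHomogeneous d := by
    have : g ∈ CohB1.polyGrading n Z.{u} d := by simpa using hg
    exact this
  have h3 := congrArg (fun φ => φ g) h1
  simp only [RingHom.comp_apply, MvPolynomial.coe_eval₂Hom] at h3
  rw [HomogeneousLocalization.algebraMap_apply] at h3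
  rw [h3, eval₂_scale _ _ _ hgd]
  have h4 := congrArg (fun φ => φ g) h2
  simp only [MvPolynomial.coe_eval₂Hom] at h4
  rw [← h4, hc, Localization.mk_pow, ← Localization.mk_one_eq_algebraMap, Localization.mk_mul]
  simp

lemma awG_hom_ext {R : Type*} [Semiring R] (ψ₁ ψ₂ : AwG.{u} n ℓ →+* R)
    (h : ∀ i, ψ₁ (xi n ℓ hℓ i) = ψ₂ (xi n ℓ hℓ i)) : ψ₁ = ψ₂ := by
  have h1 : ψ₁.comp (dehom n ℓ hℓ) = ψ₂.comp (dehom n ℓ hℓ) := by
    apply poly_hom_ext
    intro i
    simp only [RingHom.comp_apply, dehom_X]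
    exact h i
  ext x
  obtain ⟨d, g, hg, rfl⟩ := Away.mk_surjective _ hℓ x
  rw [← dehom_eq_mk n ℓ hℓ d g hg]
  exact congrArg (fun φ => φ g) h1

lemma dehom_self : dehom n ℓ hℓ ℓ = 1 := by
  rw [dehom_eq_mk n ℓ hℓ 1 ℓ (by simpa using hℓ)]
  apply HomogeneousLocalization.val_injective
  rw [Away.val_mk, HomogeneousLocalization.val_one]
  convert Localization.mk_self (⟨ℓ ^ 1, by use 1⟩ : Submonoid.powers ℓ) using 2
  simp

section Ev

variable {R : Type*} [CommRing R] (e : P.{u} n →+* R) (he : IsUnit (e ℓ))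

/-- the hom out of the chart ring induced by a hom of the polynomial ring inverting `ℓ` -/
noncomputable def evG : AwG.{u} n ℓ →+* R :=
  (IsLocalization.Away.lift (S := Localization.Away ℓ) ℓ (g := e) he).comp
    (algebraMap (AwG.{u} n ℓ) (Localization.Away ℓ))

lemma evG_xi (i : Fin (n + 1)) :
    evG n ℓ e he (xi n ℓ hℓ i) * e ℓ = e (MvPolynomial.X i) := by
  unfold evG xi
  rw [RingHom.comp_apply, HomogeneousLocalization.algebraMap_apply, Away.val_mk]
  have h1 : (Localization.mk (MvPolynomial.X i) ⟨ℓ ^ 1, by use 1⟩ : Localization.Away ℓ) *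
      algebraMap _ _ ℓ = algebraMap _ _ (MvPolynomial.X i : P.{u} n) := by
    rw [← Localization.mk_one_eq_algebraMap, ← Localization.mk_one_eq_algebraMap,
      Localization.mk_mul, Localization.mk_eq_mk_iff, Localization.r_iff_exists]
    exact ⟨1, by simp [mul_comm]⟩
  have h2 := congrArg (IsLocalization.Away.lift (S := Localization.Away ℓ) ℓ (g := e) he) h1
  rw [map_mul, IsLocalization.Away.lift_eq, IsLocalization.Away.lift_eq] at h2
  exact h2

lemma evG_xi_of_eq_one (h1 : e ℓ = 1) (i : Fin (n + 1)) :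
    evG n ℓ e he (xi n ℓ hℓ i) = e (MvPolynomial.X i) :=
  calc evG n ℓ e he (xi n ℓ hℓ i) = evG n ℓ e he (xi n ℓ hℓ i) * 1 := (mul_one _).symm
    _ = evG n ℓ e he (xi n ℓ hℓ i) * e ℓ :=
      congrArg (fun t => evG n ℓ e he (xi n ℓ hℓ i) * t) h1.symm
    _ = e (MvPolynomial.X i) := evG_xi n ℓ hℓ e he i

end Ev

/-- `ℓ` behaves like a linear form under evaluation -/
def IsLin : Prop :=
  ∀ (S : Type u) [CommRing S] (f : Z.{u} →+* S) (v w : Fin (n + 1) → S) (t : S),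
    MvPolynomial.eval₂ f (fun i => v i + t * w i) ℓ =
      MvPolynomial.eval₂ f v ℓ + t * MvPolynomial.eval₂ f w ℓ

lemma isLin_X (j : Fin (n + 1)) : IsLin n (MvPolynomial.X j : P.{u} n) := by
  intro S _ f v w t
  simp

lemma isLin_X_add_X (i j : Fin (n + 1)) :
    IsLin n (MvPolynomial.X i + MvPolynomial.X j : P.{u} n) := by
  intro S _ f v w t
  simp only [MvPolynomial.eval₂_add, MvPolynomial.eval₂_X]
  ring

/-- a ring hom between `Z`-algebras is a `Z`-algebra hom -/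
noncomputable def toZAlgHom {A B : Type*} [CommRing A] [CommRing B] [Algebra Z.{u} A]
    [Algebra Z.{u} B] (φ : A →+* B) : A →ₐ[Z.{u}] B :=
  { φ with
    commutes' := fun r =>
      congrArg (fun χ => χ r) (ulift_int_hom_ext (φ.comp (algebraMap Z.{u} A)) (algebraMap Z.{u} B)) }

@[simp] lemma toZAlgHom_apply {A B : Type*} [CommRing A] [CommRing B] [Algebra Z.{u} A]
    [Algebra Z.{u} B] (φ : A →+* B) (x : A) : toZAlgHom φ x = φ x := rfl

section Line

variable (k : Type u) [CommRing k] (K : Type u) [CommRing K] [Algebra k K]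

/-- coordinate ring of the chart `ℓ ≠ 0` of `P^n_k` -/
abbrev TG := AwG.{u} n ℓ ⊗[Z.{u}] k

variable (a b : Fin (n + 1) → K)

/-- the polynomial-level line through `a` and `b` -/
noncomputable def linePoly : P.{u} n →+* T K :=
  MvPolynomial.eval₂Hom (algebraMap Z.{u} (T K))
    (fun i => (1 : Aw.{u}) ⊗ₜ a i + tauT K * ((1 : Aw.{u}) ⊗ₜ (b i - a i)))

lemma linePoly_X (i : Fin (n + 1)) : linePoly n K a b (MvPolynomial.X i) =
    (1 : Aw.{u}) ⊗ₜ a i + tauT K * ((1 : Aw.{u}) ⊗ₜ (b i - a i)) := by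
  simp [linePoly]

lemma linePoly_self (hlin : IsLin n ℓ)
    (ha : MvPolynomial.eval₂ (algebraMap Z.{u} K) a ℓ = 1)
    (hb : MvPolynomial.eval₂ (algebraMap Z.{u} K) b ℓ = 1) :
    linePoly n K a b ℓ = 1 := by
  unfold linePoly
  rw [MvPolynomial.coe_eval₂Hom, hlin]
  have hinc : ∀ c : Fin (n + 1) → K,
      MvPolynomial.eval₂ (algebraMap Z.{u} (T K)) (fun i => (1 : Aw.{u}) ⊗ₜ c i) ℓ =
        (1 : Aw.{u}) ⊗ₜ (MvPolynomial.eval₂ (algebraMap Z.{u} K) c ℓ) := by
    intro c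
    have h1 := MvPolynomial.eval₂_comp_left
      (Algebra.TensorProduct.includeRight : K →ₐ[Z.{u}] T K).toRingHom (algebraMap Z.{u} K) c ℓ
    have h2 : (Algebra.TensorProduct.includeRight : K →ₐ[Z.{u}] T K).toRingHom.comp
        (algebraMap Z.{u} K) = algebraMap Z.{u} (T K) := ulift_int_hom_ext _ _
    rw [h2] at h1
    exact h1.symm
  have hsub : MvPolynomial.eval₂ (algebraMap Z.{u} K) (fun i => b i - a i) ℓ = 0 := by
    have h3 := hlin K (algebraMap Z.{u} K) a (fun i => b i - a i) 1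
    have h4 : (fun i => a i + 1 * (b i - a i)) = b := by
      funext i
      ring
    rw [h4, hb, ha, one_mul] at h3
    exact (add_eq_left.mp h3.symm)
  rw [hinc a, hinc (fun i => b i - a i), ha, hsub]
  simp
  rfl

/-- coordinates of a point of the chart -/
noncomputable def coords (ψ : TG.{u} n ℓ k →+* K) (i : Fin (n + 1)) : K :=
  ψ (xi n ℓ hℓ i ⊗ₜ 1)

lemma eval_coords (ψ : TG.{u} n ℓ k →+* K) :
    MvPolynomial.eval₂ (algebraMap Z.{u} K) (coords n ℓ hℓ k K ψ) ℓ = 1 := by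
  have h1 : (ψ.comp Algebra.TensorProduct.includeLeftRingHom).comp (dehom n ℓ hℓ) =
      MvPolynomial.eval₂Hom (algebraMap Z.{u} K) (coords n ℓ hℓ k K ψ) := by
    apply poly_hom_ext
    intro i
    simp [dehom_X, coords]
  have h2 := congrArg (fun φ => φ ℓ) h1
  simp only [RingHom.comp_apply, dehom_self, map_one] at h2
  exact h2.symm

/-- the line through `a` and `b` as a hom out of the chart ring -/
noncomputable def lineG (h1 : linePoly n K a b ℓ = 1) : TG.{u} n ℓ k →+* T K :=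
  (Algebra.TensorProduct.lift
    (toZAlgHom (evG n ℓ (linePoly n K a b) (h1 ▸ isUnit_one)))
    (toZAlgHom ((Algebra.TensorProduct.includeRight : K →ₐ[Z.{u}] T K).toRingHom.comp
      (algebraMap k K)))
    (fun _ _ => Commute.all _ _)).toRingHom

lemma lineG_tmul (h1 : linePoly n K a b ℓ = 1) (x : AwG.{u} n ℓ) (r : k) :
    lineG n ℓ k K a b h1 (x ⊗ₜ r) =
      evG n ℓ (linePoly n K a b) (h1 ▸ isUnit_one) x * ((1 : Aw.{u}) ⊗ₜ algebraMap k K r) := by
  unfold lineG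
  simp

lemma lineG_comp_includeRight (h1 : linePoly n K a b ℓ = 1) :
    (lineG n ℓ k K a b h1).comp
      (Algebra.TensorProduct.includeRight : k →ₐ[Z.{u}] TG.{u} n ℓ k).toRingHom =
    (Algebra.TensorProduct.includeRight : K →ₐ[Z.{u}] T K).toRingHom.comp (algebraMap k K) := by
  ext r
  simp [lineG_tmul]

lemma ptHom_comp_lineG (h1 : linePoly n K a b ℓ = 1) (c : K) (ψ : TG.{u} n ℓ k →+* K)
    (hψ : ψ.comp (Algebra.TensorProduct.includeRight : k →ₐ[Z.{u}] TG.{u} n ℓ k).toRingHom =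
      algebraMap k K)
    (hc : ∀ i, a i + c * (b i - a i) = coords n ℓ hℓ k K ψ i) :
    (ptHom K c).comp (lineG n ℓ k K a b h1) = ψ := by
  apply Algebra.TensorProduct.ringHom_ext
  · apply awG_hom_ext n ℓ hℓ
    intro i
    simp only [RingHom.comp_apply, Algebra.TensorProduct.includeLeftRingHom_apply]
    rw [lineG_tmul, map_one]
    have h2 := evG_xi_of_eq_one n ℓ hℓ (linePoly n K a b) (h1 ▸ isUnit_one) h1 i
    rw [h2, linePoly_X, map_mul, map_add, map_mul, ptHom_one_tmul, ptHom_one_tmul,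
      ptHom_tauT, ptHom_one_tmul, mul_one]
    exact hc i
  · ext r
    have h3 := congrArg (fun φ => φ r) hψ
    simp only [RingHom.comp_apply] at h3
    simp only [RingHom.comp_apply]
    rw [h3]
    simp [lineG_tmul, ptHom_one_tmul]

end Line

section ChartG

variable (k : Type u) [CommRing k]

/-- the chart `D₊(ℓ)` of `P^n_ℤ` -/
noncomputable def awayιG : Spec (CommRingCat.of (AwG.{u} n ℓ)) ⟶ CohB1.ProjSpace n Z.{u} :=
  Proj.awayι (CohB1.polyGrading n Z.{u}) ℓ hℓ one_pos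

instance : IsOpenImmersion (awayιG.{u} n ℓ hℓ) := by
  unfold awayιG
  exact inferInstanceAs
    (IsOpenImmersion (Proj.awayι (CohB1.polyGrading n Z.{u}) ℓ hℓ one_pos))

/-- the open `D₊(ℓ)` of `P^n_ℤ` -/
noncomputable def basicG : (CohB1.ProjSpace n Z.{u}).Opens :=
  show (Proj (CohB1.polyGrading n Z.{u})).Opens from Proj.basicOpen (CohB1.polyGrading n Z.{u}) ℓ

lemma range_awayιG : Set.range (awayιG.{u} n ℓ hℓ) = (basicG.{u} n ℓ : Set _) := by
  have h := Proj.opensRange_awayι (CohB1.polyGrading n Z.{u}) ℓ hℓ one_pos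
  exact congrArg (fun W : (Proj (CohB1.polyGrading n Z.{u})).Opens =>
    (W : Set (Proj (CohB1.polyGrading n Z.{u})))) h

/-- the chart `Spec (AwG ⊗ k) ⟶ P^n_k`, with unfolded target -/
noncomputable def chartG₀ : Spec (CommRingCat.of (TG.{u} n ℓ k)) ⟶
    pullback (CohB1.ProjSpace.toSpec n Z.{u})
      (specULiftZIsTerminal.from (Spec (CommRingCat.of k))) :=
  (pullbackSpecIso Z.{u} (AwG.{u} n ℓ) k).inv ≫
    pullback.map (Spec.map (CommRingCat.ofHom (algebraMap Z.{u} (AwG.{u} n ℓ))))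
      (Spec.map (CommRingCat.ofHom (algebraMap Z.{u} k)))
      (CohB1.ProjSpace.toSpec n Z.{u}) (specULiftZIsTerminal.from (Spec (CommRingCat.of k)))
      (awayιG n ℓ hℓ) (𝟙 _) (𝟙 _)
      (specULiftZIsTerminal.hom_ext _ _) (specULiftZIsTerminal.hom_ext _ _)

instance : IsOpenImmersion (chartG₀ n ℓ hℓ k) := by
  unfold chartG₀
  infer_instance

lemma chartG₀_snd : chartG₀ n ℓ hℓ k ≫ pullback.snd _ _ =
    Spec.map (CommRingCat.ofHom
      (Algebra.TensorProduct.includeRight : k →ₐ[Z.{u}] TG.{u} n ℓ k).toRingHom) := by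
  unfold chartG₀
  rw [Category.assoc, pullback.lift_snd, Category.comp_id, pullbackSpecIso_inv_snd]
  rfl

lemma range_chartG₀ : Set.range (chartG₀ n ℓ hℓ k) =
    (pullback.fst (CohB1.ProjSpace.toSpec n Z.{u})
      (specULiftZIsTerminal.from (Spec (CommRingCat.of k)))) ⁻¹' (basicG.{u} n ℓ : Set _) := by
  unfold chartG₀
  rw [← range_awayιG n ℓ hℓ]
  have h1 := Scheme.Pullback.range_map
    (Spec.map (CommRingCat.ofHom (algebraMap Z.{u} (AwG.{u} n ℓ))))
      (Spec.map (CommRingCat.ofHom (algebraMap Z.{u} k)))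
      (CohB1.ProjSpace.toSpec n Z.{u}) (specULiftZIsTerminal.from (Spec (CommRingCat.of k)))
      (awayιG n ℓ hℓ) (𝟙 _) (𝟙 _)
      (specULiftZIsTerminal.hom_ext _ _) (specULiftZIsTerminal.hom_ext _ _)
  ext x
  constructor
  · rintro ⟨y, rfl⟩
    have h2 : (pullback.map (Spec.map (CommRingCat.ofHom (algebraMap Z.{u} (AwG.{u} n ℓ))))
      (Spec.map (CommRingCat.ofHom (algebraMap Z.{u} k)))
      (CohB1.ProjSpace.toSpec n Z.{u}) (specULiftZIsTerminal.from (Spec (CommRingCat.of k)))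
      (awayιG n ℓ hℓ) (𝟙 _) (𝟙 _)
      (specULiftZIsTerminal.hom_ext _ _) (specULiftZIsTerminal.hom_ext _ _))
        ((pullbackSpecIso Z.{u} (AwG.{u} n ℓ) k).inv y) ∈ Set.range _ := ⟨_, rfl⟩
    rw [h1] at h2
    exact h2.1
  · intro hx
    have h2 : x ∈ Set.range (pullback.map (Spec.map (CommRingCat.ofHom (algebraMap Z.{u} (AwG.{u} n ℓ))))
      (Spec.map (CommRingCat.ofHom (algebraMap Z.{u} k)))
      (CohB1.ProjSpace.toSpec n Z.{u}) (specULiftZIsTerminal.from (Spec (CommRingCat.of k)))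
      (awayιG n ℓ hℓ) (𝟙 _) (𝟙 _)
      (specULiftZIsTerminal.hom_ext _ _) (specULiftZIsTerminal.hom_ext _ _)) := by
      rw [h1]
      exact ⟨hx, by simp⟩
    obtain ⟨y, rfl⟩ := h2
    refine ⟨(pullbackSpecIso Z.{u} (AwG.{u} n ℓ) k).hom y, ?_⟩
    rw [← Scheme.Hom.comp_apply, Iso.hom_inv_id_assoc]

/-- projection `P^n_S ⟶ P^n_ℤ` -/
noncomputable def toPn (S : Scheme.{u}) : CohB1.ProjSpaceOver n S ⟶ CohB1.ProjSpace n Z.{u} :=
  pullback.fst _ _

/-- the chart `Spec (AwG ⊗ k) ⟶ P^n_k` -/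
noncomputable def chartG : Spec (CommRingCat.of (TG.{u} n ℓ k)) ⟶
    CohB1.ProjSpaceOver n (Spec (CommRingCat.of k)) := chartG₀ n ℓ hℓ k

instance : IsOpenImmersion (chartG n ℓ hℓ k) :=
  inferInstanceAs (IsOpenImmersion (chartG₀ n ℓ hℓ k))

@[reassoc]
lemma chartG_toBase : chartG n ℓ hℓ k ≫ CohB1.ProjSpaceOver.toBase n (Spec (CommRingCat.of k)) =
    Spec.map (CommRingCat.ofHom
      (Algebra.TensorProduct.includeRight : k →ₐ[Z.{u}] TG.{u} n ℓ k).toRingHom) :=
  chartG₀_snd n ℓ hℓ k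

lemma range_chartG : Set.range (chartG n ℓ hℓ k) =
    (toPn n (Spec (CommRingCat.of k))) ⁻¹' (basicG.{u} n ℓ : Set _) :=
  range_chartG₀ n ℓ hℓ k

end ChartG

section Link

variable (k K : Type u) [CommRing k] [CommRing K] [Algebra k K]

theorem exists_link' {R : Type u} [CommRing R] (σ : k →+* R)
    (V : (Spec (CommRingCat.of R)).Opens) (L : R →+* T K)
    (hσ : L.comp σ =
      (Algebra.TensorProduct.includeRight : K →ₐ[Z.{u}] T K).toRingHom.comp (algebraMap k K))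
    (h0 : Set.range (Spec.map (CommRingCat.ofHom ((ptHom K 0).comp L))) ⊆ (V : Set _))
    (h1 : Set.range (Spec.map (CommRingCat.ofHom ((ptHom K 1).comp L))) ⊆ (V : Set _)) :
    ∃ (U' : (CohB1.ProjSpaceOver 1 (Spec (CommRingCat.of K))).Opens)
      (h : (U' : Scheme.{u}) ⟶ (V : Scheme.{u}))
      (a' b' : Spec (CommRingCat.of K) ⟶ (U' : Scheme.{u})),
      h ≫ V.ι ≫ Spec.map (CommRingCat.ofHom σ) =
        U'.ι ≫ CohB1.ProjSpaceOver.toBase 1 (Spec (CommRingCat.of K)) ≫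
          Spec.map (CommRingCat.ofHom (algebraMap k K)) ∧
      a' ≫ U'.ι ≫ CohB1.ProjSpaceOver.toBase 1 (Spec (CommRingCat.of K)) = 𝟙 _ ∧
      b' ≫ U'.ι ≫ CohB1.ProjSpaceOver.toBase 1 (Spec (CommRingCat.of K)) = 𝟙 _ ∧
      a' ≫ h ≫ V.ι = Spec.map (CommRingCat.ofHom ((ptHom K 0).comp L)) ∧
      b' ≫ h ≫ V.ι = Spec.map (CommRingCat.ofHom ((ptHom K 1).comp L)) := by
  set Ls : Spec (CommRingCat.of (T K)) ⟶ Spec (CommRingCat.of R) :=
    Spec.map (CommRingCat.ofHom L) with hL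
  have hpL : ∀ c : K, pt K c ≫ Ls = Spec.map (CommRingCat.ofHom ((ptHom K c).comp L)) := by
    intro c
    rw [hL, pt, ← Spec.map_comp, ← CommRingCat.ofHom_comp]
  have hr : ∀ (c : K), Set.range (pt K c ≫ Ls) ⊆ (V : Set _) →
      Set.range (pt K c) ⊆ Set.range (Ls ⁻¹ᵁ V).ι := by
    intro c hc
    rintro _ ⟨x, rfl⟩
    rw [Scheme.Opens.range_ι]
    exact hc ⟨x, rfl⟩
  have hr0 := hr 0 (by rw [hpL]; exact h0)
  have hr1 := hr 1 (by rw [hpL]; exact h1)
  refine ⟨chart K ''ᵁ (Ls ⁻¹ᵁ V), ((chart K).isoImage (Ls ⁻¹ᵁ V)).inv ≫ (Ls ∣_ V),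
    IsOpenImmersion.lift (Ls ⁻¹ᵁ V).ι (pt K 0) hr0 ≫ ((chart K).isoImage (Ls ⁻¹ᵁ V)).hom,
    IsOpenImmersion.lift (Ls ⁻¹ᵁ V).ι (pt K 1) hr1 ≫ ((chart K).isoImage (Ls ⁻¹ᵁ V)).hom,
    ?_, ?_, ?_, ?_, ?_⟩
  · rw [Category.assoc, morphismRestrict_ι_assoc, ← Scheme.Hom.isoImage_inv_ι (chart K) (Ls ⁻¹ᵁ V)]
    simp only [Category.assoc]
    congr 2
    rw [hL, ← Spec.map_comp, ← CommRingCat.ofHom_comp, chart_toBase_assoc, ← Spec.map_comp,
      ← CommRingCat.ofHom_comp]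
    congr 2
  · rw [Category.assoc, Scheme.Hom.isoImage_hom_ι_assoc, IsOpenImmersion.lift_fac_assoc]
    exact pt_chart_toBase K 0
  · rw [Category.assoc, Scheme.Hom.isoImage_hom_ι_assoc, IsOpenImmersion.lift_fac_assoc]
    exact pt_chart_toBase K 1
  · rw [Category.assoc, Category.assoc, Iso.hom_inv_id_assoc, morphismRestrict_ι,
      IsOpenImmersion.lift_fac_assoc, hpL]
  · rw [Category.assoc, Category.assoc, Iso.hom_inv_id_assoc, morphismRestrict_ι,
      IsOpenImmersion.lift_fac_assoc, hpL]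

end Link

end Groth.Agent.Lib27.PnChart
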