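import Groth.Agent.Lib27.Sch.PnChart
import Groth.Prelude.Def_W4c5nonratstablectREq

/-!
# Direct R-links between points of an open of `P^n_k` lying in a common degree-one chart
-/

set_option autoImplicit false
universe u
open CategoryTheory CategoryTheory.Limits AlgebraicGeometry HomogeneousLocalization TensorProduct

namespace Groth.Agent.Lib27.PnChart

open Groth.Agent.Lib27.P1Chart

attribute [local instance] ULift.algebra'

theorem elemLink_of_mem_chart (k : Type u) [Field k] (n : ℕ) (ℓ : P.{u} n)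
    (hℓ : ℓ ∈ CohB1.polyGrading n Z.{u} 1) (hlin : IsLin n ℓ)
    (V : (CohB1.ProjSpaceOver n (Spec (CommRingCat.of k))).Opens) (K : Type u) [Field K]
    [Algebra k K]
    (A B : REq.Pts (V.ι ≫ CohB1.ProjSpaceOver.toBase n (Spec (CommRingCat.of k))) K)
    (hA : Set.range (A.1 ≫ V.ι) ⊆ Set.range (chartG n ℓ hℓ k))
    (hB : Set.range (B.1 ≫ V.ι) ⊆ Set.range (chartG n ℓ hℓ k)) :
    REq.ElemLink (V.ι ≫ CohB1.ProjSpaceOver.toBase n (Spec (CommRingCat.of k))) K A B := by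
  have key : ∀ (C : REq.Pts (V.ι ≫ CohB1.ProjSpaceOver.toBase n (Spec (CommRingCat.of k))) K)
      (hC : Set.range (C.1 ≫ V.ι) ⊆ Set.range (chartG n ℓ hℓ k)),
      ∃ ψ : TG.{u} n ℓ k →+* K,
        Spec.map (CommRingCat.ofHom ψ) ≫ chartG n ℓ hℓ k = C.1 ≫ V.ι ∧
        ψ.comp (Algebra.TensorProduct.includeRight : k →ₐ[Z.{u}] TG.{u} n ℓ k).toRingHom =
          algebraMap k K := by
    intro C hC
    have hαf : IsOpenImmersion.lift (chartG n ℓ hℓ k) (C.1 ≫ V.ι) hC ≫ chartG n ℓ hℓ k =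
        C.1 ≫ V.ι := IsOpenImmersion.lift_fac _ _ _
    obtain ⟨ψ, hψ⟩ := Spec.map_surjective (IsOpenImmersion.lift (chartG n ℓ hℓ k) (C.1 ≫ V.ι) hC)
    refine ⟨ψ.hom, ?_, ?_⟩
    · rw [CommRingCat.ofHom_hom, hψ, hαf]
    · have h1 : Spec.map ψ ≫ chartG n ℓ hℓ k ≫
          CohB1.ProjSpaceOver.toBase n (Spec (CommRingCat.of k)) = REq.specMap k K := by
        rw [hψ, reassoc_of% hαf]
        exact C.2
      rw [chartG_toBase, ← Spec.map_comp] at h1
      have h2 := Spec.map_injective h1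
      ext r
      exact congrArg (fun φ => φ.hom r) h2
  obtain ⟨ψA, hψA, hψA'⟩ := key A hA
  obtain ⟨ψB, hψB, hψB'⟩ := key B hB
  set a := coords n ℓ hℓ k K ψA with ha
  set b := coords n ℓ hℓ k K ψB with hb
  have h1 : linePoly n K a b ℓ = 1 :=
    linePoly_self n ℓ K a b hlin (eval_coords n ℓ hℓ k K ψA) (eval_coords n ℓ hℓ k K ψB)
  have hL0 : (ptHom K 0).comp (lineG n ℓ k K a b h1) = ψA :=
    ptHom_comp_lineG n ℓ hℓ k K a b h1 0 ψA hψA' (fun i => by rw [zero_mul, add_zero])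
  have hL1 : (ptHom K 1).comp (lineG n ℓ k K a b h1) = ψB :=
    ptHom_comp_lineG n ℓ hℓ k K a b h1 1 ψB hψB' (fun i => by ring)
  have hr : ∀ (C : REq.Pts (V.ι ≫ CohB1.ProjSpaceOver.toBase n (Spec (CommRingCat.of k))) K)
      (ψ : TG.{u} n ℓ k →+* K),
      Spec.map (CommRingCat.ofHom ψ) ≫ chartG n ℓ hℓ k = C.1 ≫ V.ι →
      Set.range (Spec.map (CommRingCat.ofHom ψ)) ⊆ ((chartG n ℓ hℓ k ⁻¹ᵁ V : _) : Set _) := by
    intro C ψ hψ
    rintro _ ⟨x, rfl⟩
    change (Spec.map (CommRingCat.ofHom ψ) ≫ chartG n ℓ hℓ k) x ∈ (V : Set _)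
    rw [hψ]
    have h2 : (C.1 ≫ V.ι) x ∈ Set.range V.ι := ⟨C.1 x, by simp⟩
    rw [Scheme.Opens.range_ι] at h2
    exact h2
  have h0' := hr A ψA hψA
  have h1' := hr B ψB hψB
  rw [← hL0] at h0'
  rw [← hL1] at h1'
  obtain ⟨U', h, a', b', e1, e2, e3, e4, e5⟩ := exists_link' k K
    (Algebra.TensorProduct.includeRight : k →ₐ[Z.{u}] TG.{u} n ℓ k).toRingHom
    (chartG n ℓ hℓ k ⁻¹ᵁ V) (lineG n ℓ k K a b h1) (lineG_comp_includeRight n ℓ k K a b h1)
    h0' h1'
  refine ⟨U', h ≫ (chartG n ℓ hℓ k ∣_ V), a', b', ?_, e2, e3, ?_, ?_⟩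
  · rw [Category.assoc, morphismRestrict_ι_assoc, chartG_toBase]
    exact e1
  · rw [← cancel_mono V.ι]
    simp only [Category.assoc]
    rw [morphismRestrict_ι, reassoc_of% e4, hL0, hψA]
  · rw [← cancel_mono V.ι]
    simp only [Category.assoc]
    rw [morphismRestrict_ι, reassoc_of% e5, hL1, hψB]

section Cover

variable (n : ℕ)

lemma iSup_basicOpen_X_eq_top :
    ⨆ i : Fin (n + 1), Proj.basicOpen (CohB1.polyGrading n Z.{u}) (MvPolynomial.X i) = ⊤ := by
  apply Proj.iSup_basicOpen_eq_top' (CohB1.polyGrading n Z.{u}) (fun i => MvPolynomial.X i)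
  · intro i
    exact ⟨1, MvPolynomial.isHomogeneous_X _ i⟩
  · rw [eq_top_iff]
    intro p hp0
    clear hp0
    induction p using MvPolynomial.induction_on with
    | C a =>
      have : (MvPolynomial.C a : MvPolynomial (Fin (n + 1)) Z.{u}) =
          algebraMap (CohB1.polyGrading n Z.{u} 0) _
            ⟨MvPolynomial.C a, MvPolynomial.isHomogeneous_C _ a⟩ := rfl
      rw [this]
      exact Subalgebra.algebraMap_mem _ _
    | add p q hp hq => exact Subalgebra.add_mem _ hp hq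
    | mul_X p i hp =>
      exact Subalgebra.mul_mem _ hp (Algebra.subset_adjoin ⟨i, rfl⟩)

lemma exists_mem_basicG_X (q : CohB1.ProjSpace n Z.{u}) :
    ∃ i : Fin (n + 1), q ∈ basicG.{u} n (MvPolynomial.X i) := by
  have h : (show Proj (CohB1.polyGrading n Z.{u}) from q) ∈
      ⨆ i : Fin (n + 1), Proj.basicOpen (CohB1.polyGrading n Z.{u}) (MvPolynomial.X i) := by
    rw [iSup_basicOpen_X_eq_top]
    trivial
  exact TopologicalSpace.Opens.mem_iSup.mp h

lemma mem_basicG_add_left (q : CohB1.ProjSpace n Z.{u}) (f g : P.{u} n)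
    (hf : q ∈ basicG.{u} n f) (hg : q ∉ basicG.{u} n g) : q ∈ basicG.{u} n (f + g) := by
  change f ∉ (show Proj (CohB1.polyGrading n Z.{u}) from q).asHomogeneousIdeal at hf
  change ¬ (g ∉ (show Proj (CohB1.polyGrading n Z.{u}) from q).asHomogeneousIdeal) at hg
  change f + g ∉ (show Proj (CohB1.polyGrading n Z.{u}) from q).asHomogeneousIdeal
  rw [not_not] at hg
  intro h
  apply hf
  have h2 := (show Proj (CohB1.polyGrading n Z.{u}) from q).asHomogeneousIdeal.toIdeal.sub_mem h hg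
  simpa using h2

lemma mem_basicG_add_right (q : CohB1.ProjSpace n Z.{u}) (f g : P.{u} n)
    (hf : q ∉ basicG.{u} n f) (hg : q ∈ basicG.{u} n g) : q ∈ basicG.{u} n (f + g) := by
  rw [add_comm]
  exact mem_basicG_add_left n q g f hg hf

end Cover

theorem elemLink_projSpace (k : Type u) [Field k] (n : ℕ)
    (V : (CohB1.ProjSpaceOver n (Spec (CommRingCat.of k))).Opens) (K : Type u) [Field K]
    [Algebra k K]
    (A B : REq.Pts (V.ι ≫ CohB1.ProjSpaceOver.toBase n (Spec (CommRingCat.of k))) K) :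
    REq.ElemLink (V.ι ≫ CohB1.ProjSpaceOver.toBase n (Spec (CommRingCat.of k))) K A B := by
  have hne : Nonempty (PrimeSpectrum K) := inferInstance
  obtain ⟨x₀⟩ := hne
  have hsub : ∀ x : Spec (CommRingCat.of K), x = x₀ := fun x =>
    Subsingleton.elim (α := PrimeSpectrum K) _ _
  have hcrit : ∀ (ℓ : P.{u} n) (hℓ : ℓ ∈ CohB1.polyGrading n Z.{u} 1)
      (C : REq.Pts (V.ι ≫ CohB1.ProjSpaceOver.toBase n (Spec (CommRingCat.of k))) K),
      toPn n (Spec (CommRingCat.of k)) ((C.1 ≫ V.ι) x₀) ∈ basicG.{u} n ℓ →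
      Set.range (C.1 ≫ V.ι) ⊆ Set.range (chartG n ℓ hℓ k) := by
    intro ℓ hℓ C hC
    rintro _ ⟨x, rfl⟩
    rw [hsub x, range_chartG]
    exact hC
  obtain ⟨i, hi⟩ := exists_mem_basicG_X n (toPn n (Spec (CommRingCat.of k)) ((A.1 ≫ V.ι) x₀))
  obtain ⟨j, hj⟩ := exists_mem_basicG_X n (toPn n (Spec (CommRingCat.of k)) ((B.1 ≫ V.ι) x₀))
  by_cases h1 : toPn n (Spec (CommRingCat.of k)) ((A.1 ≫ V.ι) x₀) ∈
      basicG.{u} n (MvPolynomial.X j)
  · exact elemLink_of_mem_chart k n (MvPolynomial.X j) (MvPolynomial.isHomogeneous_X _ _)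
      (isLin_X n j) V K A B (hcrit _ _ A h1) (hcrit _ _ B hj)
  by_cases h2 : toPn n (Spec (CommRingCat.of k)) ((B.1 ≫ V.ι) x₀) ∈
      basicG.{u} n (MvPolynomial.X i)
  · exact elemLink_of_mem_chart k n (MvPolynomial.X i) (MvPolynomial.isHomogeneous_X _ _)
      (isLin_X n i) V K A B (hcrit _ _ A hi) (hcrit _ _ B h2)
  · exact elemLink_of_mem_chart k n (MvPolynomial.X i + MvPolynomial.X j)
      ((MvPolynomial.isHomogeneous_X _ _).add (MvPolynomial.isHomogeneous_X _ _))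
      (isLin_X_add_X n i j) V K A B
      (hcrit _ _ A (mem_basicG_add_left n _ _ _ hi h1))
      (hcrit _ _ B (mem_basicG_add_right n _ _ _ h2 hj))

end Groth.Agent.Lib27.PnChart
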