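import Mathlib
open CategoryTheory AlgebraicGeometry Limits

universe u

namespace Groth.Agent.Lib27.ProdSurj

/-- every extension `L` of `κ` embeds into the universal domain built on any set of variables
into which a transcendence basis of `L` injects. -/
theorem exists_algHom_univ {κ : Type u} [Field κ] (J : Type u) (L : Type u) [Field L] [Algebra κ L]
    (ι : L → J) (hι : Function.Injective ι) :
    Nonempty (L →ₐ[κ] AlgebraicClosure (FractionRing (MvPolynomial J κ))) := by
  obtain ⟨B, hB⟩ := exists_isTranscendenceBasis κ L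
  let A₀ := Algebra.adjoin κ (Set.range (Subtype.val : B → L))
  let e : MvPolynomial B κ ≃ₐ[κ] A₀ := hB.1.aevalEquiv
  let j : MvPolynomial B κ →ₐ[κ] MvPolynomial J κ := MvPolynomial.rename (fun b => ι b.1)
  have hj : Function.Injective j :=
    MvPolynomial.rename_injective _ (fun a b h => Subtype.ext (hι h))
  let Ω := AlgebraicClosure (FractionRing (MvPolynomial J κ))
  let φ₀ : A₀ →ₐ[κ] Ω := (IsScalarTower.toAlgHom κ (MvPolynomial J κ) Ω).comp (j.comp e.symm.toAlgHom)
  have hφ₀ : Function.Injective φ₀ := by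
    have h1 : Function.Injective (algebraMap (MvPolynomial J κ) Ω) := by
      rw [IsScalarTower.algebraMap_eq (MvPolynomial J κ) (FractionRing (MvPolynomial J κ)) Ω]
      exact (FaithfulSMul.algebraMap_injective (FractionRing (MvPolynomial J κ)) Ω).comp
        (IsFractionRing.injective _ _)
    exact h1.comp (hj.comp e.symm.injective)
  let _ : Algebra A₀ Ω := φ₀.toRingHom.toAlgebra
  have : IsScalarTower κ A₀ Ω := IsScalarTower.of_algebraMap_eq (fun r => (φ₀.commutes r).symm)
  have : Algebra.IsAlgebraic A₀ L := hB.isAlgebraic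
  have : Module.IsTorsionFree A₀ Ω := by
    have : FaithfulSMul A₀ Ω := (faithfulSMul_iff_algebraMap_injective A₀ Ω).mpr hφ₀
    infer_instance
  let ψ : L →ₐ[A₀] Ω := IsAlgClosed.lift
  exact ⟨ψ.restrictScalars κ⟩


theorem main {S : Scheme.{u}} {I : Type u} (T : I → Over S)
    (hT : ∀ i, Surjective (T i).hom) (c : Limits.Fan T) (hc : Limits.IsLimit c) :
    Surjective c.pt.hom := by
  constructor
  intro s
  let κ := S.residueField s
  let pt : Spec κ := IsLocalRing.closedPoint κ
  have hw : ∀ i, ∃ w : ↑(pullback (T i).hom (S.fromSpecResidueField s)),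
      (pullback.snd (T i).hom (S.fromSpecResidueField s)).base w = pt :=
    fun i => (pullback.snd (T i).hom (S.fromSpecResidueField s)).surjective pt
  choose w _ using hw
  let L : I → CommRingCat.{u} := fun i =>
    (pullback (T i).hom (S.fromSpecResidueField s)).residueField (w i)
  let a : ∀ i, Spec (L i) ⟶ (T i).left := fun i =>
    (pullback (T i).hom (S.fromSpecResidueField s)).fromSpecResidueField (w i) ≫ pullback.fst _ _
  let b : ∀ i, Spec (L i) ⟶ Spec κ := fun i =>
    (pullback (T i).hom (S.fromSpecResidueField s)).fromSpecResidueField (w i) ≫ pullback.snd _ _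
  have hab : ∀ i, a i ≫ (T i).hom = b i ≫ S.fromSpecResidueField s := fun i => by
    simp only [a, b, Category.assoc, pullback.condition]
  let m : ∀ i, κ ⟶ L i := fun i => Spec.preimage (b i)
  have hm : ∀ i, Spec.map (m i) = b i := fun i => Spec.map_preimage _
  let _ : ∀ i, Algebra κ (L i) := fun i => (m i).hom.toAlgebra
  let J := Σ i, L i
  let Ω := AlgebraicClosure (FractionRing (MvPolynomial J κ))
  have hψ : ∀ i, Nonempty (L i →ₐ[κ] Ω) := fun i =>
    exists_algHom_univ J (L i) (fun l => (⟨i, l⟩ : J)) (fun l l' h => by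
      have := Sigma.mk.inj h
      exact eq_of_heq this.2)
  let ψ : ∀ i, L i →ₐ[κ] Ω := fun i => (hψ i).some
  let q : ∀ i, Spec (CommRingCat.of Ω) ⟶ (T i).left := fun i =>
    Spec.map (CommRingCat.ofHom (ψ i).toRingHom) ≫ a i
  let q₀ : Spec (CommRingCat.of Ω) ⟶ S :=
    Spec.map (CommRingCat.ofHom (algebraMap κ Ω)) ≫ S.fromSpecResidueField s
  have hq : ∀ i, q i ≫ (T i).hom = q₀ := fun i => by
    simp only [q, q₀, Category.assoc, hab, ← hm]
    rw [← Category.assoc, ← Spec.map_comp]
    congr 2
    ext r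
    exact (ψ i).commutes r
  let fan : Fan T := Fan.mk (Over.mk q₀) (fun i => Over.homMk (q i) (hq i))
  let l : Over.mk q₀ ⟶ c.pt := hc.lift fan
  have hl : l.left ≫ c.pt.hom = q₀ := Over.w l
  refine ⟨l.left.base (IsLocalRing.closedPoint Ω), ?_⟩
  have e1 : c.pt.hom.base (l.left.base (IsLocalRing.closedPoint Ω)) =
    (l.left ≫ c.pt.hom).base (IsLocalRing.closedPoint Ω) := rfl
  rw [e1, hl]
  exact Scheme.fromSpecResidueField_apply s _

end Groth.Agent.Lib27.ProdSurj
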