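import Groth.Agent.Lib.Helper22.DimZeroScheme
import Mathlib.AlgebraicGeometry.Morphisms.Integral
import Mathlib.AlgebraicGeometry.Fiber
import Mathlib.AlgebraicGeometry.PullbackCarrier
import Mathlib.Topology.Maps.Proper.Basic

/-!
# Profinite-type algebras over a field

`A` is a `k`-algebra in which every finite subset lies in a subalgebra isomorphic to `kⁿ`.
Then every prime of `A` is the kernel of a `k`-algebra character `A → k`, `Spec A` is Hausdorff,
and `|Spec A ×ₖ X| → |Spec A| × |X|` is a homeomorphism.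
-/

set_option autoImplicit false
universe u
open CategoryTheory CategoryTheory.Limits AlgebraicGeometry

namespace Groth.Agent.Lib27.ProfinAlg

section Alg

variable (k : Type u) [Field k] (A : Type u) [CommRing A] [Algebra k A]

/-- the hypothesis -/
def IsProfin : Prop :=
  ∀ s : Finset A, ∃ (B : Subalgebra k A) (n : ℕ), (↑s : Set A) ⊆ (B : Set A) ∧
    Nonempty (B ≃ₐ[k] (Fin n → k))

variable {k A}

lemma exists_prod_eq_zero (hA : IsProfin k A) (a : A) :
    ∃ (n : ℕ) (v : Fin n → k), ∏ i : Fin n, (a - algebraMap k A (v i)) = 0 := by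
  obtain ⟨B, n, hs, ⟨e⟩⟩ := hA {a}
  have haB : a ∈ B := hs (by simp)
  refine ⟨n, e ⟨a, haB⟩, ?_⟩
  have h0 : ∏ i : Fin n, (e ⟨a, haB⟩ - algebraMap k (Fin n → k) (e ⟨a, haB⟩ i)) = 0 := by
    funext j
    rw [Finset.prod_apply]
    apply Finset.prod_eq_zero (Finset.mem_univ j)
    simp
  have h1 : ∏ i : Fin n, ((⟨a, haB⟩ : B) - algebraMap k B (e ⟨a, haB⟩ i)) = 0 := by
    apply e.injective
    rw [map_prod, map_zero, ← h0]
    refine Finset.prod_congr rfl fun i _ => ?_
    rw [map_sub, AlgEquiv.commutes]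
  have h2 := congrArg B.val h1
  rw [map_prod, map_zero] at h2
  rw [← h2]
  refine Finset.prod_congr rfl fun i _ => ?_
  rw [map_sub, AlgHom.commutes]
  rfl

lemma exists_sub_mem (hA : IsProfin k A) (p : Ideal A) [p.IsPrime] (a : A) :
    ∃ c : k, a - algebraMap k A c ∈ p := by
  obtain ⟨n, v, hv⟩ := exists_prod_eq_zero hA a
  have h3 : ∏ i : Fin n, (a - algebraMap k A (v i)) ∈ p := hv ▸ p.zero_mem
  obtain ⟨i, -, hi⟩ := (Ideal.IsPrime.prod_mem_iff).mp h3
  exact ⟨v i, hi⟩

lemma isIntegral (hA : IsProfin k A) : Algebra.IsIntegral k A := by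
  refine ⟨fun a => ?_⟩
  obtain ⟨n, v, hv⟩ := exists_prod_eq_zero hA a
  refine ⟨∏ i : Fin n, (Polynomial.X - Polynomial.C (v i)), ?_, ?_⟩
  · exact Polynomial.monic_prod_of_monic _ _ fun i _ => Polynomial.monic_X_sub_C _
  · rw [Polynomial.eval₂_finset_prod, ← hv]
    refine Finset.prod_congr rfl fun i _ => ?_
    simp

lemma bijective_algebraMap_quotient (hA : IsProfin k A) (p : Ideal A) [p.IsPrime] :
    Function.Bijective (algebraMap k (A ⧸ p)) := by
  refine ⟨(algebraMap k (A ⧸ p)).injective, fun x => ?_⟩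
  obtain ⟨a, rfl⟩ := Ideal.Quotient.mk_surjective x
  obtain ⟨c, hc⟩ := exists_sub_mem hA p a
  refine ⟨c, ?_⟩
  rw [IsScalarTower.algebraMap_apply k A (A ⧸ p), Ideal.Quotient.algebraMap_eq]
  exact (Ideal.Quotient.eq.mpr hc).symm

/-- the character with kernel `p` -/
noncomputable def chi (hA : IsProfin k A) (p : Ideal A) [p.IsPrime] : A →ₐ[k] k :=
  ((AlgEquiv.ofBijective (Algebra.ofId k (A ⧸ p))
    (bijective_algebraMap_quotient hA p)).symm : (A ⧸ p) →ₐ[k] k).comp (Ideal.Quotient.mkₐ k p)

lemma chi_eq_zero_iff (hA : IsProfin k A) (p : Ideal A) [p.IsPrime] (a : A) :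
    chi hA p a = 0 ↔ a ∈ p := by
  show (AlgEquiv.ofBijective (Algebra.ofId k (A ⧸ p))
    (bijective_algebraMap_quotient hA p)).symm (Ideal.Quotient.mk p a) = 0 ↔ _
  rw [map_eq_zero_iff _ (AlgEquiv.injective _), Ideal.Quotient.eq_zero_iff_mem]

lemma ker_chi (hA : IsProfin k A) (p : Ideal A) [p.IsPrime] :
    RingHom.ker (chi hA p : A →+* k) = p := by
  ext a
  rw [RingHom.mem_ker]
  exact chi_eq_zero_iff hA p a

lemma isMaximal_of_isPrime (hA : IsProfin k A) (p : Ideal A) [p.IsPrime] : p.IsMaximal := by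
  rw [← ker_chi hA p]
  refine RingHom.ker_isMaximal_of_surjective _ fun c => ⟨algebraMap k A c, ?_⟩
  exact (chi hA p).commutes c

end Alg

section Sch

variable {k : Type u} [Field k] {A : Type u} [CommRing A] [Algebra k A]

lemma specializes_eq (hA : IsProfin k A) (x y : Spec (CommRingCat.of A)) (h : x ⤳ y) : x = y := by
  have hle : x.asIdeal ≤ y.asIdeal := (PrimeSpectrum.le_iff_specializes x y).mpr h
  have hmax := isMaximal_of_isPrime hA x.asIdeal
  exact PrimeSpectrum.ext (hmax.eq_of_le y.isPrime.ne_top hle)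

lemma t2Space (hA : IsProfin k A) : T2Space (Spec (CommRingCat.of A)) :=
  (Groth.Agent.Lib.Helper22.affine_profinite _ (specializes_eq hA)).1.1

/-- the `k`-point of `Spec A` at the point `s` -/
noncomputable def sigma (hA : IsProfin k A) (s : Spec (CommRingCat.of A)) :
    Spec (CommRingCat.of k) ⟶ Spec (CommRingCat.of A) :=
  Spec.map (CommRingCat.ofHom (chi hA s.asIdeal : A →+* k))

lemma sigma_comp (hA : IsProfin k A) (s : Spec (CommRingCat.of A)) :
    sigma hA s ≫ Spec.map (CommRingCat.ofHom (algebraMap k A)) = 𝟙 _ := by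
  unfold sigma
  rw [← Spec.map_comp, ← CommRingCat.ofHom_comp]
  have : (chi hA s.asIdeal : A →+* k).comp (algebraMap k A) = RingHom.id k := by
    ext c; exact (chi hA s.asIdeal).commutes c
  rw [this]
  exact Spec.map_id _

lemma sigma_apply (hA : IsProfin k A) (s : Spec (CommRingCat.of A))
    (y : Spec (CommRingCat.of k)) : sigma hA s y = s := by
  apply PrimeSpectrum.ext
  have hy : y.asIdeal = ⊥ := Ideal.eq_bot_of_prime y.asIdeal
  show Ideal.comap (chi hA s.asIdeal : A →+* k) y.asIdeal = s.asIdeal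
  rw [hy]
  exact ker_chi hA s.asIdeal

variable (hA : IsProfin k A) (X : Scheme.{u}) (f : X ⟶ Spec (CommRingCat.of k))

local notation "gA" => Spec.map (CommRingCat.ofHom (algebraMap k A))

/-- the section `X → Spec A ×ₖ X` at `s` -/
noncomputable def sec (s : Spec (CommRingCat.of A)) :
    X ⟶ pullback gA f :=
  pullback.lift (f ≫ sigma hA s) (𝟙 X)
    (by rw [Category.assoc, sigma_comp, Category.comp_id, Category.id_comp])

lemma sec_fst (s : Spec (CommRingCat.of A)) :
    sec hA X f s ≫ pullback.fst gA f = f ≫ sigma hA s := pullback.lift_fst _ _ _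

lemma sec_snd (s : Spec (CommRingCat.of A)) :
    sec hA X f s ≫ pullback.snd gA f = 𝟙 X := pullback.lift_snd _ _ _

lemma isPullback_sec (s : Spec (CommRingCat.of A)) :
    IsPullback (sec hA X f s) f (pullback.fst gA f) (sigma hA s) := by
  refine IsPullback.of_right ?_ (sec_fst hA X f s)
    (IsPullback.of_hasPullback gA f).flip
  rw [sec_snd, sigma_comp]
  exact IsPullback.id_horiz f

lemma sec_apply_fst (s : Spec (CommRingCat.of A)) (x : X) :
    pullback.fst gA f (sec hA X f s x) = s := by
  rw [← Scheme.Hom.comp_apply, sec_fst, Scheme.Hom.comp_apply, sigma_apply]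

lemma sec_apply_snd (s : Spec (CommRingCat.of A)) (x : X) :
    pullback.snd gA f (sec hA X f s x) = x := by
  rw [← Scheme.Hom.comp_apply, sec_snd]
  rfl

lemma eq_sec' (s : Spec (CommRingCat.of A)) (z : ↑(pullback gA f))
    (h : pullback.fst gA f z = s) :
    z = sec hA X f s (pullback.snd gA f z) := by
  have hpb := isPullback_sec hA X f s
  obtain ⟨w, hw1, -⟩ := Scheme.Pullback.exists_preimage_pullback
    (f := pullback.fst gA f) (g := sigma hA s)
    z (f (pullback.snd gA f z)) (by rw [sigma_apply, h])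
  have hz : sec hA X f s (hpb.isoPullback.inv w) = z := by
    rw [← Scheme.Hom.comp_apply, hpb.isoPullback_inv_fst, hw1]
  have h2 : hpb.isoPullback.inv w = pullback.snd gA f z := by
    conv_rhs => rw [← hz]
    rw [sec_apply_snd]
  rw [← h2, hz]

lemma eq_sec (z : ↑(pullback gA f)) :
    z = sec hA X f (pullback.fst gA f z) (pullback.snd gA f z) :=
  eq_sec' hA X f _ z rfl

include hA in
lemma bijective :
    Function.Bijective (fun p : ↑(pullback gA f) =>
      (pullback.fst gA f p, pullback.snd gA f p)) := by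
  constructor
  · intro z₁ z₂ h
    simp only [Prod.mk.injEq] at h
    rw [eq_sec hA X f z₁, eq_sec hA X f z₂, h.1, h.2]
  · rintro ⟨s, x⟩
    exact ⟨sec hA X f s x, Prod.ext (sec_apply_fst hA X f s x) (sec_apply_snd hA X f s x)⟩

include hA in
lemma isProperMap_snd :
    IsProperMap (fun p : ↑(pullback gA f) => pullback.snd gA f p) := by
  have hint : IsIntegralHom gA := by
    rw [IsIntegralHom.SpecMap_iff]
    have := isIntegral hA
    exact algebraMap_isIntegral_iff.mpr this
  rw [isProperMap_iff_isClosedMap_and_compact_fibers]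
  refine ⟨(pullback.snd gA f).continuous, (pullback.snd gA f).isClosedMap, fun x => ?_⟩
  exact isCompact_iff_compactSpace.mpr
    ((pullback.snd gA f).fiberHomeo x).compactSpace

include hA in
theorem isHomeomorph :
    IsHomeomorph (fun p : ↑(pullback gA f) =>
      (pullback.fst gA f p, pullback.snd gA f p)) := by
  have := t2Space hA
  have hemb : Topology.IsClosedEmbedding
      (fun z : ↑(pullback gA f) => (z, pullback.fst gA f z)) := by
    refine ⟨isEmbedding_graph (pullback.fst gA f).continuous, ?_⟩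
    have : Set.range (fun z : ↑(pullback gA f) => (z, pullback.fst gA f z)) =
        {q | pullback.fst gA f q.1 = q.2} := by
      ext q
      constructor
      · rintro ⟨z, rfl⟩; rfl
      · intro hq; exact ⟨q.1, Prod.ext rfl hq⟩
    rw [this]
    exact isClosed_eq ((pullback.fst gA f).continuous.comp continuous_fst) continuous_snd
  have h1 := ((isProperMap_snd hA X f).prodMap
    (isProperMap_id (X := ↥(Spec (CommRingCat.of A))))).comp hemb.isProperMap
  have h2 := (Homeomorph.prodComm _ _).isProperMap.comp h1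
  rw [isHomeomorph_iff_continuous_isClosedMap_bijective]
  exact ⟨h2.continuous, h2.isClosedMap, bijective hA X f⟩

end Sch

end Groth.Agent.Lib27.ProfinAlg
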