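import Mathlib
import Groth.Agent.Lib.Helper25.BlowUpReg
import Groth.Agent.Lib.Helper25.BlowUpUP
import Groth.Agent.Lib.Helper1.IdealSheafComap
import Groth.Agent.Lib27.Sch.ComplCartier

/-!
# Testing effective Cartier ideals on valuation rings (helper27)
-/

set_option autoImplicit false

universe u

open CategoryTheory AlgebraicGeometry TopologicalSpace

namespace Groth.Agent.Lib27.ValTest

variable {X : Scheme.{u}}

/-- the morphism `Spec R ⟶ X` attached to a ring map out of an affine chart. -/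
noncomputable def chartMap (V : X.affineOpens) {R : CommRingCat.{u}} (φ : Γ(X, V.1) ⟶ R) :
    Spec R ⟶ X :=
  Spec.map φ ≫ V.2.fromSpec

lemma chartMap_le (V : X.affineOpens) {R : CommRingCat.{u}} (φ : Γ(X, V.1) ⟶ R) :
    (⊤ : (Spec R).Opens) ≤ chartMap V φ ⁻¹ᵁ V.1 := by
  intro z _
  change (Spec.map φ ≫ V.2.fromSpec) z ∈ V.1
  have : (Spec.map φ ≫ V.2.fromSpec) z ∈ Set.range V.2.fromSpec := ⟨Spec.map φ z, rfl⟩
  rw [V.2.range_fromSpec] at this
  exact this

lemma chartMap_appLE (V : X.affineOpens) {R : CommRingCat.{u}} (φ : Γ(X, V.1) ⟶ R) :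
    (chartMap V φ).appLE V.1 ⊤ (chartMap_le V φ) = φ ≫ (Scheme.ΓSpecIso R).inv := by
  apply Spec.map_injective
  have h1 := IsAffineOpen.SpecMap_appLE_fromSpec (chartMap V φ) V.2 (isAffineOpen_top (Spec R))
    (chartMap_le V φ)
  rw [IsAffineOpen.fromSpec_top, Scheme.isoSpec_Spec_inv] at h1
  rw [← cancel_mono V.2.fromSpec, h1, Spec.map_comp, Category.assoc]
  rfl

theorem comap_chartMap_ideal (I : X.IdealSheafData) (V : X.affineOpens) (t : Γ(X, V.1))
    (hI : I.ideal V = Ideal.span {t}) {R : CommRingCat.{u}} (φ : Γ(X, V.1) ⟶ R) :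
    (I.comap (chartMap V φ)).ideal ⟨⊤, isAffineOpen_top (Spec R)⟩ =
      Ideal.span {(Scheme.ΓSpecIso R).inv.hom (φ.hom t)} := by
  rw [Groth.Agent.Lib.Helper1.ideal_comap I (chartMap V φ) ⟨⊤, isAffineOpen_top (Spec R)⟩ V
    (chartMap_le V φ), hI, Ideal.map_span, Set.image_singleton, chartMap_appLE]
  rfl

/-- if `R` is a domain and `φ t ≠ 0`, the pulled back ideal is effective Cartier. -/
theorem isEffCartierIdeal_comap_chartMap (I : X.IdealSheafData) (V : X.affineOpens)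
    (t : Γ(X, V.1)) (hI : I.ideal V = Ideal.span {t}) {R : CommRingCat.{u}} [IsDomain R]
    (φ : Γ(X, V.1) ⟶ R) (hφ : φ.hom t ≠ 0) :
    BlowUp.IsEffCartierIdeal (I.comap (chartMap V φ)) := by
  intro z
  refine ⟨⟨⊤, isAffineOpen_top (Spec R)⟩, trivial, (Scheme.ΓSpecIso R).inv.hom (φ.hom t), ?_,
    comap_chartMap_ideal I V t hI φ⟩
  have e : Γ(Spec R, ⊤) ≃+* R := (Scheme.ΓSpecIso R).commRingCatIsoToRingEquiv
  have : IsDomain Γ(Spec R, ⊤) := MulEquiv.isDomain (↑R) e.toMulEquiv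
  apply mem_nonZeroDivisors_of_ne_zero
  intro h0
  apply hφ
  have : (Scheme.ΓSpecIso R).hom.hom ((Scheme.ΓSpecIso R).inv.hom (φ.hom t)) = φ.hom t := by
    change ((Scheme.ΓSpecIso R).inv ≫ (Scheme.ΓSpecIso R).hom).hom (φ.hom t) = _
    rw [Iso.inv_hom_id]
    rfl
  rw [← this, h0, map_zero]

/-- if the pulled back ideal is the unit ideal, then `φ t` is a unit. -/
theorem isUnit_of_comap_chartMap_eq_top (I : X.IdealSheafData) (V : X.affineOpens)
    (t : Γ(X, V.1)) (hI : I.ideal V = Ideal.span {t}) {R : CommRingCat.{u}}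
    (φ : Γ(X, V.1) ⟶ R) (h : I.comap (chartMap V φ) = ⊤) : IsUnit (φ.hom t) := by
  have h1 := comap_chartMap_ideal I V t hI φ
  rw [h] at h1
  have h2 : (⊤ : (Spec R).IdealSheafData).ideal ⟨⊤, isAffineOpen_top (Spec R)⟩ = ⊤ := rfl
  rw [h2] at h1
  have h3 : IsUnit ((Scheme.ΓSpecIso R).inv.hom (φ.hom t)) :=
    Ideal.span_singleton_eq_top.mp h1.symm
  have h4 := h3.map (Scheme.ΓSpecIso R).hom.hom
  have : (Scheme.ΓSpecIso R).hom.hom ((Scheme.ΓSpecIso R).inv.hom (φ.hom t)) = φ.hom t := by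
    change ((Scheme.ΓSpecIso R).inv ≫ (Scheme.ΓSpecIso R).hom).hom (φ.hom t) = _
    rw [Iso.inv_hom_id]
    rfl
  rwa [this] at h4

/-- on an affine chart where the ideal is generated by `t`, the points of the support are those
whose prime contains `t`. -/
theorem mem_primeIdealOf_of_mem_support (I : X.IdealSheafData) (V : X.affineOpens)
    (t : Γ(X, V.1)) (hI : I.ideal V = Ideal.span {t}) (x : X) (hxV : x ∈ V.1)
    (hx : x ∈ I.support) : t ∈ (V.2.primeIdealOf ⟨x, hxV⟩).asIdeal := by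
  rw [Scheme.IdealSheafData.mem_support_iff_of_mem (U := V) hxV, hI, Scheme.zeroLocus_span,
    Scheme.zeroLocus_singleton] at hx
  by_contra hnot
  apply hx
  have h1 : V.2.primeIdealOf ⟨x, hxV⟩ ∈ (PrimeSpectrum.basicOpen t : Set _) := hnot
  have h2 : V.2.primeIdealOf ⟨x, hxV⟩ ∈ V.2.fromSpec ⁻¹ᵁ X.basicOpen t := by
    rw [V.2.fromSpec_preimage_basicOpen]
    exact h1
  have h3 : V.2.fromSpec (V.2.primeIdealOf ⟨x, hxV⟩) ∈ X.basicOpen t := h2
  rwa [V.2.fromSpec_primeIdealOf] at h3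

/-- a point of an affine open lies in a basic open iff the section is outside its prime. -/
theorem mem_basicOpen_iff_notMem_primeIdealOf (V : X.affineOpens) (a : Γ(X, V.1)) (x : X)
    (hxV : x ∈ V.1) : x ∈ X.basicOpen a ↔ a ∉ (V.2.primeIdealOf ⟨x, hxV⟩).asIdeal := by
  have h0 : V.2.fromSpec (V.2.primeIdealOf ⟨x, hxV⟩) = x := V.2.fromSpec_primeIdealOf ⟨x, hxV⟩
  have h2 : V.2.primeIdealOf ⟨x, hxV⟩ ∈ V.2.fromSpec ⁻¹ᵁ X.basicOpen a ↔
      V.2.primeIdealOf ⟨x, hxV⟩ ∈ (PrimeSpectrum.basicOpen a : Set _) := by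
    rw [V.2.fromSpec_preimage_basicOpen]
    rfl
  have h3 : V.2.primeIdealOf ⟨x, hxV⟩ ∈ V.2.fromSpec ⁻¹ᵁ X.basicOpen a ↔
      V.2.fromSpec (V.2.primeIdealOf ⟨x, hxV⟩) ∈ X.basicOpen a := Iff.rfl
  rw [h0] at h3
  rw [← h3, h2]
  rfl

/-- the complement of the support of the pulled back ideal on `Spec R`. -/
theorem notMem_support_comap_chartMap_iff (I : X.IdealSheafData) (V : X.affineOpens)
    (t : Γ(X, V.1)) (hI : I.ideal V = Ideal.span {t}) {R : CommRingCat.{u}}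
    (φ : Γ(X, V.1) ⟶ R) (z : Spec R) :
    z ∉ (I.comap (chartMap V φ)).support ↔ φ.hom t ∉ z.asIdeal := by
  have h1 := Groth.Agent.Lib27.ComplCartier.compl_support_inf_eq_basicOpen
    (I.comap (chartMap V φ)) ⟨⊤, isAffineOpen_top (Spec R)⟩ _ (comap_chartMap_ideal I V t hI φ)
  rw [basicOpen_eq_of_affine] at h1
  have h2 : z ∈ (((I.comap (chartMap V φ)).support : Set (Spec R))ᶜ ∩
      ((⊤ : (Spec R).Opens) : Set (Spec R))) ↔ z ∉ (I.comap (chartMap V φ)).support :=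
    ⟨fun h => h.1, fun h => ⟨h, trivial⟩⟩
  rw [← h2, h1]
  rfl

/-- comparing two pulled back principal ideals. -/
theorem dvd_of_comap_chartMap_le (I J : X.IdealSheafData) (V : X.affineOpens)
    (s t : Γ(X, V.1)) (hI : I.ideal V = Ideal.span {s}) (hJ : J.ideal V = Ideal.span {t})
    {R : CommRingCat.{u}} (φ : Γ(X, V.1) ⟶ R)
    (h : I.comap (chartMap V φ) ≤ J.comap (chartMap V φ)) : φ.hom t ∣ φ.hom s := by
  have h1 := h ⟨⊤, isAffineOpen_top (Spec R)⟩
  rw [comap_chartMap_ideal I V s hI φ, comap_chartMap_ideal J V t hJ φ,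
    Ideal.span_singleton_le_span_singleton] at h1
  obtain ⟨c, hc⟩ := h1
  refine ⟨(Scheme.ΓSpecIso R).hom.hom c, ?_⟩
  have e : ∀ r : R, (Scheme.ΓSpecIso R).hom.hom ((Scheme.ΓSpecIso R).inv.hom r) = r := by
    intro r
    change ((Scheme.ΓSpecIso R).inv ≫ (Scheme.ΓSpecIso R).hom).hom r = _
    rw [Iso.inv_hom_id]
    rfl
  have := congrArg (Scheme.ΓSpecIso R).hom.hom hc
  rwa [map_mul, e, e] at this

/-- a valuation ring test map at a prime: elements of the prime become nonunits and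
nonzerodivisors stay nonzero. -/
theorem exists_valuationRing_test {A : Type u} [CommRing A] (𝔭 : Ideal A) [𝔭.IsPrime] :
    ∃ (R : Type u) (_ : CommRing R) (_ : IsDomain R) (_ : ValuationRing R) (φ : A →+* R),
      (∀ a ∈ 𝔭, ¬ IsUnit (φ a)) ∧ (∀ a ∈ nonZeroDivisors A, φ a ≠ 0) := by
  obtain ⟨𝔮, h𝔮min, h𝔮le⟩ := Ideal.exists_minimalPrimes_le (bot_le : (⊥ : Ideal A) ≤ 𝔭)
  haveI : 𝔮.IsPrime := h𝔮min.1.1
  let f₀ : A →+* FractionRing (A ⧸ 𝔮) :=
    (algebraMap (A ⧸ 𝔮) (FractionRing (A ⧸ 𝔮))).comp (Ideal.Quotient.mk 𝔮)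
  have hf₀ : ∀ a : A, a ∉ 𝔮 → f₀ a ≠ 0 := by
    intro a ha h0
    have h1 : algebraMap (A ⧸ 𝔮) (FractionRing (A ⧸ 𝔮)) (Ideal.Quotient.mk 𝔮 a) = 0 := h0
    rw [map_eq_zero_iff _ (IsFractionRing.injective (A ⧸ 𝔮) (FractionRing (A ⧸ 𝔮))),
      Ideal.Quotient.eq_zero_iff_mem] at h1
    exact ha h1
  have hunit : ∀ s : 𝔭.primeCompl, IsUnit (f₀ s) := fun s =>
    (hf₀ s (fun hs => s.2 (h𝔮le hs))).isUnit
  let f : Localization.AtPrime 𝔭 →+* FractionRing (A ⧸ 𝔮) := IsLocalization.lift hunit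
  obtain ⟨B, hB, hloc⟩ := IsLocalRing.exists_factor_valuationRing f
  let φ : A →+* B := (f.codRestrict B.toSubring hB).comp (algebraMap A (Localization.AtPrime 𝔭))
  have hφ : ∀ a : A, ((φ a : B) : FractionRing (A ⧸ 𝔮)) = f₀ a := by
    intro a
    change f (algebraMap A (Localization.AtPrime 𝔭) a) = f₀ a
    exact IsLocalization.lift_eq hunit a
  refine ⟨B, inferInstance, inferInstance, inferInstance, φ, ?_, ?_⟩
  · intro a ha hu
    have h1 : IsUnit (algebraMap A (Localization.AtPrime 𝔭) a) := by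
      haveI := hloc
      exact isUnit_of_map_unit (f.codRestrict B.toSubring hB) _ hu
    have h2 := (IsLocalization.AtPrime.isUnit_to_map_iff (Localization.AtPrime 𝔭) 𝔭 a).mp h1
    exact h2 ha
  · intro a ha h0
    have h1 : a ∉ 𝔮 := fun h =>
      (Set.disjoint_left.mp (Ideal.disjoint_nonZeroDivisors_of_mem_minimalPrimes h𝔮min) h) ha
    apply hf₀ a h1
    rw [← hφ a, h0]
    rfl

section LargestPrime

variable {B : Type u} [CommRing B] [IsDomain B] [ValuationRing B]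

/-- the largest prime ideal of a valuation ring not containing `b ≠ 0`. -/
def avoid (b : B) (hb : b ≠ 0) : Ideal B where
  carrier := {x | ∀ n : ℕ, ¬ x ∣ b ^ n}
  zero_mem' := by
    intro n h
    exact pow_ne_zero n hb (zero_dvd_iff.mp h)
  add_mem' := by
    intro x y hx hy n h
    obtain ⟨c, hc | hc⟩ := ValuationRing.cond x y
    · exact hx n (Dvd.dvd.trans ⟨1 + c, by rw [← hc]; ring⟩ h)
    · exact hy n (Dvd.dvd.trans ⟨c + 1, by rw [← hc]; ring⟩ h)
  smul_mem' := by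
    intro r x hx n h
    exact hx n (Dvd.dvd.trans ⟨r, by rw [smul_eq_mul, mul_comm]⟩ h)

lemma mem_avoid {b : B} (hb : b ≠ 0) (x : B) : x ∈ avoid b hb ↔ ∀ n : ℕ, ¬ x ∣ b ^ n := Iff.rfl

lemma notMem_avoid (b : B) (hb : b ≠ 0) : b ∉ avoid b hb := fun h => h 1 (by rw [pow_one])

instance avoid_isPrime (b : B) (hb : b ≠ 0) : (avoid b hb).IsPrime := by
  refine ⟨?_, ?_⟩
  · intro h
    have : (1 : B) ∈ avoid b hb := by rw [h]; trivial
    exact this 0 (one_dvd _)
  · intro x y hxy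
    by_contra hcon
    push Not at hcon
    obtain ⟨hx, hy⟩ := hcon
    rw [mem_avoid] at hx hy
    push Not at hx hy
    obtain ⟨n, hn⟩ := hx
    obtain ⟨m, hm⟩ := hy
    exact hxy (n + m) (by rw [pow_add]; exact mul_dvd_mul hn hm)

lemma le_avoid (b : B) (hb : b ≠ 0) (Q : Ideal B) [Q.IsPrime] (hQ : b ∉ Q) : Q ≤ avoid b hb := by
  intro x hx n hdvd
  have : b ^ n ∈ Q := Ideal.mem_of_dvd Q hdvd hx
  exact hQ (Ideal.IsPrime.mem_of_pow_mem inferInstance n this)

end LargestPrime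

/-- a valuation ring test map at a prime, adapted to a nonzerodivisor `s`: elements of the prime
become nonunits, `s` stays nonzero and lies in every nonzero prime of the valuation ring. -/
theorem exists_valuationRing_test' {A : Type u} [CommRing A] (𝔭 : Ideal A) [𝔭.IsPrime] (s : A)
    (hs : s ∈ nonZeroDivisors A) :
    ∃ (R : Type u) (_ : CommRing R) (_ : IsDomain R) (_ : ValuationRing R) (φ : A →+* R),
      (∀ a ∈ 𝔭, ¬ IsUnit (φ a)) ∧ φ s ≠ 0 ∧
        ∀ Q : Ideal R, Q.IsPrime → Q ≠ ⊥ → φ s ∈ Q := by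
  obtain ⟨B, _, _, _, φ₀, h1, h2⟩ := exists_valuationRing_test 𝔭
  have hb : φ₀ s ≠ 0 := h2 s hs
  set P := avoid (φ₀ s) hb with hP
  haveI : PreValuationRing (B ⧸ P) := ⟨fun x y => by
    obtain ⟨x', rfl⟩ := Ideal.Quotient.mk_surjective x
    obtain ⟨y', rfl⟩ := Ideal.Quotient.mk_surjective y
    obtain ⟨c, hc | hc⟩ := ValuationRing.cond x' y'
    · exact ⟨Ideal.Quotient.mk P c, Or.inl (by rw [← map_mul, hc])⟩
    · exact ⟨Ideal.Quotient.mk P c, Or.inr (by rw [← map_mul, hc])⟩⟩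
  haveI : ValuationRing (B ⧸ P) := {}
  refine ⟨B ⧸ P, inferInstance, inferInstance, inferInstance, (Ideal.Quotient.mk P).comp φ₀,
    ?_, ?_, ?_⟩
  · intro a ha hu
    apply h1 a ha
    -- a unit modulo a proper ideal of a local ring is a unit
    rw [RingHom.comp_apply] at hu
    obtain ⟨c, hc⟩ := hu.exists_right_inv
    obtain ⟨c', rfl⟩ := Ideal.Quotient.mk_surjective c
    rw [← map_mul, ← map_one (Ideal.Quotient.mk P), Ideal.Quotient.eq] at hc
    by_contra hnu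
    have hmem : φ₀ a * c' ∈ IsLocalRing.maximalIdeal B :=
      Ideal.mul_mem_right _ _ ((IsLocalRing.mem_maximalIdeal _).mpr hnu)
    have hle : P ≤ IsLocalRing.maximalIdeal B :=
      IsLocalRing.le_maximalIdeal (Ideal.IsPrime.ne_top inferInstance)
    have h3 : (1 : B) ∈ IsLocalRing.maximalIdeal B := by
      have := Ideal.sub_mem _ hmem (hle hc)
      rwa [sub_sub_cancel] at this
    exact (IsLocalRing.maximalIdeal.isMaximal B).ne_top ((Ideal.eq_top_iff_one _).mpr h3)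
  · rw [RingHom.comp_apply, Ne, Ideal.Quotient.eq_zero_iff_mem]
    exact notMem_avoid _ hb
  · intro Q hQ hQne
    by_contra hnot
    apply hQne
    haveI := hQ
    have hcomap : (Q.comap (Ideal.Quotient.mk P)) ≤ P := by
      haveI : (Q.comap (Ideal.Quotient.mk P)).IsPrime := Ideal.comap_isPrime _ _
      exact le_avoid _ hb _ (fun h => hnot h)
    rw [eq_bot_iff]
    intro x hx
    obtain ⟨x', rfl⟩ := Ideal.Quotient.mk_surjective x
    rw [Ideal.mem_bot, Ideal.Quotient.eq_zero_iff_mem]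
    exact hcomap hx

end Groth.Agent.Lib27.ValTest
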