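import Groth.Agent.Lib27.Sch.CartierDim
import Groth.Agent.Lib27.Sch.ValTest
import Groth.Agent.Lib27.CatCov
import Mathlib.AlgebraicGeometry.Noetherian
import Mathlib.AlgebraicGeometry.FunctionField

/-!
# Proper intersection of an effective Cartier divisor with an integral closed subscheme
-/

set_option autoImplicit false
universe u
open CategoryTheory CategoryTheory.Limits AlgebraicGeometry TopologicalSpace

namespace Groth.Agent.Lib27.ProperInt

variable {X : Scheme.{u}}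

lemma primeIdealOf_le_of_specializes {U : X.Opens} (hU : IsAffineOpen U) {x y : X} (hx : x ∈ U)
    (hy : y ∈ U) (h : x ⤳ y) :
    (hU.primeIdealOf ⟨x, hx⟩).asIdeal ≤ (hU.primeIdealOf ⟨y, hy⟩).asIdeal := by
  have h1 : (⟨x, hx⟩ : U) ⤳ ⟨y, hy⟩ := (subtype_specializes_iff _ _).mpr h
  have h2 := h1.map hU.isoSpec.hom.continuous
  exact (PrimeSpectrum.le_iff_specializes _ _).mpr h2

lemma fromSpec_mem {U : X.Opens} (hU : IsAffineOpen U) (q : Spec Γ(X, U)) :
    hU.fromSpec q ∈ U := by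
  have : hU.fromSpec q ∈ Set.range hU.fromSpec := ⟨q, rfl⟩
  rw [hU.range_fromSpec] at this
  exact this

lemma primeIdealOf_fromSpec {U : X.Opens} (hU : IsAffineOpen U) (q : Spec Γ(X, U)) :
    hU.primeIdealOf ⟨hU.fromSpec q, fromSpec_mem hU q⟩ = q := by
  apply hU.fromSpec.isOpenEmbedding.injective
  exact hU.fromSpec_primeIdealOf ⟨hU.fromSpec q, fromSpec_mem hU q⟩

lemma fromSpec_specializes {U : X.Opens} (hU : IsAffineOpen U) {q q' : Spec Γ(X, U)}
    (h : q.asIdeal ≤ q'.asIdeal) : hU.fromSpec q ⤳ hU.fromSpec q' :=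
  ((PrimeSpectrum.le_iff_specializes q q').mp h).map hU.fromSpec.continuous

lemma ringKrullDim_stalk_eq_height {U : X.Opens} (hU : IsAffineOpen U) (x : X) (hx : x ∈ U) :
    ringKrullDim (X.presheaf.stalk x) =
      ((hU.primeIdealOf ⟨x, hx⟩).asIdeal.height : WithBot ℕ∞) := by
  letI := TopCat.Presheaf.algebra_section_stalk X.presheaf ⟨x, hx⟩
  haveI := hU.isLocalization_stalk ⟨x, hx⟩
  exact IsLocalization.AtPrime.ringKrullDim_eq_height _ _

theorem mem_support_iff_mem_primeIdealOf (I : X.IdealSheafData) (V : X.affineOpens)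
    (t : Γ(X, V.1)) (hI : I.ideal V = Ideal.span {t}) (x : X) (hxV : x ∈ V.1) :
    x ∈ I.support ↔ t ∈ (V.2.primeIdealOf ⟨x, hxV⟩).asIdeal := by
  rw [Scheme.IdealSheafData.mem_support_iff_of_mem (U := V) hxV, hI, Scheme.zeroLocus_span,
    Scheme.zeroLocus_singleton, Set.mem_compl_iff, SetLike.mem_coe,
    Groth.Agent.Lib27.ValTest.mem_basicOpen_iff_notMem_primeIdealOf V t x hxV, not_not]

/-- the generic point of an integral closed subscheme on which the pulled back ideal is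
effective Cartier does not lie on the divisor. -/
lemma genericPoint_notMem_support {Z : Scheme.{u}} (𝓘 : X.IdealSheafData) (i : Z ⟶ X)
    [IsIntegral Z] (hc : BlowUp.IsEffCartierIdeal (𝓘.comap i)) :
    i (genericPoint ↥Z) ∉ 𝓘.support := by
  intro h
  have h1 : genericPoint ↥Z ∈ (𝓘.comap i).support := by
    rw [Scheme.IdealSheafData.support_comap]
    exact h
  have h2 := Groth.Agent.Lib27.CartierDim.one_le_dim_stalk (𝓘.comap i) hc _ h1
  have h3 : ringKrullDim (Z.presheaf.stalk (genericPoint ↥Z)) = 0 :=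
    ringKrullDim_eq_zero_of_field Z.functionField
  rw [h3] at h2
  exact absurd h2 (by norm_num)

theorem dim_eq {Z : Scheme.{u}} [IsLocallyNoetherian X] [IrreducibleSpace ↥X]
    (hcat : ∀ x : ↥X, CAlg.IsCatenary ↑(X.presheaf.stalk x))
    (𝓘 : X.IdealSheafData) (hY : BlowUp.IsEffCartierIdeal 𝓘)
    (i : Z ⟶ X) [IsClosedImmersion i] [IsIntegral Z]
    (hc : BlowUp.IsEffCartierIdeal (𝓘.comap i))
    (z : Z) (hζY : i z ∈ 𝓘.support)
    (hmax : ∀ ζ' : ↥X, ζ' ∈ 𝓘.support → ζ' ∈ Set.range i → ζ' ⤳ i z → ζ' = i z) :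
    ringKrullDim ↑(X.presheaf.stalk (i z)) =
      (⨅ y : (𝓘.support : Set ↥X), ringKrullDim ↑(X.presheaf.stalk y.1)) +
        ringKrullDim ↑(X.presheaf.stalk (i (genericPoint ↥Z))) := by
  obtain ⟨U, hζU, f, hf, hI⟩ := hY (i z)
  have hξz : i (genericPoint ↥Z) ⤳ i z := (genericPoint_specializes z).map i.continuous
  have hξU : i (genericPoint ↥Z) ∈ U.1 := hξz.mem_open U.1.2 hζU
  have hgU : genericPoint ↥X ∈ U.1 := (genericPoint_specializes (i z)).mem_open U.1.2 hζU
  have hξY := genericPoint_notMem_support 𝓘 i hc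
  haveI : IsNoetherianRing Γ(X, U.1) := IsLocallyNoetherian.component_noetherian U
  set p := U.2.primeIdealOf ⟨i z, hζU⟩ with hp
  set P := U.2.primeIdealOf ⟨i (genericPoint ↥Z), hξU⟩ with hP
  set P₀ := U.2.primeIdealOf ⟨genericPoint ↥X, hgU⟩ with hP₀
  have hfp : f ∈ p.asIdeal := (mem_support_iff_mem_primeIdealOf 𝓘 U f hI _ hζU).mp hζY
  have hfP : f ∉ P.asIdeal := fun h =>
    hξY ((mem_support_iff_mem_primeIdealOf 𝓘 U f hI _ hξU).mpr h)
  have hPp : P.asIdeal ≤ p.asIdeal := primeIdealOf_le_of_specializes U.2 hξU hζU hξz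
  have hmin : p.asIdeal ∈ (P.asIdeal ⊔ Ideal.span {f}).minimalPrimes := by
    refine ⟨⟨p.isPrime, sup_le hPp ((Ideal.span_singleton_le_iff_mem _).mpr hfp)⟩, ?_⟩
    rintro q ⟨hq, hle⟩ hqp
    let q' : Spec Γ(X, U.1) := ⟨q, hq⟩
    have hPq : P.asIdeal ≤ q := le_sup_left.trans hle
    have hfq : f ∈ q := hle (Ideal.mem_sup_right (Ideal.mem_span_singleton_self f))
    have h1 : U.2.fromSpec q' ⤳ i z := by
      have := fromSpec_specializes U.2 (q := q') (q' := p) hqp
      rwa [hp, U.2.fromSpec_primeIdealOf] at this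
    have h2 : i (genericPoint ↥Z) ⤳ U.2.fromSpec q' := by
      have := fromSpec_specializes U.2 (q := P) (q' := q') hPq
      rwa [hP, U.2.fromSpec_primeIdealOf] at this
    have h3 : U.2.fromSpec q' ∈ Set.range i :=
      h2.mem_closed i.isClosedEmbedding.isClosed_range ⟨_, rfl⟩
    have h4 : U.2.fromSpec q' ∈ 𝓘.support := by
      rw [mem_support_iff_mem_primeIdealOf 𝓘 U f hI _ (fromSpec_mem U.2 q'),
        primeIdealOf_fromSpec]
      exact hfq
    have h5 := hmax _ h4 h3 h1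
    have h6 : q' = p := by
      rw [← primeIdealOf_fromSpec U.2 q']
      congr 1
      exact Subtype.ext h5
    rw [← h6]
  obtain ⟨hlt, hcov⟩ := Groth.Agent.Lib27.CatCov.covBy_of_mem_minimalPrimes P.asIdeal p.asIdeal f
    hfP hmin
  have hbot : ∀ q : Ideal Γ(X, U.1), q.IsPrime → P₀.asIdeal ≤ q := by
    intro q hq
    let q' : Spec Γ(X, U.1) := ⟨q, hq⟩
    have h1 := primeIdealOf_le_of_specializes U.2 hgU (fromSpec_mem U.2 q')
      (genericPoint_specializes _)
    rw [primeIdealOf_fromSpec] at h1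
    exact h1
  letI := TopCat.Presheaf.algebra_section_stalk X.presheaf ⟨i z, hζU⟩
  haveI := U.2.isLocalization_stalk ⟨i z, hζU⟩
  have hmain := Groth.Agent.Lib27.CatCov.ringKrullDim_eq_height_add_one p.asIdeal
    (X.presheaf.stalk (i z)) (hcat (i z)) P₀.asIdeal hbot P.asIdeal hlt hcov
  have hdimξ := ringKrullDim_stalk_eq_height U.2 _ hξU
  -- the codimension of the divisor is one
  have hc1 : (⨅ y : (𝓘.support : Set ↥X), ringKrullDim ↑(X.presheaf.stalk y.1)) = 1 := by
    apply le_antisymm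
    · have hne : (Ideal.span {f} : Ideal Γ(X, U.1)) ≠ ⊤ := by
        intro h
        have : f ∈ p.asIdeal := hfp
        have h1 : (Ideal.span {f} : Ideal Γ(X, U.1)) ≤ p.asIdeal :=
          (Ideal.span_singleton_le_iff_mem _).mpr hfp
        rw [h] at h1
        exact p.isPrime.ne_top (top_le_iff.mp h1)
      obtain ⟨𝔮, h𝔮⟩ := Ideal.nonempty_minimalPrimes hne
      have hprime : 𝔮.IsPrime := h𝔮.isPrime
      let q' : Spec Γ(X, U.1) := ⟨𝔮, hprime⟩
      have hf𝔮 : f ∈ 𝔮 := h𝔮.le (Ideal.mem_span_singleton_self f)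
      have hy : U.2.fromSpec q' ∈ 𝓘.support := by
        rw [mem_support_iff_mem_primeIdealOf 𝓘 U f hI _ (fromSpec_mem U.2 q'),
          primeIdealOf_fromSpec]
        exact hf𝔮
      refine iInf_le_of_le ⟨U.2.fromSpec q', hy⟩ ?_
      rw [ringKrullDim_stalk_eq_height U.2 _ (fromSpec_mem U.2 q'), primeIdealOf_fromSpec]
      have := Ideal.height_le_one_of_isPrincipal_of_mem_minimalPrimes (Ideal.span {f}) 𝔮 h𝔮
      exact_mod_cast this
    · exact le_iInf fun y => Groth.Agent.Lib27.CartierDim.one_le_dim_stalk 𝓘 hY y.1 y.2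
  rw [hc1, hmain, hdimξ, add_comm]

end Groth.Agent.Lib27.ProperInt
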