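import Mathlib.AlgebraicGeometry.Morphisms.QuasiCompact
import Mathlib.AlgebraicGeometry.Morphisms.UnderlyingMap

/-!
# Closedness of subsets detected by quasi-compact morphisms

A subset `Z` of a scheme `Y` which is stable under specialization, is contained in the image of a
quasi-compact morphism `f : X ⟶ Y` and has closed preimage in `X` is closed.
-/

set_option autoImplicit false
universe u
open CategoryTheory AlgebraicGeometry

namespace Groth.Agent.Lib27.QcClosed

/-- Affine case. -/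
theorem isClosed_of_stableUnderSpecialization_of_affine {A T : Scheme.{u}} [IsAffine A]
    [IsAffine T] (g : A ⟶ T) (Z : Set T) (hcl : IsClosed (g ⁻¹' Z)) (hsub : Z ⊆ Set.range g)
    (hst : StableUnderSpecialization Z) : IsClosed Z := by
  have hnat : A.isoSpec.hom ≫ Spec.map g.appTop = g ≫ T.isoSpec.hom :=
    Scheme.isoSpec_hom_naturality g
  have hnat' : Spec.map g.appTop ≫ T.isoSpec.inv = A.isoSpec.inv ≫ g :=
    Scheme.isoSpec_inv_naturality g
  let C₀ : Set (Spec Γ(A, ⊤)) := A.isoSpec.inv ⁻¹' (g ⁻¹' Z)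
  have hC₀ : IsClosed C₀ := hcl.preimage A.isoSpec.inv.continuous
  let Z₀ : Set (Spec Γ(T, ⊤)) := T.isoSpec.inv ⁻¹' Z
  have himg : (Spec.map g.appTop) '' C₀ = Z₀ := by
    ext p
    constructor
    · rintro ⟨c, hc, rfl⟩
      change T.isoSpec.inv (Spec.map g.appTop c) ∈ Z
      have h1 : T.isoSpec.inv (Spec.map g.appTop c) = g (A.isoSpec.inv c) := by
        rw [← Scheme.Hom.comp_apply, hnat', Scheme.Hom.comp_apply]
      rw [h1]
      exact hc
    · intro hp
      obtain ⟨a, ha⟩ := hsub hp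
      refine ⟨A.isoSpec.hom a, ?_, ?_⟩
      · change g (A.isoSpec.inv (A.isoSpec.hom a)) ∈ Z
        rw [Scheme.hom_inv_apply, ha]
        exact hp
      · rw [← Scheme.Hom.comp_apply, hnat, Scheme.Hom.comp_apply, ha, Scheme.inv_hom_apply]
  have hst₀ : StableUnderSpecialization Z₀ :=
    fun p p' hpp' hp => hst (hpp'.map T.isoSpec.inv.continuous) hp
  have hZ₀ : IsClosed Z₀ := by
    rw [← himg] at hst₀ ⊢
    exact PrimeSpectrum.isClosed_image_of_stableUnderSpecialization g.appTop.hom C₀ hC₀ hst₀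
  have hZ : Z = T.isoSpec.hom ⁻¹' Z₀ := by
    ext t
    change t ∈ Z ↔ T.isoSpec.inv (T.isoSpec.hom t) ∈ Z
    rw [Scheme.hom_inv_apply]
  rw [hZ]
  exact hZ₀.preimage T.isoSpec.hom.continuous

/-- General case: a subset of `Y` stable under specialization, contained in the image of a
quasi-compact morphism and with closed preimage, is closed. -/
theorem isClosed_of_stableUnderSpecialization {X Y : Scheme.{u}} (f : X ⟶ Y) [QuasiCompact f]
    (Z : Set Y) (hcl : IsClosed (f ⁻¹' Z)) (hsub : Z ⊆ Set.range f)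
    (hst : StableUnderSpecialization Z) : IsClosed Z := by
  rw [(show TopologicalSpace.IsOpenCover (fun i : Y.affineOpens => (i : Y.Opens)) from
      iSup_affineOpens_eq_top Y).isClosed_iff_coe_preimage]
  intro U
  have hc : IsCompact ((f ⁻¹ᵁ U.1 : X.Opens) : Set X) :=
    QuasiCompact.isCompact_preimage (f := f) _ U.1.2 U.2.isCompact
  obtain ⟨R, g, hg⟩ := isCompact_iff_exists.mp hc
  have hgU : Set.range (g ≫ f) ⊆ Set.range U.1.ι := by
    rintro _ ⟨r, rfl⟩
    have : g r ∈ (f ⁻¹ᵁ U.1 : X.Opens) := by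
      have : g r ∈ Set.range g := ⟨r, rfl⟩
      rw [hg] at this
      exact this
    rw [Scheme.Opens.range_ι]
    exact this
  let g' : Spec R ⟶ U.1 := IsOpenImmersion.lift U.1.ι (g ≫ f) hgU
  have hg' : g' ≫ U.1.ι = g ≫ f := IsOpenImmersion.lift_fac _ _ _
  have : IsAffine U.1 := U.2
  have key : IsClosed (U.1.ι ⁻¹' Z) := by
    apply isClosed_of_stableUnderSpecialization_of_affine g' (U.1.ι ⁻¹' Z)
    · have : g' ⁻¹' (U.1.ι ⁻¹' Z) = g ⁻¹' (f ⁻¹' Z) := by
        ext r
        change (g' ≫ U.1.ι) r ∈ Z ↔ (g ≫ f) r ∈ Z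
        rw [hg']
      rw [this]
      exact hcl.preimage g.continuous
    · intro u hu
      obtain ⟨x, hx⟩ := hsub hu
      have hxU : x ∈ (f ⁻¹ᵁ U.1 : X.Opens) := by
        show f x ∈ U.1
        rw [hx]
        exact u.2
      have : x ∈ Set.range g := by rw [hg]; exact hxU
      obtain ⟨r, rfl⟩ := this
      refine ⟨r, ?_⟩
      apply U.1.ι.isOpenEmbedding.injective
      rw [← Scheme.Hom.comp_apply, hg', Scheme.Hom.comp_apply, hx]
    · intro u u' huu' hu
      exact hst (huu'.map U.1.ι.continuous) hu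
  exact key

end Groth.Agent.Lib27.QcClosed
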