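import Groth.Agent.Lib27.Sch.QuotStages
import Groth.Agent.Lib27.Sch.QuotFlatBC

set_option autoImplicit false

universe u

open CategoryTheory AlgebraicGeometry SGA1 Limits TopologicalSpace

namespace Groth.Agent.Lib27.QuotProd

section Act

variable {S Y XG : Scheme.{u}} {H : Type u} [Group H] (gX : XG ⟶ S) (fY : Y ⟶ S)
  (σ : H →* Aut Y) (hσ : ∀ h, (σ h).hom ≫ fY = fY)

/-- `id × σ h` on `XG ×_S Y`. -/
noncomputable def act₂Hom (h : H) : pullback gX fY ⟶ pullback gX fY :=
  pullback.lift (pullback.fst gX fY) (pullback.snd gX fY ≫ (σ h).hom)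
    (by rw [Category.assoc, hσ, pullback.condition])

@[reassoc (attr := simp)]
lemma act₂Hom_fst (h : H) : act₂Hom gX fY σ hσ h ≫ pullback.fst gX fY = pullback.fst gX fY :=
  pullback.lift_fst _ _ _

@[reassoc (attr := simp)]
lemma act₂Hom_snd (h : H) :
    act₂Hom gX fY σ hσ h ≫ pullback.snd gX fY = pullback.snd gX fY ≫ (σ h).hom :=
  pullback.lift_snd _ _ _

lemma act₂Hom_mul (h h' : H) :
    act₂Hom gX fY σ hσ (h * h') = act₂Hom gX fY σ hσ h' ≫ act₂Hom gX fY σ hσ h := by
  apply pullback.hom_ext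
  · simp
  · simp only [act₂Hom_snd, Category.assoc, act₂Hom_snd_assoc, map_mul]
    rfl

lemma act₂Hom_one : act₂Hom gX fY σ hσ 1 = 𝟙 _ := by
  apply pullback.hom_ext
  · simp
  · simp only [act₂Hom_snd, Category.id_comp, map_one]
    exact Category.comp_id _

/-- The action of `H` on `XG ×_S Y` through the second factor. -/
noncomputable def act₂ : H →* Aut (pullback gX fY) where
  toFun h := ⟨act₂Hom gX fY σ hσ h, act₂Hom gX fY σ hσ h⁻¹,
    by rw [← act₂Hom_mul, inv_mul_cancel, act₂Hom_one],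
    by rw [← act₂Hom_mul, mul_inv_cancel, act₂Hom_one]⟩
  map_one' := Iso.ext (act₂Hom_one gX fY σ hσ)
  map_mul' h h' := Iso.ext (act₂Hom_mul gX fY σ hσ h h')

@[simp] lemma act₂_hom (h : H) : (act₂ gX fY σ hσ h).hom = act₂Hom gX fY σ hσ h := rfl

end Act

theorem main {S X Y XG YH : Scheme.{u}} {G H : Type u} [Group G] [Finite G] [Group H] [Finite H]
    (fX : X ⟶ S) (fY : Y ⟶ S) (gX : XG ⟶ S) (gY : YH ⟶ S) [Flat fY] [Flat gX]
    (ρ : G →* Aut X) (σ : H →* Aut Y)
    (hσ : ∀ h, (σ h).hom ≫ fY = fY)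
    (p : X ⟶ XG) (hp : p ≫ gX = fX) (q : Y ⟶ YH) (hq : q ≫ gY = fY)
    (hP : IsQuot ρ p) (hQ : IsQuot σ q)
    (θ : G × H →* Aut (pullback fX fY))
    (hθ1 : ∀ gh : G × H, (θ gh).hom ≫ pullback.fst fX fY = pullback.fst fX fY ≫ (ρ gh.1).hom)
    (hθ2 : ∀ gh : G × H, (θ gh).hom ≫ pullback.snd fX fY = pullback.snd fX fY ≫ (σ gh.2).hom)
    (π : pullback fX fY ⟶ pullback gX gY) (hπ1 : π ≫ pullback.fst gX gY = pullback.fst fX fY ≫ p)
    (hπ2 : π ≫ pullback.snd gX gY = pullback.snd fX fY ≫ q) :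
    IsQuot θ π := by
  have hρ1 : (ρ 1).hom = 𝟙 X := by rw [map_one]; rfl
  have hσ1 : (σ 1).hom = 𝟙 Y := by rw [map_one]; rfl
  let π₁ : pullback fX fY ⟶ pullback gX fY :=
    pullback.lift (pullback.fst fX fY ≫ p) (pullback.snd fX fY)
      (by rw [Category.assoc, hp, pullback.condition])
  let π₂ : pullback gX fY ⟶ pullback gX gY :=
    pullback.lift (pullback.fst gX fY) (pullback.snd gX fY ≫ q)
      (by rw [Category.assoc, hq, pullback.condition])
  have hπ₁f : π₁ ≫ pullback.fst gX fY = pullback.fst fX fY ≫ p := pullback.lift_fst _ _ _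
  have hπ₁s : π₁ ≫ pullback.snd gX fY = pullback.snd fX fY := pullback.lift_snd _ _ _
  have hπ₂f : π₂ ≫ pullback.fst gX gY = pullback.fst gX fY := pullback.lift_fst _ _ _
  have hπ₂s : π₂ ≫ pullback.snd gX gY = pullback.snd gX fY ≫ q := pullback.lift_snd _ _ _
  have hπ : π = π₁ ≫ π₂ := by
    apply pullback.hom_ext
    · rw [hπ1, Category.assoc, hπ₂f, hπ₁f]
    · rw [hπ2, Category.assoc, hπ₂s, ← Category.assoc, hπ₁s]
  -- first square
  have sq1 : IsPullback (pullback.fst fX fY) π₁ p (pullback.fst gX fY) := by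
    have big : IsPullback (π₁ ≫ pullback.snd gX fY) (pullback.fst fX fY) fY (p ≫ gX) := by
      rw [hπ₁s, hp]; exact (IsPullback.of_hasPullback fX fY).flip
    exact (IsPullback.of_right big hπ₁f (IsPullback.of_hasPullback gX fY).flip).flip
  have quot1 : IsQuot (θ.comp (MonoidHom.inl G H)) π₁ := by
    refine QuotFlatBC.main ρ p hP (pullback.fst gX fY) (pullback.fst fX fY) π₁ sq1
      (θ.comp (MonoidHom.inl G H)) (fun g => hθ1 (g, 1)) (fun g => ?_)
    apply pullback.hom_ext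
    · have := hθ1 (g, 1)
      simp only [MonoidHom.comp_apply, MonoidHom.inl_apply, Category.assoc, hπ₁f]
      rw [← Category.assoc, this, Category.assoc, hP.inv]
    · have := hθ2 (g, 1)
      simp only [MonoidHom.comp_apply, MonoidHom.inl_apply, Category.assoc, hπ₁s]
      rw [this, hσ1, Category.comp_id]
  -- second square
  have sq2 : IsPullback (pullback.snd gX fY) π₂ q (pullback.snd gX gY) := by
    have big : IsPullback (π₂ ≫ pullback.fst gX gY) (pullback.snd gX fY) gX (q ≫ gY) := by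
      rw [hπ₂f, hq]; exact IsPullback.of_hasPullback gX fY
    exact (IsPullback.of_right big hπ₂s (IsPullback.of_hasPullback gX gY)).flip
  have quot2 : IsQuot (act₂ gX fY σ hσ) π₂ := by
    refine QuotFlatBC.main σ q hQ (pullback.snd gX gY) (pullback.snd gX fY) π₂ sq2
      (act₂ gX fY σ hσ) (fun h => act₂Hom_snd gX fY σ hσ h) (fun h => ?_)
    apply pullback.hom_ext
    · simp only [act₂_hom, Category.assoc, hπ₂f, act₂Hom_fst]
    · simp only [act₂_hom, Category.assoc, hπ₂s, act₂Hom_snd_assoc, hQ.inv]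
  rw [hπ]
  refine QuotStages.stages θ (MonoidHom.inl G H) (MonoidHom.inr G H) π₁ quot1
    (act₂ gX fY σ hσ) (fun h => ?_) π₂ quot2 (fun γ => ?_)
  · apply pullback.hom_ext
    · simp only [MonoidHom.inr_apply, Category.assoc, hπ₁f, act₂_hom, act₂Hom_fst]
      rw [← Category.assoc, hθ1, hρ1, Category.comp_id]
    · simp only [MonoidHom.inr_apply, Category.assoc, hπ₁s, act₂_hom, act₂Hom_snd]
      rw [hθ2, ← Category.assoc, hπ₁s]
  · apply pullback.hom_ext
    · simp only [Category.assoc, hπ₂f, hπ₁f]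
      rw [← Category.assoc, hθ1, Category.assoc, hP.inv]
    · simp only [Category.assoc, hπ₂s]
      rw [← Category.assoc π₁, hπ₁s, ← Category.assoc, hθ2, Category.assoc, hQ.inv]

end Groth.Agent.Lib27.QuotProd
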