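import Groth.Agent.S13597
import Mathlib

/-!
# Quotients of invariant subschemes: `W/G → X/G` is radicial

For a finite group `G` acting on `X` with quotient `p : X → X/G` and a `G`-stable immersion
`j : W → X` with quotient `pW : W → W/G`, the induced map `φ : W/G → X/G` is universally injective
with image `p(W)`.
-/

set_option autoImplicit false
universe u
open CategoryTheory AlgebraicGeometry
open SGA1

namespace Groth.Agent.Lib27.Radicial

open Groth.Agent.Lib.Helper7.FiniteQuotient

/-- If `L/K₁` is normal and every `K₁`-automorphism of `L` fixes the intermediate field `K₂`, then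
`K₂/K₁` is purely inseparable. -/
theorem isPurelyInseparable_of_aut_fix {K₁ K₂ L : Type*} [Field K₁] [Field K₂] [Field L]
    [Algebra K₁ K₂] [Algebra K₂ L] [Algebra K₁ L] [IsScalarTower K₁ K₂ L] [Normal K₁ L]
    (h : ∀ (τ : L ≃ₐ[K₁] L) (c : K₂), τ (algebraMap K₂ L c) = algebraMap K₂ L c) :
    IsPurelyInseparable K₁ K₂ := by
  rw [isPurelyInseparable_iff_subsingleton_emb]
  refine ⟨fun σ₁ σ₂ => ?_⟩
  have halg : Algebra.IsAlgebraic K₂ L := by
    have : Algebra.IsAlgebraic K₁ L := inferInstance
    exact Algebra.IsAlgebraic.tower_top (K := K₁) K₂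
  -- extend both embeddings to `L`
  have ext : ∀ σ : K₂ →ₐ[K₁] AlgebraicClosure K₂, ∃ σ' : L →ₐ[K₁] AlgebraicClosure K₂,
      ∀ c, σ' (algebraMap K₂ L c) = σ c := by
    intro σ
    let _ : Algebra K₂ (AlgebraicClosure K₂) := σ.toRingHom.toAlgebra
    let l : L →ₐ[K₂] AlgebraicClosure K₂ := IsAlgClosed.lift
    refine ⟨⟨l.toRingHom, fun r => ?_⟩, fun c => l.commutes c⟩
    have : algebraMap K₁ L r = algebraMap K₂ L (algebraMap K₁ K₂ r) :=
      IsScalarTower.algebraMap_apply K₁ K₂ L r
    change l (algebraMap K₁ L r) = _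
    rw [this, l.commutes]
    exact σ.commutes r
  obtain ⟨σ₁', h₁⟩ := ext σ₁
  obtain ⟨σ₂', h₂⟩ := ext σ₂
  let _ : Algebra L (AlgebraicClosure K₂) := σ₁'.toRingHom.toAlgebra
  have _ : IsScalarTower K₁ L (AlgebraicClosure K₂) :=
    IsScalarTower.of_algebraMap_eq (fun r => (σ₁'.commutes r).symm)
  let τ := Normal.algHomEquivAut K₁ (AlgebraicClosure K₂) L σ₂'
  have hτ : ∀ x : L, σ₁' (τ x) = σ₂' x := by
    intro x
    have := (Normal.algHomEquivAut K₁ (AlgebraicClosure K₂) L).left_inv σ₂'
    exact congrArg (fun f : L →ₐ[K₁] AlgebraicClosure K₂ => f x) this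
  apply AlgHom.ext
  intro c
  rw [← h₁, ← h₂, ← hτ, h τ c]

/-- A bijective ring homomorphism of fields is purely inseparable. -/
theorem isPurelyInseparable_of_bijective {F E : Type*} [Field F] [Field E] (f : F →+* E)
    (hf : Function.Surjective f) : f.IsPurelyInseparable := by
  unfold RingHom.IsPurelyInseparable
  letI : Algebra F E := f.toAlgebra
  rw [isPurelyInseparable_iff]
  intro x
  obtain ⟨a, rfl⟩ := hf x
  exact ⟨isIntegral_algebraMap (R := F) (A := E) (x := a), fun _ => ⟨a, rfl⟩⟩

/-- A preimmersion induces isomorphisms on residue fields. -/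
theorem isIso_residueFieldMap_of_isPreimmersion {W X : Scheme.{u}} (j : W ⟶ X) [IsPreimmersion j]
    (w : W) : IsIso (j.residueFieldMap w) := by
  have hs : Function.Surjective (j.stalkMap w).hom := j.stalkMap_surjective w
  have : Function.Bijective (j.residueFieldMap w).hom := by
    refine ⟨(j.residueFieldMap w).hom.injective, ?_⟩
    intro a
    obtain ⟨a', rfl⟩ := IsLocalRing.residue_surjective a
    obtain ⟨b, rfl⟩ := hs a'
    exact ⟨IsLocalRing.residue _ b, IsLocalRing.ResidueField.map_residue _ _⟩
  exact (ConcreteCategory.isIso_iff_bijective _).mpr this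

variable {G : Type u} [Group G] [Finite G] {X XG W WG : Scheme.{u}}

section Main

variable (ρ : G →* Aut X) (p : X ⟶ XG) (hP : IsQuot ρ p) (j : W ⟶ X) [IsImmersion j]
  (ρW : G →* Aut W) (hρW : ∀ g, (ρW g).hom ≫ j = j ≫ (ρ g).hom) (pW : W ⟶ WG)
  (hPW : IsQuot ρW pW) (φ : WG ⟶ XG) (hφ : pW ≫ φ = j ≫ p)

include hφ hPW in
theorem range_eq : Set.range φ.base = p.base '' Set.range j.base := by
  have key : ∀ w : W, φ.base (pW.base w) = p.base (j.base w) := fun w => by
    have := congrArg (fun f : W ⟶ XG => f.base w) hφ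
    simpa using this
  ext y
  constructor
  · rintro ⟨z, rfl⟩
    obtain ⟨w, rfl⟩ := surjective hPW z
    exact ⟨j.base w, ⟨w, rfl⟩, (key w).symm⟩
  · rintro ⟨_, ⟨w, rfl⟩, rfl⟩
    exact ⟨pW.base w, key w⟩

include hP hρW hPW hφ in
theorem injective : Function.Injective φ.base := by
  have key : ∀ w : W, φ.base (pW.base w) = p.base (j.base w) := fun w => by
    have := congrArg (fun f : W ⟶ XG => f.base w) hφ
    simpa using this
  intro z₁ z₂ h
  obtain ⟨w₁, rfl⟩ := surjective hPW z₁
  obtain ⟨w₂, rfl⟩ := surjective hPW z₂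
  rw [key, key] at h
  obtain ⟨g, hg⟩ := (app_eq_iff hP _ _).mp h
  have h1 : j.base ((ρW g).hom.base w₁) = (ρ g).hom.base (j.base w₁) := by
    have := congrArg (fun f : W ⟶ X => f.base w₁) (hρW g)
    simpa using this
  have h2 : (ρW g).hom.base w₁ = w₂ := j.isEmbedding.injective (h1.trans hg)
  exact (app_eq_iff hPW _ _).mpr ⟨g, h2⟩

include hP hρW hPW hφ in
theorem purelyInsep (w : W) :
    (φ.residueFieldMap (pW.base w)).hom.IsPurelyInseparable := by
  have ez : φ.base (pW.base w) = p.base (j.base w) := by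
    have := congrArg (fun f : W ⟶ XG => f.base w) hφ
    simpa using this
  have hb : IsIso (j.residueFieldMap w) := isIso_residueFieldMap_of_isPreimmersion j w
  let a₁ : XG.residueField (p.base (j.base w)) ⟶ WG.residueField (pW.base w) :=
    (XG.residueFieldCongr ez).inv ≫ φ.residueFieldMap (pW.base w)
  let a₂ : WG.residueField (pW.base w) ⟶ X.residueField (j.base w) :=
    pW.residueFieldMap w ≫ inv (j.residueFieldMap w)
  have h1 : φ.residueFieldMap (pW.base w) ≫ pW.residueFieldMap w =
      (XG.residueFieldCongr ez).hom ≫ p.residueFieldMap (j.base w) ≫ j.residueFieldMap w := by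
    have h1 := Scheme.Hom.residueFieldMap_congr hφ w
    rw [Scheme.residueFieldMap_comp, Scheme.residueFieldMap_comp] at h1
    exact h1
  have htower : a₁ ≫ a₂ = p.residueFieldMap (j.base w) := by
    calc a₁ ≫ a₂ = (XG.residueFieldCongr ez).inv ≫
          (φ.residueFieldMap (pW.base w) ≫ pW.residueFieldMap w) ≫
            inv (j.residueFieldMap w) := by
          simp only [a₁, a₂, Category.assoc]
      _ = (XG.residueFieldCongr ez).inv ≫
          ((XG.residueFieldCongr ez).hom ≫ p.residueFieldMap (j.base w) ≫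
            j.residueFieldMap w) ≫ inv (j.residueFieldMap w) := by rw [h1]
      _ = p.residueFieldMap (j.base w) := by simp
  -- the residue field at `j w` of `X`, a normal extension of the one of `X/G`
  obtain ⟨hN, hstab⟩ := Groth.Agent.S13597.result ρ p hP (j.base w)
  -- the key invariance
  have hfix : ∀ τ : X.residueField (j.base w) ≅ X.residueField (j.base w),
      p.residueFieldMap (j.base w) ≫ τ.hom = p.residueFieldMap (j.base w) →
      a₂ ≫ τ.hom = a₂ := by
    intro τ hτ
    obtain ⟨g, e', hg⟩ := hstab τ hτ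
    apply Spec.map_injective
    rw [← cancel_mono (WG.fromSpecResidueField (pW.base w))]
    let r : Spec (X.residueField (j.base w)) ⟶ W :=
      Spec.map (inv (j.residueFieldMap w)) ≫ W.fromSpecResidueField w
    have hrj : r ≫ j = X.fromSpecResidueField (j.base w) := by
      change (Spec.map (inv (j.residueFieldMap w)) ≫ W.fromSpecResidueField w) ≫ j = _
      rw [Category.assoc, ← Scheme.Hom.SpecMap_residueFieldMap_fromSpecResidueField,
        ← Category.assoc, ← Spec.map_comp]
      simp
    have hrp : Spec.map a₂ ≫ WG.fromSpecResidueField (pW.base w) = r ≫ pW := by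
      change Spec.map (pW.residueFieldMap w ≫ inv (j.residueFieldMap w)) ≫ _ =
        (Spec.map (inv (j.residueFieldMap w)) ≫ W.fromSpecResidueField w) ≫ pW
      rw [Spec.map_comp, Category.assoc, Category.assoc,
        Scheme.Hom.SpecMap_residueFieldMap_fromSpecResidueField]
    have hτX : Spec.map τ.hom ≫ X.fromSpecResidueField (j.base w) =
        X.fromSpecResidueField (j.base w) ≫ (ρ g).hom := by
      rw [hg, Spec.map_comp, Category.assoc, Scheme.residueFieldCongr_inv,
        Scheme.residueFieldCongr_fromSpecResidueField]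
      exact Scheme.Hom.SpecMap_residueFieldMap_fromSpecResidueField _ _
    have hτr : Spec.map τ.hom ≫ r = r ≫ (ρW g).hom := by
      apply (cancel_mono j).mp
      calc (Spec.map τ.hom ≫ r) ≫ j = Spec.map τ.hom ≫ (r ≫ j) := Category.assoc _ _ _
        _ = Spec.map τ.hom ≫ X.fromSpecResidueField (j.base w) := by rw [hrj]
        _ = X.fromSpecResidueField (j.base w) ≫ (ρ g).hom := hτX
        _ = (r ≫ j) ≫ (ρ g).hom := by rw [hrj]
        _ = r ≫ (j ≫ (ρ g).hom) := Category.assoc _ _ _
        _ = r ≫ ((ρW g).hom ≫ j) := congrArg (r ≫ ·) (hρW g).symm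
        _ = (r ≫ (ρW g).hom) ≫ j := (Category.assoc _ _ _).symm
    calc Spec.map (a₂ ≫ τ.hom) ≫ WG.fromSpecResidueField (pW.base w)
        = Spec.map τ.hom ≫ (Spec.map a₂ ≫ WG.fromSpecResidueField (pW.base w)) := by
          rw [Spec.map_comp, Category.assoc]
      _ = Spec.map τ.hom ≫ (r ≫ pW) := by rw [hrp]
      _ = (Spec.map τ.hom ≫ r) ≫ pW := (Category.assoc _ _ _).symm
      _ = (r ≫ (ρW g).hom) ≫ pW := by rw [hτr]
      _ = r ≫ ((ρW g).hom ≫ pW) := Category.assoc _ _ _
      _ = r ≫ pW := congrArg (r ≫ ·) (hPW.inv g)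
      _ = Spec.map a₂ ≫ WG.fromSpecResidueField (pW.base w) := hrp.symm
  -- apply the field-theoretic lemma
  let alg₁ : Algebra (XG.residueField (p.base (j.base w))) (WG.residueField (pW.base w)) :=
    a₁.hom.toAlgebra
  let alg₂ : Algebra (WG.residueField (pW.base w)) (X.residueField (j.base w)) :=
    a₂.hom.toAlgebra
  let alg₃ : Algebra (XG.residueField (p.base (j.base w))) (X.residueField (j.base w)) :=
    (p.residueFieldMap (j.base w)).hom.toAlgebra
  have : IsScalarTower (XG.residueField (p.base (j.base w))) (WG.residueField (pW.base w))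
      (X.residueField (j.base w)) := by
    refine IsScalarTower.of_algebraMap_eq fun c => ?_
    have := congrArg (fun f => f.hom c) htower
    exact this.symm
  have : Normal (XG.residueField (p.base (j.base w))) (X.residueField (j.base w)) := hN
  have hpi : IsPurelyInseparable (XG.residueField (p.base (j.base w)))
      (WG.residueField (pW.base w)) := by
    refine isPurelyInseparable_of_aut_fix (L := X.residueField (j.base w)) fun τ c => ?_
    have hτ' : p.residueFieldMap (j.base w) ≫ (τ.toRingEquiv.toCommRingCatIso).hom =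
        p.residueFieldMap (j.base w) := by
      ext c
      exact τ.commutes c
    have := hfix τ.toRingEquiv.toCommRingCatIso hτ'
    exact congrArg (fun f => f.hom c) this
  have ha₁ : a₁.hom.IsPurelyInseparable := hpi
  have hφeq : φ.residueFieldMap (pW.base w) = (XG.residueFieldCongr ez).hom ≫ a₁ := by
    simp [a₁]
  rw [hφeq, CommRingCat.hom_comp]
  refine RingHom.IsPurelyInseparable.comp ?_ ha₁
  exact isPurelyInseparable_of_bijective (XG.residueFieldCongr ez).hom.hom
    (ConcreteCategory.bijective_of_isIso (XG.residueFieldCongr ez).hom).2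

include hP hρW hPW hφ in
theorem universallyInjective : UniversallyInjective φ := by
  have h := (tfae_universallyInjective φ).out 0 2
  refine h.mpr ⟨injective ρ p hP j ρW hρW pW hPW φ hφ, ?_⟩
  intro y
  obtain ⟨w, rfl⟩ := surjective hPW y
  exact purelyInsep ρ p hP j ρW hρW pW hPW φ hφ w

end Main

end Groth.Agent.Lib27.Radicial
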