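import Groth.Agent.Lib.Helper7.FiniteQuotient

set_option autoImplicit false

universe u

open CategoryTheory AlgebraicGeometry SGA1 Limits TopologicalSpace
open Groth.Agent.Lib.Helper7.FiniteQuotient

namespace Groth.Agent.Lib27.QuotStages

/-- Quotients in stages. -/
theorem stages {X X₁ X₂ : Scheme.{u}} {Γ N K : Type u} [Group Γ] [Group N] [Group K]
    (θ : Γ →* Aut X) (iN : N →* Γ) (iK : K →* Γ)
    (π₁ : X ⟶ X₁) (h₁ : IsQuot (θ.comp iN) π₁)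
    (θ₂ : K →* Aut X₁) (hθ₂ : ∀ k, (θ (iK k)).hom ≫ π₁ = π₁ ≫ (θ₂ k).hom)
    (π₂ : X₁ ⟶ X₂) (h₂ : IsQuot θ₂ π₂)
    (hinv : ∀ γ, (θ γ).hom ≫ π₁ ≫ π₂ = π₁ ≫ π₂) : IsQuot θ (π₁ ≫ π₂) := by
  have haff₁ : IsAffineHom π₁ := h₁.affine
  have haff₂ : IsAffineHom π₂ := h₂.affine
  have hcomp : ∀ U : X₂.Opens, (π₁ ≫ π₂).app U = π₂.app U ≫ π₁.app (π₂ ⁻¹ᵁ U) :=
    fun U => Scheme.Hom.comp_app π₁ π₂ U
  refine ⟨inferInstance, hinv, ?_, ?_⟩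
  · intro U a b hab
    apply h₂.injective U
    apply h₁.injective (π₂ ⁻¹ᵁ U)
    exact hab
  · intro U s
    constructor
    · rintro ⟨b, rfl⟩ γ
      exact congrArg (fun f => f.hom b) (app_actHom θ (π₁ ≫ π₂) hinv U γ)
    · intro hs
      have hsN : ∀ n : N, (actHom (θ.comp iN) π₁ h₁.inv (π₂ ⁻¹ᵁ U) n).hom s = s :=
        fun n => hs (iN n)
      obtain ⟨t, ht⟩ := (h₁.range_iff (π₂ ⁻¹ᵁ U) s).mpr hsN
      have hle : (π₁ ≫ π₂) ⁻¹ᵁ U ≤ π₁ ⁻¹ᵁ (π₂ ⁻¹ᵁ U) := le_of_eq rfl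
      have hJ : ∀ x, (π₁.appLE (π₂ ⁻¹ᵁ U) ((π₁ ≫ π₂) ⁻¹ᵁ U) hle).hom x =
          (π₁.app (π₂ ⁻¹ᵁ U)).hom x := by
        intro x
        rw [Scheme.Hom.app_eq_appLE]
        rfl
      have htK : ∀ k : K, (actHom θ₂ π₂ h₂.inv U k).hom t = t := by
        intro k
        apply h₁.injective (π₂ ⁻¹ᵁ U)
        have h3 : actHom θ₂ π₂ h₂.inv U k ≫ π₁.appLE (π₂ ⁻¹ᵁ U) ((π₁ ≫ π₂) ⁻¹ᵁ U) hle =
            π₁.appLE (π₂ ⁻¹ᵁ U) ((π₁ ≫ π₂) ⁻¹ᵁ U) hle ≫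
              actHom θ (π₁ ≫ π₂) hinv U (iK k) := by
          unfold actHom
          rw [Scheme.Hom.appLE_comp_appLE, Scheme.Hom.appLE_comp_appLE,
            appLE_congr_hom (hθ₂ k)]
        have h4 := congrArg (fun f => f.hom t) h3
        simp only [CommRingCat.hom_comp, RingHom.comp_apply] at h4
        rw [← hJ, ← hJ, h4, hJ, ht]
        exact hs (iK k)
      obtain ⟨b, hb⟩ := (h₂.range_iff U t).mpr htK
      refine ⟨b, ?_⟩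
      rw [← ht, ← hb]
      rfl

end Groth.Agent.Lib27.QuotStages
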