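import Groth.Agent.Lib27.Sch.CMPoints
import Groth.Agent.Lib.Helper25.RegularSmooth

/-!
# Regular local rings of a scheme along specializations
-/

set_option autoImplicit false
universe u
open CategoryTheory AlgebraicGeometry

namespace Groth.Agent.Lib27.RegPoints

section Ring

variable {R : Type u} [CommRing R]

/-- Regularity passes to smaller primes. -/
theorem isReg_atPrime_of_le (m p : Ideal R) [hm : m.IsPrime] [hp : p.IsPrime] (hpm : p ≤ m)
    [hCM : IsRegularLocalRing (Localization.AtPrime m)] :
    IsRegularLocalRing (Localization.AtPrime p) := by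
  haveI hA : IsRegularRing (Localization.AtPrime m) :=
    Groth.Agent.Lib.Helper25.RegularSmooth.isRegularRing_of_isRegularLocalRing
      (Localization.AtPrime m)
  have hdisj : Disjoint (m.primeCompl : Set R) (p : Set R) := by
    rw [Set.disjoint_left]
    intro x hx hxp
    exact hx (hpm hxp)
  set q : Ideal (Localization.AtPrime m) := p.map (algebraMap R (Localization.AtPrime m)) with hq
  haveI hqp : q.IsPrime :=
    IsLocalization.isPrime_of_isPrime_disjoint m.primeCompl (Localization.AtPrime m) p hp hdisj
  have hcomap : q.comap (algebraMap R (Localization.AtPrime m)) = p :=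
    IsLocalization.comap_map_of_isPrime_disjoint m.primeCompl (Localization.AtPrime m) hp hdisj
  haveI := hA.isRegularLocalRing_localization q
  have key : ∀ (p' : Ideal R) [p'.IsPrime], p' = p →
      (Localization.AtPrime p' ≃+* Localization.AtPrime q) →
      IsRegularLocalRing (Localization.AtPrime p) := by
    intro p' _ hp' e
    subst hp'
    exact IsRegularLocalRing.of_ringEquiv e.symm
  haveI : (q.comap (algebraMap R (Localization.AtPrime m))).IsPrime := Ideal.comap_isPrime _ _
  exact key _ hcomap
    (IsLocalization.localizationLocalizationAtPrimeIsoLocalization m.primeCompl q).toRingEquiv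

end Ring

section Scheme

open Groth.Agent.Lib27.CMPoints

variable {X : Scheme.{u}}

theorem reg_stalk_iff_atPrime {U : X.Opens} (hU : IsAffineOpen U) (x : X) (hx : x ∈ U) :
    IsRegularLocalRing (X.presheaf.stalk x) ↔
      IsRegularLocalRing (Localization.AtPrime (hU.primeIdealOf ⟨x, hx⟩).asIdeal) := by
  constructor
  · intro h
    exact IsRegularLocalRing.of_ringEquiv (stalkEquiv hU x hx)
  · intro h
    exact IsRegularLocalRing.of_ringEquiv (stalkEquiv hU x hx).symm

/-- regularity of local rings passes to generizations -/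
theorem reg_of_specializes {x z : X} (h : x ⤳ z)
    (hz : IsRegularLocalRing (X.presheaf.stalk z)) :
    IsRegularLocalRing (X.presheaf.stalk x) := by
  obtain ⟨_, ⟨U, hU : IsAffineOpen U, rfl⟩, hzU, -⟩ :=
    X.isBasis_affineOpens.exists_subset_of_mem_open (Set.mem_univ z) isOpen_univ
  have hxU : x ∈ U := h.mem_open U.2 hzU
  rw [reg_stalk_iff_atPrime hU x hxU]
  rw [reg_stalk_iff_atPrime hU z hzU] at hz
  have hle := (Groth.Agent.Lib.Helper9.ClosedPt.specializes_iff_primeIdealOf_le hU
    ⟨x, hxU⟩ ⟨z, hzU⟩).mp h
  exact isReg_atPrime_of_le (hU.primeIdealOf ⟨z, hzU⟩).asIdeal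
    (hU.primeIdealOf ⟨x, hxU⟩).asIdeal hle

end Scheme

end Groth.Agent.Lib27.RegPoints
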