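import Mathlib
import Groth.Agent.Lib27.Sch.AdmBlowup
import Groth.Prelude.Def_CInt

/-!
# Morphisms agreeing on a relatively schematically dense open (helper27)
-/

set_option autoImplicit false

universe u

open CategoryTheory CategoryTheory.Limits AlgebraicGeometry TopologicalSpace

namespace Groth.Agent.Lib27.RelSchDense

/-- a schematically dense open has trivial kernel ideal sheaf. -/
theorem ker_ι_eq_bot_of_isSchematicallyDense {X : Scheme.{u}} (U : X.Opens)
    (hU : CInt.IsSchematicallyDense U) : U.ι.ker = ⊥ := by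
  rw [eq_bot_iff]
  intro V
  refine (U.ι.ideal_ker_le V).trans ?_
  intro x hx
  rw [RingHom.mem_ker] at hx
  change x ∈ (⊥ : Ideal Γ(X, V.1))
  rw [Ideal.mem_bot]
  apply hU V.1
  rw [map_zero]
  have hle : V.1 ⊓ U ≤ U.ι ''ᵁ U.ι ⁻¹ᵁ V.1 := by
    rintro y ⟨hyV, hyU⟩
    exact ⟨⟨y, hyU⟩, hyV, rfl⟩
  have h1 : X.presheaf.map (homOfLE (inf_le_left : V.1 ⊓ U ≤ V.1)).op =
      X.presheaf.map (homOfLE (x := U.ι ''ᵁ U.ι ⁻¹ᵁ V.1) (Set.image_preimage_subset _ _)).op ≫
        X.presheaf.map (homOfLE hle).op := by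
    rw [← Functor.map_comp]; rfl
  rw [h1, CommRingCat.comp_apply]
  have h2 : (X.presheaf.map
      (homOfLE (x := U.ι ''ᵁ U.ι ⁻¹ᵁ V.1) (Set.image_preimage_subset _ _)).op).hom x = 0 := hx
  rw [h2, map_zero]

/-- transfer of the trivial kernel along an isomorphism. -/
theorem ker_ι_eq_bot_of_iso {P X : Scheme.{u}} (e : P ⟶ X) [IsIso e] (U : X.Opens)
    (h : (e ⁻¹ᵁ U).ι.ker = ⊥) : U.ι.ker = ⊥ := by
  have h1 : (e ∣_ U) ≫ U.ι = (e ⁻¹ᵁ U).ι ≫ e := morphismRestrict_ι e U
  haveI : IsIso (e ∣_ U) := inferInstance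
  have h2 : ((e ∣_ U) ≫ U.ι).ker = U.ι.ker := Scheme.Hom.ker_comp_of_isIso _ _
  rw [← h2, h1, Scheme.Hom.ker_comp, h, Scheme.IdealSheafData.map_bot]
  exact Scheme.Hom.ker_eq_bot e

/-- **two morphisms to a scheme with separated fibres which agree on a relatively schematically
dense open are equal**. -/
theorem eq_of_eq_on_relSchDense (S : Scheme.{u}) (X Y : Over S) (U : X.left.Opens)
    (hU : ∀ (S' : Scheme.{u}) (g : S' ⟶ S),
      CInt.IsSchematicallyDense ((pullback.fst X.hom g) ⁻¹ᵁ U))
    (hY : ∀ s : S, IsSeparated (pullback.snd Y.hom (S.fromSpecResidueField s)))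
    (f g : X ⟶ Y) (h : U.ι ≫ f.left = U.ι ≫ g.left) : f = g := by
  -- `U` itself has trivial kernel
  have hUker : U.ι.ker = ⊥ :=
    ker_ι_eq_bot_of_iso (pullback.fst X.hom (𝟙 S)) U
      (ker_ι_eq_bot_of_isSchematicallyDense _ (hU S (𝟙 S)))
  -- agreement on residue field points, through the fibres
  have hpt : ∀ x : X.left, X.left.fromSpecResidueField x ≫ f.left =
      X.left.fromSpecResidueField x ≫ g.left := by
    intro x
    set s : S := X.hom x with hs
    let σ := S.fromSpecResidueField s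
    haveI := hY s
    let fs : pullback X.hom σ ⟶ pullback Y.hom σ :=
      pullback.map X.hom σ Y.hom σ f.left (𝟙 _) (𝟙 _) (by rw [Category.comp_id, Over.w f])
        (by rw [Category.comp_id, Category.id_comp])
    let gs : pullback X.hom σ ⟶ pullback Y.hom σ :=
      pullback.map X.hom σ Y.hom σ g.left (𝟙 _) (𝟙 _) (by rw [Category.comp_id, Over.w g])
        (by rw [Category.comp_id, Category.id_comp])
    have hfs1 : fs ≫ pullback.fst Y.hom σ = pullback.fst X.hom σ ≫ f.left :=
      pullback.lift_fst _ _ _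
    have hgs1 : gs ≫ pullback.fst Y.hom σ = pullback.fst X.hom σ ≫ g.left :=
      pullback.lift_fst _ _ _
    have hfs2 : fs ≫ pullback.snd Y.hom σ = pullback.snd X.hom σ := by
      rw [pullback.lift_snd, Category.comp_id]
    have hgs2 : gs ≫ pullback.snd Y.hom σ = pullback.snd X.hom σ := by
      rw [pullback.lift_snd, Category.comp_id]
    set Us : (pullback X.hom σ).Opens := (pullback.fst X.hom σ) ⁻¹ᵁ U with hUs
    have hker : Us.ι.ker = ⊥ := ker_ι_eq_bot_of_isSchematicallyDense _ (hU _ σ)
    have hres : Us.ι ≫ pullback.fst X.hom σ = (pullback.fst X.hom σ ∣_ U) ≫ U.ι :=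
      (morphismRestrict_ι _ U).symm
    have hagree : Us.ι ≫ fs = Us.ι ≫ gs := by
      apply pullback.hom_ext
      · rw [Category.assoc, Category.assoc, hfs1, hgs1, ← Category.assoc, ← Category.assoc,
          hres, Category.assoc, Category.assoc, h]
      · rw [Category.assoc, Category.assoc, hfs2, hgs2]
    have hfg : fs = gs :=
      Groth.Agent.Lib27.AdmBlowup.ext_of_ker_eq_bot_of_isSeparated (pullback.snd Y.hom σ)
        (by rw [hfs2, hgs2]) Us.ι hker hagree
    -- the point `x` lifts to the fibre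
    let k : Spec (X.left.residueField x) ⟶ pullback X.hom σ :=
      pullback.lift (X.left.fromSpecResidueField x) (Spec.map (X.hom.residueFieldMap x))
        (Scheme.Hom.SpecMap_residueFieldMap_fromSpecResidueField X.hom x).symm
    have hk : k ≫ pullback.fst X.hom σ = X.left.fromSpecResidueField x := pullback.lift_fst _ _ _
    rw [← hk, Category.assoc, Category.assoc, ← hfs1, ← hgs1, hfg]
  -- the equalizer is a surjective immersion, hence a closed immersion
  let ι : equalizer f.left g.left ⟶ X.left := equalizer.ι f.left g.left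
  have hsurj : Function.Surjective ι := by
    intro x
    refine ⟨equalizer.lift _ (hpt x) (IsLocalRing.closedPoint _), ?_⟩
    rw [← Scheme.Hom.comp_apply, equalizer.lift_ι, Scheme.fromSpecResidueField_apply]
  haveI : IsClosedImmersion ι := by
    refine IsClosedImmersion.of_isPreimmersion ι ?_
    rw [Set.range_eq_univ.mpr hsurj]
    exact isClosed_univ
  have hfac : equalizer.lift U.ι h ≫ ι = U.ι := equalizer.lift_ι _ _
  have hιker : ι.ker = ⊥ := by
    rw [eq_bot_iff, ← hUker, ← hfac]
    exact Scheme.Hom.le_ker_comp _ _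
  haveI : IsIso ι := IsClosedImmersion.isIso_iff_ker_eq_bot.mpr hιker
  ext1
  rw [← cancel_epi ι]
  exact equalizer.condition f.left g.left

end Groth.Agent.Lib27.RelSchDense
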