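import Groth.Agent.Lib27.Sch.P1Chart
import Groth.Prelude.Def_W4c5nonratstablectREq
import Mathlib.Algebra.MvPolynomial.Funext

/-!
# Retract rational ⇒ direct R-links, with explicit open
-/

universe u

open AlgebraicGeometry CategoryTheory CategoryTheory.Limits

namespace Groth.Agent.Lib27.RetractLink

variable {k : Type u} [Field k] {X : Scheme.{u}} (f : X ⟶ Spec (CommRingCat.of k))

theorem elemLink_of_retract (U : X.Opens) (n : ℕ)
    (V : (Spec (CommRingCat.of (MvPolynomial (Fin n) k))).Opens)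
    (a : (U : Scheme.{u}) ⟶ (V : Scheme.{u})) (b : (V : Scheme.{u}) ⟶ (U : Scheme.{u}))
    (hab : a ≫ b = 𝟙 (U : Scheme.{u}))
    (ha : a ≫ V.ι ≫ Spec.map (CommRingCat.ofHom (algebraMap k (MvPolynomial (Fin n) k))) =
      U.ι ≫ f)
    (hb : b ≫ U.ι ≫ f =
      V.ι ≫ Spec.map (CommRingCat.ofHom (algebraMap k (MvPolynomial (Fin n) k))))
    (K : Type u) [Field K] [Algebra k K] (A B : REq.Pts (U.ι ≫ f) K) :
    REq.ElemLink (U.ι ≫ f) K A B := by
  have hA : (A.1 ≫ a ≫ V.ι) ≫
      Spec.map (CommRingCat.ofHom (algebraMap k (MvPolynomial (Fin n) k))) =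
      Spec.map (CommRingCat.ofHom (algebraMap k K)) := by
    rw [Category.assoc, Category.assoc, ha]
    exact A.2
  have hB : (B.1 ≫ a ≫ V.ι) ≫
      Spec.map (CommRingCat.ofHom (algebraMap k (MvPolynomial (Fin n) k))) =
      Spec.map (CommRingCat.ofHom (algebraMap k K)) := by
    rw [Category.assoc, Category.assoc, ha]
    exact B.2
  obtain ⟨va, hva⟩ := Groth.Agent.Lib27.P1Chart.point_eq k K n _ hA
  obtain ⟨vb, hvb⟩ := Groth.Agent.Lib27.P1Chart.point_eq k K n _ hB
  have hr : ∀ (C : Spec (CommRingCat.of K) ⟶ (U : Scheme.{u})),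
      Set.range (C ≫ a ≫ V.ι) ⊆ (V : Set _) := by
    intro C
    rintro _ ⟨x, rfl⟩
    have h1 : (C ≫ a ≫ V.ι) x ∈ Set.range V.ι := ⟨(C ≫ a) x, by simp⟩
    rw [Scheme.Opens.range_ι] at h1
    exact h1
  have hraV := hr A.1
  have hrbV := hr B.1
  rw [hva] at hraV
  rw [hvb] at hrbV
  obtain ⟨U', h, a', b', h1, h2, h3, h4, h5⟩ :=
    Groth.Agent.Lib27.P1Chart.exists_link k K n V va vb hraV hrbV
  refine ⟨U', h ≫ b, a', b', ?_, h2, h3, ?_, ?_⟩
  · rw [Category.assoc, hb, h1]
  · have h6 : a' ≫ h = A.1 ≫ a := by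
      rw [← cancel_mono V.ι]
      simp only [Category.assoc]
      rw [h4, hva]
    rw [← Category.assoc, h6, Category.assoc, hab, Category.comp_id]
  · have h6 : b' ≫ h = B.1 ≫ a := by
      rw [← cancel_mono V.ι]
      simp only [Category.assoc]
      rw [h5, hvb]
    rw [← Category.assoc, h6, Category.assoc, hab, Category.comp_id]

/-- a nonempty open of affine space over an infinite field has a rational point -/
theorem exists_kpoint [Infinite k] (n : ℕ)
    (V : (Spec (CommRingCat.of (MvPolynomial (Fin n) k))).Opens)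
    (hV : (V : Set (Spec (CommRingCat.of (MvPolynomial (Fin n) k)))).Nonempty) :
    ∃ c : Fin n → k, Set.range (Spec.map (CommRingCat.ofHom (MvPolynomial.eval c))) ⊆
      (V : Set (Spec (CommRingCat.of (MvPolynomial (Fin n) k)))) := by
  obtain ⟨x, hx⟩ := hV
  obtain ⟨_, ⟨g, rfl⟩, hxg, hgV⟩ :=
    PrimeSpectrum.isTopologicalBasis_basic_opens.exists_subset_of_mem_open
      (a := (x : PrimeSpectrum (MvPolynomial (Fin n) k))) hx V.2
  have hg0 : g ≠ 0 := by
    rintro rfl
    exact hxg (Ideal.zero_mem _)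
  have : ∃ c : Fin n → k, MvPolynomial.eval c g ≠ 0 := by
    by_contra hcon
    push Not at hcon
    exact hg0 (MvPolynomial.funext (fun c => by rw [hcon c, map_zero]))
  obtain ⟨c, hc⟩ := this
  refine ⟨c, ?_⟩
  rintro _ ⟨y, rfl⟩
  apply hgV
  rw [Spec.map_apply]
  change g ∉ ((PrimeSpectrum.comap (CommRingCat.ofHom (MvPolynomial.eval c)).hom y).asIdeal)
  rw [PrimeSpectrum.comap_asIdeal, Ideal.mem_comap]
  intro hmem
  exact (y.isPrime.ne_top) (Ideal.eq_top_of_isUnit_mem _ hmem (IsUnit.mk0 _ hc))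

end Groth.Agent.Lib27.RetractLink
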