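import Mathlib
import Groth.Agent.Lib27.Sch.RelSchDense

/-!
# Faithfully flat separated schematically birational morphisms are isomorphisms (helper27)
-/

set_option autoImplicit false

universe u

open CategoryTheory CategoryTheory.Limits AlgebraicGeometry TopologicalSpace

namespace Groth.Agent.Lib27.SchBirational

open Groth.Agent.Lib27.RelSchDense

/-- **a faithfully flat quasi-compact separated morphism which restricts to an isomorphism between
schematically dense opens (the one upstairs retrocompact) is an isomorphism**. -/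
theorem isIso_of_faithfullyFlat_separated_schematicallyBirational {X S : Scheme.{u}} (f : X ⟶ S)
    [Flat f] [Surjective f] [QuasiCompact f] [IsSeparated f]
    (U : S.Opens) (V : X.Opens) [QuasiCompact V.ι]
    (hV : CInt.IsSchematicallyDense V)
    (hle : V ≤ f ⁻¹ᵁ U) (hiso : IsIso (f.resLE U V hle)) : IsIso f := by
  haveI hVdom : IsSchemeTheoreticallyDominant V.ι :=
    ⟨ker_ι_eq_bot_of_isSchematicallyDense V hV⟩
  let p₁ : pullback f f ⟶ X := pullback.fst f f
  let p₂ : pullback f f ⟶ X := pullback.snd f f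
  haveI : Flat p₁ := inferInstance
  haveI : Flat p₂ := inferInstance
  let O₁ : (pullback f f).Opens := p₁ ⁻¹ᵁ V
  let O₂ : (pullback f f).Opens := p₂ ⁻¹ᵁ V
  -- `O₁` and `O₂` are schematically dense and retrocompact in the product
  have sq₁ : IsPullback (p₁ ∣_ V) O₁.ι V.ι p₁ := isPullback_morphismRestrict p₁ V
  have sq₂ : IsPullback (p₂ ∣_ V) O₂.ι V.ι p₂ := isPullback_morphismRestrict p₂ V
  haveI hO₁ : IsSchemeTheoreticallyDominant O₁.ι := IsSchemeTheoreticallyDominant.of_isPullback sq₁
  haveI hO₂ : IsSchemeTheoreticallyDominant O₂.ι := IsSchemeTheoreticallyDominant.of_isPullback sq₂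
  haveI hq₂ : QuasiCompact O₂.ι := MorphismProperty.of_isPullback sq₂ inferInstance
  -- the intersection, as an open of `O₁`
  let D : O₁.toScheme.Opens := O₁.ι ⁻¹ᵁ O₂
  have sq₃ : IsPullback (O₁.ι ∣_ O₂) D.ι O₂.ι O₁.ι := isPullback_morphismRestrict O₁.ι O₂
  haveI hD : IsSchemeTheoreticallyDominant D.ι := IsSchemeTheoreticallyDominant.of_isPullback sq₃
  let j : D.toScheme ⟶ pullback f f := D.ι ≫ O₁.ι
  haveI hj : IsSchemeTheoreticallyDominant j := inferInstance
  -- on `D` the two projections agree
  have hr₁ : Set.range (j ≫ p₁) ⊆ Set.range V.ι := by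
    rintro _ ⟨d, rfl⟩
    rw [Scheme.Opens.range_ι]
    exact d.1.2
  have hr₂ : Set.range (j ≫ p₂) ⊆ Set.range V.ι := by
    rintro _ ⟨d, rfl⟩
    rw [Scheme.Opens.range_ι]
    exact d.2
  let k₁ : D.toScheme ⟶ V.toScheme := IsOpenImmersion.lift V.ι (j ≫ p₁) hr₁
  let k₂ : D.toScheme ⟶ V.toScheme := IsOpenImmersion.lift V.ι (j ≫ p₂) hr₂
  have hk₁ : k₁ ≫ V.ι = j ≫ p₁ := IsOpenImmersion.lift_fac _ _ _
  have hk₂ : k₂ ≫ V.ι = j ≫ p₂ := IsOpenImmersion.lift_fac _ _ _
  have hk : k₁ = k₂ := by
    haveI := hiso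
    rw [← cancel_mono (f.resLE U V hle), ← cancel_mono U.ι, Category.assoc, Category.assoc,
      Scheme.Hom.resLE_comp_ι, ← Category.assoc, ← Category.assoc, hk₁, hk₂, Category.assoc,
      Category.assoc]
    exact congrArg (j ≫ ·) pullback.condition
  have hp : j ≫ p₁ = j ≫ p₂ := by rw [← hk₁, ← hk₂, hk]
  -- so `j` factors through the diagonal
  have hfac : (j ≫ p₁) ≫ pullback.diagonal f = j := by
    apply pullback.hom_ext
    · rw [Category.assoc, pullback.diagonal_fst, Category.comp_id]
    · rw [Category.assoc, pullback.diagonal_snd, Category.comp_id]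
      exact hp
  haveI : IsIso (pullback.diagonal f) := by
    refine IsClosedImmersion.isIso_iff_ker_eq_bot.mpr ?_
    rw [eq_bot_iff, ← hj.ker_eq_bot, ← hfac]
    exact Scheme.Hom.le_ker_comp _ _
  -- hence the first projection is an isomorphism, and we conclude by descent
  have hp₁ : IsIso p₁ := by
    have h1 : pullback.diagonal f ≫ p₁ = 𝟙 X := pullback.diagonal_fst f
    have h2 : p₁ = inv (pullback.diagonal f) := by
      rw [← cancel_epi (pullback.diagonal f), h1, IsIso.hom_inv_id]
    rw [h2]; infer_instance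
  exact MorphismProperty.of_pullback_fst_of_descendsAlong
    (P := MorphismProperty.isomorphisms Scheme.{u})
    (Q := (@Surjective ⊓ @Flat ⊓ @QuasiCompact : MorphismProperty Scheme.{u})) (f := f) (g := f)
    ⟨⟨inferInstance, inferInstance⟩, inferInstance⟩ hp₁

end Groth.Agent.Lib27.SchBirational
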