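import Mathlib
import Groth.Agent.Lib27.Sch.RelSchDense

/-!
# Sections of morphisms which are isomorphisms over a schematically dense open (helper27)
-/

set_option autoImplicit false

universe u

open CategoryTheory CategoryTheory.Limits AlgebraicGeometry TopologicalSpace

namespace Groth.Agent.Lib27.SectionDense

open Groth.Agent.Lib27.RelSchDense

/-- a schematically dense open stays schematically dense in any open subscheme. -/
theorem isSchematicallyDense_restrict {X : Scheme.{u}} (U : X.Opens)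
    (hU : CInt.IsSchematicallyDense U) (W : X.Opens) :
    CInt.IsSchematicallyDense (W.ι ⁻¹ᵁ U) := by
  intro V' a b hab
  -- sections of `W` over `V'` are sections of `X` over the image
  have hle : (W.ι ''ᵁ V') ⊓ U ≤ W.ι ''ᵁ (V' ⊓ W.ι ⁻¹ᵁ U) := by
    rintro _ ⟨⟨w, hwV, rfl⟩, hwU⟩
    exact ⟨w, ⟨hwV, hwU⟩, rfl⟩
  have hle2 : W.ι ''ᵁ (V' ⊓ W.ι ⁻¹ᵁ U) ≤ W.ι ''ᵁ V' := by
    rintro _ ⟨w, ⟨hwV, -⟩, rfl⟩
    exact ⟨w, hwV, rfl⟩
  have key : X.presheaf.map (homOfLE (inf_le_left : (W.ι ''ᵁ V') ⊓ U ≤ W.ι ''ᵁ V')).op =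
      X.presheaf.map (homOfLE hle2).op ≫ X.presheaf.map (homOfLE hle).op := by
    rw [← Functor.map_comp]; rfl
  apply hU (W.ι ''ᵁ V')
  rw [key, CommRingCat.comp_apply, CommRingCat.comp_apply]
  have hab' : (X.presheaf.map (homOfLE hle2).op).hom a = (X.presheaf.map (homOfLE hle2).op).hom b :=
    hab
  rw [hab']

/-- a closed immersion through which a schematically dense open immersion factors is an
isomorphism. -/
theorem isIso_of_closedImmersion_of_dense {S W : Scheme.{u}} (i : S ⟶ W) [IsClosedImmersion i]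
    (D : W.Opens) (hD : D.ι.ker = ⊥) (τ : D.toScheme ⟶ S) (hτ : τ ≫ i = D.ι) : IsIso i := by
  refine IsClosedImmersion.isIso_iff_ker_eq_bot.mpr ?_
  rw [eq_bot_iff, ← hD, ← hτ]
  exact Scheme.Hom.le_ker_comp _ _

/-- **a section of a morphism which is an isomorphism over a schematically dense open, with
schematically dense preimage, has an open neighbourhood mapping isomorphically onto the base**. -/
theorem exists_open_isIso_of_section {E S : Scheme.{u}} (f : E ⟶ S) (U : S.Opens)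
    (hiso : IsIso (f ∣_ U)) (hdense : CInt.IsSchematicallyDense (f ⁻¹ᵁ U))
    (σ : S ⟶ E) (hσ : σ ≫ f = 𝟙 S) :
    ∃ W : E.Opens, Set.range σ ⊆ (W : Set E) ∧ IsIso (W.ι ≫ f) := by
  haveI : IsImmersion (σ ≫ f) := by rw [hσ]; infer_instance
  haveI : IsImmersion σ := IsImmersion.of_comp σ f
  let W : E.Opens := σ.coborderRange
  let σ' : S ⟶ W.toScheme := σ.liftCoborder
  have hσ' : σ' ≫ W.ι = σ := σ.liftCoborder_ι
  -- the dense open of `W`
  let D : W.toScheme.Opens := W.ι ⁻¹ᵁ (f ⁻¹ᵁ U)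
  have hD : D.ι.ker = ⊥ :=
    ker_ι_eq_bot_of_isSchematicallyDense _ (isSchematicallyDense_restrict _ hdense W)
  -- `σ` restricted to `U` is the inverse of `f ∣_ U`
  have hrange : Set.range (U.ι ≫ σ) ⊆ Set.range (f ⁻¹ᵁ U).ι := by
    rintro _ ⟨u, rfl⟩
    rw [Scheme.Opens.range_ι]
    change f ((U.ι ≫ σ) u) ∈ U
    rw [← Scheme.Hom.comp_apply, Category.assoc, hσ, Category.comp_id]
    exact u.2
  let k : U.toScheme ⟶ (f ⁻¹ᵁ U).toScheme := IsOpenImmersion.lift (f ⁻¹ᵁ U).ι (U.ι ≫ σ) hrange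
  have hk : k ≫ (f ⁻¹ᵁ U).ι = U.ι ≫ σ := IsOpenImmersion.lift_fac _ _ _
  have hk1 : k ≫ (f ∣_ U) = 𝟙 _ := by
    rw [← cancel_mono U.ι, Category.assoc, morphismRestrict_ι, ← Category.assoc, hk,
      Category.assoc, hσ, Category.comp_id, Category.id_comp]
  have hk2 : (f ∣_ U) ≫ k = 𝟙 _ := by
    haveI := hiso
    rw [← cancel_mono (f ∣_ U), Category.assoc, hk1, Category.comp_id, Category.id_comp]
  have hfσ : (f ⁻¹ᵁ U).ι ≫ f ≫ σ = (f ⁻¹ᵁ U).ι := by
    rw [← Category.assoc, ← morphismRestrict_ι, Category.assoc, ← hk, ← Category.assoc, hk2,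
      Category.id_comp]
  -- the factorization of `D` through `σ'`
  have hDle : Set.range (D.ι ≫ W.ι) ⊆ Set.range (f ⁻¹ᵁ U).ι := by
    rintro _ ⟨d, rfl⟩
    rw [Scheme.Opens.range_ι]
    exact d.2
  let m : D.toScheme ⟶ (f ⁻¹ᵁ U).toScheme :=
    IsOpenImmersion.lift (f ⁻¹ᵁ U).ι (D.ι ≫ W.ι) hDle
  have hm : m ≫ (f ⁻¹ᵁ U).ι = D.ι ≫ W.ι := IsOpenImmersion.lift_fac _ _ _
  let τ : D.toScheme ⟶ S := D.ι ≫ W.ι ≫ f
  have hτ : τ ≫ σ' = D.ι := by
    rw [← cancel_mono W.ι, Category.assoc, hσ']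
    change (D.ι ≫ W.ι ≫ f) ≫ σ = D.ι ≫ W.ι
    calc (D.ι ≫ W.ι ≫ f) ≫ σ = (D.ι ≫ W.ι) ≫ f ≫ σ := by
          simp only [Category.assoc]
      _ = m ≫ (f ⁻¹ᵁ U).ι ≫ f ≫ σ := by rw [← hm, Category.assoc]
      _ = D.ι ≫ W.ι := by rw [hfσ, hm]
  have : IsIso σ' := isIso_of_closedImmersion_of_dense σ' D hD τ hτ
  refine ⟨W, ?_, ?_⟩
  · rintro _ ⟨s, rfl⟩
    rw [← hσ', Scheme.Hom.comp_apply]
    exact (σ' s).2
  · have h1 : σ' ≫ (W.ι ≫ f) = 𝟙 S := by rw [← Category.assoc, hσ', hσ]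
    have h2 : W.ι ≫ f = inv σ' := by
      rw [← cancel_epi σ', h1, IsIso.hom_inv_id]
    rw [h2]
    infer_instance

end Groth.Agent.Lib27.SectionDense
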