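import Groth.Agent.Lib27.Sch.CompleteLocalHom
import Mathlib.AlgebraicGeometry.Cover.Open
import Mathlib.RingTheory.Localization.Away.Basic

/-!
# `Spec` of an injective ring map which is surjective on spectra is an epimorphism of schemes
-/

set_option autoImplicit false
universe u

open CategoryTheory AlgebraicGeometry

namespace Groth.Agent.Lib27.SpecEpi

open Groth.Agent.Lib27.CompleteLocalHom in
theorem comp_eq_of_injective {R R' : CommRingCat.{u}} (φ : R ⟶ R')
    (hinj : Function.Injective φ.hom) (hsurj : Function.Surjective (Spec.map φ).base)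
    {G : Scheme.{u}} (u v : Spec R ⟶ G) (h : Spec.map φ ≫ u = Spec.map φ ≫ v) : u = v := by
  -- points
  have hpt : ∀ x, u.base x = v.base x := by
    intro x
    obtain ⟨y, rfl⟩ := hsurj x
    have := congrArg (fun k => k.base y) h
    simpa only [Scheme.Hom.comp_base, TopCat.hom_comp, ContinuousMap.comp_apply] using this
  -- local equality
  have hloc : ∀ x : PrimeSpectrum R, ∃ f : R, f ∉ x.asIdeal ∧
      Spec.map (CommRingCat.ofHom (algebraMap R (Localization.Away f))) ≫ u =
        Spec.map (CommRingCat.ofHom (algebraMap R (Localization.Away f))) ≫ v := by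
    intro x
    obtain ⟨_, ⟨U, hU, rfl⟩, hxU, -⟩ := G.isBasis_affineOpens.exists_subset_of_mem_open
      (Set.mem_univ (u.base x)) isOpen_univ
    have hU' : IsAffineOpen U := hU
    have hW : IsOpen (u.base ⁻¹' (U : Set G)) := U.2.preimage u.continuous
    obtain ⟨_, ⟨_, ⟨f, rfl⟩, rfl⟩, hxf, hfW⟩ :=
      PrimeSpectrum.isBasis_basic_opens.exists_subset_of_mem_open (a := x) hxU hW
    refine ⟨f, hxf, ?_⟩
    set a := Spec.map (CommRingCat.ofHom (algebraMap R (Localization.Away f))) with ha
    have hrange : ∀ z, a.base z ∈ (PrimeSpectrum.basicOpen f : Set (PrimeSpectrum R)) := by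
      intro z
      have := PrimeSpectrum.localization_away_comap_range (Localization.Away f) f
      rw [← this]
      exact ⟨z, rfl⟩
    obtain ⟨α, hα⟩ := exists_ringHom_of_forall_mem (a ≫ u) hU' (fun z => by
      simp only [Scheme.Hom.comp_base, TopCat.hom_comp, ContinuousMap.comp_apply]
      exact hfW (hrange z))
    obtain ⟨β, hβ⟩ := exists_ringHom_of_forall_mem (a ≫ v) hU' (fun z => by
      simp only [Scheme.Hom.comp_base, TopCat.hom_comp, ContinuousMap.comp_apply]
      rw [← hpt]
      exact hfW (hrange z))
    let φf : Localization.Away f →+* Localization.Away (φ.hom f) := Localization.awayMap φ.hom f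
    have hφf : Function.Injective φf := by
      rw [Localization.awayMap_injective_iff]
      intro b hb
      refine ⟨0, ?_⟩
      rw [pow_zero, one_mul]
      exact hinj (by rw [hb, map_zero])
    have hcomm : Spec.map (CommRingCat.ofHom φf) ≫ a =
        Spec.map (CommRingCat.ofHom (algebraMap R' (Localization.Away (φ.hom f)))) ≫
          Spec.map φ := by
      rw [ha, ← Spec.map_comp, ← Spec.map_comp]
      congr 1
      ext r
      have hcomp : φf.comp (algebraMap R (Localization.Away f)) =
          (algebraMap R' (Localization.Away (φ.hom f))).comp φ.hom :=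
        IsLocalization.map_comp _
      exact congrArg (fun k => k r) hcomp
    have hαβ : α = β := by
      have h1 : α ≫ CommRingCat.ofHom φf = β ≫ CommRingCat.ofHom φf := by
        apply ringHom_ext_of_fromSpec hU'
        rw [Spec.map_comp, Spec.map_comp, Category.assoc, Category.assoc, hα, hβ,
          ← Category.assoc, ← Category.assoc, hcomm, Category.assoc, Category.assoc, h]
      ext b
      apply hφf
      exact congrArg (fun k => k.hom b) h1
    rw [← hα, ← hβ, hαβ]
  choose f hf hfe using hloc
  have hspan : Ideal.span (Set.range f) = ⊤ := by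
    by_contra hne
    obtain ⟨M, hM, hle⟩ := Ideal.exists_le_maximal _ hne
    exact hf ⟨M, hM.isPrime⟩ (hle (Ideal.subset_span ⟨_, rfl⟩))
  exact (Scheme.affineOpenCoverOfSpanRangeEqTop f hspan).openCover.hom_ext _ _ (fun x => hfe x)

theorem epi_Spec_map_of_injective {R R' : CommRingCat.{u}} (φ : R ⟶ R')
    (hinj : Function.Injective φ.hom) (hsurj : Function.Surjective (Spec.map φ).base) :
    Epi (Spec.map φ) :=
  ⟨fun u v h => comp_eq_of_injective φ hinj hsurj u v h⟩

end Groth.Agent.Lib27.SpecEpi
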