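import Groth.Agent.Lib.Helper12.SpreadOutFP
import Groth.Agent.Lib.Helper14.SpreadOutUnique

/-!
# Spreading out an isomorphism of local rings to an isomorphism of open neighbourhoods
-/

set_option autoImplicit false
universe u

open CategoryTheory AlgebraicGeometry

namespace Groth.Agent.Lib27.SpreadIso

variable {X Y S : Scheme.{u}}

lemma fromSpecStalkOfMem_homOfLE (X : Scheme.{u}) {U V : X.Opens} (e : U ≤ V) (x : X)
    (hx : x ∈ U) :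
    U.fromSpecStalkOfMem x hx ≫ X.homOfLE e = V.fromSpecStalkOfMem x (e hx) := by
  rw [← cancel_mono V.ι, Category.assoc, Scheme.homOfLE_ι, Scheme.Opens.fromSpecStalkOfMem_ι,
    Scheme.Opens.fromSpecStalkOfMem_ι]

lemma fromSpecStalkOfMem_closedPoint (U : X.Opens) (x : X) (hx : x ∈ U) :
    (U.fromSpecStalkOfMem x hx) (IsLocalRing.closedPoint _) = ⟨x, hx⟩ := by
  apply Subtype.ext
  change (U.ι) ((U.fromSpecStalkOfMem x hx) (IsLocalRing.closedPoint _)) = x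
  rw [← Scheme.Hom.comp_apply, Scheme.Opens.fromSpecStalkOfMem_ι, Scheme.fromSpecStalk_closedPoint]

/-- Uniqueness of spreading out, on an open subscheme. -/
lemma unique_on_opens (sX : X ⟶ S) (sY : Y ⟶ S) [LocallyOfFiniteType sY] (A : X.Opens) (x : X)
    (hxA : x ∈ A) (F G : A.toScheme ⟶ Y) (hF : F ≫ sY = A.ι ≫ sX) (hG : G ≫ sY = A.ι ≫ sX)
    (e : A.fromSpecStalkOfMem x hxA ≫ F = A.fromSpecStalkOfMem x hxA ≫ G) :
    ∃ (U : X.Opens) (hU : U ≤ A), x ∈ U ∧ X.homOfLE hU ≫ F = X.homOfLE hU ≫ G := by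
  obtain ⟨U₃, hxU₃, hU₃⟩ := Groth.Agent.Lib.Helper14.spread_out_unique_of_locallyOfFiniteType'
    (A.ι ≫ sX) sY (x := ⟨x, hxA⟩) F G hF hG (by
      have e' := e
      simp only [Scheme.Opens.fromSpecStalkOfMem, Category.assoc] at e'
      exact (cancel_epi _).mp e')
  refine ⟨A.ι ''ᵁ U₃, A.ι_image_le U₃, ⟨⟨x, hxA⟩, hxU₃, rfl⟩, ?_⟩
  rw [← Scheme.Opens.isoImage_ι_inv_ι, Category.assoc, Category.assoc, hU₃]

/-- Restricting a morphism defined on an open so that it lands in an open. -/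
lemma exists_lift (U₁ : X.Opens) (f₁ : U₁.toScheme ⟶ Y) (V : Y.Opens) (U : X.Opens) (hU : U ≤ U₁)
    (hmap : ∀ a : U.toScheme, f₁ (X.homOfLE hU a) ∈ V) :
    ∃ l : U.toScheme ⟶ V.toScheme, l ≫ V.ι = X.homOfLE hU ≫ f₁ :=
  ⟨IsOpenImmersion.lift V.ι (X.homOfLE hU ≫ f₁) (by
    rintro _ ⟨a, rfl⟩
    rw [Scheme.Opens.range_ι]
    exact hmap a), IsOpenImmersion.lift_fac _ _ _⟩

lemma homOfLE_eq_mk {U V : X.Opens} (e : U ≤ V) (a : U.toScheme) :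
    X.homOfLE e a = ⟨a.1, e a.2⟩ := Subtype.ext (Scheme.homOfLE_apply e a)

theorem main (sX : X ⟶ S) (sY : Y ⟶ S) [LocallyOfFinitePresentation sX]
    [LocallyOfFinitePresentation sY] {x : X} {y : Y} (e : sX x = sY y)
    (φ : Y.presheaf.stalk y ⟶ X.presheaf.stalk x) [IsIso φ]
    (h : sY.stalkMap y ≫ φ =
      S.presheaf.stalkSpecializes (Inseparable.of_eq e).specializes ≫ sX.stalkMap x) :
    ∃ (U : X.Opens) (hxU : x ∈ U) (V : Y.Opens) (f : U.toScheme ⟶ V.toScheme), IsIso f ∧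
      Spec.map φ ≫ Y.fromSpecStalk y = U.fromSpecStalkOfMem x hxU ≫ f ≫ V.ι ∧
      f ≫ V.ι ≫ sY = U.ι ≫ sX := by
  obtain ⟨U₁, hxU₁, f₁, hf₁, hf₁S⟩ :=
    Groth.Agent.Lib.Helper12.spread_out_of_locallyOfFinitePresentation sX sY e φ h
  have h' : sX.stalkMap x ≫ inv φ =
      S.presheaf.stalkSpecializes (Inseparable.of_eq e.symm).specializes ≫ sY.stalkMap y := by
    rw [IsIso.comp_inv_eq, Category.assoc, h, ← Category.assoc,
      TopCat.Presheaf.stalkSpecializes_comp, TopCat.Presheaf.stalkSpecializes_refl,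
      Category.id_comp]
  obtain ⟨V₁, hyV₁, g₁, hg₁, hg₁S⟩ :=
    Groth.Agent.Lib.Helper12.spread_out_of_locallyOfFinitePresentation sY sX e.symm (inv φ) h'
  have hφψ : Spec.map φ ≫ Spec.map (inv φ) = 𝟙 _ := by
    rw [← Spec.map_comp, IsIso.inv_hom_id, Spec.map_id]
  have hψφ : Spec.map (inv φ) ≫ Spec.map φ = 𝟙 _ := by
    rw [← Spec.map_comp, IsIso.hom_inv_id, Spec.map_id]
  -- the points
  have hcpφ : (Spec.map φ) (IsLocalRing.closedPoint (X.presheaf.stalk x)) =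
      IsLocalRing.closedPoint (Y.presheaf.stalk y) := by
    haveI : IsLocalHom φ.hom := isLocalHom_of_isIso φ
    exact IsLocalRing.comap_closedPoint φ.hom
  have hcpψ : (Spec.map (inv φ)) (IsLocalRing.closedPoint (Y.presheaf.stalk y)) =
      IsLocalRing.closedPoint (X.presheaf.stalk x) := by
    haveI : IsLocalHom (inv φ).hom := isLocalHom_of_isIso (inv φ)
    exact IsLocalRing.comap_closedPoint (inv φ).hom
  have hfx : f₁ ⟨x, hxU₁⟩ = y := by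
    have := congrArg (fun k => k.base (IsLocalRing.closedPoint _)) hf₁
    simp only [Scheme.Hom.comp_base, TopCat.comp_app] at this
    rw [fromSpecStalkOfMem_closedPoint] at this
    rw [← this]
    erw [hcpφ]
    exact Scheme.fromSpecStalk_closedPoint
  have hgy : g₁ ⟨y, hyV₁⟩ = x := by
    have := congrArg (fun k => k.base (IsLocalRing.closedPoint _)) hg₁
    simp only [Scheme.Hom.comp_base, TopCat.comp_app] at this
    rw [fromSpecStalkOfMem_closedPoint] at this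
    rw [← this]
    erw [hcpψ]
    exact Scheme.fromSpecStalk_closedPoint
  -- Step A: near `x`, `g₁ ∘ f₁ = id`
  let A : X.Opens := U₁.ι ''ᵁ (f₁ ⁻¹ᵁ V₁)
  have hA : A ≤ U₁ := U₁.ι_image_le _
  have hxA : x ∈ A :=
    ⟨⟨x, hxU₁⟩, (by change f₁ ⟨x, hxU₁⟩ ∈ V₁; rw [hfx]; exact hyV₁), rfl⟩
  have hmapA : ∀ a : A.toScheme, f₁ (X.homOfLE hA a) ∈ V₁ := by
    intro a
    obtain ⟨b, hb, hab⟩ := a.2
    have : X.homOfLE hA a = b := by
      rw [homOfLE_eq_mk]; exact Subtype.ext hab.symm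
    rw [this]; exact hb
  obtain ⟨lA, hlA⟩ := exists_lift U₁ f₁ V₁ A hA hmapA
  have hxlA : A.fromSpecStalkOfMem x hxA ≫ lA =
      Spec.map φ ≫ V₁.fromSpecStalkOfMem y hyV₁ := by
    rw [← cancel_mono V₁.ι, Category.assoc, hlA, ← Category.assoc, fromSpecStalkOfMem_homOfLE,
      ← hf₁, Category.assoc, Scheme.Opens.fromSpecStalkOfMem_ι]
  obtain ⟨U₃, hU₃A, hxU₃, hU₃⟩ := unique_on_opens sX sX A x hxA (lA ≫ g₁) A.ι
    (by rw [Category.assoc, hg₁S, ← Category.assoc, hlA, Category.assoc, hf₁S,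
      ← Category.assoc, Scheme.homOfLE_ι]) rfl
    (by rw [← Category.assoc, hxlA, Category.assoc, ← hg₁, ← Category.assoc, hφψ,
      Category.id_comp, Scheme.Opens.fromSpecStalkOfMem_ι])
  -- Step B: near `y`, `f₁ ∘ g₁ = id`
  let B : Y.Opens := V₁.ι ''ᵁ (g₁ ⁻¹ᵁ U₁)
  have hB : B ≤ V₁ := V₁.ι_image_le _
  have hyB : y ∈ B :=
    ⟨⟨y, hyV₁⟩, (by change g₁ ⟨y, hyV₁⟩ ∈ U₁; rw [hgy]; exact hxU₁), rfl⟩
  have hmapB : ∀ a : B.toScheme, g₁ (Y.homOfLE hB a) ∈ U₁ := by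
    intro a
    obtain ⟨b, hb, hab⟩ := a.2
    have : Y.homOfLE hB a = b := by
      rw [homOfLE_eq_mk]; exact Subtype.ext hab.symm
    rw [this]; exact hb
  obtain ⟨lB, hlB⟩ := exists_lift V₁ g₁ U₁ B hB hmapB
  have hylB : B.fromSpecStalkOfMem y hyB ≫ lB =
      Spec.map (inv φ) ≫ U₁.fromSpecStalkOfMem x hxU₁ := by
    rw [← cancel_mono U₁.ι, Category.assoc, hlB, ← Category.assoc, fromSpecStalkOfMem_homOfLE,
      ← hg₁, Category.assoc, Scheme.Opens.fromSpecStalkOfMem_ι]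
  obtain ⟨V₃, hV₃B, hyV₃, hV₃⟩ := unique_on_opens sY sY B y hyB (lB ≫ f₁) B.ι
    (by rw [Category.assoc, hf₁S, ← Category.assoc, hlB, Category.assoc, hg₁S,
      ← Category.assoc, Scheme.homOfLE_ι]) rfl
    (by rw [← Category.assoc, hylB, Category.assoc, ← hf₁, ← Category.assoc, hψφ,
      Category.id_comp, Scheme.Opens.fromSpecStalkOfMem_ι])
  -- pointwise consequences
  have hlA_val : ∀ q : A.toScheme, (lA q).1 = f₁ (X.homOfLE hA q) := by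
    intro q
    have := congrArg (fun k => k.base q) hlA
    exact this
  have hlB_val : ∀ q : B.toScheme, (lB q).1 = g₁ (Y.homOfLE hB q) := by
    intro q
    have := congrArg (fun k => k.base q) hlB
    exact this
  have F1 : ∀ (u : X) (hu : u ∈ U₃), ∃ hv : f₁ ⟨u, hA (hU₃A hu)⟩ ∈ V₁,
      g₁ ⟨f₁ ⟨u, hA (hU₃A hu)⟩, hv⟩ = u := by
    intro u hu
    have h1 := congrArg (fun k => k.base ⟨u, hu⟩) hU₃
    simp only [Scheme.Hom.comp_base, TopCat.comp_app] at h1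
    have h2 : X.homOfLE hU₃A ⟨u, hu⟩ = ⟨u, hU₃A hu⟩ := homOfLE_eq_mk _ _
    have h3 : X.homOfLE hA ⟨u, hU₃A hu⟩ = ⟨u, hA (hU₃A hu)⟩ := homOfLE_eq_mk _ _
    have h4 := hlA_val ⟨u, hU₃A hu⟩
    rw [h3] at h4
    have h5 := hmapA ⟨u, hU₃A hu⟩
    rw [h3] at h5
    refine ⟨h5, ?_⟩
    have h6 : lA ⟨u, hU₃A hu⟩ = ⟨f₁ ⟨u, hA (hU₃A hu)⟩, h5⟩ := Subtype.ext h4
    erw [h2, h6] at h1
    exact h1
  have F2 : ∀ (v : Y) (hv : v ∈ V₃), ∃ hu : g₁ ⟨v, hB (hV₃B hv)⟩ ∈ U₁,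
      f₁ ⟨g₁ ⟨v, hB (hV₃B hv)⟩, hu⟩ = v := by
    intro v hv
    have h1 := congrArg (fun k => k.base ⟨v, hv⟩) hV₃
    simp only [Scheme.Hom.comp_base, TopCat.comp_app] at h1
    have h2 : Y.homOfLE hV₃B ⟨v, hv⟩ = ⟨v, hV₃B hv⟩ := homOfLE_eq_mk _ _
    have h3 : Y.homOfLE hB ⟨v, hV₃B hv⟩ = ⟨v, hB (hV₃B hv)⟩ := homOfLE_eq_mk _ _
    have h4 := hlB_val ⟨v, hV₃B hv⟩
    rw [h3] at h4
    have h5 := hmapB ⟨v, hV₃B hv⟩
    rw [h3] at h5
    refine ⟨h5, ?_⟩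
    have h6 : lB ⟨v, hV₃B hv⟩ = ⟨g₁ ⟨v, hB (hV₃B hv)⟩, h5⟩ := Subtype.ext h4
    erw [h2, h6] at h1
    exact h1
  -- the final neighbourhoods
  let U : X.Opens := U₃ ⊓ U₁.ι ''ᵁ (f₁ ⁻¹ᵁ V₃)
  let V : Y.Opens := V₃ ⊓ V₁.ι ''ᵁ (g₁ ⁻¹ᵁ U₃)
  have hUU₃ : U ≤ U₃ := inf_le_left
  have hVV₃ : V ≤ V₃ := inf_le_left
  have hUA : U ≤ A := hUU₃.trans hU₃A
  have hVB : V ≤ B := hVV₃.trans hV₃B
  have hUU₁ : U ≤ U₁ := hUA.trans hA
  have hVV₁ : V ≤ V₁ := hVB.trans hB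
  have hmapU : ∀ a : U.toScheme, f₁ (X.homOfLE hUU₁ a) ∈ V := by
    intro a
    obtain ⟨ha₃, b, hb, hab⟩ := a.2
    have hb' : X.homOfLE hUU₁ a = b := by
      rw [homOfLE_eq_mk]; exact Subtype.ext hab.symm
    have hb'' : b = ⟨a.1, hA (hU₃A ha₃)⟩ := Subtype.ext hab
    rw [hb']
    refine ⟨hb, ?_⟩
    obtain ⟨hv, hgv⟩ := F1 a.1 ha₃
    refine ⟨⟨f₁ b, by rw [hb'']; exact hv⟩, ?_, rfl⟩
    change g₁ _ ∈ U₃
    have : (⟨f₁ b, by rw [hb'']; exact hv⟩ : V₁.toScheme) = ⟨f₁ ⟨a.1, hA (hU₃A ha₃)⟩, hv⟩ := by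
      apply Subtype.ext
      change f₁ b = _
      rw [hb'']
    rw [this, hgv]
    exact ha₃
  have hmapV : ∀ a : V.toScheme, g₁ (Y.homOfLE hVV₁ a) ∈ U := by
    intro a
    obtain ⟨ha₃, b, hb, hab⟩ := a.2
    have hb' : Y.homOfLE hVV₁ a = b := by
      rw [homOfLE_eq_mk]; exact Subtype.ext hab.symm
    have hb'' : b = ⟨a.1, hB (hV₃B ha₃)⟩ := Subtype.ext hab
    rw [hb']
    refine ⟨hb, ?_⟩
    obtain ⟨hu, hfu⟩ := F2 a.1 ha₃
    refine ⟨⟨g₁ b, by rw [hb'']; exact hu⟩, ?_, rfl⟩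
    change f₁ _ ∈ V₃
    have : (⟨g₁ b, by rw [hb'']; exact hu⟩ : U₁.toScheme) = ⟨g₁ ⟨a.1, hB (hV₃B ha₃)⟩, hu⟩ := by
      apply Subtype.ext
      change g₁ b = _
      rw [hb'']
    rw [this, hfu]
    exact ha₃
  obtain ⟨fU, hfU⟩ := exists_lift U₁ f₁ V U hUU₁ hmapU
  obtain ⟨gV, hgV⟩ := exists_lift V₁ g₁ U V hVV₁ hmapV
  have hxU : x ∈ U :=
    ⟨hxU₃, ⟨x, hxU₁⟩, (by change f₁ ⟨x, hxU₁⟩ ∈ V₃; rw [hfx]; exact hyV₃), rfl⟩
  have e1 : fU ≫ Y.homOfLE hVV₁ = X.homOfLE hUA ≫ lA := by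
    rw [← cancel_mono V₁.ι, Category.assoc, Scheme.homOfLE_ι, hfU, Category.assoc, hlA,
      ← Category.assoc, Scheme.homOfLE_homOfLE]
  have e2 : gV ≫ X.homOfLE hUU₁ = Y.homOfLE hVB ≫ lB := by
    rw [← cancel_mono U₁.ι, Category.assoc, Scheme.homOfLE_ι, hgV, Category.assoc, hlB,
      ← Category.assoc, Scheme.homOfLE_homOfLE]
  have h12 : fU ≫ gV = 𝟙 _ := by
    rw [← cancel_mono U.ι, Category.assoc, hgV, ← Category.assoc, e1, Category.assoc,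
      ← Scheme.homOfLE_homOfLE X hUU₃ hU₃A, Category.assoc, hU₃, Scheme.homOfLE_ι,
      Scheme.homOfLE_ι, Category.id_comp]
  have h21 : gV ≫ fU = 𝟙 _ := by
    rw [← cancel_mono V.ι, Category.assoc, hfU, ← Category.assoc, e2, Category.assoc,
      ← Scheme.homOfLE_homOfLE Y hVV₃ hV₃B, Category.assoc, hV₃, Scheme.homOfLE_ι,
      Scheme.homOfLE_ι, Category.id_comp]
  refine ⟨U, hxU, V, fU, ⟨gV, h12, h21⟩, ?_, ?_⟩
  · rw [hfU, ← Category.assoc, fromSpecStalkOfMem_homOfLE, hf₁]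
  · rw [← Category.assoc, hfU, Category.assoc, hf₁S, ← Category.assoc, Scheme.homOfLE_ι]

end Groth.Agent.Lib27.SpreadIso
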