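import Mathlib
import Groth.Agent.Lib27.Sch.SchBirational
import Groth.Agent.Lib27.Sch.SectionDense

/-!
# Flat at a point + birational ⇒ local isomorphism (helper27)
-/

set_option autoImplicit false

universe u

open CategoryTheory CategoryTheory.Limits AlgebraicGeometry TopologicalSpace

namespace Groth.Agent.Lib27.StalkIso

theorem flat_fromSpecStalk (X : Scheme.{u}) (x : X) : Flat (X.fromSpecStalk x) := by
  obtain ⟨_, ⟨U, hU : IsAffineOpen U, rfl⟩, hxU, -⟩ :=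
    X.isBasis_affineOpens.exists_subset_of_mem_open (Set.mem_univ x) isOpen_univ
  rw [← hU.fromSpecStalk_eq_fromSpecStalk hxU]
  unfold IsAffineOpen.fromSpecStalk
  have h1 : Flat (Spec.map (X.presheaf.germ U x hxU)) := by
    rw [Flat.SpecMap_iff]
    let _ := X.presheaf.algebra_section_stalk ⟨x, hxU⟩
    have hloc := hU.isLocalization_stalk ⟨x, hxU⟩
    have : Module.Flat Γ(X, U) (X.presheaf.stalk x) :=
      IsLocalization.flat _ (hU.primeIdealOf ⟨x, hxU⟩).asIdeal.primeCompl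
    exact this
  infer_instance

/-- **a faithfully flat quasi-compact separated morphism which restricts to a monomorphism on a
scheme-theoretically dense retrocompact open is an isomorphism**. -/
theorem isIso_of_faithfullyFlat_separated_of_mono {X S : Scheme.{u}} (f : X ⟶ S)
    [Flat f] [Surjective f] [QuasiCompact f] [IsSeparated f]
    (U : S.Opens) (V : X.Opens) [QuasiCompact V.ι] [hVdom : IsSchemeTheoreticallyDominant V.ι]
    (hle : V ≤ f ⁻¹ᵁ U) (hmono : Mono (f.resLE U V hle)) : IsIso f := by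
  let p₁ : pullback f f ⟶ X := pullback.fst f f
  let p₂ : pullback f f ⟶ X := pullback.snd f f
  haveI : Flat p₁ := inferInstance
  haveI : Flat p₂ := inferInstance
  let O₁ : (pullback f f).Opens := p₁ ⁻¹ᵁ V
  let O₂ : (pullback f f).Opens := p₂ ⁻¹ᵁ V
  have sq₁ : IsPullback (p₁ ∣_ V) O₁.ι V.ι p₁ := isPullback_morphismRestrict p₁ V
  have sq₂ : IsPullback (p₂ ∣_ V) O₂.ι V.ι p₂ := isPullback_morphismRestrict p₂ V
  haveI hO₁ : IsSchemeTheoreticallyDominant O₁.ι := IsSchemeTheoreticallyDominant.of_isPullback sq₁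
  haveI hO₂ : IsSchemeTheoreticallyDominant O₂.ι := IsSchemeTheoreticallyDominant.of_isPullback sq₂
  haveI hq₂ : QuasiCompact O₂.ι := MorphismProperty.of_isPullback sq₂ inferInstance
  let D : O₁.toScheme.Opens := O₁.ι ⁻¹ᵁ O₂
  have sq₃ : IsPullback (O₁.ι ∣_ O₂) D.ι O₂.ι O₁.ι := isPullback_morphismRestrict O₁.ι O₂
  haveI hD : IsSchemeTheoreticallyDominant D.ι := IsSchemeTheoreticallyDominant.of_isPullback sq₃
  let j : D.toScheme ⟶ pullback f f := D.ι ≫ O₁.ι
  haveI hj : IsSchemeTheoreticallyDominant j := inferInstance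
  have hr₁ : Set.range (j ≫ p₁) ⊆ Set.range V.ι := by
    rintro _ ⟨d, rfl⟩
    rw [Scheme.Opens.range_ι]
    exact d.1.2
  have hr₂ : Set.range (j ≫ p₂) ⊆ Set.range V.ι := by
    rintro _ ⟨d, rfl⟩
    rw [Scheme.Opens.range_ι]
    exact d.2
  let k₁ : D.toScheme ⟶ V.toScheme := IsOpenImmersion.lift V.ι (j ≫ p₁) hr₁
  let k₂ : D.toScheme ⟶ V.toScheme := IsOpenImmersion.lift V.ι (j ≫ p₂) hr₂
  have hk₁ : k₁ ≫ V.ι = j ≫ p₁ := IsOpenImmersion.lift_fac _ _ _
  have hk₂ : k₂ ≫ V.ι = j ≫ p₂ := IsOpenImmersion.lift_fac _ _ _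
  have hk : k₁ = k₂ := by
    haveI := hmono
    rw [← cancel_mono (f.resLE U V hle), ← cancel_mono U.ι, Category.assoc, Category.assoc,
      Scheme.Hom.resLE_comp_ι, ← Category.assoc, ← Category.assoc, hk₁, hk₂, Category.assoc,
      Category.assoc]
    exact congrArg (j ≫ ·) pullback.condition
  have hp : j ≫ p₁ = j ≫ p₂ := by rw [← hk₁, ← hk₂, hk]
  have hfac : (j ≫ p₁) ≫ pullback.diagonal f = j := by
    apply pullback.hom_ext
    · rw [Category.assoc, pullback.diagonal_fst, Category.comp_id]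
    · rw [Category.assoc, pullback.diagonal_snd, Category.comp_id]
      exact hp
  haveI : IsIso (pullback.diagonal f) := by
    refine IsClosedImmersion.isIso_iff_ker_eq_bot.mpr ?_
    rw [eq_bot_iff, ← hj.ker_eq_bot, ← hfac]
    exact Scheme.Hom.le_ker_comp _ _
  have hp₁ : IsIso p₁ := by
    have h1 : pullback.diagonal f ≫ p₁ = 𝟙 X := pullback.diagonal_fst f
    have h2 : p₁ = inv (pullback.diagonal f) := by
      rw [← cancel_epi (pullback.diagonal f), h1, IsIso.hom_inv_id]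
    rw [h2]; infer_instance
  exact MorphismProperty.of_pullback_fst_of_descendsAlong
    (P := MorphismProperty.isomorphisms Scheme.{u})
    (Q := (@Surjective ⊓ @Flat ⊓ @QuasiCompact : MorphismProperty Scheme.{u})) (f := f) (g := f)
    ⟨⟨inferInstance, inferInstance⟩, inferInstance⟩ hp₁

theorem isIso_of_isIso_SpecMap {R S : CommRingCat.{u}} (φ : R ⟶ S) (h : IsIso (Spec.map φ)) :
    IsIso φ := by
  have h1 : IsIso (Scheme.Spec.map φ.op) := h
  have h2 : IsIso φ.op := isIso_of_reflects_iso φ.op Scheme.Spec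
  exact isIso_of_op φ

/-- **flat at a point + isomorphism over an open with scheme-theoretically dense preimage ⇒ the
stalk map is an isomorphism**. -/
theorem isIso_stalkMap_of_flat {X S : Scheme.{u}} [IsLocallyNoetherian X] (f : X ⟶ S)
    (U : S.Opens) (hiso : IsIso (f ∣_ U)) (hdense : (f ⁻¹ᵁ U).ι.ker = ⊥)
    (x : X) (hflat : (f.stalkMap x).hom.Flat) : IsIso (f.stalkMap x) := by
  apply isIso_of_isIso_SpecMap
  let p : Spec (X.presheaf.stalk x) ⟶ Spec (S.presheaf.stalk (f x)) := Spec.map (f.stalkMap x)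
  let h : Spec (X.presheaf.stalk x) ⟶ X := X.fromSpecStalk x
  let g : Spec (S.presheaf.stalk (f x)) ⟶ S := S.fromSpecStalk (f x)
  have hsq : p ≫ g = h ≫ f := Scheme.SpecMap_stalkMap_fromSpecStalk f
  haveI : Flat h := flat_fromSpecStalk X x
  haveI hpflat : Flat p := Flat.SpecMap_iff.mpr hflat
  haveI hpsurj : Surjective p := by
    algebraize [(f.stalkMap x).hom]
    haveI : Module.Flat (S.presheaf.stalk (f x)) (X.presheaf.stalk x) := hflat
    haveI : IsLocalHom (algebraMap (S.presheaf.stalk (f x)) (X.presheaf.stalk x)) :=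
      f.toLRSHom.prop x
    have hff : Module.FaithfullyFlat (S.presheaf.stalk (f x)) (X.presheaf.stalk x) :=
      Module.FaithfullyFlat.of_flat_of_isLocalHom
    have hff' : (f.stalkMap x).hom.FaithfullyFlat := hff
    exact ((flat_and_surjective_SpecMap_iff (f.stalkMap x)).mpr hff').2
  -- the dense open upstairs
  haveI : QuasiCompact (f ⁻¹ᵁ U).ι := inferInstance
  haveI : IsSchemeTheoreticallyDominant (f ⁻¹ᵁ U).ι := ⟨hdense⟩
  let VZ : (Spec (X.presheaf.stalk x)).Opens := h ⁻¹ᵁ (f ⁻¹ᵁ U)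
  let UT : (Spec (S.presheaf.stalk (f x))).Opens := g ⁻¹ᵁ U
  have sq := isPullback_morphismRestrict h (f ⁻¹ᵁ U)
  haveI : IsSchemeTheoreticallyDominant VZ.ι := IsSchemeTheoreticallyDominant.of_isPullback sq
  haveI : QuasiCompact VZ.ι := MorphismProperty.of_isPullback sq inferInstance
  have hle : VZ ≤ p ⁻¹ᵁ UT := by
    intro z hz
    change g (p z) ∈ U
    rw [← Scheme.Hom.comp_apply, hsq]
    exact hz
  have hmono : Mono (p.resLE UT VZ hle) := by
    haveI : Mono (h ∣_ (f ⁻¹ᵁ U)) := by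
      have : Mono ((h ∣_ (f ⁻¹ᵁ U)) ≫ (f ⁻¹ᵁ U).ι) := by
        rw [morphismRestrict_ι]; infer_instance
      exact mono_of_mono _ (f ⁻¹ᵁ U).ι
    haveI := hiso
    have hcomp : p.resLE UT VZ hle ≫ UT.ι ≫ g = (h ∣_ (f ⁻¹ᵁ U)) ≫ (f ∣_ U) ≫ U.ι := by
      have e1 : (h ∣_ (f ⁻¹ᵁ U)) ≫ (f ∣_ U) ≫ U.ι = (VZ.ι ≫ h) ≫ f := by
        rw [morphismRestrict_ι, ← Category.assoc, morphismRestrict_ι]
      rw [e1, ← Category.assoc, Scheme.Hom.resLE_comp_ι, Category.assoc, hsq, Category.assoc]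
    haveI : Mono (p.resLE UT VZ hle ≫ UT.ι ≫ g) := by rw [hcomp]; infer_instance
    exact mono_of_mono _ (UT.ι ≫ g)
  exact isIso_of_faithfullyFlat_separated_of_mono p UT VZ hle hmono

/-- **an isomorphism of local rings spreads out to a local section**. -/
theorem exists_section_of_isIso_stalkMap {X S : Scheme.{u}} [IsLocallyNoetherian S] (f : X ⟶ S)
    [LocallyOfFiniteType f] (x : X) (hx : IsIso (f.stalkMap x)) :
    ∃ (V : S.Opens) (hV : f x ∈ V) (σ : V.toScheme ⟶ X), σ ≫ f = V.ι ∧ σ ⟨f x, hV⟩ = x := by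
  haveI := hx
  let φ : Spec (S.presheaf.stalk (f x)) ⟶ X := Spec.map (inv (f.stalkMap x)) ≫ X.fromSpecStalk x
  have hφ : φ ≫ f = S.fromSpecStalk (f x) ≫ 𝟙 S := by
    rw [Category.comp_id, Category.assoc, ← Scheme.SpecMap_stalkMap_fromSpecStalk f,
      ← Category.assoc, ← Spec.map_comp, IsIso.hom_inv_id, Spec.map_id, Category.id_comp]
  obtain ⟨V, hV, σ, h1, h2⟩ := spread_out_of_isGermInjective' (𝟙 S) f φ hφ
  refine ⟨V, hV, σ, by rw [h2, Category.comp_id], ?_⟩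
  have hcp : V.fromSpecStalkOfMem (f x) hV (IsLocalRing.closedPoint (S.presheaf.stalk (f x))) =
      ⟨f x, hV⟩ := by
    apply Subtype.ext
    change V.ι (V.fromSpecStalkOfMem (f x) hV (IsLocalRing.closedPoint _)) = f x
    rw [← Scheme.Hom.comp_apply, Scheme.Opens.fromSpecStalkOfMem_ι, Scheme.fromSpecStalk_closedPoint]
  rw [← hcp, ← Scheme.Hom.comp_apply, ← h1]
  change X.fromSpecStalk x (Spec.map (inv (f.stalkMap x)) (IsLocalRing.closedPoint _)) = x
  haveI : IsLocalHom (inv (f.stalkMap x)).hom := isLocalHom_of_isIso _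
  have hc : Spec.map (inv (f.stalkMap x)) (IsLocalRing.closedPoint (S.presheaf.stalk (f x))) =
      IsLocalRing.closedPoint (X.presheaf.stalk x) :=
    IsLocalRing.comap_closedPoint (inv (f.stalkMap x)).hom
  rw [hc, Scheme.fromSpecStalk_closedPoint]

theorem isIso_restrict_of_eq {X S : Scheme.{u}} (f : X ⟶ S) {U V : S.Opens} (e : U = V)
    (h : IsIso (f ∣_ U)) : IsIso (f ∣_ V) := by
  subst e; exact h

/-- restricting an isomorphism-over-`U` to an open `V`. -/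
theorem isIso_restrict_restrict {X S : Scheme.{u}} (f : X ⟶ S) (U V : S.Opens)
    (h : IsIso (f ∣_ U)) : IsIso ((f ∣_ V) ∣_ (V.ι ⁻¹ᵁ U)) := by
  haveI := h
  have h1 : IsIso ((f ∣_ U) ∣_ (U.ι ⁻¹ᵁ V)) := inferInstance
  have h2 : IsIso (f ∣_ (U.ι ''ᵁ (U.ι ⁻¹ᵁ V))) :=
    ((MorphismProperty.isomorphisms Scheme.{u}).arrow_mk_iso_iff
      (morphismRestrictRestrict f U (U.ι ⁻¹ᵁ V))).mp h1
  have e : U.ι ''ᵁ (U.ι ⁻¹ᵁ V) = V.ι ''ᵁ (V.ι ⁻¹ᵁ U) := by
    rw [Scheme.Hom.image_preimage_eq_opensRange_inf, Scheme.Hom.image_preimage_eq_opensRange_inf,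
      Scheme.Opens.opensRange_ι, Scheme.Opens.opensRange_ι, inf_comm]
  have h3 : IsIso (f ∣_ (V.ι ''ᵁ (V.ι ⁻¹ᵁ U))) := isIso_restrict_of_eq f e h2
  exact ((MorphismProperty.isomorphisms Scheme.{u}).arrow_mk_iso_iff
      (morphismRestrictRestrict f V (V.ι ⁻¹ᵁ U))).mpr h3

/-- **a local section of a morphism which is an isomorphism over an open with schematically dense
preimage has an open neighbourhood on which the morphism is an open immersion**. -/
theorem exists_open_isOpenImmersion_of_local_section {X S : Scheme.{u}} (f : X ⟶ S) (U : S.Opens)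
    (hiso : IsIso (f ∣_ U)) (hdense : CInt.IsSchematicallyDense (f ⁻¹ᵁ U))
    (V : S.Opens) (σ : V.toScheme ⟶ X) (hσ : σ ≫ f = V.ι) :
    ∃ W : X.Opens, Set.range σ ⊆ (W : Set X) ∧ IsOpenImmersion (W.ι ≫ f) := by
  let E : X.Opens := f ⁻¹ᵁ V
  have hrange : Set.range σ ⊆ Set.range E.ι := by
    rintro _ ⟨v, rfl⟩
    rw [Scheme.Opens.range_ι]
    change f (σ v) ∈ V
    rw [← Scheme.Hom.comp_apply, hσ]
    exact v.2
  let σ' : V.toScheme ⟶ E.toScheme := IsOpenImmersion.lift E.ι σ hrange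
  have hσ' : σ' ≫ E.ι = σ := IsOpenImmersion.lift_fac _ _ _
  have hsec : σ' ≫ (f ∣_ V) = 𝟙 _ := by
    rw [← cancel_mono V.ι, Category.assoc, morphismRestrict_ι, ← Category.assoc, hσ', hσ,
      Category.id_comp]
  have hiso' : IsIso ((f ∣_ V) ∣_ (V.ι ⁻¹ᵁ U)) := isIso_restrict_restrict f U V hiso
  have hpre : (f ∣_ V) ⁻¹ᵁ (V.ι ⁻¹ᵁ U) = E.ι ⁻¹ᵁ (f ⁻¹ᵁ U) := by
    rw [← Scheme.Hom.comp_preimage, ← Scheme.Hom.comp_preimage, morphismRestrict_ι]
  have hdense' : CInt.IsSchematicallyDense ((f ∣_ V) ⁻¹ᵁ (V.ι ⁻¹ᵁ U)) := by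
    rw [hpre]
    exact Groth.Agent.Lib27.SectionDense.isSchematicallyDense_restrict _ hdense E
  obtain ⟨W, hW1, hW2⟩ := Groth.Agent.Lib27.SectionDense.exists_open_isIso_of_section
    (f ∣_ V) (V.ι ⁻¹ᵁ U) hiso' hdense' σ' hsec
  refine ⟨E.ι ''ᵁ W, ?_, ?_⟩
  · rintro _ ⟨v, rfl⟩
    refine ⟨σ' v, hW1 ⟨v, rfl⟩, ?_⟩
    exact (Scheme.Hom.comp_apply σ' E.ι v).symm.trans (by rw [hσ'])
  · -- `(E.ι ''ᵁ W).ι ≫ f` is `W → E → X → S`, i.e. an isomorphism followed by `V.ι`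
    have hle : Set.range (W.ι ≫ E.ι) ⊆ Set.range (E.ι ''ᵁ W).ι := by
      rintro _ ⟨w, rfl⟩
      rw [Scheme.Opens.range_ι]
      exact ⟨W.ι w, w.2, rfl⟩
    have hle' : Set.range (E.ι ''ᵁ W).ι ⊆ Set.range (W.ι ≫ E.ι) := by
      rw [Scheme.Opens.range_ι]
      rintro _ ⟨e, he, rfl⟩
      exact ⟨⟨e, he⟩, rfl⟩
    let k : (E.ι ''ᵁ W).toScheme ⟶ W.toScheme := IsOpenImmersion.lift (W.ι ≫ E.ι) (E.ι ''ᵁ W).ι hle'
    have hk : k ≫ W.ι ≫ E.ι = (E.ι ''ᵁ W).ι := IsOpenImmersion.lift_fac _ _ _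
    have hfac : (E.ι ''ᵁ W).ι ≫ f = k ≫ (W.ι ≫ (f ∣_ V)) ≫ V.ι := by
      rw [← hk, Category.assoc, Category.assoc, Category.assoc, morphismRestrict_ι]
    haveI : IsOpenImmersion k := IsOpenImmersion.of_comp k (W.ι ≫ E.ι)
    haveI := hW2
    rw [hfac]
    infer_instance

/-- flat on an open neighbourhood gives a flat stalk map. -/
theorem flat_stalkMap_of_flat_open {X S : Scheme.{u}} (f : X ⟶ S) (W : X.Opens)
    (w : W.toScheme) [Flat (W.ι ≫ f)] : (f.stalkMap (W.ι w)).hom.Flat := by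
  have h1 : ((W.ι ≫ f).stalkMap w).hom.Flat := Flat.stalkMap (W.ι ≫ f) w
  have h2 : (W.ι ≫ f).stalkMap w = f.stalkMap (W.ι w) ≫ W.ι.stalkMap w :=
    Scheme.Hom.stalkMap_comp W.ι f w
  rw [h2] at h1
  exact (RingHom.Flat.respectsIso.cancel_right_isIso (f.stalkMap (W.ι w)) (W.ι.stalkMap w)).mp h1

end Groth.Agent.Lib27.StalkIso
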