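import Mathlib
import Groth.Agent.Helper19.SchDomEpi

/-!
# The scheme-theoretic union of two closed subschemes is their pushout along the intersection
(helper27)
-/

set_option autoImplicit false

universe u

open CategoryTheory CategoryTheory.Limits AlgebraicGeometry TopologicalSpace

namespace Groth.Agent.Lib27.UnionPushout

section Ring

variable {A B : Type u} [CommRing A] [CommRing B] (I J : Ideal A)

/-- the canonical map `A/(I ∩ J) → A/I × A/J`. -/
noncomputable def toProd : A ⧸ (I ⊓ J) →+* (A ⧸ I) × (A ⧸ J) :=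
  (Ideal.Quotient.factor (inf_le_left : I ⊓ J ≤ I)).prod
    (Ideal.Quotient.factor (inf_le_right : I ⊓ J ≤ J))

theorem toProd_injective : Function.Injective (toProd I J) := by
  rw [injective_iff_map_eq_zero]
  intro x hx
  obtain ⟨a, rfl⟩ := Ideal.Quotient.mk_surjective x
  have h1 : Ideal.Quotient.mk I a = 0 := congrArg Prod.fst hx
  have h2 : Ideal.Quotient.mk J a = 0 := congrArg Prod.snd hx
  rw [Ideal.Quotient.eq_zero_iff_mem] at h1 h2 ⊢
  exact ⟨h1, h2⟩

theorem mem_range_toProd (x : A ⧸ I) (y : A ⧸ J)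
    (h : Ideal.Quotient.factor (le_sup_left : I ≤ I ⊔ J) x =
      Ideal.Quotient.factor (le_sup_right : J ≤ I ⊔ J) y) :
    (x, y) ∈ (toProd I J).range := by
  obtain ⟨a₁, rfl⟩ := Ideal.Quotient.mk_surjective x
  obtain ⟨a₂, rfl⟩ := Ideal.Quotient.mk_surjective y
  have h' : Ideal.Quotient.mk (I ⊔ J) a₁ = Ideal.Quotient.mk (I ⊔ J) a₂ := h
  rw [Ideal.Quotient.eq, Submodule.mem_sup] at h'
  obtain ⟨i, hi, j, hj, hij⟩ := h'
  refine ⟨Ideal.Quotient.mk _ (a₁ - i), ?_⟩
  have e1 : Ideal.Quotient.mk I (a₁ - i) = Ideal.Quotient.mk I a₁ := by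
    rw [Ideal.Quotient.eq]
    have : a₁ - i - a₁ = -i := by ring
    rw [this]; exact I.neg_mem hi
  have e2 : Ideal.Quotient.mk J (a₁ - i) = Ideal.Quotient.mk J a₂ := by
    rw [Ideal.Quotient.eq]
    have : a₁ - i - a₂ = j := by
      have : a₁ - i - a₂ = (a₁ - a₂) - i := by ring
      rw [this, ← hij]; ring
    rw [this]; exact hj
  exact Prod.ext e1 e2

/-- the pullback property of `A/(I ∩ J)`. -/
theorem exists_ringHom_inf (α : B →+* A ⧸ I) (β : B →+* A ⧸ J)
    (h : (Ideal.Quotient.factor (le_sup_left : I ≤ I ⊔ J)).comp α =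
      (Ideal.Quotient.factor (le_sup_right : J ≤ I ⊔ J)).comp β) :
    ∃ γ : B →+* A ⧸ (I ⊓ J),
      (Ideal.Quotient.factor (inf_le_left : I ⊓ J ≤ I)).comp γ = α ∧
      (Ideal.Quotient.factor (inf_le_right : I ⊓ J ≤ J)).comp γ = β := by
  let e : A ⧸ (I ⊓ J) ≃+* (toProd I J).range :=
    RingEquiv.ofBijective (toProd I J).rangeRestrict
      ⟨fun x y hxy => toProd_injective I J (congrArg Subtype.val hxy),
        (toProd I J).rangeRestrict_surjective⟩
  have hmem : ∀ b, (α.prod β) b ∈ (toProd I J).range := fun b =>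
    mem_range_toProd I J (α b) (β b) (congrArg (fun f => f b) h)
  let γ : B →+* A ⧸ (I ⊓ J) :=
    (e.symm : (toProd I J).range →+* A ⧸ (I ⊓ J)).comp ((α.prod β).codRestrict _ hmem)
  have hγ : ∀ b, toProd I J (γ b) = (α b, β b) := by
    intro b
    have h1 : e (γ b) = ⟨(α.prod β) b, hmem b⟩ := by
      change e (e.symm _) = _
      rw [RingEquiv.apply_symm_apply]
      rfl
    exact congrArg Subtype.val h1
  refine ⟨γ, ?_, ?_⟩
  · ext b
    exact congrArg Prod.fst (hγ b)
  · ext b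
    exact congrArg Prod.snd (hγ b)

end Ring

section Sheaf

variable {S : Scheme.{u}}

/-- the preimage of an affine open of `S` in a closed subscheme, as an affine open. -/
noncomputable def preimAffine (L : S.IdealSheafData) (U : S.affineOpens) : L.subscheme.affineOpens :=
  ⟨L.subschemeι ⁻¹ᵁ U.1, U.2.preimage L.subschemeι⟩

theorem iSup_preimAffine (L : S.IdealSheafData) :
    ⨆ U : S.affineOpens, (preimAffine L U).1 = ⊤ := by
  rw [eq_top_iff]
  intro x _
  obtain ⟨_, ⟨U, hU : IsAffineOpen U, rfl⟩, hxU, -⟩ :=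
    S.isBasis_affineOpens.exists_subset_of_mem_open (Set.mem_univ (L.subschemeι x)) isOpen_univ
  exact Opens.mem_iSup.mpr ⟨⟨U, hU⟩, hxU⟩

theorem app_inclusion_eq_zero_iff {L L' : S.IdealSheafData} (h : L ≤ L') (U : S.affineOpens)
    (y : Γ(S, U.1)) :
    ((Scheme.IdealSheafData.inclusion h).app (L.subschemeι ⁻¹ᵁ U.1)).hom
      ((L.subschemeι.app U.1).hom y) = 0 ↔ y ∈ L'.ideal U := by
  have e : Scheme.IdealSheafData.inclusion h ≫ L.subschemeι = L'.subschemeι :=
    Scheme.IdealSheafData.inclusion_subschemeι h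
  have h1 := Scheme.Hom.congr_app e U.1
  rw [Scheme.Hom.comp_app] at h1
  have h2 : ((Scheme.IdealSheafData.inclusion h).app (L.subschemeι ⁻¹ᵁ U.1)).hom
      ((L.subschemeι.app U.1).hom y) =
      (L'.subscheme.presheaf.map (eqToHom (by rw [← e]; rfl)).op).hom ((L'.subschemeι.app U.1).hom y) := by
    have := congrArg (fun t => t.hom y) h1
    exact this
  rw [h2, map_eq_zero_iff _
    (ConcreteCategory.bijective_of_isIso (L'.subscheme.presheaf.map (eqToHom _).op)).1,
    ← RingHom.mem_ker, L'.ker_subschemeι_app U]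

variable (I J : S.IdealSheafData)

theorem ker_inclusion_inf_eq_bot :
    (Scheme.IdealSheafData.inclusion (inf_le_left : I ⊓ J ≤ I)).ker ⊓
      (Scheme.IdealSheafData.inclusion (inf_le_right : I ⊓ J ≤ J)).ker = ⊥ := by
  refine Scheme.IdealSheafData.ext_of_iSup_eq_top (fun U : S.affineOpens => preimAffine (I ⊓ J) U)
    (iSup_preimAffine (I ⊓ J)) ?_
  intro U
  rw [Scheme.IdealSheafData.ideal_inf, Scheme.IdealSheafData.ideal_bot, Pi.inf_apply, Pi.bot_apply,
    eq_bot_iff]
  rintro x ⟨h1, h2⟩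
  rw [SetLike.mem_coe, Scheme.Hom.ker_apply, RingHom.mem_ker] at h1 h2
  obtain ⟨y, rfl⟩ := (I ⊓ J).subschemeι_app_surjective U x
  have hy1 : y ∈ I.ideal U := (app_inclusion_eq_zero_iff inf_le_left U y).mp h1
  have hy2 : y ∈ J.ideal U := (app_inclusion_eq_zero_iff inf_le_right U y).mp h2
  have hy : y ∈ (I ⊓ J).ideal U := ⟨hy1, hy2⟩
  rw [← (I ⊓ J).ker_subschemeι_app U, RingHom.mem_ker] at hy
  rw [Ideal.mem_bot]
  exact hy

theorem mem_support_inf {x : S} (hx : x ∈ (I ⊓ J).support) : x ∈ I.support ∨ x ∈ J.support := by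
  obtain ⟨_, ⟨U, hU : IsAffineOpen U, rfl⟩, hxU, -⟩ :=
    S.isBasis_affineOpens.exists_subset_of_mem_open (Set.mem_univ x) isOpen_univ
  rw [Scheme.IdealSheafData.mem_support_iff_of_mem (U := ⟨U, hU⟩) hxU] at hx
  rw [Scheme.IdealSheafData.mem_support_iff_of_mem (U := ⟨U, hU⟩) hxU,
    Scheme.IdealSheafData.mem_support_iff_of_mem (U := ⟨U, hU⟩) hxU]
  have h1 : (I ⊓ J).ideal ⟨U, hU⟩ = I.ideal ⟨U, hU⟩ ⊓ J.ideal ⟨U, hU⟩ := rfl
  rw [h1, Scheme.zeroLocus_inf] at hx
  exact hx

theorem range_inclusion_union :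
    Set.range (Scheme.IdealSheafData.inclusion (inf_le_left : I ⊓ J ≤ I)) ∪
      Set.range (Scheme.IdealSheafData.inclusion (inf_le_right : I ⊓ J ≤ J)) = Set.univ := by
  rw [Set.eq_univ_iff_forall]
  intro y
  have hy : (I ⊓ J).subschemeι y ∈ (I ⊓ J).support := by
    rw [← SetLike.mem_coe, ← Scheme.IdealSheafData.range_subschemeι]
    exact ⟨y, rfl⟩
  have hinj : Function.Injective (I ⊓ J).subschemeι := (I ⊓ J).subschemeι.isEmbedding.injective
  rcases mem_support_inf I J hy with h | h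
  · left
    rw [← SetLike.mem_coe, ← Scheme.IdealSheafData.range_subschemeι] at h
    obtain ⟨z, hz⟩ := h
    refine ⟨z, hinj ?_⟩
    rw [← Scheme.Hom.comp_apply, Scheme.IdealSheafData.inclusion_subschemeι, hz]
  · right
    rw [← SetLike.mem_coe, ← Scheme.IdealSheafData.range_subschemeι] at h
    obtain ⟨z, hz⟩ := h
    refine ⟨z, hinj ?_⟩
    rw [← Scheme.Hom.comp_apply, Scheme.IdealSheafData.inclusion_subschemeι, hz]

/-- the two closed subschemes are jointly scheme-theoretically dense in the union, also over any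
open part of it. -/
theorem ker_fst_inf_eq_bot {W : Scheme.{u}} (w : W ⟶ (I ⊓ J).subscheme) [IsOpenImmersion w] :
    (pullback.fst w (Scheme.IdealSheafData.inclusion (inf_le_left : I ⊓ J ≤ I))).ker ⊓
      (pullback.fst w (Scheme.IdealSheafData.inclusion (inf_le_right : I ⊓ J ≤ J))).ker = ⊥ := by
  ext V : 2
  rw [Scheme.IdealSheafData.ideal_inf, Pi.inf_apply,
    Scheme.ker_ideal_of_isPullback_of_isOpenImmersion
      (Scheme.IdealSheafData.inclusion (inf_le_left : I ⊓ J ≤ I)) _ _ w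
      (IsPullback.of_hasPullback w _) V,
    Scheme.ker_ideal_of_isPullback_of_isOpenImmersion
      (Scheme.IdealSheafData.inclusion (inf_le_right : I ⊓ J ≤ J)) _ _ w
      (IsPullback.of_hasPullback w _) V, ← Ideal.comap_inf]
  have h0 := ker_inclusion_inf_eq_bot I J
  have h1 : (Scheme.IdealSheafData.inclusion (inf_le_left : I ⊓ J ≤ I)).ker.ideal
      ⟨w ''ᵁ V.1, V.2.image_of_isOpenImmersion w⟩ ⊓
      (Scheme.IdealSheafData.inclusion (inf_le_right : I ⊓ J ≤ J)).ker.ideal
      ⟨w ''ᵁ V.1, V.2.image_of_isOpenImmersion w⟩ = ⊥ := by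
    have := congrArg (fun L => L.ideal ⟨w ''ᵁ V.1, V.2.image_of_isOpenImmersion w⟩) h0
    exact this
  rw [h1, Scheme.IdealSheafData.ideal_bot, Pi.bot_apply, eq_bot_iff]
  intro x hx
  rw [Ideal.mem_comap, Ideal.mem_bot] at hx
  rw [Ideal.mem_bot]
  exact (map_eq_zero_iff _ (ConcreteCategory.bijective_of_isIso (w.appIso V.1).inv).1).mp hx

theorem jointly_epi {W T : Scheme.{u}} (w : W ⟶ (I ⊓ J).subscheme) [IsOpenImmersion w]
    (g g' : W ⟶ T)
    (hI : pullback.fst w (Scheme.IdealSheafData.inclusion (inf_le_left : I ⊓ J ≤ I)) ≫ g =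
      pullback.fst w (Scheme.IdealSheafData.inclusion (inf_le_left : I ⊓ J ≤ I)) ≫ g')
    (hJ : pullback.fst w (Scheme.IdealSheafData.inclusion (inf_le_right : I ⊓ J ≤ J)) ≫ g =
      pullback.fst w (Scheme.IdealSheafData.inclusion (inf_le_right : I ⊓ J ≤ J)) ≫ g') :
    g = g' := by
  let e : equalizer g g' ⟶ W := equalizer.ι g g'
  let lI := equalizer.lift _ hI
  let lJ := equalizer.lift _ hJ
  have hlI : lI ≫ e = pullback.fst w _ := equalizer.lift_ι _ _
  have hlJ : lJ ≫ e = pullback.fst w _ := equalizer.lift_ι _ _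
  have hsurj : Function.Surjective e := by
    intro x
    have hx : w x ∈ Set.range (Scheme.IdealSheafData.inclusion (inf_le_left : I ⊓ J ≤ I)) ∪
        Set.range (Scheme.IdealSheafData.inclusion (inf_le_right : I ⊓ J ≤ J)) := by
      rw [range_inclusion_union]; exact Set.mem_univ _
    rcases hx with ⟨z, hz⟩ | ⟨z, hz⟩
    · obtain ⟨u, hu1, -⟩ := Scheme.Pullback.exists_preimage_pullback x z hz.symm
      refine ⟨lI u, ?_⟩
      rw [← Scheme.Hom.comp_apply, hlI]
      exact hu1
    · obtain ⟨u, hu1, -⟩ := Scheme.Pullback.exists_preimage_pullback x z hz.symm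
      refine ⟨lJ u, ?_⟩
      rw [← Scheme.Hom.comp_apply, hlJ]
      exact hu1
  haveI : IsClosedImmersion e :=
    IsClosedImmersion.of_isPreimmersion e (by rw [hsurj.range_eq]; exact isClosed_univ)
  have hker : e.ker = ⊥ := by
    rw [eq_bot_iff, ← ker_fst_inf_eq_bot I J w]
    refine le_inf ?_ ?_
    · rw [← hlI]; exact Scheme.Hom.le_ker_comp _ _
    · rw [← hlJ]; exact Scheme.Hom.le_ker_comp _ _
  haveI : IsIso e := IsClosedImmersion.isIso_iff_ker_eq_bot.mpr hker
  exact (cancel_epi e).mp (equalizer.condition g g')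

/-- the affine chart of a closed subscheme over an affine open of the ambient scheme. -/
noncomputable def chart (L : S.IdealSheafData) (U : S.affineOpens) :
    L.glueDataObj U ⟶ L.subscheme :=
  L.subschemeCover.f U

instance (L : S.IdealSheafData) (U : S.affineOpens) : IsOpenImmersion (chart L U) :=
  L.subschemeCover.map_prop U

theorem chart_inclusion {L L' : S.IdealSheafData} (h : L ≤ L') (U : S.affineOpens) :
    chart L' U ≫ Scheme.IdealSheafData.inclusion h =
      Scheme.IdealSheafData.glueDataObjHom h U ≫ chart L U :=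
  Scheme.IdealSheafData.subSchemeCover_map_inclusion h U

theorem opensRange_chart (L : S.IdealSheafData) (U : S.affineOpens) :
    (chart L U).opensRange = L.subschemeι ⁻¹ᵁ U.1 :=
  Scheme.IdealSheafData.opensRange_subschemeCover_map L U

/-- the chart of a smaller subscheme is the preimage of the chart of the bigger one. -/
theorem isPullback_chart {L L' : S.IdealSheafData} (h : L ≤ L') (U : S.affineOpens) :
    IsPullback (Scheme.IdealSheafData.glueDataObjHom h U) (chart L' U)
      (chart L U) (Scheme.IdealSheafData.inclusion h) := by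
  refine IsOpenImmersion.isPullback _ _ _ _ (chart_inclusion h U) ?_
  rw [opensRange_chart, opensRange_chart, ← Scheme.Hom.comp_preimage,
    Scheme.IdealSheafData.inclusion_subschemeι]

theorem subschemeι_chart_mem (L : S.IdealSheafData) (U : S.affineOpens)
    (y : L.glueDataObj U) : L.subschemeι (chart L U y) ∈ U.1 := by
  have h1 : chart L U y ∈ (chart L U).opensRange := ⟨y, rfl⟩
  rw [opensRange_chart] at h1
  exact h1

theorem mem_range_chart (L : S.IdealSheafData) (U : S.affineOpens)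
    (z : L.subscheme) (hz : L.subschemeι z ∈ U.1) : z ∈ Set.range (chart L U) := by
  have h1 : z ∈ (chart L U).opensRange := by
    rw [opensRange_chart]; exact hz
  exact h1

variable {T : Scheme.{u}} (M : S.IdealSheafData) (hIM : I ≤ M) (hJM : J ≤ M)
  (a : I.subscheme ⟶ T) (b : J.subscheme ⟶ T)

include hIM hJM in
/-- local existence on a good chart -/
theorem exists_local
    (hab : Scheme.IdealSheafData.inclusion hIM ≫ a = Scheme.IdealSheafData.inclusion hJM ≫ b)
    (hM : M = I ⊔ J)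
    (U : S.affineOpens) (T' : T.Opens) (hT' : IsAffineOpen T')
    (hgI : ∀ z : I.subscheme, I.subschemeι z ∈ U.1 → a z ∈ T')
    (hgJ : ∀ z : J.subscheme, J.subschemeι z ∈ U.1 → b z ∈ T') :
    ∃ c : (I ⊓ J).glueDataObj U ⟶ T,
      Scheme.IdealSheafData.glueDataObjHom (inf_le_left : I ⊓ J ≤ I) U ≫ c =
        chart I U ≫ a ∧
      Scheme.IdealSheafData.glueDataObjHom (inf_le_right : I ⊓ J ≤ J) U ≫ c =
        chart J U ≫ b := by
  subst hM
  have hrI : Set.range (chart I U ≫ a) ⊆ Set.range hT'.fromSpec := by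
    rw [hT'.range_fromSpec]
    rintro _ ⟨y, rfl⟩
    exact hgI _ (subschemeι_chart_mem I U y)
  have hrJ : Set.range (chart J U ≫ b) ⊆ Set.range hT'.fromSpec := by
    rw [hT'.range_fromSpec]
    rintro _ ⟨y, rfl⟩
    exact hgJ _ (subschemeι_chart_mem J U y)
  let α' : I.glueDataObj U ⟶ Spec Γ(T, T') :=
    IsOpenImmersion.lift hT'.fromSpec (chart I U ≫ a) hrI
  let β' : J.glueDataObj U ⟶ Spec Γ(T, T') :=
    IsOpenImmersion.lift hT'.fromSpec (chart J U ≫ b) hrJ
  have hα' : α' ≫ hT'.fromSpec = chart I U ≫ a := IsOpenImmersion.lift_fac _ _ _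
  have hβ' : β' ≫ hT'.fromSpec = chart J U ≫ b := IsOpenImmersion.lift_fac _ _ _
  have e3 : Scheme.IdealSheafData.glueDataObjHom hIM U ≫ α' ≫ hT'.fromSpec =
      Scheme.IdealSheafData.glueDataObjHom hJM U ≫ β' ≫ hT'.fromSpec := by
    have e1 := chart_inclusion hIM U
    have e2 := chart_inclusion hJM U
    rw [hα', hβ', ← Category.assoc, ← e1, ← Category.assoc, ← e2, Category.assoc,
      Category.assoc, hab]
  let α : Γ(T, T') ⟶ CommRingCat.of (Γ(S, U.1) ⧸ I.ideal U) :=
    Spec.preimage (α' : Spec (CommRingCat.of (Γ(S, U.1) ⧸ I.ideal U)) ⟶ Spec Γ(T, T'))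
  let β : Γ(T, T') ⟶ CommRingCat.of (Γ(S, U.1) ⧸ J.ideal U) :=
    Spec.preimage (β' : Spec (CommRingCat.of (Γ(S, U.1) ⧸ J.ideal U)) ⟶ Spec Γ(T, T'))
  have hα : Spec.map α = α' := Spec.map_preimage _
  have hβ : Spec.map β = β' := Spec.map_preimage _
  have hagree : (Ideal.Quotient.factor (le_sup_left : I.ideal U ≤ I.ideal U ⊔ J.ideal U)).comp α.hom =
      (Ideal.Quotient.factor (le_sup_right : J.ideal U ≤ I.ideal U ⊔ J.ideal U)).comp β.hom := by
    have h1 : α ≫ CommRingCat.ofHom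
        (Ideal.Quotient.factor (le_sup_left : I.ideal U ≤ I.ideal U ⊔ J.ideal U)) =
        β ≫ CommRingCat.ofHom
        (Ideal.Quotient.factor (le_sup_right : J.ideal U ≤ I.ideal U ⊔ J.ideal U)) := by
      apply Spec.map_injective
      rw [Spec.map_comp, Spec.map_comp, hα, hβ, ← cancel_mono hT'.fromSpec, Category.assoc,
        Category.assoc]
      exact e3
    exact congrArg CommRingCat.Hom.hom h1
  obtain ⟨γ, hγ1, hγ2⟩ := exists_ringHom_inf (I.ideal U) (J.ideal U) α.hom β.hom hagree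
  refine ⟨Spec.map (CommRingCat.ofHom γ) ≫ hT'.fromSpec, ?_, ?_⟩
  · have e : Spec.map (CommRingCat.ofHom (Ideal.Quotient.factor
        (inf_le_left : I.ideal U ⊓ J.ideal U ≤ I.ideal U))) ≫
        Spec.map (CommRingCat.ofHom γ) ≫ hT'.fromSpec = chart I U ≫ a := by
      rw [← Category.assoc, ← Spec.map_comp, ← CommRingCat.ofHom_comp, hγ1,
        CommRingCat.ofHom_hom, hα]
      exact hα'
    exact e
  · have e : Spec.map (CommRingCat.ofHom (Ideal.Quotient.factor
        (inf_le_right : I.ideal U ⊓ J.ideal U ≤ J.ideal U))) ≫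
        Spec.map (CommRingCat.ofHom γ) ≫ hT'.fromSpec = chart J U ≫ b := by
      rw [← Category.assoc, ← Spec.map_comp, ← CommRingCat.ofHom_comp, hγ2,
        CommRingCat.ofHom_hom, hβ]
      exact hβ'
    exact e

/-- the local characterisation of a chart map. -/
theorem chart_map_eq {L L' : S.IdealSheafData} (h : L ≤ L') (U : S.affineOpens)
    (a' : L'.subscheme ⟶ T) (c : L.glueDataObj U ⟶ T)
    (hc : Scheme.IdealSheafData.glueDataObjHom h U ≫ c = chart L' U ≫ a')
    {W' : Scheme.{u}} (r : W' ⟶ L.glueDataObj U) (s : W' ⟶ L'.subscheme)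
    (hrs : r ≫ chart L U = s ≫ Scheme.IdealSheafData.inclusion h) :
    r ≫ c = s ≫ a' := by
  have sq := isPullback_chart h U
  obtain ⟨l, hl1, hl2⟩ := sq.exists_lift r s hrs
  calc r ≫ c = (l ≫ Scheme.IdealSheafData.glueDataObjHom h U) ≫ c := by rw [hl1]
    _ = l ≫ chart L' U ≫ a' := by rw [Category.assoc, hc]
    _ = s ≫ a' := by rw [← Category.assoc, hl2]

include hIM hJM in
/-- every point of the first subscheme has a good neighbourhood. -/
theorem exists_good_of_mem
    (hab : Scheme.IdealSheafData.inclusion hIM ≫ a = Scheme.IdealSheafData.inclusion hJM ≫ b)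
    (hsupp : ∀ s : S, s ∈ I.support → s ∈ J.support → s ∈ M.support)
    (z : I.subscheme) :
    ∃ (U : S.affineOpens) (T' : T.Opens), IsAffineOpen T' ∧ I.subschemeι z ∈ U.1 ∧
      (∀ z₁ : I.subscheme, I.subschemeι z₁ ∈ U.1 → a z₁ ∈ T') ∧
      (∀ z₂ : J.subscheme, J.subschemeι z₂ ∈ U.1 → b z₂ ∈ T') := by
  obtain ⟨_, ⟨T', hT' : IsAffineOpen T', rfl⟩, htT', -⟩ :=
    T.isBasis_affineOpens.exists_subset_of_mem_open (Set.mem_univ (a z)) isOpen_univ
  let CI : Set S := I.subschemeι '' (a ⁻¹' (T' : Set T))ᶜ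
  let CJ : Set S := J.subschemeι '' (b ⁻¹' (T' : Set T))ᶜ
  have hCI : IsClosed CI := I.subschemeι.isClosedEmbedding.isClosedMap _
    ((T'.isOpen.preimage a.continuous).isClosed_compl)
  have hCJ : IsClosed CJ := J.subschemeι.isClosedEmbedding.isClosedMap _
    ((T'.isOpen.preimage b.continuous).isClosed_compl)
  have hinjI : Function.Injective I.subschemeι := I.subschemeι.isClosedEmbedding.injective
  have hinjJ : Function.Injective J.subschemeι := J.subschemeι.isClosedEmbedding.injective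
  have hsI : I.subschemeι z ∉ CI := by
    rintro ⟨z₁, hz₁, e⟩
    have : z₁ = z := hinjI e
    subst this
    exact hz₁ htT'
  have hsJ : I.subschemeι z ∉ CJ := by
    rintro ⟨z₂, hz₂, e⟩
    have h1 : I.subschemeι z ∈ I.support := by
      rw [← SetLike.mem_coe, ← Scheme.IdealSheafData.range_subschemeι]; exact ⟨z, rfl⟩
    have h2 : I.subschemeι z ∈ J.support := by
      rw [← SetLike.mem_coe, ← Scheme.IdealSheafData.range_subschemeι]; exact ⟨z₂, e⟩
    have h3 := hsupp _ h1 h2
    rw [← SetLike.mem_coe, ← Scheme.IdealSheafData.range_subschemeι] at h3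
    obtain ⟨m, hm⟩ := h3
    have e1 : Scheme.IdealSheafData.inclusion hIM m = z := hinjI (by
      rw [← Scheme.Hom.comp_apply, Scheme.IdealSheafData.inclusion_subschemeι, hm])
    have e2 : Scheme.IdealSheafData.inclusion hJM m = z₂ := hinjJ (by
      rw [← Scheme.Hom.comp_apply, Scheme.IdealSheafData.inclusion_subschemeι, hm, e])
    apply hz₂
    change b z₂ ∈ T'
    rw [← e2, ← Scheme.Hom.comp_apply, ← hab, Scheme.Hom.comp_apply, e1]
    exact htT'
  have hopen : IsOpen (CI ∪ CJ)ᶜ := (hCI.union hCJ).isOpen_compl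
  have hmem : I.subschemeι z ∈ (CI ∪ CJ)ᶜ := by
    rintro (h | h)
    · exact hsI h
    · exact hsJ h
  obtain ⟨_, ⟨U, hU : IsAffineOpen U, rfl⟩, hsU, hUsub⟩ :=
    S.isBasis_affineOpens.exists_subset_of_mem_open hmem hopen
  refine ⟨⟨U, hU⟩, T', hT', hsU, ?_, ?_⟩
  · intro z₁ hz₁
    by_contra hn
    exact hUsub hz₁ (Or.inl ⟨z₁, hn, rfl⟩)
  · intro z₂ hz₂
    by_contra hn
    exact hUsub hz₂ (Or.inr ⟨z₂, hn, rfl⟩)

end Sheaf

section Main

variable {S T : Scheme.{u}} (I J : S.IdealSheafData)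

/-- two chart maps with the defining property agree on the overlap of the charts. -/
theorem chart_compat (a : I.subscheme ⟶ T) (b : J.subscheme ⟶ T) (U V : S.affineOpens)
    (cU : (I ⊓ J).glueDataObj U ⟶ T) (cV : (I ⊓ J).glueDataObj V ⟶ T)
    (hUI : Scheme.IdealSheafData.glueDataObjHom (inf_le_left : I ⊓ J ≤ I) U ≫ cU = chart I U ≫ a)
    (hUJ : Scheme.IdealSheafData.glueDataObjHom (inf_le_right : I ⊓ J ≤ J) U ≫ cU = chart J U ≫ b)
    (hVI : Scheme.IdealSheafData.glueDataObjHom (inf_le_left : I ⊓ J ≤ I) V ≫ cV = chart I V ≫ a)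
    (hVJ : Scheme.IdealSheafData.glueDataObjHom (inf_le_right : I ⊓ J ≤ J) V ≫ cV = chart J V ≫ b) :
    pullback.fst (chart (I ⊓ J) U) (chart (I ⊓ J) V) ≫ cU =
      pullback.snd (chart (I ⊓ J) U) (chart (I ⊓ J) V) ≫ cV := by
  let w : pullback (chart (I ⊓ J) U) (chart (I ⊓ J) V) ⟶ (I ⊓ J).subscheme :=
    pullback.fst _ _ ≫ chart (I ⊓ J) U
  have hw : pullback.snd (chart (I ⊓ J) U) (chart (I ⊓ J) V) ≫ chart (I ⊓ J) V = w :=
    pullback.condition.symm
  haveI : IsOpenImmersion w := inferInstance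
  refine jointly_epi I J w _ _ ?_ ?_
  · have e1 := chart_map_eq (inf_le_left : I ⊓ J ≤ I) U a cU hUI
      (pullback.fst w _ ≫ pullback.fst (chart (I ⊓ J) U) (chart (I ⊓ J) V)) (pullback.snd w _)
      (by rw [Category.assoc]; exact pullback.condition)
    have e2 := chart_map_eq (inf_le_left : I ⊓ J ≤ I) V a cV hVI
      (pullback.fst w _ ≫ pullback.snd (chart (I ⊓ J) U) (chart (I ⊓ J) V)) (pullback.snd w _)
      (by rw [Category.assoc, hw]; exact pullback.condition)
    rw [← Category.assoc, ← Category.assoc, e1, e2]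
  · have e1 := chart_map_eq (inf_le_right : I ⊓ J ≤ J) U b cU hUJ
      (pullback.fst w _ ≫ pullback.fst (chart (I ⊓ J) U) (chart (I ⊓ J) V)) (pullback.snd w _)
      (by rw [Category.assoc]; exact pullback.condition)
    have e2 := chart_map_eq (inf_le_right : I ⊓ J ≤ J) V b cV hVJ
      (pullback.fst w _ ≫ pullback.snd (chart (I ⊓ J) U) (chart (I ⊓ J) V)) (pullback.snd w _)
      (by rw [Category.assoc, hw]; exact pullback.condition)
    rw [← Category.assoc, ← Category.assoc, e1, e2]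

/-- existence in the universal property of the union -/
theorem exists_desc (a : I.subscheme ⟶ T) (b : J.subscheme ⟶ T)
    (hab : Scheme.IdealSheafData.inclusion (le_sup_left : I ≤ I ⊔ J) ≫ a =
      Scheme.IdealSheafData.inclusion (le_sup_right : J ≤ I ⊔ J) ≫ b) :
    ∃ c : (I ⊓ J).subscheme ⟶ T,
      Scheme.IdealSheafData.inclusion (inf_le_left : I ⊓ J ≤ I) ≫ c = a ∧
      Scheme.IdealSheafData.inclusion (inf_le_right : I ⊓ J ≤ J) ≫ c = b := by
  have hsupp : ∀ s : S, s ∈ I.support → s ∈ J.support → s ∈ (I ⊔ J).support := by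
    intro s h1 h2
    rw [Scheme.IdealSheafData.support_sup]
    exact ⟨h1, h2⟩
  have hsupp' : ∀ s : S, s ∈ J.support → s ∈ I.support → s ∈ (I ⊔ J).support :=
    fun s h1 h2 => hsupp s h2 h1
  -- the good pairs
  let G : Type u := { p : S.affineOpens × T.Opens // IsAffineOpen p.2 ∧
    (∀ z₁ : I.subscheme, I.subschemeι z₁ ∈ p.1.1 → a z₁ ∈ p.2) ∧
    (∀ z₂ : J.subscheme, J.subschemeι z₂ ∈ p.1.1 → b z₂ ∈ p.2) }
  have hloc : ∀ p : G, ∃ c : (I ⊓ J).glueDataObj p.1.1 ⟶ T,
      Scheme.IdealSheafData.glueDataObjHom (inf_le_left : I ⊓ J ≤ I) p.1.1 ≫ c =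
        chart I p.1.1 ≫ a ∧
      Scheme.IdealSheafData.glueDataObjHom (inf_le_right : I ⊓ J ≤ J) p.1.1 ≫ c =
        chart J p.1.1 ≫ b := fun p =>
    exists_local I J (I ⊔ J) le_sup_left le_sup_right a b hab rfl p.1.1 p.1.2 p.2.1 p.2.2.1 p.2.2.2
  choose cp hcpI hcpJ using hloc
  -- good neighbourhoods exist
  have hgoodI : ∀ z : I.subscheme, ∃ p : G, I.subschemeι z ∈ p.1.1.1 := by
    intro z
    obtain ⟨U, T', hT', hz, h1, h2⟩ :=
      exists_good_of_mem I J (I ⊔ J) le_sup_left le_sup_right a b hab hsupp z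
    exact ⟨⟨(U, T'), hT', h1, h2⟩, hz⟩
  have hgoodJ : ∀ z : J.subscheme, ∃ p : G, J.subschemeι z ∈ p.1.1.1 := by
    intro z
    obtain ⟨U, T', hT', hz, h1, h2⟩ :=
      exists_good_of_mem J I (I ⊔ J) le_sup_right le_sup_left b a hab.symm hsupp' z
    exact ⟨⟨(U, T'), hT', h2, h1⟩, hz⟩
  -- the covers
  have hcovK : ∀ y : (I ⊓ J).subscheme, ∃ (p : G) (x : (I ⊓ J).glueDataObj p.1.1),
      chart (I ⊓ J) p.1.1 x = y := by
    intro y
    have hy : y ∈ Set.range (Scheme.IdealSheafData.inclusion (inf_le_left : I ⊓ J ≤ I)) ∪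
        Set.range (Scheme.IdealSheafData.inclusion (inf_le_right : I ⊓ J ≤ J)) := by
      rw [range_inclusion_union]; exact Set.mem_univ _
    rcases hy with ⟨z, rfl⟩ | ⟨z, rfl⟩
    · obtain ⟨p, hp⟩ := hgoodI z
      refine ⟨p, ?_⟩
      apply mem_range_chart
      rw [← Scheme.Hom.comp_apply, Scheme.IdealSheafData.inclusion_subschemeι]
      exact hp
    · obtain ⟨p, hp⟩ := hgoodJ z
      refine ⟨p, ?_⟩
      apply mem_range_chart
      rw [← Scheme.Hom.comp_apply, Scheme.IdealSheafData.inclusion_subschemeι]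
      exact hp
  let 𝒰 : (I ⊓ J).subscheme.OpenCover :=
    Scheme.Cover.mkOfCovers G (fun p => (I ⊓ J).glueDataObj p.1.1)
      (fun p => chart (I ⊓ J) p.1.1) hcovK (fun p => inferInstance)
  let 𝒰I : I.subscheme.OpenCover :=
    Scheme.Cover.mkOfCovers G (fun p => I.glueDataObj p.1.1)
      (fun p => chart I p.1.1)
      (fun z => by
        obtain ⟨p, hp⟩ := hgoodI z
        exact ⟨p, mem_range_chart I p.1.1 z hp⟩) (fun p => inferInstance)
  let 𝒰J : J.subscheme.OpenCover :=
    Scheme.Cover.mkOfCovers G (fun p => J.glueDataObj p.1.1)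
      (fun p => chart J p.1.1)
      (fun z => by
        obtain ⟨p, hp⟩ := hgoodJ z
        exact ⟨p, mem_range_chart J p.1.1 z hp⟩) (fun p => inferInstance)
  -- compatibility
  have hcompat : ∀ p q : G, pullback.fst (𝒰.f p) (𝒰.f q) ≫ cp p = pullback.snd _ _ ≫ cp q :=
    fun p q => chart_compat I J a b p.1.1 q.1.1 (cp p) (cp q) (hcpI p) (hcpJ p) (hcpI q) (hcpJ q)
  let c : (I ⊓ J).subscheme ⟶ T := 𝒰.glueMorphisms cp hcompat
  have hc : ∀ p : G, chart (I ⊓ J) p.1.1 ≫ c = cp p := fun p => 𝒰.ι_glueMorphisms cp hcompat p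
  refine ⟨c, ?_, ?_⟩
  · refine 𝒰I.hom_ext _ _ (fun p => ?_)
    change chart I p.1.1 ≫ Scheme.IdealSheafData.inclusion _ ≫ c = chart I p.1.1 ≫ a
    rw [← Category.assoc, chart_inclusion, Category.assoc, hc, hcpI]
  · refine 𝒰J.hom_ext _ _ (fun p => ?_)
    change chart J p.1.1 ≫ Scheme.IdealSheafData.inclusion _ ≫ c = chart J p.1.1 ≫ b
    rw [← Category.assoc, chart_inclusion, Category.assoc, hc, hcpJ]

/-- uniqueness in the universal property of the union -/
theorem desc_unique (g g' : (I ⊓ J).subscheme ⟶ T)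
    (hI : Scheme.IdealSheafData.inclusion (inf_le_left : I ⊓ J ≤ I) ≫ g =
      Scheme.IdealSheafData.inclusion (inf_le_left : I ⊓ J ≤ I) ≫ g')
    (hJ : Scheme.IdealSheafData.inclusion (inf_le_right : I ⊓ J ≤ J) ≫ g =
      Scheme.IdealSheafData.inclusion (inf_le_right : I ⊓ J ≤ J) ≫ g') : g = g' := by
  refine jointly_epi I J (𝟙 _) g g' ?_ ?_
  · have e : pullback.fst (𝟙 (I ⊓ J).subscheme)
        (Scheme.IdealSheafData.inclusion (inf_le_left : I ⊓ J ≤ I)) =
        pullback.snd _ _ ≫ Scheme.IdealSheafData.inclusion (inf_le_left : I ⊓ J ≤ I) := by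
      rw [← pullback.condition, Category.comp_id]
    rw [e, Category.assoc, Category.assoc, hI]
  · have e : pullback.fst (𝟙 (I ⊓ J).subscheme)
        (Scheme.IdealSheafData.inclusion (inf_le_right : I ⊓ J ≤ J)) =
        pullback.snd _ _ ≫ Scheme.IdealSheafData.inclusion (inf_le_right : I ⊓ J ≤ J) := by
      rw [← pullback.condition, Category.comp_id]
    rw [e, Category.assoc, Category.assoc, hJ]

/-- **the scheme-theoretic union is the pushout along the scheme-theoretic intersection**. -/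
theorem isPushout_union :
    IsPushout (Scheme.IdealSheafData.inclusion (le_sup_left : I ≤ I ⊔ J))
      (Scheme.IdealSheafData.inclusion (le_sup_right : J ≤ I ⊔ J))
      (Scheme.IdealSheafData.inclusion (inf_le_left : I ⊓ J ≤ I))
      (Scheme.IdealSheafData.inclusion (inf_le_right : I ⊓ J ≤ J)) := by
  have w : Scheme.IdealSheafData.inclusion (le_sup_left : I ≤ I ⊔ J) ≫
      Scheme.IdealSheafData.inclusion (inf_le_left : I ⊓ J ≤ I) =
      Scheme.IdealSheafData.inclusion (le_sup_right : J ≤ I ⊔ J) ≫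
      Scheme.IdealSheafData.inclusion (inf_le_right : I ⊓ J ≤ J) := by
    rw [Scheme.IdealSheafData.inclusion_comp, Scheme.IdealSheafData.inclusion_comp]
  refine ⟨⟨w⟩, ⟨PushoutCocone.IsColimit.mk w
    (fun s => (exists_desc I J s.inl s.inr s.condition).choose)
    (fun s => (exists_desc I J s.inl s.inr s.condition).choose_spec.1)
    (fun s => (exists_desc I J s.inl s.inr s.condition).choose_spec.2)
    (fun s m h1 h2 => ?_)⟩⟩
  exact desc_unique I J _ _
    (h1.trans (exists_desc I J s.inl s.inr s.condition).choose_spec.1.symm)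
    (h2.trans (exists_desc I J s.inl s.inr s.condition).choose_spec.2.symm)

end Main

end Groth.Agent.Lib27.UnionPushout
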