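import Groth.Agent.Lib27.Sch.ZetaAffineLine
import Mathlib.RingTheory.PowerSeries.Expand
import Mathlib.RingTheory.RootsOfUnity.PrimitiveRoots

/-!
# The zeta function of a base change to a finite extension of the finite base field
-/

set_option autoImplicit false

universe u

open CategoryTheory AlgebraicGeometry Limits

namespace Groth.Agent.Lib27.ZetaBaseChange

open Groth.Agent.Lib27

section Points

variable {k : Type u} [Field k] {X : Scheme.{u}} (f : X ⟶ Spec (CommRingCat.of k))
  (k' : Type u) [Field k'] [Algebra k k']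
  (K : Type u) [Field K] [Algebra k' K] [Algebra k K] [IsScalarTower k k' K]

/-- `K`-points of the base change `X ×_k k'` over `k'` are the `K`-points of `X` over `k`. -/
noncomputable def ptsEquiv :
    {h : Spec (CommRingCat.of K) ⟶ pullback f (Spec.map (CommRingCat.ofHom (algebraMap k k'))) //
      h ≫ pullback.snd f (Spec.map (CommRingCat.ofHom (algebraMap k k'))) =
        Spec.map (CommRingCat.ofHom (algebraMap k' K))} ≃
    {g : Spec (CommRingCat.of K) ⟶ X //
      g ≫ f = Spec.map (CommRingCat.ofHom (algebraMap k K))} where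
  toFun h := ⟨h.1 ≫ pullback.fst _ _, by
    rw [Category.assoc, pullback.condition, ← Category.assoc, h.2, ← Spec.map_comp,
      ← CommRingCat.ofHom_comp, ← IsScalarTower.algebraMap_eq]⟩
  invFun g := ⟨pullback.lift g.1 (Spec.map (CommRingCat.ofHom (algebraMap k' K))) (by
    rw [g.2, ← Spec.map_comp, ← CommRingCat.ofHom_comp, ← IsScalarTower.algebraMap_eq]),
    pullback.lift_snd _ _ _⟩
  left_inv h := by
    apply Subtype.ext
    apply pullback.hom_ext
    · simp only [pullback.lift_fst]
    · simp only [pullback.lift_snd]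
      exact h.2.symm
  right_inv g := by
    apply Subtype.ext
    simp only [pullback.lift_fst]

theorem pointCount_baseChange :
    SgaExt.pointCount (pullback.snd f (Spec.map (CommRingCat.ofHom (algebraMap k k')))) K =
      SgaExt.pointCount f K := by
  unfold SgaExt.pointCount
  exact Nat.card_congr (ptsEquiv f k' K)

end Points

section NPts

variable {k : Type u} [Field k] [Finite k] {X : Scheme.{u}} (f : X ⟶ Spec (CommRingCat.of k))
  [LocallyOfFiniteType f] [QuasiCompact f] (k' : Type u) [Field k'] [Algebra k k'] [Finite k']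

theorem nPts_baseChange (m : ℕ) (hm : 0 < m) :
    Zeta.nPts (pullback.snd f (Spec.map (CommRingCat.ofHom (algebraMap k k')))) m =
      Zeta.nPts f (Module.finrank k k' * m) := by
  obtain ⟨K, _, _, _, h1, -⟩ := ZetaAffineLine.exists_extension (k := k') m hm
  letI : Algebra k K := ((algebraMap k' K).comp (algebraMap k k')).toAlgebra
  have : IsScalarTower k k' K := IsScalarTower.of_algebraMap_eq (fun _ => rfl)
  have h2 : Module.finrank k K = Module.finrank k k' * m := by
    rw [← h1, Module.finrank_mul_finrank]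
  rw [← h1, ← ZetaPoints.pointCount_eq_nPts, pointCount_baseChange f k' K, h1, ← h2,
    ZetaPoints.pointCount_eq_nPts]

end NPts

section Formal

open PowerSeries

variable {K : Type*} [Field K] [CharZero K]

lemma eq_of_derivative_eq_mul' {H A B : PowerSeries K}
    (hA : derivative K A = H * A) (hB : derivative K B = H * B)
    (h0 : constantCoeff A = constantCoeff B) : A = B := by
  ext m
  induction m using Nat.strong_induction_on with
  | _ m ih =>
    cases m with
    | zero => simpa using h0
    | succ m =>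
      have h1 := congrArg (coeff m) hA
      have h2 := congrArg (coeff m) hB
      rw [coeff_derivative, coeff_mul] at h1 h2
      have h3 : ∑ p ∈ Finset.HasAntidiagonal.antidiagonal m, coeff p.1 H * coeff p.2 A =
          ∑ p ∈ Finset.HasAntidiagonal.antidiagonal m, coeff p.1 H * coeff p.2 B := by
        refine Finset.sum_congr rfl fun p hp => ?_
        rw [ih p.2 (by have := Finset.HasAntidiagonal.mem_antidiagonal.mp hp; omega)]
      rw [h3, ← h2] at h1
      have hm : ((m : K) + 1) ≠ 0 := Nat.cast_add_one_ne_zero m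
      exact mul_right_cancel₀ hm h1

lemma derivative_map' (φ : ℚ →+* K) (F : PowerSeries ℚ) :
    derivative K (map φ F) = map φ (derivative ℚ F) := by
  ext n
  simp [coeff_derivative, coeff_map]

lemma derivative_rescale' (c : K) (F : PowerSeries K) :
    derivative K (rescale c F) = C c * rescale c (derivative K F) := by
  ext n
  simp only [coeff_derivative, coeff_rescale, coeff_C_mul]
  ring

lemma derivative_prod' {ι : Type*} (s : Finset ι) (g c : ι → PowerSeries K)
    (h : ∀ i ∈ s, derivative K (g i) = c i * g i) :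
    derivative K (∏ i ∈ s, g i) = (∑ i ∈ s, c i) * ∏ i ∈ s, g i := by
  classical
  induction s using Finset.induction_on with
  | empty => simp
  | insert i s hi ih =>
    rw [Finset.prod_insert hi, Finset.sum_insert hi, Derivation.leibniz, smul_eq_mul, smul_eq_mul,
      ih (fun j hj => h j (Finset.mem_insert_of_mem hj)), h i (Finset.mem_insert_self i s)]
    ring


lemma sum_pow_root (r : ℕ) (hr : 0 < r) (ξ : K) (hξ : IsPrimitiveRoot ξ r) (j : ℕ) :
    ∑ i ∈ Finset.range r, (ξ ^ j) ^ i = if r ∣ j then (r : K) else 0 := by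
  split_ifs with h
  · obtain ⟨m, rfl⟩ := h
    rw [pow_mul, hξ.pow_eq_one, one_pow]
    simp
  · have h1 : ξ ^ j ≠ 1 := fun h1 => h ((hξ.pow_eq_one_iff_dvd j).mp h1)
    have h2 : (ξ ^ j) ^ r = 1 := by rw [← pow_mul, mul_comm, pow_mul, hξ.pow_eq_one, one_pow]
    have h3 := geom_sum_mul (ξ ^ j) r
    rw [h2, sub_self] at h3
    exact (mul_eq_zero.mp h3).resolve_right (sub_ne_zero.mpr h1)

theorem formal_baseChange (r : ℕ) (hr : 0 < r) (ξ : K) (hξ : IsPrimitiveRoot ξ r)
    (N N₁ : ℕ → ℕ) (hN : ∀ m, 0 < m → N₁ m = N (r * m))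
    (Z Z₁ : PowerSeries K)
    (hZ : derivative K Z = mk (fun n => (N (n + 1) : K)) * Z)
    (hZ₁ : derivative K Z₁ = mk (fun n => (N₁ (n + 1) : K)) * Z₁)
    (hZ0 : constantCoeff Z = 1) (hZ₁0 : constantCoeff Z₁ = 1) :
    subst (X ^ r) Z₁ = ∏ i ∈ Finset.range r, rescale (ξ ^ i) Z := by
  set dL : PowerSeries K := mk (fun n => (N (n + 1) : K)) with hdL
  set dL₁ : PowerSeries K := mk (fun n => (N₁ (n + 1) : K)) with hdL₁
  set H : PowerSeries K := ∑ i ∈ Finset.range r, C (ξ ^ i) * rescale (ξ ^ i) dL with hH
  have hsub : HasSubst (X ^ r : PowerSeries K) := HasSubst.X_pow hr.ne'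
  have hcoef : subst (X ^ r) dL₁ * derivative K (X ^ r) = H := by
    rw [← expand_apply r hr.ne']
    have hd : derivative K ((X : PowerSeries K) ^ r) = (r : PowerSeries K) * X ^ (r - 1) := by
      rw [Derivation.leibniz_pow, derivative_X, smul_eq_mul, mul_one, nsmul_eq_mul]
    rw [hd]
    ext n
    have e1 : expand r hr.ne' dL₁ * ((r : PowerSeries K) * X ^ (r - 1)) =
        (r : PowerSeries K) * (expand r hr.ne' dL₁ * X ^ (r - 1)) := by ring
    have e2 : ((r : PowerSeries K)) = C (r : K) := (map_natCast (C (R := K)) r).symm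
    rw [e1, e2, coeff_C_mul, coeff_mul_X_pow', hH, map_sum]
    simp only [coeff_C_mul, coeff_rescale, hdL, coeff_mk, coeff_expand, hdL₁]
    have e3 : ∑ i ∈ Finset.range r, ξ ^ i * ((ξ ^ i) ^ n * (N (n + 1) : K)) =
        (N (n + 1) : K) * ∑ i ∈ Finset.range r, (ξ ^ (n + 1)) ^ i := by
      rw [Finset.mul_sum]
      refine Finset.sum_congr rfl fun i _ => ?_
      have : (ξ ^ (n + 1)) ^ i = ξ ^ i * (ξ ^ i) ^ n := by
        rw [← pow_mul, ← pow_mul, ← pow_add]; congr 1; ring
      rw [this]; ring
    rw [e3, sum_pow_root r hr ξ hξ (n + 1)]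
    by_cases hdvd : r ∣ n + 1
    · obtain ⟨m, hm⟩ := hdvd
      obtain ⟨m', rfl⟩ : ∃ m', m = m' + 1 := by
        rcases Nat.eq_zero_or_pos m with rfl | h
        · omega
        · exact ⟨m - 1, by omega⟩
      have hmul : r * (m' + 1) = r * m' + r := Nat.mul_succ r m'
      have h1 : r - 1 ≤ n := by omega
      have h2 : n - (r - 1) = r * m' := by omega
      rw [if_pos h1, h2, if_pos (dvd_mul_right _ _), Nat.mul_div_cancel_left _ hr,
        if_pos ⟨m' + 1, hm⟩, hN (m' + 1) (Nat.succ_pos _), ← hm]
      ring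
    · rw [if_neg hdvd, mul_zero]
      by_cases h1 : r - 1 ≤ n
      · rw [if_pos h1]
        have : ¬ r ∣ n - (r - 1) := by
          intro h2
          apply hdvd
          have : n + 1 = (n - (r - 1)) + r := by omega
          rw [this]
          exact Dvd.dvd.add h2 dvd_rfl
        rw [if_neg this, mul_zero]
      · rw [if_neg h1, mul_zero]
  apply eq_of_derivative_eq_mul' (H := H)
  · rw [derivative_subst hsub, hZ₁, subst_mul hsub, ← hcoef]
    ring
  · apply derivative_prod'
    intro i _
    rw [derivative_rescale', hZ, map_mul]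
    ring
  · rw [← expand_apply r hr.ne', constantCoeff_expand, hZ₁0, map_prod]
    symm
    apply Finset.prod_eq_one
    intro i _
    rw [← coeff_zero_eq_constantCoeff_apply, coeff_rescale, pow_zero, one_mul,
      coeff_zero_eq_constantCoeff_apply, hZ0]

end Formal

section Main

open PowerSeries

variable {k : Type u} [Field k] [Finite k] {X : Scheme.{u}} (f : X ⟶ Spec (CommRingCat.of k))
  [LocallyOfFiniteType f] [QuasiCompact f] (k' : Type u) [Field k'] [Algebra k k'] [Finite k']

lemma derivative_map_zetaFun {k : Type u} [Field k] {X : Scheme.{u}}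
    (f : X ⟶ Spec (CommRingCat.of k)) :
    derivative ℂ (map (algebraMap ℚ ℂ) (Zeta.zetaFun f)) =
      mk (fun n => (Zeta.nPts f (n + 1) : ℂ)) * map (algebraMap ℚ ℂ) (Zeta.zetaFun f) := by
  rw [derivative_map', ZetaFormal.derivative_zetaFun, map_mul]
  congr 1
  ext n
  rw [coeff_map, ZetaFormal.coeff_derivative_logZeta, coeff_mk, map_natCast]

lemma constantCoeff_map_zetaFun {k : Type u} [Field k] {X : Scheme.{u}}
    (f : X ⟶ Spec (CommRingCat.of k)) :
    constantCoeff (map (algebraMap ℚ ℂ) (Zeta.zetaFun f)) = 1 := by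
  rw [← coeff_zero_eq_constantCoeff_apply, coeff_map, coeff_zero_eq_constantCoeff_apply,
    ZetaFormal.constantCoeff_zetaFun, map_one]

theorem zetaFun_baseChange (ξ : ℂ) (hξ : IsPrimitiveRoot ξ (Module.finrank k k')) :
    subst ((PowerSeries.X : PowerSeries ℂ) ^ Module.finrank k k')
        (map (algebraMap ℚ ℂ)
          (Zeta.zetaFun (pullback.snd f (Spec.map (CommRingCat.ofHom (algebraMap k k')))))) =
      ∏ i ∈ Finset.range (Module.finrank k k'),
        rescale (ξ ^ i) (map (algebraMap ℚ ℂ) (Zeta.zetaFun f)) :=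
  formal_baseChange (Module.finrank k k') Module.finrank_pos ξ hξ (Zeta.nPts f)
    (Zeta.nPts (pullback.snd f (Spec.map (CommRingCat.ofHom (algebraMap k k')))))
    (fun m hm => nPts_baseChange f k' m hm) _ _
    (derivative_map_zetaFun f) (derivative_map_zetaFun _)
    (constantCoeff_map_zetaFun f) (constantCoeff_map_zetaFun _)

end Main

end Groth.Agent.Lib27.ZetaBaseChange
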